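import Mathlib
import Cfsg.Agent.Lib.helper25.SLUni2

set_option autoImplicit false
set_option linter.unusedSectionVars false
set_option linter.unusedSimpArgs false

namespace Cfsg.Agent.Lib.helper25.SLUni

open Matrix

variable {m : ℕ} {K : Type*} [Field K] [Finite K]

/-! ### The first-row group -/

/-- Matrices whose first column is a multiple of the first basis vector. -/
noncomputable def Prow (m : ℕ) (K : Type*) [Field K] [Finite K] :
    Subgroup (SpecialLinearGroup (Fin (m + 3)) K) :=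
  ofMulClosed {A | ∀ k, k ≠ 0 → A.1 k 0 = 0}
    (fun k hk => Matrix.one_apply_ne hk)
    (fun a b ha hb k hk => by
      show (a.1 * b.1) k 0 = 0
      rw [Matrix.mul_apply]
      apply Finset.sum_eq_zero
      intro c _
      by_cases hc : c = 0
      · rw [hc, ha k hk, zero_mul]
      · rw [hb c hc, mul_zero])

/-- Matrices differing from the identity only in the first row, off the diagonal. -/
noncomputable def Rrow (m : ℕ) (K : Type*) [Field K] [Finite K] :
    Subgroup (SpecialLinearGroup (Fin (m + 3)) K) :=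
  ofMulClosed {A | (∀ k, k ≠ 0 → ∀ l, A.1 k l = (1 : Matrix (Fin (m + 3)) (Fin (m + 3)) K) k l) ∧
      A.1 0 0 = 1}
    ⟨fun _ _ _ => rfl, Matrix.one_apply_eq 0⟩
    (fun a b ha hb => by
      refine ⟨fun k hk l => ?_, ?_⟩
      · show (a.1 * b.1) k l = _
        have h1 : (a.1 * b.1) k l = ((1 : Matrix (Fin (m + 3)) (Fin (m + 3)) K) * b.1) k l := by
          rw [Matrix.mul_apply, Matrix.mul_apply]
          exact Finset.sum_congr rfl (fun c _ => by rw [ha.1 k hk c])
        rw [h1, Matrix.one_mul, hb.1 k hk l]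
      · show (a.1 * b.1) 0 0 = 1
        rw [Matrix.mul_apply, Finset.sum_eq_single 0]
        · rw [ha.2, hb.2, mul_one]
        · intro c _ hc
          rw [hb.1 c hc 0, Matrix.one_apply_ne hc, mul_zero]
        · intro h
          exact absurd (Finset.mem_univ _) h)

theorem mem_Prow (A : SpecialLinearGroup (Fin (m + 3)) K) :
    A ∈ Prow m K ↔ ∀ k, k ≠ 0 → A.1 k 0 = 0 := Iff.rfl

theorem mem_Rrow (A : SpecialLinearGroup (Fin (m + 3)) K) :
    A ∈ Rrow m K ↔ (∀ k, k ≠ 0 → ∀ l, A.1 k l = (1 : Matrix (Fin (m + 3)) (Fin (m + 3)) K) k l) ∧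
      A.1 0 0 = 1 := Iff.rfl

theorem Rrow_le_UU : Rrow m K ≤ UU (m + 3) K := by
  intro A hA
  rw [mem_UU]
  refine ⟨fun i j hji => ?_, fun i => ?_⟩
  · have hi : i ≠ 0 := by
      intro h
      rw [h] at hji
      exact absurd hji (Fin.not_lt_zero j)
    rw [hA.1 i hi j, Matrix.one_apply_ne (ne_of_gt hji)]
  · by_cases hi : i = 0
    · rw [hi]
      exact hA.2
    · rw [hA.1 i hi i, Matrix.one_apply_eq]

theorem UU_le_Prow : UU (m + 3) K ≤ Prow m K := by
  intro A hA k hk
  exact hA.1 k 0 (Fin.pos_of_ne_zero hk)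

theorem Prow_le_normalizer : Prow m K ≤
    Subgroup.normalizer (Rrow m K : Set (SpecialLinearGroup (Fin (m + 3)) K)) := by
  intro x hx
  rw [Subgroup.mem_normalizer_iff]
  intro y
  apply Cfsg.Agent.Lib.helper25.conj_mem_iff_of_forall_conj_mem
  intro A hA
  have hy : x⁻¹ ∈ Prow m K := (Prow m K).inv_mem hx
  rw [mem_Prow] at hx hy
  have hxy : x.1 * (x⁻¹).1 = 1 := by
    have h1 : x.1 * (x⁻¹).1 = (x * x⁻¹).1 := rfl
    rw [h1, mul_inv_cancel]
    rfl
  -- rows `k ≠ 0` of `x * A` are those of `x`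
  have hrow : ∀ k, k ≠ 0 → ∀ a, (x.1 * A.1) k a = x.1 k a := by
    intro k hk a
    have h1 : (x.1 * A.1) k a = (x.1 * (1 : Matrix (Fin (m + 3)) (Fin (m + 3)) K)) k a := by
      rw [Matrix.mul_apply, Matrix.mul_apply]
      apply Finset.sum_congr rfl
      intro c _
      by_cases hc : c = 0
      · rw [hc, hx k hk, zero_mul, zero_mul]
      · rw [hA.1 c hc a]
    rw [h1, Matrix.mul_one]
  rw [mem_Rrow]
  refine ⟨fun k hk l => ?_, ?_⟩
  · show ((x.1 * A.1) * (x⁻¹).1) k l = _
    have h1 : ((x.1 * A.1) * (x⁻¹).1) k l = (x.1 * (x⁻¹).1) k l := by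
      rw [Matrix.mul_apply, Matrix.mul_apply]
      exact Finset.sum_congr rfl (fun c _ => by rw [hrow k hk c])
    rw [h1, hxy]
  · show ((x.1 * A.1) * (x⁻¹).1) 0 0 = 1
    have h00 : (x.1 * A.1) 0 0 = x.1 0 0 := by
      rw [Matrix.mul_apply, Finset.sum_eq_single 0]
      · rw [hA.2, mul_one]
      · intro c _ hc
        rw [hA.1 c hc 0, Matrix.one_apply_ne hc, mul_zero]
      · intro h
        exact absurd (Finset.mem_univ _) h
    have h1 : ((x.1 * A.1) * (x⁻¹).1) 0 0 = (x.1 * (x⁻¹).1) 0 0 := by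
      rw [Matrix.mul_apply, Matrix.mul_apply, Finset.sum_eq_single 0, Finset.sum_eq_single 0]
      · rw [h00]
      · intro c _ hc
        rw [hy c hc, mul_zero]
      · intro h
        exact absurd (Finset.mem_univ _) h
      · intro c _ hc
        rw [hy c hc, mul_zero]
      · intro h
        exact absurd (Finset.mem_univ _) h
    rw [h1, hxy]
    exact Matrix.one_apply_eq 0

theorem tv_mem_Prow {a b : Fin (m + 3)} (hab : a ≠ b) (hb : b ≠ 0) (c : K) :
    SpecialLinearGroup.transvection hab c ∈ Prow m K := by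
  intro k hk
  rw [tv_apply, if_neg (fun h => hb h.2.symm), if_neg hk]

theorem tv_mem_Rrow {j : Fin (m + 3)} (hj : (0 : Fin (m + 3)) ≠ j) (c : K) :
    SpecialLinearGroup.transvection hj c ∈ Rrow m K := by
  rw [mem_Rrow]
  refine ⟨fun k hk l => ?_, ?_⟩
  · rw [tv_apply, if_neg (fun h => hk h.1), Matrix.one_apply]
  · rw [tv_apply, if_neg (fun h => hj h.2), if_pos rfl]

/-- A matrix of determinant one as an element of the special linear group. -/
def mkSL (M : Matrix (Fin (m + 3)) (Fin (m + 3)) K) (h : M.det = 1) :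
    Matrix.SpecialLinearGroup (Fin (m + 3)) K := ⟨M, h⟩

/-- If a scalar multiple of `g` lies in `R` then `g` lies in `R` times the centre. -/
theorem mem_sup_center_of_smul (R : Subgroup (Matrix.SpecialLinearGroup (Fin (m + 3)) K))
    (g : Matrix.SpecialLinearGroup (Fin (m + 3)) K) (c : K) (hc : c ^ (m + 3) = 1)
    (hR : ∀ A : Matrix.SpecialLinearGroup (Fin (m + 3)) K, A.1 = c⁻¹ • g.1 → A ∈ R) :
    g ∈ R ⊔ Subgroup.center (Matrix.SpecialLinearGroup (Fin (m + 3)) K) := by
  have hc0 : c ≠ 0 := by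
    intro h
    rw [h, zero_pow (by omega)] at hc
    exact zero_ne_one hc
  have hdetA : (c⁻¹ • g.1).det = 1 := by
    rw [Matrix.det_smul, Fintype.card_fin, g.2, mul_one, inv_pow, hc, inv_one]
  have hdetz : (Matrix.scalar (Fin (m + 3)) c).det = 1 := by
    rw [Matrix.scalar_apply, Matrix.det_diagonal, Finset.prod_const, Finset.card_univ,
      Fintype.card_fin, hc]
  have hz : mkSL (Matrix.scalar (Fin (m + 3)) c) hdetz ∈
      Subgroup.center (Matrix.SpecialLinearGroup (Fin (m + 3)) K) := by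
    rw [Matrix.SpecialLinearGroup.mem_center_iff]
    exact ⟨c, by rw [Fintype.card_fin]; exact hc, rfl⟩
  have hA := hR (mkSL (c⁻¹ • g.1) hdetA) rfl
  have hg : g = mkSL (c⁻¹ • g.1) hdetA * mkSL (Matrix.scalar (Fin (m + 3)) c) hdetz := by
    apply Subtype.ext
    show g.1 = (c⁻¹ • g.1) * Matrix.scalar (Fin (m + 3)) c
    ext i j
    rw [Matrix.scalar_apply, Matrix.mul_diagonal, Matrix.smul_apply, smul_eq_mul]
    field_simp
  rw [hg]
  exact Subgroup.mul_mem_sup hA hz

theorem centralizer_Rrow_le : Subgroup.centralizer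
    (Rrow m K : Set (SpecialLinearGroup (Fin (m + 3)) K)) ≤
    Rrow m K ⊔ Subgroup.center (SpecialLinearGroup (Fin (m + 3)) K) := by
  intro g hg
  have hcomm : ∀ (j : Fin (m + 3)) (hj : (0 : Fin (m + 3)) ≠ j) (k l : Fin (m + 3)),
      (if k = 0 then g.1 k l + 1 * g.1 j l else g.1 k l) =
      (if l = j then g.1 k l + g.1 k 0 * 1 else g.1 k l) := by
    intro j hj k l
    have h1 := (Subgroup.mem_centralizer_iff.1 hg) _ (tv_mem_Rrow hj 1)
    have h2 := congrArg (fun B : SpecialLinearGroup (Fin (m + 3)) K => B.1 k l) h1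
    simp only [mul_tv_apply, tv_mul_apply] at h2
    exact h2
  have h01 : (0 : Fin (m + 3)) ≠ 1 := by
    intro h
    have := congrArg Fin.val h
    simp at this
  -- first column
  have hcol : ∀ k, k ≠ 0 → g.1 k 0 = 0 := by
    intro k hk
    have h1 := hcomm 1 h01 k 1
    rw [if_neg hk, if_pos rfl, mul_one] at h1
    have h2 := sub_eq_zero.2 h1.symm
    rw [add_sub_cancel_left] at h2
    exact h2
  -- other rows
  have hrow : ∀ j, j ≠ 0 → ∀ l, l ≠ j → g.1 j l = 0 := by
    intro j hj l hl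
    have h1 := hcomm j (Ne.symm hj) 0 l
    rw [if_pos rfl, if_neg hl, one_mul] at h1
    have h2 := sub_eq_zero.2 h1
    rw [add_sub_cancel_left] at h2
    exact h2
  have hdiag : ∀ j, j ≠ 0 → g.1 j j = g.1 0 0 := by
    intro j hj
    have h1 := hcomm j (Ne.symm hj) 0 j
    rw [if_pos rfl, if_pos rfl, one_mul, mul_one] at h1
    exact add_left_cancel h1
  have hdiag' : ∀ j, g.1 j j = g.1 0 0 := by
    intro j
    by_cases hj : j = 0
    · rw [hj]
    · exact hdiag j hj
  have hut : UT g.1 := by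
    intro i j hji
    have hi : i ≠ 0 := by
      intro h
      rw [h] at hji
      exact absurd hji (Fin.not_lt_zero j)
    exact hrow i hi j (ne_of_lt hji)
  have hpow : (g.1 0 0) ^ (m + 3) = 1 := by
    have h1 := ut_det hut
    rw [g.2, Finset.prod_congr rfl (fun j _ => hdiag' j), Finset.prod_const, Finset.card_univ,
      Fintype.card_fin] at h1
    exact h1.symm
  have hc0 : g.1 0 0 ≠ 0 := by
    intro h
    rw [h, zero_pow (by omega)] at hpow
    exact zero_ne_one hpow
  apply mem_sup_center_of_smul (Rrow m K) g (g.1 0 0) hpow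
  intro A hA
  rw [mem_Rrow]
  refine ⟨fun k hk l => ?_, ?_⟩
  · rw [hA, Matrix.smul_apply, smul_eq_mul, Matrix.one_apply]
    by_cases hkl : k = l
    · rw [if_pos hkl, ← hkl, hdiag k hk, inv_mul_cancel₀ hc0]
    · rw [if_neg hkl, hrow k hk l (Ne.symm hkl), mul_zero]
  · rw [hA, Matrix.smul_apply, smul_eq_mul, inv_mul_cancel₀ hc0]

/-! ### The last-column group -/

/-- Matrices whose last row is a multiple of the last basis covector. -/
noncomputable def Pcol (m : ℕ) (K : Type*) [Field K] [Finite K] :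
    Subgroup (Matrix.SpecialLinearGroup (Fin (m + 3)) K) :=
  ofMulClosed {A | ∀ l, l ≠ Fin.last (m + 2) → A.1 (Fin.last (m + 2)) l = 0}
    (fun l hl => Matrix.one_apply_ne (Ne.symm hl))
    (fun a b ha hb l hl => by
      show (a.1 * b.1) (Fin.last (m + 2)) l = 0
      rw [Matrix.mul_apply]
      apply Finset.sum_eq_zero
      intro c _
      by_cases hc : c = Fin.last (m + 2)
      · rw [hc, hb l hl, mul_zero]
      · rw [ha c hc, zero_mul])

/-- Matrices differing from the identity only in the last column, off the diagonal. -/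
noncomputable def Rcol (m : ℕ) (K : Type*) [Field K] [Finite K] :
    Subgroup (Matrix.SpecialLinearGroup (Fin (m + 3)) K) :=
  ofMulClosed {A | (∀ l, l ≠ Fin.last (m + 2) → ∀ k,
      A.1 k l = (1 : Matrix (Fin (m + 3)) (Fin (m + 3)) K) k l) ∧
      A.1 (Fin.last (m + 2)) (Fin.last (m + 2)) = 1}
    ⟨fun _ _ _ => rfl, Matrix.one_apply_eq _⟩
    (fun a b ha hb => by
      refine ⟨fun l hl k => ?_, ?_⟩
      · show (a.1 * b.1) k l = _
        have h1 : (a.1 * b.1) k l = (a.1 * (1 : Matrix (Fin (m + 3)) (Fin (m + 3)) K)) k l := by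
          rw [Matrix.mul_apply, Matrix.mul_apply]
          exact Finset.sum_congr rfl (fun c _ => by rw [hb.1 l hl c])
        rw [h1, Matrix.mul_one, ha.1 l hl k]
      · show (a.1 * b.1) (Fin.last (m + 2)) (Fin.last (m + 2)) = 1
        rw [Matrix.mul_apply, Finset.sum_eq_single (Fin.last (m + 2))]
        · rw [ha.2, hb.2, mul_one]
        · intro c _ hc
          rw [ha.1 c hc _, Matrix.one_apply_ne (Ne.symm hc), zero_mul]
        · intro h
          exact absurd (Finset.mem_univ _) h)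

theorem mem_Pcol (A : Matrix.SpecialLinearGroup (Fin (m + 3)) K) :
    A ∈ Pcol m K ↔ ∀ l, l ≠ Fin.last (m + 2) → A.1 (Fin.last (m + 2)) l = 0 := Iff.rfl

theorem mem_Rcol (A : Matrix.SpecialLinearGroup (Fin (m + 3)) K) :
    A ∈ Rcol m K ↔ (∀ l, l ≠ Fin.last (m + 2) → ∀ k,
      A.1 k l = (1 : Matrix (Fin (m + 3)) (Fin (m + 3)) K) k l) ∧
      A.1 (Fin.last (m + 2)) (Fin.last (m + 2)) = 1 := Iff.rfl

theorem Rcol_le_UU : Rcol m K ≤ UU (m + 3) K := by
  intro A hA
  rw [mem_UU]
  refine ⟨fun i j hji => ?_, fun i => ?_⟩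
  · have hj : j ≠ Fin.last (m + 2) := by
      intro h
      rw [h] at hji
      exact absurd hji (not_lt.2 (Fin.le_last i))
    rw [hA.1 j hj i, Matrix.one_apply_ne (ne_of_gt hji)]
  · by_cases hi : i = Fin.last (m + 2)
    · rw [hi]
      exact hA.2
    · rw [hA.1 i hi i, Matrix.one_apply_eq]

theorem UU_le_Pcol : UU (m + 3) K ≤ Pcol m K := by
  intro A hA l hl
  exact hA.1 _ l (lt_of_le_of_ne (Fin.le_last l) hl)

theorem Pcol_le_normalizer : Pcol m K ≤
    Subgroup.normalizer (Rcol m K : Set (Matrix.SpecialLinearGroup (Fin (m + 3)) K)) := by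
  intro x hx
  rw [Subgroup.mem_normalizer_iff]
  intro y
  apply Cfsg.Agent.Lib.helper25.conj_mem_iff_of_forall_conj_mem
  intro A hA
  have hy : x⁻¹ ∈ Pcol m K := (Pcol m K).inv_mem hx
  rw [mem_Pcol] at hx hy
  have hxy : x.1 * (x⁻¹).1 = 1 := by
    have h1 : x.1 * (x⁻¹).1 = (x * x⁻¹).1 := rfl
    rw [h1, mul_inv_cancel]
    rfl
  -- columns `l ≠ last` of `A * x⁻¹` are those of `x⁻¹`
  have hcol : ∀ l, l ≠ Fin.last (m + 2) → ∀ a, (A.1 * (x⁻¹).1) a l = (x⁻¹).1 a l := by
    intro l hl a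
    have h1 : (A.1 * (x⁻¹).1) a l =
        ((1 : Matrix (Fin (m + 3)) (Fin (m + 3)) K) * (x⁻¹).1) a l := by
      rw [Matrix.mul_apply, Matrix.mul_apply]
      apply Finset.sum_congr rfl
      intro c _
      by_cases hc : c = Fin.last (m + 2)
      · rw [hc, hy l hl, mul_zero, mul_zero]
      · rw [hA.1 c hc a]
    rw [h1, Matrix.one_mul]
  have hassoc : (x * A * x⁻¹).1 = x.1 * (A.1 * (x⁻¹).1) := by
    show (x.1 * A.1) * (x⁻¹).1 = _
    rw [Matrix.mul_assoc]
  rw [mem_Rcol]
  refine ⟨fun l hl k => ?_, ?_⟩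
  · rw [hassoc]
    have h1 : (x.1 * (A.1 * (x⁻¹).1)) k l = (x.1 * (x⁻¹).1) k l := by
      rw [Matrix.mul_apply, Matrix.mul_apply]
      exact Finset.sum_congr rfl (fun c _ => by rw [hcol l hl c])
    rw [h1, hxy]
  · rw [hassoc]
    have hLL : (A.1 * (x⁻¹).1) (Fin.last (m + 2)) (Fin.last (m + 2)) =
        (x⁻¹).1 (Fin.last (m + 2)) (Fin.last (m + 2)) := by
      rw [Matrix.mul_apply, Finset.sum_eq_single (Fin.last (m + 2))]
      · rw [hA.2, one_mul]
      · intro c _ hc
        rw [hA.1 c hc _, Matrix.one_apply_ne (Ne.symm hc), zero_mul]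
      · intro h
        exact absurd (Finset.mem_univ _) h
    have h1 : (x.1 * (A.1 * (x⁻¹).1)) (Fin.last (m + 2)) (Fin.last (m + 2)) =
        (x.1 * (x⁻¹).1) (Fin.last (m + 2)) (Fin.last (m + 2)) := by
      rw [Matrix.mul_apply, Matrix.mul_apply, Finset.sum_eq_single (Fin.last (m + 2)),
        Finset.sum_eq_single (Fin.last (m + 2))]
      · rw [hLL]
      · intro c _ hc
        rw [hx c hc, zero_mul]
      · intro h
        exact absurd (Finset.mem_univ _) h
      · intro c _ hc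
        rw [hx c hc, zero_mul]
      · intro h
        exact absurd (Finset.mem_univ _) h
    rw [h1, hxy]
    exact Matrix.one_apply_eq _

theorem tv_mem_Pcol {a b : Fin (m + 3)} (hab : a ≠ b) (ha : a ≠ Fin.last (m + 2)) (c : K) :
    SpecialLinearGroup.transvection hab c ∈ Pcol m K := by
  intro l hl
  rw [tv_apply, if_neg (fun h => ha h.1.symm), if_neg (Ne.symm hl)]

theorem tv_mem_Rcol {i : Fin (m + 3)} (hi : i ≠ Fin.last (m + 2)) (c : K) :
    SpecialLinearGroup.transvection hi c ∈ Rcol m K := by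
  rw [mem_Rcol]
  refine ⟨fun l hl k => ?_, ?_⟩
  · rw [tv_apply, if_neg (fun h => hl h.2), Matrix.one_apply]
  · rw [tv_apply, if_neg (fun h => hi h.1.symm), if_pos rfl]

theorem centralizer_Rcol_le : Subgroup.centralizer
    (Rcol m K : Set (Matrix.SpecialLinearGroup (Fin (m + 3)) K)) ≤
    Rcol m K ⊔ Subgroup.center (Matrix.SpecialLinearGroup (Fin (m + 3)) K) := by
  intro g hg
  have hcomm : ∀ (i : Fin (m + 3)) (hi : i ≠ Fin.last (m + 2)) (k l : Fin (m + 3)),
      (if k = i then g.1 k l + 1 * g.1 (Fin.last (m + 2)) l else g.1 k l) =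
      (if l = Fin.last (m + 2) then g.1 k l + g.1 k i * 1 else g.1 k l) := by
    intro i hi k l
    have h1 := (Subgroup.mem_centralizer_iff.1 hg) _ (tv_mem_Rcol hi 1)
    have h2 := congrArg (fun B : Matrix.SpecialLinearGroup (Fin (m + 3)) K => B.1 k l) h1
    simp only [mul_tv_apply, tv_mul_apply] at h2
    exact h2
  have h0L : (0 : Fin (m + 3)) ≠ Fin.last (m + 2) := zero_ne_last m
  -- last row
  have hrow : ∀ l, l ≠ Fin.last (m + 2) → g.1 (Fin.last (m + 2)) l = 0 := by
    intro l hl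
    have h1 := hcomm 0 h0L 0 l
    rw [if_pos rfl, if_neg hl, one_mul] at h1
    have h2 := sub_eq_zero.2 h1
    rw [add_sub_cancel_left] at h2
    exact h2
  -- other columns
  have hcol : ∀ i, i ≠ Fin.last (m + 2) → ∀ k, k ≠ i → g.1 k i = 0 := by
    intro i hi k hk
    have h1 := hcomm i hi k (Fin.last (m + 2))
    rw [if_neg hk, if_pos rfl, mul_one] at h1
    have h2 := sub_eq_zero.2 h1.symm
    rw [add_sub_cancel_left] at h2
    exact h2
  have hdiag : ∀ i, i ≠ Fin.last (m + 2) →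
      g.1 i i = g.1 (Fin.last (m + 2)) (Fin.last (m + 2)) := by
    intro i hi
    have h1 := hcomm i hi i (Fin.last (m + 2))
    rw [if_pos rfl, if_pos rfl, one_mul, mul_one] at h1
    exact (add_left_cancel h1).symm
  have hdiag' : ∀ i, g.1 i i = g.1 (Fin.last (m + 2)) (Fin.last (m + 2)) := by
    intro i
    by_cases hi : i = Fin.last (m + 2)
    · rw [hi]
    · exact hdiag i hi
  have hut : UT g.1 := by
    intro i j hji
    have hj : j ≠ Fin.last (m + 2) := by
      intro h
      rw [h] at hji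
      exact absurd hji (not_lt.2 (Fin.le_last i))
    exact hcol j hj i (ne_of_gt hji)
  have hpow : (g.1 (Fin.last (m + 2)) (Fin.last (m + 2))) ^ (m + 3) = 1 := by
    have h1 := ut_det hut
    rw [g.2, Finset.prod_congr rfl (fun j _ => hdiag' j), Finset.prod_const, Finset.card_univ,
      Fintype.card_fin] at h1
    exact h1.symm
  have hc0 : g.1 (Fin.last (m + 2)) (Fin.last (m + 2)) ≠ 0 := by
    intro h
    rw [h, zero_pow (by omega)] at hpow
    exact zero_ne_one hpow
  apply mem_sup_center_of_smul (Rcol m K) g _ hpow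
  intro A hA
  rw [mem_Rcol]
  refine ⟨fun l hl k => ?_, ?_⟩
  · rw [hA, Matrix.smul_apply, smul_eq_mul, Matrix.one_apply]
    by_cases hkl : k = l
    · rw [if_pos hkl, hkl, hdiag l hl, inv_mul_cancel₀ hc0]
    · rw [if_neg hkl, hcol l hl k hkl, mul_zero]
  · rw [hA, Matrix.smul_apply, smul_eq_mul, inv_mul_cancel₀ hc0]

end Cfsg.Agent.Lib.helper25.SLUni
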