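import Mathlib
import Cfsg.Agent.Lib.helper25.SLUni3
import Cfsg.Agent.Lib.helper25.FusionSimple3

set_option autoImplicit false
set_option linter.unusedSectionVars false
set_option linter.unusedSimpArgs false

namespace Cfsg.Agent.Lib.helper25.SLUni

open Matrix

variable {m : ℕ} {K : Type*} [Field K] [Finite K]

theorem diag2n_mem_BB {i j : Fin (m + 3)} (hij : i ≠ j) (a : K) (ha : a ≠ 0) :
    Matrix.SpecialLinearGroup.diag2n hij a ha ∈ BB (m + 3) K := by
  rw [mem_BB]
  intro k l hlk
  rw [Matrix.SpecialLinearGroup.diag2n_coe]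
  exact Matrix.diagonal_apply_ne _ (ne_of_gt hlk)

/-- The generation hypothesis of the simplicity criterion for the unitriangular group. -/
theorem gen_UU (p : ℕ) [Fact p.Prime] [CharP K p] :
    Subgroup.normalizer (UU (m + 3) K : Set (Matrix.SpecialLinearGroup (Fin (m + 3)) K)) ≤
      Subgroup.closure {x : Matrix.SpecialLinearGroup (Fin (m + 3)) K |
        x ∈ Subgroup.normalizer (UU (m + 3) K : Set (Matrix.SpecialLinearGroup (Fin (m + 3)) K)) ∧
        ∃ R : Subgroup (Matrix.SpecialLinearGroup (Fin (m + 3)) K), R ≤ UU (m + 3) K ∧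
          UU (m + 3) K ≤ Subgroup.normalizer (R : Set (Matrix.SpecialLinearGroup (Fin (m + 3)) K)) ∧
          Subgroup.centralizer (R : Set (Matrix.SpecialLinearGroup (Fin (m + 3)) K)) ≤
            R ⊔ Subgroup.center (Matrix.SpecialLinearGroup (Fin (m + 3)) K) ∧
          x ∈ Subgroup.closure {y : Matrix.SpecialLinearGroup (Fin (m + 3)) K |
            y ∈ Subgroup.normalizer (R : Set (Matrix.SpecialLinearGroup (Fin (m + 3)) K)) ∧
            ∃ k : ℕ, orderOf y = p ^ k}} := by
  intro γ hγ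
  obtain ⟨D, hD, u, hu, rfl⟩ := BB_decomp γ (normalizer_UU_le_BB hγ)
  apply Subgroup.mul_mem
  · have h := Matrix.SpecialLinearGroup.diag_eq_diag2n_prod (1 : Fin (m + 3)) D hD
    have h' : dg D hD = _ := h
    rw [h']
    apply Subgroup.noncommProd_mem
    intro i hi
    have hi1 : i ≠ 1 := (Finset.mem_filter.1 hi).2
    rw [dif_pos hi1]
    apply Subgroup.subset_closure
    refine ⟨BB_le_normalizer_UU (diag2n_mem_BB hi1 _ _), ?_⟩
    have h1L : (1 : Fin (m + 3)) ≠ Fin.last (m + 2) := by
      intro h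
      have := congrArg Fin.val h
      simp at this
    have h10 : (1 : Fin (m + 3)) ≠ 0 := by
      intro h
      have := congrArg Fin.val h
      simp at this
    by_cases hi0 : i = 0
    · refine ⟨Rcol m K, Rcol_le_UU, UU_le_Pcol.trans Pcol_le_normalizer, centralizer_Rcol_le, ?_⟩
      have hiL : i ≠ Fin.last (m + 2) := by
        rw [hi0]
        exact zero_ne_last m
      have hgen : ∀ (a b : Fin (m + 3)) (hab : a ≠ b), a ≠ Fin.last (m + 2) → ∀ c : K,
          SpecialLinearGroup.transvection hab c ∈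
          Subgroup.closure {y : Matrix.SpecialLinearGroup (Fin (m + 3)) K |
            y ∈ Subgroup.normalizer (Rcol m K : Set (Matrix.SpecialLinearGroup (Fin (m + 3)) K)) ∧
            ∃ k : ℕ, orderOf y = p ^ k} := fun a b hab ha c =>
        Subgroup.subset_closure ⟨Pcol_le_normalizer (tv_mem_Pcol hab ha c), tv_order p hab c⟩
      rw [Cfsg.Agent.Lib.helper2.SLGen.diag2n_eq]
      exact Subgroup.mul_mem _ (Subgroup.mul_mem _ (Subgroup.mul_mem _ (hgen _ _ _ hiL _)
        (hgen _ _ _ h1L _)) (hgen _ _ _ hiL _)) (Subgroup.mul_mem _ (Subgroup.mul_mem _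
        (hgen _ _ _ hiL _) (hgen _ _ _ h1L _)) (hgen _ _ _ hiL _))
    · refine ⟨Rrow m K, Rrow_le_UU, UU_le_Prow.trans Prow_le_normalizer, centralizer_Rrow_le, ?_⟩
      have hgen : ∀ (a b : Fin (m + 3)) (hab : a ≠ b), b ≠ 0 → ∀ c : K,
          SpecialLinearGroup.transvection hab c ∈
          Subgroup.closure {y : Matrix.SpecialLinearGroup (Fin (m + 3)) K |
            y ∈ Subgroup.normalizer (Rrow m K : Set (Matrix.SpecialLinearGroup (Fin (m + 3)) K)) ∧
            ∃ k : ℕ, orderOf y = p ^ k} := fun a b hab hb c =>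
        Subgroup.subset_closure ⟨Prow_le_normalizer (tv_mem_Prow hab hb c), tv_order p hab c⟩
      rw [Cfsg.Agent.Lib.helper2.SLGen.diag2n_eq]
      exact Subgroup.mul_mem _ (Subgroup.mul_mem _ (Subgroup.mul_mem _ (hgen _ _ _ h10 _)
        (hgen _ _ _ hi0 _)) (hgen _ _ _ h10 _)) (Subgroup.mul_mem _ (Subgroup.mul_mem _
        (hgen _ _ _ h10 _) (hgen _ _ _ hi0 _)) (hgen _ _ _ h10 _))
  · apply Subgroup.subset_closure
    refine ⟨Subgroup.le_normalizer hu, Rrow m K, Rrow_le_UU,
      UU_le_Prow.trans Prow_le_normalizer, centralizer_Rrow_le, ?_⟩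
    apply Subgroup.subset_closure
    refine ⟨(UU_le_Prow.trans Prow_le_normalizer) hu, ?_⟩
    obtain ⟨k, hk⟩ := (IsPGroup.iff_orderOf.1 (isPGroup_UU (N := m + 3) (K := K) p)) ⟨u, hu⟩
    exact ⟨k, by rw [← hk, Subgroup.orderOf_mk]⟩

theorem UU_inf_center (x : Matrix.SpecialLinearGroup (Fin (m + 3)) K) (hx : x ∈ UU (m + 3) K)
    (hc : x ∈ Subgroup.center (Matrix.SpecialLinearGroup (Fin (m + 3)) K)) : x = 1 := by
  rw [Matrix.SpecialLinearGroup.mem_center_iff] at hc
  obtain ⟨r, -, hr⟩ := hc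
  have h1 : r = 1 := by
    have := congrFun (congrFun hr 0) 0
    rw [Matrix.scalar_apply, Matrix.diagonal_apply_eq, hx.2 0] at this
    exact this
  apply Subtype.ext
  rw [← hr, h1, map_one]
  rfl

theorem UU_ne_bot : UU (m + 3) K ≠ ⊥ := by
  intro h
  have h01 : (0 : Fin (m + 3)) < 1 := by
    rw [Fin.lt_def]
    simp
  have h1 : SpecialLinearGroup.transvection (ne_of_lt h01) (1 : K) ∈ UU (m + 3) K :=
    tv_mem_UU h01 1
  rw [h, Subgroup.mem_bot] at h1
  have h2 : (SpecialLinearGroup.transvection (ne_of_lt h01) (1 : K)).1 0 1 = 1 := by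
    rw [tv_apply, if_pos ⟨rfl, rfl⟩]
  rw [h1] at h2
  have h3 : (1 : Matrix.SpecialLinearGroup (Fin (m + 3)) K).1 0 1 = 0 :=
    Matrix.one_apply_ne (ne_of_lt h01)
  rw [h3] at h2
  exact zero_ne_one h2

end Cfsg.Agent.Lib.helper25.SLUni

namespace Cfsg.Agent.Lib.helper25

open Cfsg.Agent.Lib.helper25.SLUni

/-- The `p`-part of the order of `PSL_n(K)` in characteristic `p`. -/
theorem card_sylow_PSL {K : Type*} [Field K] [Fintype K] (p : ℕ) [Fact p.Prime] [CharP K p]
    (n : ℕ) (hn : 1 ≤ n) :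
    p ^ (Nat.card (Matrix.ProjectiveSpecialLinearGroup (Fin n) K)).factorization p =
      Fintype.card K ^ (n * (n - 1) / 2) := by
  have hp := (Fact.out : p.Prime)
  obtain ⟨f, -, hq⟩ := FiniteField.card K p
  have hq2 : 2 ≤ Fintype.card K := Fintype.one_lt_card
  have hpq : p ∣ Fintype.card K := by
    rw [hq]
    exact dvd_pow_self p f.pos.ne'
  have hnd : ¬ p ∣ Fintype.card K - 1 := by
    intro h
    have h1 : p ∣ 1 := by
      have := Nat.dvd_sub hpq h
      rwa [Nat.sub_sub_self (by omega)] at this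
    exact hp.one_lt.ne' (Nat.dvd_one.1 h1)
  let P : Sylow p (GL (Fin n) K) := default
  have h1 := Cfsg.Agent.Lib.helper2.SLCard.card_sylow_GL K p n P
  have h2 := P.card_eq_multiplicity
  have h3 := Cfsg.Agent.Lib.helper2.SLCard.card_GL_eq K n hn
  have h4 := Subgroup.card_eq_card_quotient_mul_card_subgroup
    (Subgroup.center (Matrix.SpecialLinearGroup (Fin n) K))
  have h5 := Cfsg.Agent.Lib.helper2.SLCard.card_center_SL K n hn
  have hpsl : Nat.card (Matrix.ProjectiveSpecialLinearGroup (Fin n) K) ≠ 0 := Nat.card_pos.ne'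
  have hcen : Nat.card (Subgroup.center (Matrix.SpecialLinearGroup (Fin n) K)) ≠ 0 :=
    Nat.card_pos.ne'
  have hnd2 : ¬ p ∣ Nat.card (Subgroup.center (Matrix.SpecialLinearGroup (Fin n) K)) := by
    rw [h5]
    intro h
    exact hnd (dvd_trans h (Nat.gcd_dvd_right _ _))
  have h6 : (Nat.card (GL (Fin n) K)).factorization p =
      (Nat.card (Matrix.ProjectiveSpecialLinearGroup (Fin n) K)).factorization p := by
    rw [h3, h4, Nat.factorization_mul (by omega) (mul_ne_zero hpsl hcen),
      Nat.factorization_mul hpsl hcen, Finsupp.add_apply, Finsupp.add_apply,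
      Nat.factorization_eq_zero_of_not_dvd hnd, Nat.factorization_eq_zero_of_not_dvd hnd2]
    simp
  rw [← h6, ← h2, h1]

/-- The defining-characteristic fusion system of `PSL_n(K)`, `n ≥ 3`, is simple. -/
theorem psl_fusion_simple {K : Type*} [Field K] [Fintype K] (p : ℕ) [Fact p.Prime] [CharP K p]
    (m : ℕ) (S : Sylow p (Matrix.ProjectiveSpecialLinearGroup (Fin (m + 3)) K)) :
    (Cfsg.groupFusionSystem
      (S : Subgroup (Matrix.ProjectiveSpecialLinearGroup (Fin (m + 3)) K))).IsSimple p := by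
  have hp := (Fact.out : p.Prime)
  set π : Matrix.SpecialLinearGroup (Fin (m + 3)) K →*
      Matrix.ProjectiveSpecialLinearGroup (Fin (m + 3)) K :=
    QuotientGroup.mk' (Subgroup.center (Matrix.SpecialLinearGroup (Fin (m + 3)) K)) with hπ
  have hπker : π.ker = Subgroup.center (Matrix.SpecialLinearGroup (Fin (m + 3)) K) :=
    QuotientGroup.ker_mk' _
  have hπsurj : Function.Surjective π := QuotientGroup.mk'_surjective _
  -- the image of the unitriangular group is a Sylow subgroup
  have hinj : Function.Injective (π.comp (UU (m + 3) K).subtype) := by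
    rw [injective_iff_map_eq_one]
    intro x hx
    have h1 : (x : Matrix.SpecialLinearGroup (Fin (m + 3)) K) ∈ π.ker := hx
    rw [hπker] at h1
    exact Subtype.ext (UU_inf_center _ x.2 h1)
  have hcardU : Nat.card ((UU (m + 3) K).map π) = Nat.card (UU (m + 3) K) := by
    have h1 : (UU (m + 3) K).map π = (π.comp (UU (m + 3) K).subtype).range := by
      rw [MonoidHom.range_comp, Subgroup.range_subtype]
    rw [h1]
    exact (Nat.card_congr (MonoidHom.ofInjective hinj).toEquiv).symm
  have hcard : Nat.card ((UU (m + 3) K).map π) =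
      p ^ (Nat.card (Matrix.ProjectiveSpecialLinearGroup (Fin (m + 3)) K)).factorization p := by
    rw [hcardU, card_UU, card_sylow_PSL p (m + 3) (by omega), Nat.card_eq_fintype_card]
  obtain ⟨g, hg⟩ := MulAction.exists_smul_eq (Matrix.ProjectiveSpecialLinearGroup (Fin (m + 3)) K)
    (Sylow.ofCard _ hcard) S
  set φ : Matrix.SpecialLinearGroup (Fin (m + 3)) K →*
      Matrix.ProjectiveSpecialLinearGroup (Fin (m + 3)) K :=
    (MulAut.conj g).toMonoidHom.comp π with hφ
  have hφapp : ∀ x, φ x = g * π x * g⁻¹ := fun x => rfl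
  have hφker : φ.ker = Subgroup.center (Matrix.SpecialLinearGroup (Fin (m + 3)) K) := by
    ext x
    have hx : x ∈ π.ker ↔ x ∈ Subgroup.center (Matrix.SpecialLinearGroup (Fin (m + 3)) K) := by
      rw [hπker]
    rw [← hx, MonoidHom.mem_ker, MonoidHom.mem_ker, hφapp]
    constructor
    · intro h
      have : π x = g⁻¹ * (g * π x * g⁻¹) * g := by group
      rw [this, h]
      group
    · intro h
      rw [h]
      group
  have hφsurj : Function.Surjective φ := by
    intro y
    obtain ⟨x, hx⟩ := hπsurj (g⁻¹ * y * g)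
    refine ⟨x, ?_⟩
    rw [hφapp, hx]
    group
  have hS : (S : Subgroup (Matrix.ProjectiveSpecialLinearGroup (Fin (m + 3)) K)) =
      (UU (m + 3) K).map φ := by
    rw [← hg, Sylow.coe_subgroup_smul]
    ext x
    rw [Subgroup.mem_pointwise_smul_iff_inv_smul_mem, MulAut.smul_def, MulAut.conj_inv_apply]
    constructor
    · rintro ⟨u, hu, hux⟩
      refine ⟨u, hu, ?_⟩
      rw [hφapp, hux]
      group
    · rintro ⟨u, hu, rfl⟩
      refine ⟨u, hu, ?_⟩
      rw [hφapp]
      group
  have hcop : (Nat.card φ.ker).Coprime p := by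
    rw [hφker, Cfsg.Agent.Lib.helper2.SLCard.card_center_SL K (m + 3) (by omega)]
    obtain ⟨f, -, hq⟩ := FiniteField.card K p
    have hq2 : 2 ≤ Fintype.card K := Fintype.one_lt_card
    have hpq : p ∣ Fintype.card K := by
      rw [hq]
      exact dvd_pow_self p f.pos.ne'
    rw [Nat.coprime_comm, Nat.Prime.coprime_iff_not_dvd hp]
    intro h
    have h1 : p ∣ Fintype.card K - 1 := dvd_trans h (Nat.gcd_dvd_right _ _)
    have h2 : p ∣ 1 := by
      have := Nat.dvd_sub hpq h1
      rwa [Nat.sub_sub_self (by omega)] at this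
    exact hp.one_lt.ne' (Nat.dvd_one.1 h2)
  apply isSimple_groupFusion_of_cover p φ hφsurj (hφker.le) hcop (UU (m + 3) K)
    (isPGroup_UU p) UU_ne_bot S hS (strongly_closed_UU p)
  rw [hφker]
  exact gen_UU p

end Cfsg.Agent.Lib.helper25
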