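import Mathlib
import Cfsg.Agent.Lib.helper25.SLUni4

set_option autoImplicit false
set_option linter.unusedSectionVars false
set_option linter.unusedSimpArgs false

namespace Cfsg.Agent.Lib.helper25.SpUni

open Matrix
open Cfsg.Agent.Lib.helper25.SLUni

section generic

variable {ι : Type*} [Fintype ι] [DecidableEq ι] {K : Type*} [Field K]

/-- Upper triangular with respect to a rank function. -/
def UTr (ρ : ι → ℕ) (M : Matrix ι ι K) : Prop := ∀ k l, ρ l < ρ k → M k l = 0

theorem utr_one (ρ : ι → ℕ) : UTr ρ (1 : Matrix ι ι K) := by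
  intro k l h
  apply Matrix.one_apply_ne
  rintro rfl
  exact lt_irrefl _ h

theorem utr_mul {ρ : ι → ℕ} {M M' : Matrix ι ι K} (h : UTr ρ M) (h' : UTr ρ M') :
    UTr ρ (M * M') := by
  intro k l hkl
  rw [Matrix.mul_apply]
  apply Finset.sum_eq_zero
  intro c _
  by_cases hc : ρ c < ρ k
  · rw [h k c hc, zero_mul]
  · rw [h' c l (lt_of_lt_of_le hkl (not_lt.1 hc)), mul_zero]

theorem utr_mul_diag {ρ : ι → ℕ} (hρ : Function.Injective ρ) {M M' : Matrix ι ι K}
    (h : UTr ρ M) (h' : UTr ρ M') (k : ι) : (M * M') k k = M k k * M' k k := by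
  rw [Matrix.mul_apply]
  apply Finset.sum_eq_single k
  · intro c _ hc
    have hne : ρ c ≠ ρ k := fun e => hc (hρ e)
    rcases lt_or_gt_of_ne hne with hlt | hgt
    · rw [h k c hlt, zero_mul]
    · rw [h' c k hgt, mul_zero]
  · intro hk
    exact absurd (Finset.mem_univ k) hk

end generic

variable {m : ℕ} {K : Type*} [Field K]

/-- `[[1, s], [0, 1]]` for symmetric `s`. -/
def uu (s : Matrix (Fin m) (Fin m) K) (hs : sᵀ = s) : Matrix.symplecticGroup (Fin m) K :=
  ⟨Matrix.fromBlocks 1 s 0 1, by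
    rw [SymplecticGroup.fromBlocks_mem_iff]
    refine ⟨by simp, by simp [hs], by simp⟩⟩

/-- `[[1, 0], [s, 1]]` for symmetric `s`. -/
def lw (s : Matrix (Fin m) (Fin m) K) (hs : sᵀ = s) : Matrix.symplecticGroup (Fin m) K :=
  ⟨Matrix.fromBlocks 1 0 s 1, by
    rw [SymplecticGroup.fromBlocks_mem_iff]
    refine ⟨by simp [hs], by simp, by simp⟩⟩

/-- `[[a, 0], [0, d]]` with `aᵀ d = 1`. -/
def lv (a d : Matrix (Fin m) (Fin m) K) (h : aᵀ * d = 1) : Matrix.symplecticGroup (Fin m) K :=
  ⟨Matrix.fromBlocks a 0 0 d, by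
    rw [SymplecticGroup.fromBlocks_mem_iff]
    refine ⟨by simp, by simp, by simp [h]⟩⟩

theorem uu_val (s : Matrix (Fin m) (Fin m) K) (hs : sᵀ = s) :
    (uu s hs).1 = Matrix.fromBlocks 1 s 0 1 := rfl

theorem lw_val (s : Matrix (Fin m) (Fin m) K) (hs : sᵀ = s) :
    (lw s hs).1 = Matrix.fromBlocks 1 0 s 1 := rfl

theorem lv_val (a d : Matrix (Fin m) (Fin m) K) (h : aᵀ * d = 1) :
    (lv a d h).1 = Matrix.fromBlocks a 0 0 d := rfl

theorem val_mul' (g h : Matrix.symplecticGroup (Fin m) K) : (g * h).1 = g.1 * h.1 := rfl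

theorem val_one' : (1 : Matrix.symplecticGroup (Fin m) K).1 = 1 := rfl

theorem blocks_eq (g : Matrix.symplecticGroup (Fin m) K) :
    g.1 = Matrix.fromBlocks g.1.toBlocks₁₁ g.1.toBlocks₁₂ g.1.toBlocks₂₁ g.1.toBlocks₂₂ :=
  (Matrix.fromBlocks_toBlocks g.1).symm

theorem uu_congr {s s' : Matrix (Fin m) (Fin m) K} (h : s = s') (hs : sᵀ = s) (hs' : s'ᵀ = s') :
    uu s hs = uu s' hs' := by
  subst h
  rfl

theorem lw_congr {s s' : Matrix (Fin m) (Fin m) K} (h : s = s') (hs : sᵀ = s) (hs' : s'ᵀ = s') :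
    lw s hs = lw s' hs' := by
  subst h
  rfl

theorem lv_congr {a a' d d' : Matrix (Fin m) (Fin m) K} (ha : a = a') (hd : d = d')
    (h : aᵀ * d = 1) (h' : a'ᵀ * d' = 1) : lv a d h = lv a' d' h' := by
  subst ha
  subst hd
  rfl

theorem uu_mul (s s' : Matrix (Fin m) (Fin m) K) (hs : sᵀ = s) (hs' : s'ᵀ = s') :
    uu s hs * uu s' hs' = uu (s + s') (by rw [Matrix.transpose_add, hs, hs']) := by
  apply Subtype.ext
  rw [val_mul', uu_val, uu_val, uu_val, Matrix.fromBlocks_multiply]
  simp [add_comm]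

theorem uu_zero (h : (0 : Matrix (Fin m) (Fin m) K)ᵀ = 0) : uu 0 h = 1 := by
  apply Subtype.ext
  rw [uu_val, val_one', Matrix.fromBlocks_one]

theorem uu_inv (s : Matrix (Fin m) (Fin m) K) (hs : sᵀ = s) :
    (uu s hs)⁻¹ = uu (-s) (by rw [Matrix.transpose_neg, hs]) := by
  apply inv_eq_of_mul_eq_one_right
  rw [uu_mul]
  apply Subtype.ext
  rw [uu_val, val_one', add_neg_cancel, Matrix.fromBlocks_one]

theorem lw_mul (s s' : Matrix (Fin m) (Fin m) K) (hs : sᵀ = s) (hs' : s'ᵀ = s') :
    lw s hs * lw s' hs' = lw (s + s') (by rw [Matrix.transpose_add, hs, hs']) := by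
  apply Subtype.ext
  rw [val_mul', lw_val, lw_val, lw_val, Matrix.fromBlocks_multiply]
  simp

theorem lw_zero (h : (0 : Matrix (Fin m) (Fin m) K)ᵀ = 0) : lw 0 h = 1 := by
  apply Subtype.ext
  rw [lw_val, val_one', Matrix.fromBlocks_one]

theorem lw_inv (s : Matrix (Fin m) (Fin m) K) (hs : sᵀ = s) :
    (lw s hs)⁻¹ = lw (-s) (by rw [Matrix.transpose_neg, hs]) := by
  apply inv_eq_of_mul_eq_one_right
  rw [lw_mul]
  apply Subtype.ext
  rw [lw_val, val_one', add_neg_cancel, Matrix.fromBlocks_one]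

theorem lw_pow (s : Matrix (Fin m) (Fin m) K) (hs : sᵀ = s) (n : ℕ) :
    (lw s hs) ^ n = lw (n • s) (by rw [Matrix.transpose_smul, hs]) := by
  induction n with
  | zero =>
    rw [pow_zero]
    apply Subtype.ext
    rw [lw_val, val_one', zero_smul, Matrix.fromBlocks_one]
  | succ n ih =>
    rw [pow_succ, ih, lw_mul]
    exact lw_congr (succ_nsmul s n).symm _ _

/-- The lower elements have `p`-power order. -/
theorem lw_order (p : ℕ) [Fact p.Prime] [CharP K p] (s : Matrix (Fin m) (Fin m) K)
    (hs : sᵀ = s) : ∃ k : ℕ, orderOf (lw s hs) = p ^ k := by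
  have hp := (Fact.out : p.Prime)
  have h1 : (lw s hs) ^ p = 1 := by
    rw [lw_pow]
    have h0 : p • s = 0 := by
      rw [← Nat.cast_smul_eq_nsmul K p s, CharP.cast_eq_zero, zero_smul]
    exact (lw_congr h0 _ Matrix.transpose_zero).trans (lw_zero _)
  have h2 := orderOf_dvd_of_pow_eq_one h1
  rcases (Nat.dvd_prime hp).1 h2 with h | h
  · exact ⟨0, by rw [h, pow_zero]⟩
  · exact ⟨1, by rw [h, pow_one]⟩

theorem lv_mul (a d a' d' : Matrix (Fin m) (Fin m) K) (h : aᵀ * d = 1) (h' : a'ᵀ * d' = 1)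
    (h'' : (a * a')ᵀ * (d * d') = 1) : lv a d h * lv a' d' h' = lv (a * a') (d * d') h'' := by
  apply Subtype.ext
  rw [val_mul', lv_val, lv_val, lv_val, Matrix.fromBlocks_multiply]
  simp

/-- Conjugating `uu s` by a Levi element. -/
theorem lv_mul_uu (a d : Matrix (Fin m) (Fin m) K) (h : aᵀ * d = 1)
    (s : Matrix (Fin m) (Fin m) K) (hs : sᵀ = s) :
    lv a d h * uu s hs = uu (a * s * aᵀ) (by
      rw [Matrix.transpose_mul, Matrix.transpose_mul, Matrix.transpose_transpose, hs,
        Matrix.mul_assoc]) * lv a d h := by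
  apply Subtype.ext
  rw [val_mul', val_mul', uu_val, uu_val, lv_val, Matrix.fromBlocks_multiply,
    Matrix.fromBlocks_multiply]
  simp [Matrix.mul_assoc, h]

theorem lv_conj_uu (a d : Matrix (Fin m) (Fin m) K) (h : aᵀ * d = 1)
    (s : Matrix (Fin m) (Fin m) K) (hs : sᵀ = s) :
    lv a d h * uu s hs * (lv a d h)⁻¹ = uu (a * s * aᵀ) (by
      rw [Matrix.transpose_mul, Matrix.transpose_mul, Matrix.transpose_transpose, hs,
        Matrix.mul_assoc]) := by
  rw [lv_mul_uu, mul_inv_cancel_right]

/-! ### The Levi embedding of `SL_m` -/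

/-- The Levi embedding `a ↦ [[a, 0], [0, a⁻ᵀ]]`. -/
def lam : SpecialLinearGroup (Fin m) K →* Matrix.symplecticGroup (Fin m) K where
  toFun a := lv a.1 ((a⁻¹).1)ᵀ (by
    rw [← Matrix.transpose_mul]
    have h1 : (a⁻¹).1 * a.1 = (a⁻¹ * a).1 := rfl
    rw [h1, inv_mul_cancel]
    exact Matrix.transpose_one)
  map_one' := by
    apply Subtype.ext
    rw [lv_val, val_one']
    simp
  map_mul' a b := by
    apply Subtype.ext
    rw [val_mul', lv_val, lv_val, lv_val, Matrix.fromBlocks_multiply]
    simp [_root_.mul_inv_rev, Matrix.transpose_mul]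

theorem lam_eq_lv (a : SpecialLinearGroup (Fin m) K) (d : Matrix (Fin m) (Fin m) K)
    (h : a.1ᵀ * d = 1) : lam a = lv a.1 d h := by
  have h1 : ((a⁻¹).1)ᵀ * a.1ᵀ = 1 := by
    rw [← Matrix.transpose_mul]
    have h2 : a.1 * (a⁻¹).1 = (a * a⁻¹).1 := rfl
    rw [h2, mul_inv_cancel]
    exact Matrix.transpose_one
  have h3 : ((a⁻¹).1)ᵀ = d := by
    calc ((a⁻¹).1)ᵀ = ((a⁻¹).1)ᵀ * (a.1ᵀ * d) := by rw [h, Matrix.mul_one]
      _ = d := by rw [← Matrix.mul_assoc, h1, Matrix.one_mul]
  have h4 : a.1ᵀ * ((a⁻¹).1)ᵀ = 1 := by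
    rw [h3]
    exact h
  show lv a.1 ((a⁻¹).1)ᵀ h4 = lv a.1 d h
  exact lv_congr rfl h3 _ _

theorem tv_transpose_mul {i j : Fin m} (hij : i ≠ j) (c : K) :
    (1 + single i j c)ᵀ * (1 - single j i c) = 1 := by
  rw [Matrix.transpose_add, Matrix.transpose_one, Matrix.transpose_single, add_mul, one_mul,
    mul_sub, mul_one, Matrix.single_mul_single_of_ne _ _ _ _ hij]
  abel

theorem lam_tv {i j : Fin m} (hij : i ≠ j) (c : K) :
    lam (SpecialLinearGroup.transvection hij c) =
      lv (1 + single i j c) (1 - single j i c) (tv_transpose_mul hij c) :=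
  lam_eq_lv _ _ _

/-! ### The torus -/

/-- Diagonal elements. -/
def tor (δ : Fin m → Kˣ) : Matrix.symplecticGroup (Fin m) K :=
  lv (Matrix.diagonal fun i => (δ i : K)) (Matrix.diagonal fun i => (((δ i)⁻¹ : Kˣ) : K)) (by
    rw [Matrix.diagonal_transpose, Matrix.diagonal_mul_diagonal]
    have h1 : (fun i => (δ i : K) * (((δ i)⁻¹ : Kˣ) : K)) = fun _ => 1 :=
      funext (fun i => Units.mul_inv _)
    rw [h1, Matrix.diagonal_one])

theorem tor_val (δ : Fin m → Kˣ) : (tor δ).1 =
    Matrix.fromBlocks (Matrix.diagonal fun i => (δ i : K)) 0 0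
      (Matrix.diagonal fun i => (((δ i)⁻¹ : Kˣ) : K)) := rfl

theorem tor_mul (δ δ' : Fin m → Kˣ) : tor (δ * δ') = tor δ * tor δ' := by
  apply Subtype.ext
  rw [val_mul', tor_val, tor_val, tor_val, Matrix.fromBlocks_multiply]
  simp [Matrix.diagonal_mul_diagonal, mul_comm]

/-- A diagonal matrix of determinant one lies in the image of the Levi embedding. -/
theorem tor_eq_lam (δ : Fin m → Kˣ) (hδ : ∏ i, δ i = 1) :
    ∃ a : SpecialLinearGroup (Fin m) K, tor δ = lam a := by
  have hdet : (Matrix.diagonal fun i => (δ i : K)).det = 1 := by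
    rw [Matrix.det_diagonal]
    have h1 : ((∏ i, δ i : Kˣ) : K) = ∏ i, (δ i : K) := by
      push_cast
      rfl
    rw [← h1, hδ, Units.val_one]
  refine ⟨⟨_, hdet⟩, ?_⟩
  rw [lam_eq_lv ⟨_, hdet⟩ (Matrix.diagonal fun i => (((δ i)⁻¹ : Kˣ) : K))]
  rfl

/-! ### Diagonal blocks and the `SL₂` torus relation -/

theorem dd_mul (a b c d a' b' c' d' : Fin m → K) :
    Matrix.fromBlocks (Matrix.diagonal a) (Matrix.diagonal b) (Matrix.diagonal c)
        (Matrix.diagonal d) *
      Matrix.fromBlocks (Matrix.diagonal a') (Matrix.diagonal b') (Matrix.diagonal c')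
        (Matrix.diagonal d') =
    Matrix.fromBlocks (Matrix.diagonal (fun i => a i * a' i + b i * c' i))
      (Matrix.diagonal (fun i => a i * b' i + b i * d' i))
      (Matrix.diagonal (fun i => c i * a' i + d i * c' i))
      (Matrix.diagonal (fun i => c i * b' i + d i * d' i)) := by
  rw [Matrix.fromBlocks_multiply]
  simp only [Matrix.diagonal_mul_diagonal, Matrix.diagonal_add]

theorem dd_ext {a b c d a' b' c' d' : Fin m → K} (ha : ∀ i, a i = a' i) (hb : ∀ i, b i = b' i)
    (hc : ∀ i, c i = c' i) (hd : ∀ i, d i = d' i) :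
    Matrix.fromBlocks (Matrix.diagonal a) (Matrix.diagonal b) (Matrix.diagonal c)
        (Matrix.diagonal d) =
      Matrix.fromBlocks (Matrix.diagonal a') (Matrix.diagonal b') (Matrix.diagonal c')
        (Matrix.diagonal d') := by
  rw [funext ha, funext hb, funext hc, funext hd]

/-- `[[1, diag f], [0, 1]]`. -/
def xd (f : Fin m → K) : Matrix.symplecticGroup (Fin m) K :=
  uu (Matrix.diagonal f) (Matrix.diagonal_transpose f)

/-- `[[1, 0], [diag f, 1]]`. -/
def yd (f : Fin m → K) : Matrix.symplecticGroup (Fin m) K :=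
  lw (Matrix.diagonal f) (Matrix.diagonal_transpose f)

theorem xd_val (f : Fin m → K) : (xd f).1 =
    Matrix.fromBlocks (Matrix.diagonal fun _ => 1) (Matrix.diagonal f)
      (Matrix.diagonal fun _ => 0) (Matrix.diagonal fun _ => 1) := by
  rw [Matrix.diagonal_one, Matrix.diagonal_zero]
  rfl

theorem yd_val (f : Fin m → K) : (yd f).1 =
    Matrix.fromBlocks (Matrix.diagonal fun _ => 1) (Matrix.diagonal fun _ => 0)
      (Matrix.diagonal f) (Matrix.diagonal fun _ => 1) := by
  rw [Matrix.diagonal_one, Matrix.diagonal_zero]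
  rfl

theorem tor_val' (δ : Fin m → Kˣ) : (tor δ).1 =
    Matrix.fromBlocks (Matrix.diagonal fun i => (δ i : K)) (Matrix.diagonal fun _ => 0)
      (Matrix.diagonal fun _ => 0) (Matrix.diagonal fun i => (((δ i)⁻¹ : Kˣ) : K)) := by
  rw [Matrix.diagonal_zero]
  rfl

/-- The `SL₂` relation `w(π) w(1)⁻¹ = h(π)` in the plane `⟨e_l, f_l⟩`. -/
theorem torus_rel (l : Fin m) (π : Kˣ) :
    xd (fun i => if i = l then (π : K) else 0) *
      yd (fun i => if i = l then -((π⁻¹ : Kˣ) : K) else 0) *
      xd (fun i => if i = l then (π : K) else 0) *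
      (xd (fun i => if i = l then (-1 : K) else 0) * yd (fun i => if i = l then (1 : K) else 0) *
        xd (fun i => if i = l then (-1 : K) else 0)) =
    tor (fun i => if i = l then π else 1) := by
  apply Subtype.ext
  simp only [val_mul', xd_val, yd_val, tor_val', dd_mul]
  apply dd_ext
  · intro i
    by_cases hi : i = l
    · simp [hi]
    · simp [hi]
  · intro i
    by_cases hi : i = l
    · simp [hi]
    · simp [hi]
  · intro i
    by_cases hi : i = l
    · simp [hi]
    · simp [hi]
  · intro i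
    by_cases hi : i = l
    · simp [hi]
    · simp [hi]

/-! ### Weyl elements and the two conjugation relations -/

theorem single_self_mul (j : Fin m) :
    single j j (1 : K) * single j j (1 : K) = single j j (1 : K) := by
  rw [Matrix.single_mul_single_same, mul_one]

/-- The reflection in the long root `2 e_j`. -/
def wj (j : Fin m) : Matrix.symplecticGroup (Fin m) K :=
  ⟨Matrix.fromBlocks (1 - single j j 1) (single j j 1) (-single j j 1) (1 - single j j 1), by
    rw [SymplecticGroup.fromBlocks_mem_iff]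
    refine ⟨?_, ?_, ?_⟩
    · simp only [Matrix.transpose_sub, Matrix.transpose_neg, Matrix.transpose_one,
        Matrix.transpose_single, sub_mul, mul_sub, neg_mul, mul_neg, one_mul, mul_one,
        single_self_mul]
      abel
    · simp only [Matrix.transpose_sub, Matrix.transpose_neg, Matrix.transpose_one,
        Matrix.transpose_single, sub_mul, mul_sub, neg_mul, mul_neg, one_mul, mul_one,
        single_self_mul]
    · simp only [Matrix.transpose_sub, Matrix.transpose_neg, Matrix.transpose_one,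
        Matrix.transpose_single, sub_mul, mul_sub, neg_mul, mul_neg, one_mul, mul_one,
        single_self_mul]
      abel⟩

theorem wj_val (j : Fin m) : (wj j : Matrix.symplecticGroup (Fin m) K).1 =
    Matrix.fromBlocks (1 - single j j 1) (single j j 1) (-single j j 1) (1 - single j j 1) := rfl

theorem sym_pair (i j : Fin m) (r : K) :
    (single i j r + single j i r)ᵀ = single i j r + single j i r := by
  rw [Matrix.transpose_add, Matrix.transpose_single, Matrix.transpose_single, add_comm]

theorem sym_single (i : Fin m) (r : K) : (single i i r)ᵀ = single i i r :=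
  Matrix.transpose_single _ _ _

/-- Conjugation by the reflection `w_j` moves the root `e_i + e_j` to `e_i - e_j`. -/
theorem wj_mul_uu {i j : Fin m} (hij : i ≠ j) (r : K) :
    wj j * uu (single i j r + single j i r) (sym_pair i j r) =
      lv (1 + single i j r) (1 - single j i r) (tv_transpose_mul hij r) * wj j := by
  apply Subtype.ext
  rw [val_mul', val_mul', uu_val, lv_val, wj_val, Matrix.fromBlocks_multiply,
    Matrix.fromBlocks_multiply]
  congr 1
  · simp only [mul_one, one_mul, mul_zero, zero_mul, add_zero, zero_add, mul_add, add_mul,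
      mul_sub, sub_mul, neg_mul, mul_neg, Matrix.single_mul_single_same,
      Matrix.single_mul_single_of_ne _ _ _ _ hij, Matrix.single_mul_single_of_ne _ _ _ _ hij.symm]
    abel
  · simp only [mul_one, one_mul, mul_zero, zero_mul, add_zero, zero_add, mul_add, add_mul,
      mul_sub, sub_mul, neg_mul, mul_neg, Matrix.single_mul_single_same,
      Matrix.single_mul_single_of_ne _ _ _ _ hij, Matrix.single_mul_single_of_ne _ _ _ _ hij.symm,
      sub_zero]
    abel
  · simp only [mul_one, one_mul, mul_zero, zero_mul, add_zero, zero_add, mul_add, add_mul,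
      mul_sub, sub_mul, neg_mul, mul_neg, Matrix.single_mul_single_same,
      Matrix.single_mul_single_of_ne _ _ _ _ hij, Matrix.single_mul_single_of_ne _ _ _ _ hij.symm,
      sub_zero, neg_zero]
  · simp only [mul_one, one_mul, mul_zero, zero_mul, add_zero, zero_add, mul_add, add_mul,
      mul_sub, sub_mul, neg_mul, mul_neg, Matrix.single_mul_single_same,
      Matrix.single_mul_single_of_ne _ _ _ _ hij, Matrix.single_mul_single_of_ne _ _ _ _ hij.symm,
      sub_zero, neg_zero]
    abel

theorem sym_triple (i j : Fin m) :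
    (single i i (1 : K) + (single i j 1 + single j i 1))ᵀ =
      single i i (1 : K) + (single i j 1 + single j i 1) := by
  rw [Matrix.transpose_add, sym_pair, sym_single]

/-- Conjugating `x_{e_i - e_j}(1) x_{e_i + e_j}(1)` by `x_{-2 e_j}(1)`. -/
theorem lw_mul_lv_uu {i j : Fin m} (hij : i ≠ j) :
    lw (single j j (1 : K)) (sym_single j 1) *
        (lv (1 + single i j 1) (1 - single j i 1) (tv_transpose_mul hij 1) *
          uu (single i j 1 + single j i 1) (sym_pair i j 1)) =
      uu (single i i (1 : K) + (single i j 1 + single j i 1)) (sym_triple i j) *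
        lw (single j j (1 : K)) (sym_single j 1) := by
  apply Subtype.ext
  rw [val_mul', val_mul', val_mul', uu_val, uu_val, lv_val, lw_val, Matrix.fromBlocks_multiply,
    Matrix.fromBlocks_multiply, Matrix.fromBlocks_multiply]
  congr 1
  · simp only [mul_one, one_mul, mul_zero, zero_mul, add_zero, zero_add, mul_add, add_mul,
      mul_sub, sub_mul, neg_mul, mul_neg, Matrix.single_mul_single_same,
      Matrix.single_mul_single_of_ne _ _ _ _ hij, Matrix.single_mul_single_of_ne _ _ _ _ hij.symm]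
  · simp only [mul_one, one_mul, mul_zero, zero_mul, add_zero, zero_add, mul_add, add_mul,
      mul_sub, sub_mul, neg_mul, mul_neg, Matrix.single_mul_single_same,
      Matrix.single_mul_single_of_ne _ _ _ _ hij, Matrix.single_mul_single_of_ne _ _ _ _ hij.symm]
    abel
  · simp only [mul_one, one_mul, mul_zero, zero_mul, add_zero, zero_add, mul_add, add_mul,
      mul_sub, sub_mul, neg_mul, mul_neg, Matrix.single_mul_single_same,
      Matrix.single_mul_single_of_ne _ _ _ _ hij, Matrix.single_mul_single_of_ne _ _ _ _ hij.symm]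
  · simp only [mul_one, one_mul, mul_zero, zero_mul, add_zero, zero_add, mul_add, add_mul,
      mul_sub, sub_mul, neg_mul, mul_neg, Matrix.single_mul_single_same,
      Matrix.single_mul_single_of_ne _ _ _ _ hij, Matrix.single_mul_single_of_ne _ _ _ _ hij.symm]
    abel

end Cfsg.Agent.Lib.helper25.SpUni
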