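import Mathlib
import Cfsg.Agent.Lib.helper25.SpUni1

set_option autoImplicit false
set_option linter.unusedSectionVars false
set_option linter.unusedSimpArgs false

namespace Cfsg.Agent.Lib.helper25.SpUni

open Matrix
open Cfsg.Agent.Lib.helper25.SLUni

variable {m : ℕ} {K : Type*} [Field K] [Finite K]

/-! ### Subgroups attached to a weight function -/

/-- Block upper triangular elements for a weight function. -/
noncomputable def PW (w : Fin m ⊕ Fin m → ℕ) : Subgroup (Matrix.symplecticGroup (Fin m) K) :=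
  ofMulClosed {g | UTr w g.1} (utr_one w) (fun _ _ ha hb => utr_mul ha hb)

/-- Block unitriangular elements for a weight function. -/
noncomputable def RW (w : Fin m ⊕ Fin m → ℕ) : Subgroup (Matrix.symplecticGroup (Fin m) K) :=
  ofMulClosed {g | ∀ k l, w l ≤ w k →
      g.1 k l = (1 : Matrix (Fin m ⊕ Fin m) (Fin m ⊕ Fin m) K) k l}
    (fun _ _ _ => rfl)
    (fun a b ha hb k l hkl => by
      show (a.1 * b.1) k l = _
      rw [Matrix.mul_apply, Finset.sum_eq_single k]
      · rw [ha k k le_rfl, Matrix.one_apply_eq, one_mul, hb k l hkl]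
      · intro c _ hc
        by_cases hck : w c ≤ w k
        · rw [ha k c hck, Matrix.one_apply_ne (Ne.symm hc), zero_mul]
        · have h1 : w l ≤ w c := le_trans hkl (not_le.1 hck).le
          have h2 : c ≠ l := by
            rintro rfl
            exact hck hkl
          rw [hb c l h1, Matrix.one_apply_ne h2, mul_zero]
      · intro h
        exact absurd (Finset.mem_univ _) h)

theorem mem_PW (w : Fin m ⊕ Fin m → ℕ) (g : Matrix.symplecticGroup (Fin m) K) :
    g ∈ PW w ↔ UTr w g.1 := Iff.rfl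

theorem mem_RW (w : Fin m ⊕ Fin m → ℕ) (g : Matrix.symplecticGroup (Fin m) K) :
    g ∈ RW w ↔ ∀ k l, w l ≤ w k →
      g.1 k l = (1 : Matrix (Fin m ⊕ Fin m) (Fin m ⊕ Fin m) K) k l := Iff.rfl

theorem RW_le_PW (w : Fin m ⊕ Fin m → ℕ) :
    (RW w : Subgroup (Matrix.symplecticGroup (Fin m) K)) ≤ PW w := by
  intro g hg k l hlk
  rw [hg k l hlk.le, Matrix.one_apply_ne]
  rintro rfl
  exact lt_irrefl _ hlk

theorem PW_le_normalizer (w : Fin m ⊕ Fin m → ℕ) :
    (PW w : Subgroup (Matrix.symplecticGroup (Fin m) K)) ≤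
      Subgroup.normalizer
        ((RW w : Subgroup (Matrix.symplecticGroup (Fin m) K)) :
          Set (Matrix.symplecticGroup (Fin m) K)) := by
  intro g hg
  rw [Subgroup.mem_normalizer_iff]
  intro y
  apply Cfsg.Agent.Lib.helper25.conj_mem_iff_of_forall_conj_mem
  intro r hr
  have hg' : g⁻¹ ∈ PW w := (PW w).inv_mem hg
  rw [mem_PW] at hg hg'
  rw [mem_RW] at hr ⊢
  intro k l hkl
  have h1 : ∀ b, w b ≤ w k → (g.1 * r.1) k b = g.1 k b := by
    intro b hb
    rw [Matrix.mul_apply]
    have h0 : g.1 k b = ∑ a, g.1 k a * (1 : Matrix (Fin m ⊕ Fin m) (Fin m ⊕ Fin m) K) a b := by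
      rw [← Matrix.mul_apply, Matrix.mul_one]
    rw [h0]
    apply Finset.sum_congr rfl
    intro a _
    by_cases ha : w a < w k
    · rw [hg k a ha, zero_mul, zero_mul]
    · rw [hr a b (le_trans hb (not_lt.1 ha))]
  show ((g.1 * r.1) * (g⁻¹).1) k l = _
  have h2 : ((g.1 * r.1) * (g⁻¹).1) k l = (g.1 * (g⁻¹).1) k l := by
    rw [Matrix.mul_apply, Matrix.mul_apply]
    apply Finset.sum_congr rfl
    intro b _
    by_cases hb : w l < w b
    · rw [hg' b l hb, mul_zero, mul_zero]
    · rw [h1 b (le_trans (not_lt.1 hb) hkl)]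
  rw [h2]
  have h3 : g.1 * (g⁻¹).1 = (g * g⁻¹).1 := rfl
  rw [h3, mul_inv_cancel]
  rfl

theorem RW_mono {w w' : Fin m ⊕ Fin m → ℕ} (h : ∀ k l, w l ≤ w k → w' l ≤ w' k) :
    (RW w' : Subgroup (Matrix.symplecticGroup (Fin m) K)) ≤ RW w :=
  fun _ hg k l hkl => hg k l (h k l hkl)

theorem RW_le_PW_of {w w' : Fin m ⊕ Fin m → ℕ} (h : ∀ k l, w l ≤ w k → w' l ≤ w' k) :
    (RW w : Subgroup (Matrix.symplecticGroup (Fin m) K)) ≤ PW w' := by
  intro g hg k l hlk
  have h1 : w l < w k := by
    by_contra hc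
    exact absurd (h l k (not_lt.1 hc)) (not_le.2 hlk)
  rw [hg k l h1.le, Matrix.one_apply_ne]
  rintro rfl
  exact lt_irrefl _ h1

/-! ### The weight functions -/

/-- The rank function ordering the basis `e_0, …, e_{m-1}, f_{m-1}, …, f_0`. -/
def rk (m : ℕ) : Fin m ⊕ Fin m → ℕ
  | Sum.inl i => i
  | Sum.inr i => 2 * m - 1 - i

theorem rk_inl (i : Fin m) : rk m (Sum.inl i) = i := rfl

theorem rk_inr (i : Fin m) : rk m (Sum.inr i) = 2 * m - 1 - i := rfl

theorem rk_injective : Function.Injective (rk m) := by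
  rintro (i | i) (j | j) h <;> simp only [rk] at h
  · exact congrArg Sum.inl (Fin.ext h)
  · exfalso
    have := i.2
    have := j.2
    omega
  · exfalso
    have := i.2
    have := j.2
    omega
  · apply congrArg Sum.inr
    apply Fin.ext
    have := i.2
    have := j.2
    omega

theorem rk_lt (k : Fin m ⊕ Fin m) : rk m k < 2 * m := by
  rcases k with i | i
  · have := i.2
    rw [rk_inl]
    omega
  · have := i.2
    rw [rk_inr]
    omega

/-- The weight function of the Siegel parabolic. -/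
def w1 (m : ℕ) : Fin m ⊕ Fin m → ℕ
  | Sum.inl _ => 0
  | Sum.inr _ => 1

/-- The weight function of the stabiliser of the line `⟨e_0⟩`. -/
def w2 (n : ℕ) : Fin (n + 2) ⊕ Fin (n + 2) → ℕ
  | Sum.inl i => if i = 0 then 0 else 1
  | Sum.inr i => if i = 0 then 2 else 1

theorem w1_mono (k l : Fin m ⊕ Fin m) (h : rk m l ≤ rk m k) : w1 m l ≤ w1 m k := by
  rcases k with k | k <;> rcases l with l | l
  · exact le_rfl
  · exfalso
    have := k.2
    have := l.2
    rw [rk_inl, rk_inr] at h
    omega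
  · exact Nat.zero_le _
  · exact le_rfl

theorem w2_mono {n : ℕ} (k l : Fin (n + 2) ⊕ Fin (n + 2)) (h : rk (n + 2) l ≤ rk (n + 2) k) :
    w2 n l ≤ w2 n k := by
  rcases k with k | k <;> rcases l with l | l
  · rw [rk_inl, rk_inl] at h
    show (if l = 0 then 0 else 1) ≤ (if k = 0 then 0 else 1)
    by_cases hl : l = 0
    · rw [if_pos hl]
      exact Nat.zero_le _
    · have hk : k ≠ 0 := by
        intro hk
        apply hl
        apply Fin.ext
        rw [hk] at h
        simpa using h
      rw [if_neg hl, if_neg hk]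
  · exfalso
    have := k.2
    have := l.2
    rw [rk_inl, rk_inr] at h
    omega
  · show (if l = 0 then 0 else 1) ≤ (if k = 0 then 2 else 1)
    split_ifs <;> omega
  · rw [rk_inr, rk_inr] at h
    show (if l = 0 then 2 else 1) ≤ (if k = 0 then 2 else 1)
    by_cases hk : k = 0
    · rw [if_pos hk]
      split_ifs <;> omega
    · have hl : l ≠ 0 := by
        intro hl
        apply hk
        apply Fin.ext
        rw [hl] at h
        have := k.2
        simp only [Fin.val_zero] at h ⊢
        omega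
      rw [if_neg hl, if_neg hk]

/-! ### The subgroups -/

/-- The unitriangular subgroup of the symplectic group. -/
noncomputable def UUs (m : ℕ) (K : Type*) [Field K] [Finite K] :
    Subgroup (Matrix.symplecticGroup (Fin m) K) := RW (rk m)

/-- The Borel subgroup. -/
noncomputable def BBs (m : ℕ) (K : Type*) [Field K] [Finite K] :
    Subgroup (Matrix.symplecticGroup (Fin m) K) := PW (rk m)

/-- The unipotent radical of the Siegel parabolic. -/
noncomputable def QQ (m : ℕ) (K : Type*) [Field K] [Finite K] :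
    Subgroup (Matrix.symplecticGroup (Fin m) K) := RW (w1 m)

/-- The Siegel parabolic. -/
noncomputable def P1 (m : ℕ) (K : Type*) [Field K] [Finite K] :
    Subgroup (Matrix.symplecticGroup (Fin m) K) := PW (w1 m)

/-- The unipotent radical of the stabiliser of the line `⟨e_0⟩`. -/
noncomputable def R2 (n : ℕ) (K : Type*) [Field K] [Finite K] :
    Subgroup (Matrix.symplecticGroup (Fin (n + 2)) K) := RW (w2 n)

/-- The stabiliser of the line `⟨e_0⟩`. -/
noncomputable def P2 (n : ℕ) (K : Type*) [Field K] [Finite K] :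
    Subgroup (Matrix.symplecticGroup (Fin (n + 2)) K) := PW (w2 n)

theorem mem_UUs (g : Matrix.symplecticGroup (Fin m) K) : g ∈ UUs m K ↔ ∀ k l, rk m l ≤ rk m k →
    g.1 k l = (1 : Matrix (Fin m ⊕ Fin m) (Fin m ⊕ Fin m) K) k l := Iff.rfl

theorem mem_BBs (g : Matrix.symplecticGroup (Fin m) K) : g ∈ BBs m K ↔ UTr (rk m) g.1 := Iff.rfl

theorem mem_QQ (g : Matrix.symplecticGroup (Fin m) K) : g ∈ QQ m K ↔ ∀ k l, w1 m l ≤ w1 m k →
    g.1 k l = (1 : Matrix (Fin m ⊕ Fin m) (Fin m ⊕ Fin m) K) k l := Iff.rfl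

theorem mem_P1 (g : Matrix.symplecticGroup (Fin m) K) : g ∈ P1 m K ↔ UTr (w1 m) g.1 := Iff.rfl

theorem mem_R2 {n : ℕ} (g : Matrix.symplecticGroup (Fin (n + 2)) K) :
    g ∈ R2 n K ↔ ∀ k l, w2 n l ≤ w2 n k →
      g.1 k l = (1 : Matrix (Fin (n + 2) ⊕ Fin (n + 2)) (Fin (n + 2) ⊕ Fin (n + 2)) K) k l :=
  Iff.rfl

theorem mem_P2 {n : ℕ} (g : Matrix.symplecticGroup (Fin (n + 2)) K) :
    g ∈ P2 n K ↔ UTr (w2 n) g.1 := Iff.rfl

theorem UUs_le_BBs : UUs m K ≤ BBs m K := RW_le_PW _

theorem BBs_le_normalizer : BBs m K ≤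
    Subgroup.normalizer (UUs m K : Set (Matrix.symplecticGroup (Fin m) K)) := PW_le_normalizer _

theorem QQ_le_UUs : QQ m K ≤ UUs m K := RW_mono w1_mono

theorem UUs_le_P1 : UUs m K ≤ P1 m K := RW_le_PW_of w1_mono

theorem P1_le_normalizer : P1 m K ≤
    Subgroup.normalizer (QQ m K : Set (Matrix.symplecticGroup (Fin m) K)) := PW_le_normalizer _

theorem R2_le_UUs {n : ℕ} : R2 n K ≤ UUs (n + 2) K := RW_mono w2_mono

theorem UUs_le_P2 {n : ℕ} : UUs (n + 2) K ≤ P2 n K := RW_le_PW_of w2_mono

theorem P2_le_normalizer {n : ℕ} : P2 n K ≤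
    Subgroup.normalizer (R2 n K : Set (Matrix.symplecticGroup (Fin (n + 2)) K)) :=
  PW_le_normalizer _

/-! ### Membership of the standard elements -/

theorem one_blocks : (1 : Matrix (Fin m ⊕ Fin m) (Fin m ⊕ Fin m) K) = Matrix.fromBlocks 1 0 0 1 :=
  Matrix.fromBlocks_one.symm

theorem uu_mem_QQ (s : Matrix (Fin m) (Fin m) K) (hs : sᵀ = s) : uu s hs ∈ QQ m K := by
  rw [mem_QQ]
  intro k l hkl
  rw [uu_val, one_blocks]
  rcases k with k | k <;> rcases l with l | l
  · rfl
  · exact absurd hkl (by simp [w1])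
  · rfl
  · rfl

theorem lam_mem_P1 (a : SpecialLinearGroup (Fin m) K) : lam a ∈ P1 m K := by
  rw [mem_P1]
  intro k l hkl
  rcases k with k | k <;> rcases l with l | l
  · exact absurd hkl (by simp [w1])
  · exact absurd hkl (by simp [w1])
  · rfl
  · exact absurd hkl (by simp [w1])

theorem lam_mem_UUs (a : SpecialLinearGroup (Fin m) K) (ha : a ∈ UU m K) : lam a ∈ UUs m K := by
  have ha' : a⁻¹ ∈ UU m K := (UU m K).inv_mem ha
  rw [mem_UU] at ha ha'
  rw [mem_UUs]
  intro k l hkl
  rw [one_blocks]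
  rcases k with k | k <;> rcases l with l | l
  · rw [rk_inl, rk_inl] at hkl
    show a.1 k l = (1 : Matrix (Fin m) (Fin m) K) k l
    rcases Nat.lt_or_eq_of_le hkl with h | h
    · have hlt : l < k := h
      rw [ha.1 k l hlt, Matrix.one_apply_ne (ne_of_gt hlt)]
    · have hlk : l = k := Fin.ext h
      rw [hlk, ha.2 k, Matrix.one_apply_eq]
  · exfalso
    have := k.2
    have := l.2
    rw [rk_inl, rk_inr] at hkl
    omega
  · rfl
  · rw [rk_inr, rk_inr] at hkl
    show (a⁻¹).1 l k = (1 : Matrix (Fin m) (Fin m) K) k l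
    have := k.2
    have := l.2
    have hkl' : (k : ℕ) ≤ l := by omega
    rcases Nat.lt_or_eq_of_le hkl' with h | h
    · have hlt : k < l := h
      rw [ha'.1 l k hlt, Matrix.one_apply_ne (ne_of_lt hlt)]
    · have hlk : k = l := Fin.ext h
      rw [hlk, ha'.2 l, Matrix.one_apply_eq]

theorem tor_mem_BBs (δ : Fin m → Kˣ) : tor δ ∈ BBs m K := by
  rw [mem_BBs]
  intro k l hkl
  rw [tor_val]
  rcases k with k | k <;> rcases l with l | l
  · rw [rk_inl, rk_inl] at hkl
    have hne : k ≠ l := by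
      rintro rfl
      exact lt_irrefl _ hkl
    show Matrix.diagonal (fun i => (δ i : K)) k l = 0
    exact Matrix.diagonal_apply_ne _ hne
  · rfl
  · rfl
  · rw [rk_inr, rk_inr] at hkl
    have hne : k ≠ l := by
      rintro rfl
      exact lt_irrefl _ hkl
    show Matrix.diagonal (fun i => (((δ i)⁻¹ : Kˣ) : K)) k l = 0
    exact Matrix.diagonal_apply_ne _ hne

theorem yd_mem_P2 {n : ℕ} (f : Fin (n + 2) → K) (hf : f 0 = 0) : yd f ∈ P2 n K := by
  rw [mem_P2]
  intro k l hkl
  show (Matrix.fromBlocks (1 : Matrix (Fin (n + 2)) (Fin (n + 2)) K) 0 (Matrix.diagonal f) 1) k l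
    = 0
  rcases k with k | k <;> rcases l with l | l
  · have hne : k ≠ l := by
      rintro rfl
      exact lt_irrefl _ hkl
    exact Matrix.one_apply_ne hne
  · rfl
  · show Matrix.diagonal f k l = 0
    by_cases hkl' : k = l
    · subst hkl'
      rw [Matrix.diagonal_apply_eq]
      by_cases hk0 : k = 0
      · rw [hk0, hf]
      · exfalso
        have h1 : w2 n (Sum.inl k) = 1 := if_neg hk0
        have h2 : w2 n (Sum.inr k) = 1 := if_neg hk0
        rw [h1, h2] at hkl
        exact lt_irrefl _ hkl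
    · exact Matrix.diagonal_apply_ne _ hkl'
  · have hne : k ≠ l := by
      rintro rfl
      exact lt_irrefl _ hkl
    exact Matrix.one_apply_ne hne

/-! ### The normalizer of the unitriangular group -/

theorem exists_root (i k : Fin m ⊕ Fin m) (h : rk m i < rk m k) :
    ∃ u ∈ UUs m K, ∀ c, u.1 c k = (if c = k then 1 else 0) + (if c = i then 1 else 0) := by
  rcases i with a | a <;> rcases k with b | b
  · rw [rk_inl, rk_inl] at h
    have hab : a < b := h
    refine ⟨lam (SpecialLinearGroup.transvection (ne_of_lt hab) 1),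
      lam_mem_UUs _ (tv_mem_UU hab 1), ?_⟩
    intro c
    rw [lam_tv, lv_val]
    rcases c with c | c
    · simp [Matrix.add_apply, Matrix.single_apply, Matrix.one_apply, eq_comm]
    · simp
  · by_cases hab : a = b
    · subst hab
      refine ⟨uu (single a a 1) (sym_single a 1), QQ_le_UUs (uu_mem_QQ _ _), ?_⟩
      intro c
      rw [uu_val]
      rcases c with c | c
      · simp [Matrix.single_apply, eq_comm]
      · simp [Matrix.one_apply]
    · refine ⟨uu (single a b 1 + single b a 1) (sym_pair a b 1), QQ_le_UUs (uu_mem_QQ _ _), ?_⟩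
      intro c
      rw [uu_val]
      rcases c with c | c
      · simp [Matrix.add_apply, Matrix.single_apply, eq_comm, hab]
      · simp [Matrix.one_apply]
  · exfalso
    have := a.2
    have := b.2
    rw [rk_inl, rk_inr] at h
    omega
  · rw [rk_inr, rk_inr] at h
    have := a.2
    have := b.2
    have hba : b < a := by
      show (b : ℕ) < a
      omega
    refine ⟨lam (SpecialLinearGroup.transvection (ne_of_lt hba) (-1)),
      lam_mem_UUs _ (tv_mem_UU hba (-1)), ?_⟩
    intro c
    rw [lam_tv, lv_val]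
    rcases c with c | c
    · simp
    · simp [Matrix.sub_apply, Matrix.single_apply, Matrix.one_apply, eq_comm]
      split_ifs <;> ring

theorem normalizer_UUs_le_BBs :
    Subgroup.normalizer (UUs m K : Set (Matrix.symplecticGroup (Fin m) K)) ≤ BBs m K := by
  intro γ hγ
  have key : ∀ (d : ℕ) (k : Fin m ⊕ Fin m), 2 * m - rk m k ≤ d →
      ∀ i, rk m i < rk m k → γ.1 k i = 0 := by
    intro d
    induction d with
    | zero =>
      intro k hk
      exfalso
      have := rk_lt k
      omega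
    | succ d ih =>
      intro k hk i hik
      obtain ⟨u, hu, hcol⟩ := exists_root (K := K) i k hik
      have hu' : γ * u * γ⁻¹ ∈ UUs m K := (Subgroup.mem_normalizer_iff.1 hγ _).1 hu
      have heq : γ * u = (γ * u * γ⁻¹) * γ := by group
      have h1 : (γ * u).1 k k = γ.1 k k + γ.1 k i := by
        show (γ.1 * u.1) k k = _
        rw [Matrix.mul_apply]
        simp only [hcol, mul_add, Finset.sum_add_distrib, mul_ite, mul_one, mul_zero,
          Finset.sum_ite_eq', Finset.mem_univ, if_true]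
      have h2 : ((γ * u * γ⁻¹) * γ).1 k k = γ.1 k k := by
        show ((γ * u * γ⁻¹).1 * γ.1) k k = _
        rw [Matrix.mul_apply, Finset.sum_eq_single k]
        · rw [hu' k k le_rfl, Matrix.one_apply_eq, one_mul]
        · intro b _ hb
          have hne : rk m b ≠ rk m k := fun e => hb (rk_injective e)
          rcases lt_or_gt_of_ne hne with hlt | hgt
          · rw [hu' k b hlt.le, Matrix.one_apply_ne (Ne.symm hb), zero_mul]
          · have := rk_lt b
            rw [ih b (by omega) k hgt, mul_zero]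
        · intro h
          exact absurd (Finset.mem_univ k) h
      rw [heq, h2] at h1
      have h3 := sub_eq_zero.2 h1.symm
      rw [add_sub_cancel_left] at h3
      exact h3
  exact fun k l hlk => key _ k le_rfl l hlk

/-! ### The Borel subgroup is the torus times the unitriangular group -/

theorem diag_mul_diag (γ : Matrix.symplecticGroup (Fin m) K) (hγ : γ ∈ BBs m K) (i : Fin m) :
    γ.1 (Sum.inl i) (Sum.inl i) * γ.1 (Sum.inr i) (Sum.inr i) = 1 := by
  rw [mem_BBs] at hγ
  have h := γ.2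
  rw [blocks_eq γ, SymplecticGroup.fromBlocks_mem_iff] at h
  have h1 := congrFun (congrFun h.2.2 i) i
  rw [Matrix.sub_apply, Matrix.one_apply_eq, Matrix.mul_apply, Matrix.mul_apply] at h1
  have h2 : ∑ j, (γ.1.toBlocks₂₁)ᵀ i j * γ.1.toBlocks₁₂ j i = 0 := by
    apply Finset.sum_eq_zero
    intro j _
    have h3 : (γ.1.toBlocks₂₁)ᵀ i j = 0 := by
      show γ.1 (Sum.inr j) (Sum.inl i) = 0
      apply hγ
      have := i.2
      have := j.2
      rw [rk_inl, rk_inr]
      omega
    rw [h3, zero_mul]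
  rw [h2, sub_zero, Finset.sum_eq_single i] at h1
  · exact h1
  · intro j _ hj
    rcases lt_or_gt_of_ne hj with hlt | hgt
    · have h3 : γ.1.toBlocks₂₂ j i = 0 := by
        show γ.1 (Sum.inr j) (Sum.inr i) = 0
        apply hγ
        have := i.2
        have := j.2
        have hlt' : (j : ℕ) < i := hlt
        rw [rk_inr, rk_inr]
        omega
      rw [h3, mul_zero]
    · have h3 : (γ.1.toBlocks₁₁)ᵀ i j = 0 := by
        show γ.1 (Sum.inl j) (Sum.inl i) = 0
        apply hγ
        have hgt' : (i : ℕ) < j := hgt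
        rw [rk_inl, rk_inl]
        exact hgt'
      rw [h3, zero_mul]
  · intro hi
    exact absurd (Finset.mem_univ i) hi

theorem BBs_decomp (γ : Matrix.symplecticGroup (Fin m) K) (hγ : γ ∈ BBs m K) :
    ∃ (δ : Fin m → Kˣ) (u : Matrix.symplecticGroup (Fin m) K), u ∈ UUs m K ∧ γ = tor δ * u := by
  set δ : Fin m → Kˣ := fun i => Units.mkOfMulEqOne _ _ (diag_mul_diag γ hγ i) with hδ
  have htB : tor δ ∈ BBs m K := tor_mem_BBs δ
  have htB' : (tor δ)⁻¹ ∈ BBs m K := (BBs m K).inv_mem htB
  refine ⟨δ, (tor δ)⁻¹ * γ, ?_, by rw [mul_inv_cancel_left]⟩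
  have hdiag : ∀ k, (tor δ).1 k k = γ.1 k k := by
    intro k
    rw [tor_val]
    rcases k with k | k
    · show Matrix.diagonal (fun i => (δ i : K)) k k = _
      rw [Matrix.diagonal_apply_eq]
      rfl
    · show Matrix.diagonal (fun i => (((δ i)⁻¹ : Kˣ) : K)) k k = _
      rw [Matrix.diagonal_apply_eq]
      rfl
  rw [mem_UUs]
  intro k l hkl
  rcases Nat.lt_or_eq_of_le hkl with h | h
  · have h1 : UTr (rk m) ((tor δ)⁻¹ * γ).1 := utr_mul htB' hγ
    rw [h1 k l h, Matrix.one_apply_ne]
    rintro rfl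
    exact lt_irrefl _ h
  · have hlk : l = k := rk_injective h
    rw [hlk, Matrix.one_apply_eq]
    show (((tor δ)⁻¹).1 * γ.1) k k = 1
    rw [utr_mul_diag rk_injective htB' hγ, ← hdiag k, ← utr_mul_diag rk_injective htB' htB]
    have h2 : ((tor δ)⁻¹).1 * (tor δ).1 = ((tor δ)⁻¹ * tor δ).1 := rfl
    rw [h2, inv_mul_cancel]
    exact Matrix.one_apply_eq k

end Cfsg.Agent.Lib.helper25.SpUni
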