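import Mathlib
import Cfsg.Prelude.Def_Classical
import Cfsg.Agent.Lib.helper25.SpUni2
import Cfsg.Agent.Lib.helper4.SpCard
import Cfsg.Agent.Lib.helper4.SpCenter

set_option autoImplicit false
set_option linter.unusedSectionVars false
set_option linter.unusedSimpArgs false

namespace Cfsg.Agent.Lib.helper25.SpUni

open Matrix
open Cfsg.Agent.Lib.helper25.SLUni

variable {m : ℕ} {K : Type*} [Field K] [Finite K]

theorem lam_val (a : SpecialLinearGroup (Fin m) K) :
    (lam a).1 = Matrix.fromBlocks a.1 0 0 ((a⁻¹).1)ᵀ := rfl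

theorem lam_mul_uu_val (a : SpecialLinearGroup (Fin m) K) (s : Matrix (Fin m) (Fin m) K)
    (hs : sᵀ = s) : (lam a * uu s hs).1 = Matrix.fromBlocks a.1 (a.1 * s) 0 ((a⁻¹).1)ᵀ := by
  rw [val_mul', lam_val, uu_val, Matrix.fromBlocks_multiply]
  simp

/-- Every element of the unitriangular group is a Levi element times a Siegel element. -/
theorem UUs_decomp (g : Matrix.symplecticGroup (Fin m) K) (hg : g ∈ UUs m K) :
    ∃ a ∈ UU m K, ∃ (s : Matrix (Fin m) (Fin m) K) (hs : sᵀ = s), g = lam a * uu s hs := by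
  rw [mem_UUs] at hg
  have hC : g.1.toBlocks₂₁ = 0 := by
    ext i j
    show g.1 (Sum.inr i) (Sum.inl j) = 0
    have h1 : rk m (Sum.inl j) ≤ rk m (Sum.inr i) := by
      have := i.2
      have := j.2
      rw [rk_inl, rk_inr]
      omega
    rw [hg _ _ h1]
    exact Matrix.one_apply_ne (by simp)
  have h := g.2
  rw [blocks_eq g, hC, SymplecticGroup.fromBlocks_mem_iff] at h
  have hAD : (g.1.toBlocks₁₁)ᵀ * g.1.toBlocks₂₂ = 1 := by
    have h1 := h.2.2
    rw [Matrix.transpose_zero, Matrix.zero_mul, sub_zero] at h1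
    exact h1
  have hUT : UT g.1.toBlocks₁₁ := by
    intro i j hji
    show g.1 (Sum.inl i) (Sum.inl j) = 0
    have h1 : rk m (Sum.inl j) ≤ rk m (Sum.inl i) := by
      rw [rk_inl, rk_inl]
      exact le_of_lt hji
    rw [hg _ _ h1]
    exact Matrix.one_apply_ne (by
      intro h2
      exact (ne_of_gt hji) (Sum.inl.inj h2))
  have hdiag : ∀ i, g.1.toBlocks₁₁ i i = 1 := by
    intro i
    show g.1 (Sum.inl i) (Sum.inl i) = 1
    rw [hg _ _ le_rfl, Matrix.one_apply_eq]
  have hdet : (g.1.toBlocks₁₁).det = 1 := by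
    rw [ut_det hUT]
    exact Finset.prod_eq_one (fun i _ => hdiag i)
  have hDA : g.1.toBlocks₁₁ * (g.1.toBlocks₂₂)ᵀ = 1 := by
    have h1 : (g.1.toBlocks₂₂)ᵀ * g.1.toBlocks₁₁ = 1 := by
      have h2 := congrArg Matrix.transpose hAD
      rw [Matrix.transpose_mul, Matrix.transpose_transpose, Matrix.transpose_one] at h2
      exact h2
    exact _root_.mul_eq_one_comm.1 h1
  refine ⟨⟨g.1.toBlocks₁₁, hdet⟩, ⟨hUT, hdiag⟩, (g.1.toBlocks₂₂)ᵀ * g.1.toBlocks₁₂, ?_, ?_⟩
  · rw [Matrix.transpose_mul, Matrix.transpose_transpose]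
    exact h.2.1
  · rw [lam_eq_lv ⟨g.1.toBlocks₁₁, hdet⟩ g.1.toBlocks₂₂ hAD]
    apply Subtype.ext
    refine (blocks_eq g).trans ?_
    rw [hC, val_mul', lv_val, uu_val, Matrix.fromBlocks_multiply]
    congr 1
    · simp
    · simp [← Matrix.mul_assoc, hDA]
    · simp
    · simp

/-! ### The order of the unitriangular group -/

/-- The symmetric matrix with prescribed entries on and above the diagonal. -/
def symMat (f : (Σ j : Fin m, {i : Fin m // i ≤ j}) → K) : Matrix (Fin m) (Fin m) K :=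
  Matrix.of fun i j => if h : i ≤ j then f ⟨j, ⟨i, h⟩⟩ else f ⟨i, ⟨j, (not_le.1 h).le⟩⟩

theorem symMat_apply (f : (Σ j : Fin m, {i : Fin m // i ≤ j}) → K) (i j : Fin m) :
    symMat f i j = if h : i ≤ j then f ⟨j, ⟨i, h⟩⟩ else f ⟨i, ⟨j, (not_le.1 h).le⟩⟩ := rfl

theorem symMat_transpose (f : (Σ j : Fin m, {i : Fin m // i ≤ j}) → K) :
    (symMat f)ᵀ = symMat f := by
  ext i j
  rw [Matrix.transpose_apply, symMat_apply, symMat_apply]
  rcases lt_trichotomy i j with h | h | h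
  · rw [dif_neg (not_le.2 h), dif_pos h.le]
  · subst h
    rfl
  · rw [dif_pos h.le, dif_neg (not_le.2 h)]

/-- Symmetric matrices are in bijection with the functions on the pairs `i ≤ j`. -/
def symEquiv : {s : Matrix (Fin m) (Fin m) K // sᵀ = s} ≃
    ((Σ j : Fin m, {i : Fin m // i ≤ j}) → K) where
  toFun s := fun q => s.1 q.2.1 q.1
  invFun f := ⟨symMat f, symMat_transpose f⟩
  left_inv := by
    rintro ⟨s, hs⟩
    apply Subtype.ext
    ext i j
    show symMat (fun q => s q.2.1 q.1) i j = s i j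
    rw [symMat_apply]
    by_cases h : i ≤ j
    · rw [dif_pos h]
    · rw [dif_neg h]
      show s j i = s i j
      rw [← Matrix.transpose_apply s, hs]
  right_inv := by
    intro f
    funext q
    obtain ⟨j, i, h⟩ := q
    show symMat f i j = f ⟨j, ⟨i, h⟩⟩
    rw [symMat_apply, dif_pos h]

theorem card_pairs_le (m : ℕ) :
    Nat.card (Σ j : Fin m, {i : Fin m // i ≤ j}) = ∑ i ∈ Finset.range m, (i + 1) := by
  classical
  rw [Nat.card_eq_fintype_card, Fintype.card_sigma]
  have h1 : ∀ j : Fin m, Fintype.card {i : Fin m // i ≤ j} = (j : ℕ) + 1 := by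
    intro j
    rw [Fintype.card_subtype]
    have : Finset.univ.filter (fun i : Fin m => i ≤ j) = Finset.Iic j := by
      ext i
      simp
    rw [this, Fin.card_Iic]
  rw [Finset.sum_congr rfl (fun j _ => h1 j), Fin.sum_univ_eq_sum_range (fun i => i + 1) m]

theorem sum_exponents (m : ℕ) :
    m * (m - 1) / 2 + ∑ i ∈ Finset.range m, (i + 1) = m ^ 2 := by
  rw [← Finset.sum_range_id, ← Finset.sum_add_distrib]
  induction m with
  | zero => simp
  | succ k ih =>
    rw [Finset.sum_range_succ, ih]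
    ring

theorem card_sym : Nat.card {s : Matrix (Fin m) (Fin m) K // sᵀ = s} =
    Nat.card K ^ (∑ i ∈ Finset.range m, (i + 1)) := by
  rw [Nat.card_congr (symEquiv (m := m) (K := K)), Nat.card_fun, card_pairs_le]

/-- The parametrisation of the unitriangular group. -/
noncomputable def uuMap (q : UU m K × {s : Matrix (Fin m) (Fin m) K // sᵀ = s}) : UUs m K :=
  ⟨lam q.1.1 * uu q.2.1 q.2.2,
    (UUs m K).mul_mem (lam_mem_UUs _ q.1.2) (QQ_le_UUs (uu_mem_QQ _ _))⟩

theorem uuMap_bijective : Function.Bijective (uuMap (m := m) (K := K)) := by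
  constructor
  · rintro ⟨⟨a, ha⟩, ⟨s, hs⟩⟩ ⟨⟨a', ha'⟩, ⟨s', hs'⟩⟩ h
    have h1 : (lam a * uu s hs).1 = (lam a' * uu s' hs').1 :=
      congrArg (fun x : UUs m K => x.1.1) h
    rw [lam_mul_uu_val, lam_mul_uu_val, Matrix.fromBlocks_inj] at h1
    have h2 : a = a' := Subtype.ext h1.1
    subst h2
    have h3 : s = s' := by
      have h4 : (a⁻¹).1 * (a.1 * s) = (a⁻¹).1 * (a.1 * s') := by rw [h1.2.1]
      have h5 : (a⁻¹).1 * a.1 = 1 := by
        have h6 : (a⁻¹).1 * a.1 = (a⁻¹ * a).1 := rfl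
        rw [h6, inv_mul_cancel]
        rfl
      rwa [← Matrix.mul_assoc, ← Matrix.mul_assoc, h5, Matrix.one_mul, Matrix.one_mul] at h4
    subst h3
    rfl
  · rintro ⟨g, hg⟩
    obtain ⟨a, ha, s, hs, rfl⟩ := UUs_decomp g hg
    exact ⟨⟨⟨a, ha⟩, ⟨s, hs⟩⟩, rfl⟩

theorem card_UUs : Nat.card (UUs m K) = Nat.card K ^ (m ^ 2) := by
  rw [← Nat.card_congr (Equiv.ofBijective _ (uuMap_bijective (m := m) (K := K))), Nat.card_prod,
    card_UU, card_sym, ← pow_add, sum_exponents]

theorem isPGroup_UUs (p : ℕ) [Fact p.Prime] [CharP K p] : IsPGroup p (UUs m K) := by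
  have := Fintype.ofFinite K
  obtain ⟨f, hp, hq⟩ := FiniteField.card K p
  apply IsPGroup.of_card (n := (f : ℕ) * m ^ 2)
  rw [card_UUs, Nat.card_eq_fintype_card, hq, pow_mul]

theorem UUs_inf_center (hm : 1 ≤ m) (x : Matrix.symplecticGroup (Fin m) K) (hx : x ∈ UUs m K)
    (hc : x ∈ Subgroup.center (Matrix.symplecticGroup (Fin m) K)) : x = 1 := by
  rw [Cfsg.Agent.Lib.helper4.mem_center_sp_iff hm] at hc
  rcases hc with h | h
  · exact Subtype.ext h
  · have h1 := hx (Sum.inl (⟨0, hm⟩ : Fin m)) (Sum.inl ⟨0, hm⟩) le_rfl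
    have h' : x.1 = -1 := h
    rw [h', Matrix.neg_apply, Matrix.one_apply_eq] at h1
    apply Subtype.ext
    show x.1 = 1
    rw [h']
    ext k l
    rw [Matrix.neg_apply]
    by_cases hkl : k = l
    · subst hkl
      rw [Matrix.one_apply_eq]
      exact h1
    · rw [Matrix.one_apply_ne hkl, neg_zero]

theorem UUs_ne_bot (hm : 1 ≤ m) : UUs m K ≠ ⊥ := by
  intro h
  have h1 : uu (single (⟨0, hm⟩ : Fin m) ⟨0, hm⟩ (1 : K)) (sym_single _ 1) ∈ UUs m K :=
    QQ_le_UUs (uu_mem_QQ _ _)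
  rw [h, Subgroup.mem_bot] at h1
  have h2 := congrArg (fun x : Matrix.symplecticGroup (Fin m) K =>
    x.1 (Sum.inl ⟨0, hm⟩) (Sum.inr ⟨0, hm⟩)) h1
  simp only [uu_val, val_one', Matrix.fromBlocks_apply₁₂, Matrix.single_apply_same] at h2
  rw [Matrix.one_apply_ne (by simp)] at h2
  exact one_ne_zero h2

end Cfsg.Agent.Lib.helper25.SpUni

namespace Cfsg.Agent.Lib.helper25

/-- The `p`-part of the order of `PSp_{2m}(K)` in characteristic `p`. -/
theorem card_sylow_PSp {K : Type*} [Field K] [Fintype K] (p : ℕ) [Fact p.Prime] [CharP K p]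
    (m : ℕ) (hm : 1 ≤ m) :
    p ^ (Nat.card (Cfsg.PSp m K)).factorization p = Fintype.card K ^ (m ^ 2) := by
  have hp := (Fact.out : p.Prime)
  obtain ⟨f, -, hq⟩ := FiniteField.card K p
  have hq2 : 2 ≤ Fintype.card K := Fintype.one_lt_card
  have hpq : p ∣ Fintype.card K := by
    rw [hq]
    exact dvd_pow_self p f.pos.ne'
  have hnd : ∀ k : ℕ, 0 < k → ¬ p ∣ Fintype.card K ^ k - 1 := by
    intro k hk h
    have h1 : p ∣ Fintype.card K ^ k := dvd_pow hpq hk.ne'
    have h2 : 1 ≤ Fintype.card K ^ k := Nat.one_le_pow _ _ (by omega)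
    have h3 : p ∣ 1 := by
      have := Nat.dvd_sub h1 h
      rwa [Nat.sub_sub_self h2] at this
    exact hp.one_lt.ne' (Nat.dvd_one.1 h3)
  have h4 := Subgroup.card_eq_card_quotient_mul_card_subgroup
    (Subgroup.center (Matrix.symplecticGroup (Fin m) K))
  have h5 := Cfsg.Agent.Lib.helper4.card_center_sp (F := K) rfl m hm
  have h3 := Cfsg.Agent.Lib.helper4.card_sp (F := K) rfl m
  have hpsp : Nat.card (Cfsg.PSp m K) ≠ 0 := Nat.card_pos.ne'
  have hcen : Nat.card (Subgroup.center (Matrix.symplecticGroup (Fin m) K)) ≠ 0 :=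
    Nat.card_pos.ne'
  have hnd2 : ¬ p ∣ Nat.card (Subgroup.center (Matrix.symplecticGroup (Fin m) K)) := by
    rw [h5]
    intro h
    have h6 := hnd 1 one_pos
    rw [pow_one] at h6
    exact h6 (dvd_trans h (Nat.gcd_dvd_right _ _))
  have hprod : ¬ p ∣ ∏ i ∈ Finset.range m, (Fintype.card K ^ (2 * (i + 1)) - 1) := by
    intro h
    obtain ⟨i, -, hi⟩ := (Prime.dvd_finsetProd_iff hp.prime _).1 h
    exact hnd _ (by omega) hi
  have hprod0 : ∏ i ∈ Finset.range m, (Fintype.card K ^ (2 * (i + 1)) - 1) ≠ 0 := by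
    intro h0
    apply hprod
    rw [h0]
    exact dvd_zero p
  have h7 : (Nat.card (Matrix.symplecticGroup (Fin m) K)).factorization p =
      (Nat.card (Cfsg.PSp m K)).factorization p := by
    rw [h4, Nat.factorization_mul hpsp hcen, Finsupp.add_apply,
      Nat.factorization_eq_zero_of_not_dvd hnd2, add_zero]
  have h8 : (Nat.card (Matrix.symplecticGroup (Fin m) K)).factorization p = (f : ℕ) * m ^ 2 := by
    rw [h3, Nat.factorization_mul (by positivity) hprod0, Finsupp.add_apply,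
      Nat.factorization_eq_zero_of_not_dvd hprod, add_zero, hq, ← pow_mul,
      hp.factorization_pow]
    simp
  rw [← h7, h8, hq, ← pow_mul]

end Cfsg.Agent.Lib.helper25
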