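import Mathlib
import Cfsg.Agent.Lib.helper25.SpUni3

set_option autoImplicit false
set_option linter.unusedSectionVars false
set_option linter.unusedSimpArgs false

namespace Cfsg.Agent.Lib.helper25.SpUni

open Matrix
open Cfsg.Agent.Lib.helper25.SLUni

/-- Every element of a finite field is a sum of two squares. -/
theorem exists_sq_add_sq {K : Type*} [Field K] [Finite K] (c : K) :
    ∃ x y : K, c = x ^ 2 + y ^ 2 := by
  classical
  have := Fintype.ofFinite K
  by_cases h2 : ringChar K = 2
  · obtain ⟨x, hx⟩ := FiniteField.isSquare_of_char_two h2 c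
    exact ⟨x, 0, by rw [hx]; ring⟩
  · have hodd := FiniteField.odd_card_of_char_ne_two h2
    obtain ⟨a, b, hab⟩ := FiniteField.exists_root_sum_quadratic (R := K)
      (f := Polynomial.X ^ 2) (g := Polynomial.X ^ 2 - Polynomial.C c)
      (Polynomial.degree_X_pow 2) (Polynomial.degree_X_pow_sub_C (by norm_num) c) hodd
    refine ⟨a, b, ?_⟩
    simp only [Polynomial.eval_pow, Polynomial.eval_X, Polynomial.eval_sub,
      Polynomial.eval_C] at hab
    linear_combination -hab

variable {m : ℕ} {K : Type*} [Field K] [Finite K]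

/-- Matrix units as atoms. -/
def EE (i j : Fin m) : Matrix (Fin m) (Fin m) K := single i j 1

theorem sg (i j : Fin m) (a : K) : single i j a = a • (EE i j : Matrix (Fin m) (Fin m) K) := by
  rw [EE, Matrix.smul_single, smul_eq_mul, mul_one]

/-- The symmetric matrices whose Siegel element lies in `T`. -/
def MT (T : Subgroup (Matrix.symplecticGroup (Fin m) K)) (s : Matrix (Fin m) (Fin m) K) : Prop :=
  ∃ hs : sᵀ = s, uu s hs ∈ T

variable {T : Subgroup (Matrix.symplecticGroup (Fin m) K)}

theorem MT_zero : MT T 0 := ⟨Matrix.transpose_zero, by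
  rw [uu_zero]
  exact T.one_mem⟩

theorem MT_add {s s' : Matrix (Fin m) (Fin m) K} (h : MT T s) (h' : MT T s') : MT T (s + s') := by
  obtain ⟨hs, h1⟩ := h
  obtain ⟨hs', h2⟩ := h'
  refine ⟨by rw [Matrix.transpose_add, hs, hs'], ?_⟩
  have h3 := T.mul_mem h1 h2
  rw [uu_mul] at h3
  exact h3

theorem MT_neg {s : Matrix (Fin m) (Fin m) K} (h : MT T s) : MT T (-s) := by
  obtain ⟨hs, h1⟩ := h
  refine ⟨by rw [Matrix.transpose_neg, hs], ?_⟩
  have h3 := T.inv_mem h1
  rw [uu_inv] at h3
  exact h3

theorem MT_sub {s s' : Matrix (Fin m) (Fin m) K} (h : MT T s) (h' : MT T s') : MT T (s - s') := by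
  rw [sub_eq_add_neg]
  exact MT_add h (MT_neg h')

theorem MT_congr (hTc : ∀ t ∈ T, ∀ g : Matrix.symplecticGroup (Fin m) K,
      g * t * g⁻¹ ∈ UUs m K → g * t * g⁻¹ ∈ T)
    {s : Matrix (Fin m) (Fin m) K} (h : MT T s) (a d : Matrix (Fin m) (Fin m) K)
    (had : aᵀ * d = 1) : MT T (a * s * aᵀ) := by
  obtain ⟨hs, h1⟩ := h
  have h2 := hTc _ h1 (lv a d had) (by
    rw [lv_conj_uu]
    exact QQ_le_UUs (uu_mem_QQ _ _))
  rw [lv_conj_uu] at h2
  exact ⟨_, h2⟩

theorem MT_sq_smul (hTc : ∀ t ∈ T, ∀ g : Matrix.symplecticGroup (Fin m) K,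
      g * t * g⁻¹ ∈ UUs m K → g * t * g⁻¹ ∈ T)
    {s : Matrix (Fin m) (Fin m) K} (h : MT T s) (x : K) : MT T (x ^ 2 • s) := by
  by_cases hx : x = 0
  · rw [hx, pow_two, zero_mul, zero_smul]
    exact MT_zero
  · have had : (x • (1 : Matrix (Fin m) (Fin m) K))ᵀ * (x⁻¹ • (1 : Matrix (Fin m) (Fin m) K)) = 1 := by
      rw [Matrix.transpose_smul, Matrix.transpose_one, Matrix.smul_mul, Matrix.mul_smul,
        Matrix.one_mul, smul_smul, mul_inv_cancel₀ hx, one_smul]
    have h1 := MT_congr hTc h _ _ had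
    have h2 : x • (1 : Matrix (Fin m) (Fin m) K) * s * (x • (1 : Matrix (Fin m) (Fin m) K))ᵀ =
        x ^ 2 • s := by
      rw [Matrix.transpose_smul, Matrix.transpose_one, Matrix.smul_mul, Matrix.one_mul,
        Matrix.mul_smul, Matrix.mul_one, smul_smul, pow_two]
    rwa [h2] at h1

theorem MT_smul (hTc : ∀ t ∈ T, ∀ g : Matrix.symplecticGroup (Fin m) K,
      g * t * g⁻¹ ∈ UUs m K → g * t * g⁻¹ ∈ T)
    {s : Matrix (Fin m) (Fin m) K} (h : MT T s) (c : K) : MT T (c • s) := by
  obtain ⟨x, y, rfl⟩ := exists_sq_add_sq c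
  rw [add_smul]
  exact MT_add (MT_sq_smul hTc h x) (MT_sq_smul hTc h y)

/-- A short root element in `T` gives a long root element in `T`. -/
theorem MT_long_of_short (hTc : ∀ t ∈ T, ∀ g : Matrix.symplecticGroup (Fin m) K,
      g * t * g⁻¹ ∈ UUs m K → g * t * g⁻¹ ∈ T)
    {i j : Fin m} (hij : i < j) (h : MT T (single i j 1 + single j i 1)) :
    MT T (single i i 1) := by
  obtain ⟨hs, h1⟩ := h
  have hne := ne_of_lt hij
  have h2 : wj j * uu (single i j 1 + single j i 1) hs * (wj j)⁻¹ =
      lam (SpecialLinearGroup.transvection hne (1 : K)) := by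
    rw [lam_tv, mul_inv_eq_iff_eq_mul]
    exact wj_mul_uu hne 1
  have h3 : lam (SpecialLinearGroup.transvection hne (1 : K)) ∈ T := by
    rw [← h2]
    apply hTc _ h1
    rw [h2]
    exact lam_mem_UUs _ (tv_mem_UU hij 1)
  rw [lam_tv] at h3
  have h4 := T.mul_mem h3 h1
  have h5 : lw (single j j (1 : K)) (sym_single j 1) *
      (lv (1 + single i j 1) (1 - single j i 1) (tv_transpose_mul hne 1) *
        uu (single i j 1 + single j i 1) hs) * (lw (single j j (1 : K)) (sym_single j 1))⁻¹ =
      uu (single i i (1 : K) + (single i j 1 + single j i 1)) (sym_triple i j) := by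
    rw [mul_inv_eq_iff_eq_mul]
    exact lw_mul_lv_uu hne
  have h6 := hTc _ h4 (lw (single j j (1 : K)) (sym_single j 1)) (by
    rw [h5]
    exact QQ_le_UUs (uu_mem_QQ _ _))
  rw [h5] at h6
  have h7 : MT T (single i i 1 + (single i j 1 + single j i 1)) := ⟨_, h6⟩
  have h8 := MT_sub h7 ⟨hs, h1⟩
  rwa [add_sub_cancel_right] at h8

theorem tv_transpose_mul' {i j : Fin m} (hij : i ≠ j) (c : K) :
    (1 - single i j c)ᵀ * (1 + single j i c) = 1 := by
  rw [Matrix.transpose_sub, Matrix.transpose_one, Matrix.transpose_single, sub_mul, one_mul,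
    mul_add, mul_one, Matrix.single_mul_single_of_ne _ _ _ _ hij]
  abel

/-- From one long root element to the others and to the short ones. -/
theorem MT_step (hTc : ∀ t ∈ T, ∀ g : Matrix.symplecticGroup (Fin m) K,
      g * t * g⁻¹ ∈ UUs m K → g * t * g⁻¹ ∈ T)
    {i j : Fin m} (hij : i ≠ j) (h : MT T (single i i 1)) :
    MT T (single j j 1) ∧ MT T (single i j 1 + single j i 1) := by
  have h1 := MT_congr hTc h (1 + single j i 1) (1 - single i j 1) (tv_transpose_mul hij.symm 1)
  have e1 : (1 + single j i (1 : K)) * single i i 1 * (1 + single j i (1 : K))ᵀ =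
      single i i 1 + single j j 1 + (single i j 1 + single j i 1) := by
    rw [Matrix.transpose_add, Matrix.transpose_one, Matrix.transpose_single]
    simp only [mul_add, add_mul, mul_one, one_mul, Matrix.single_mul_single_same,
      Matrix.single_mul_single_of_ne _ _ _ _ hij, Matrix.single_mul_single_of_ne _ _ _ _ hij.symm,
      add_zero, zero_add, mul_zero, zero_mul]
    abel
  rw [e1] at h1
  have h2 := MT_congr hTc h1 (1 - single i j 1) (1 + single j i 1) (tv_transpose_mul' hij 1)
  have e2 : (1 - single i j (1 : K)) *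
      (single i i 1 + single j j 1 + (single i j 1 + single j i 1)) *
      (1 - single i j (1 : K))ᵀ = single j j 1 := by
    rw [Matrix.transpose_sub, Matrix.transpose_one, Matrix.transpose_single]
    simp only [mul_add, add_mul, mul_sub, sub_mul, mul_one, one_mul,
      Matrix.single_mul_single_same,
      Matrix.single_mul_single_of_ne _ _ _ _ hij, Matrix.single_mul_single_of_ne _ _ _ _ hij.symm,
      add_zero, zero_add, mul_zero, zero_mul, sub_zero]
    abel
  rw [e2] at h2
  refine ⟨h2, ?_⟩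
  have h3 := MT_sub (MT_sub h1 h) h2
  have e3 : single i i (1 : K) + single j j 1 + (single i j 1 + single j i 1) - single i i 1 -
      single j j 1 = single i j 1 + single j i 1 := by abel
  rwa [e3] at h3

/-- The shape of a central element of the unitriangular group. -/
theorem central_form {n : ℕ} (z : Matrix.symplecticGroup (Fin (n + 2)) K)
    (hz : z ∈ UUs (n + 2) K) (hzc : ∀ u ∈ UUs (n + 2) K, u * z = z * u) :
    ∃ (t t' : K) (hs : (single (0 : Fin (n + 2)) 0 t + (single 0 1 t' + single 1 0 t'))ᵀ =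
        single (0 : Fin (n + 2)) 0 t + (single 0 1 t' + single 1 0 t')),
      z = uu (single (0 : Fin (n + 2)) 0 t + (single 0 1 t' + single 1 0 t')) hs := by
  obtain ⟨a, ha, s, hs, rfl⟩ := UUs_decomp z hz
  have hcol : ∀ i k : Fin (n + 2), k ≠ i → a.1 k i = 0 := by
    intro i k hki
    have h1 := hzc (uu (single i i 1) (sym_single i 1)) (QQ_le_UUs (uu_mem_QQ _ _))
    have h2 := congrArg Subtype.val h1
    rw [val_mul', val_mul' (lam a * uu s hs), lam_mul_uu_val, uu_val, Matrix.fromBlocks_multiply,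
      Matrix.fromBlocks_multiply, Matrix.fromBlocks_inj] at h2
    have h3 := congrFun (congrFun h2.2.1 k) i
    simp only [Matrix.add_apply, Matrix.one_mul, Matrix.mul_one,
      Matrix.single_mul_apply_of_ne _ _ _ _ _ hki, Matrix.mul_single_apply_same, mul_one,
      add_zero] at h3
    linear_combination -h3
  have ha1 : a = 1 := by
    apply Subtype.ext
    ext k i
    by_cases hki : k = i
    · rw [hki, ha.2 i]
      exact (Matrix.one_apply_eq i).symm
    · rw [hcol i k hki]
      exact (Matrix.one_apply_ne hki).symm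
  subst ha1
  rw [map_one, one_mul] at hzc ⊢
  have hF : ∀ i j : Fin (n + 2), i < j → ∀ l, l ≠ i → s j l = 0 := by
    intro i j hij l hl
    have h1 := hzc (lam (SpecialLinearGroup.transvection (ne_of_lt hij) 1))
      (lam_mem_UUs _ (tv_mem_UU hij 1))
    rw [lam_tv, lv_mul_uu] at h1
    have h2 := mul_right_cancel h1
    have h3 := congrArg Subtype.val h2
    rw [uu_val, uu_val, Matrix.fromBlocks_inj] at h3
    have h5 := congrFun (congrFun h3.2.1 i) l
    rw [Matrix.transpose_add, Matrix.transpose_one, Matrix.transpose_single] at h5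
    simp only [Matrix.add_mul, Matrix.mul_add, Matrix.one_mul, Matrix.mul_one, Matrix.add_apply,
      Matrix.single_mul_apply_same, Matrix.mul_single_apply_of_ne _ _ _ _ _ hl, one_mul,
      add_zero] at h5
    linear_combination h5
  have h01 : (0 : Fin (n + 2)) ≠ 1 := Fin.zero_ne_one
  have hsym : ∀ i j, s j i = s i j := fun i j => congrFun (congrFun hs i) j
  have hG1 : ∀ j : Fin (n + 2), j ≠ 0 → ∀ l, l ≠ 0 → s j l = 0 :=
    fun j hj l hl => hF 0 j (Fin.pos_of_ne_zero hj) l hl
  have hG2 : ∀ j : Fin (n + 2), j ≠ 0 → j ≠ 1 → s j 0 = 0 := by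
    intro j hj0 hj1
    apply hF 1 j _ 0 h01
    rw [Fin.lt_def]
    have h1 : (j : ℕ) ≠ 0 := fun h => hj0 (Fin.ext h)
    have h2 : (j : ℕ) ≠ 1 := fun h => hj1 (Fin.ext (by rw [h]; rfl))
    have h3 : ((1 : Fin (n + 2)) : ℕ) = 1 := rfl
    omega
  have hform : s = single (0 : Fin (n + 2)) 0 (s 0 0) + (single 0 1 (s 0 1) + single 1 0 (s 0 1)) := by
    ext k l
    rw [Matrix.add_apply, Matrix.add_apply, Matrix.single_apply, Matrix.single_apply,
      Matrix.single_apply]
    by_cases hk : k = 0
    · subst hk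
      by_cases hl : l = 0
      · subst hl
        simp [h01, h01.symm]
      · by_cases hl1 : l = 1
        · subst hl1
          simp [h01, h01.symm]
        · have h1 : s 0 l = 0 := by
            rw [← hsym 0 l]
            exact hG2 l hl hl1
          simp [h1, h01, h01.symm, Ne.symm hl, Ne.symm hl1]
    · by_cases hl : l = 0
      · subst hl
        by_cases hk1 : k = 1
        · subst hk1
          simp [h01, h01.symm, hsym]
        · simp [hG2 k hk hk1, h01, h01.symm, Ne.symm hk, Ne.symm hk1]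
      · simp [hG1 k hk l hl, h01, h01.symm, Ne.symm hk, Ne.symm hl]
  refine ⟨s 0 0, s 0 1, ?_, ?_⟩
  · rw [← hform]
    exact hs
  · exact uu_congr hform _ _

end Cfsg.Agent.Lib.helper25.SpUni
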