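import Mathlib

/-!
# Counting finsets invariant under left multiplication by a subgroup (seat helper25, for S4237)
-/

set_option autoImplicit false

namespace Cfsg.Agent.Lib.helper25.K4237c

/-- The finsets of `m * |S|` elements of a finite group that are invariant under left
multiplication by the subgroup `S` are counted by a binomial coefficient. -/
theorem card_invariant_finsets {G : Type*} [Group G] [Finite G] (S : Subgroup G) (m : ℕ) :
    Nat.card {M : Finset G // M.card = m * Nat.card S ∧ ∀ g ∈ S, ∀ x ∈ M, g * x ∈ M} =
      (Nat.card G / Nat.card S).choose m := by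
  classical
  have instG : Fintype G := Fintype.ofFinite G
  have instQ : Fintype (Quotient (QuotientGroup.rightRel S)) := Fintype.ofFinite _
  have instS : Fintype S := Fintype.ofFinite S
  have hSpos : 0 < Nat.card S := Nat.card_pos
  -- the projection
  have hπ : ∀ x y : G, (Quotient.mk (QuotientGroup.rightRel S) x = Quotient.mk _ y) ↔
      y * x⁻¹ ∈ S := by
    intro x y
    rw [Quotient.eq]
    exact QuotientGroup.rightRel_apply
  -- fibres
  have hfib : ∀ q : Quotient (QuotientGroup.rightRel S),
      (Finset.univ.filter (fun x : G => Quotient.mk (QuotientGroup.rightRel S) x = q)).card =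
        Nat.card S := by
    intro q
    induction q using Quotient.inductionOn with
    | _ y =>
      rw [Nat.card_eq_fintype_card, ← Finset.card_univ]
      symm
      apply Finset.card_bij (fun (s : S) _ => (s : G)⁻¹ * y)
      · intro s _
        rw [Finset.mem_filter]
        refine ⟨Finset.mem_univ _, ?_⟩
        rw [hπ]
        have e : y * ((s : G)⁻¹ * y)⁻¹ = (s : G) := by group
        rw [e]
        exact s.2
      · intro s _ t _ h
        have h2 : (s : G)⁻¹ = (t : G)⁻¹ := mul_right_cancel h
        exact Subtype.ext (inv_injective h2)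
      · intro x hx
        rw [Finset.mem_filter] at hx
        have hx2 := (hπ x y).1 hx.2
        refine ⟨⟨y * x⁻¹, hx2⟩, Finset.mem_univ _, ?_⟩
        show (y * x⁻¹)⁻¹ * y = x
        group
  -- the finset over a finset of cosets
  have hcard : ∀ T : Finset (Quotient (QuotientGroup.rightRel S)),
      (Finset.univ.filter (fun x : G => Quotient.mk (QuotientGroup.rightRel S) x ∈ T)).card =
        T.card * Nat.card S := by
    intro T
    have h0 := Finset.card_eq_sum_card_fiberwise
      (f := fun x : G => Quotient.mk (QuotientGroup.rightRel S) x)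
      (s := Finset.univ.filter (fun x : G => Quotient.mk (QuotientGroup.rightRel S) x ∈ T))
      (t := T) (by
        intro x hx
        exact (Finset.mem_filter.1 (Finset.mem_coe.1 hx)).2)
    rw [h0]
    have h1 : ∀ q ∈ T, ((Finset.univ.filter
        (fun x : G => Quotient.mk (QuotientGroup.rightRel S) x ∈ T)).filter
        (fun a : G => Quotient.mk (QuotientGroup.rightRel S) a = q)).card = Nat.card S := by
      intro q hq
      rw [← hfib q]
      congr 1
      ext x
      simp only [Finset.mem_filter, Finset.mem_univ, true_and]
      constructor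
      · intro h
        exact h.2
      · intro h
        exact ⟨h ▸ hq, h⟩
    rw [Finset.sum_congr rfl h1, Finset.sum_const, smul_eq_mul]
  have hinv : ∀ (g : G), g ∈ S → ∀ x : G,
      Quotient.mk (QuotientGroup.rightRel S) (g * x) = Quotient.mk _ x := by
    intro g hg x
    rw [hπ]
    have e : x * (g * x)⁻¹ = g⁻¹ := by group
    rw [e]
    exact S.inv_mem hg
  have hback : ∀ M : Finset G, (∀ g ∈ S, ∀ x ∈ M, g * x ∈ M) →
      Finset.univ.filter (fun x : G => Quotient.mk (QuotientGroup.rightRel S) x ∈
        M.image (fun x : G => Quotient.mk (QuotientGroup.rightRel S) x)) = M := by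
    intro M hM
    ext x
    simp only [Finset.mem_filter, Finset.mem_univ, true_and, Finset.mem_image]
    constructor
    · rintro ⟨y, hy, hxy⟩
      have h1 : x * y⁻¹ ∈ S := (hπ y x).1 hxy
      have h2 := hM _ h1 y hy
      have e : x * y⁻¹ * y = x := by group
      rwa [e] at h2
    · intro hx
      exact ⟨x, hx, rfl⟩
  have hfront : ∀ T : Finset (Quotient (QuotientGroup.rightRel S)),
      (Finset.univ.filter (fun x : G => Quotient.mk (QuotientGroup.rightRel S) x ∈ T)).image
        (fun x : G => Quotient.mk (QuotientGroup.rightRel S) x) = T := by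
    intro T
    ext q
    simp only [Finset.mem_image, Finset.mem_filter, Finset.mem_univ, true_and]
    constructor
    · rintro ⟨x, hx, rfl⟩
      exact hx
    · intro hq
      induction q using Quotient.inductionOn with
      | _ y => exact ⟨y, hq, rfl⟩
  let e : {T : Finset (Quotient (QuotientGroup.rightRel S)) // T.card = m} ≃
      {M : Finset G // M.card = m * Nat.card S ∧ ∀ g ∈ S, ∀ x ∈ M, g * x ∈ M} :=
    { toFun := fun T => ⟨Finset.univ.filter
          (fun x : G => Quotient.mk (QuotientGroup.rightRel S) x ∈ T.1), by
        refine ⟨?_, ?_⟩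
        · rw [hcard, T.2]
        · intro g hg x hx
          rw [Finset.mem_filter] at hx ⊢
          refine ⟨Finset.mem_univ _, ?_⟩
          rw [hinv g hg x]
          exact hx.2⟩
      invFun := fun M => ⟨M.1.image (fun x : G => Quotient.mk (QuotientGroup.rightRel S) x), by
        have h1 := hcard (M.1.image (fun x : G => Quotient.mk (QuotientGroup.rightRel S) x))
        rw [hback M.1 M.2.2, M.2.1] at h1
        exact (Nat.eq_of_mul_eq_mul_right hSpos h1).symm⟩
      left_inv := fun T => Subtype.ext (hfront T.1)
      right_inv := fun M => Subtype.ext (hback M.1 M.2.2) }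
  rw [← Nat.card_congr e, Nat.card_eq_fintype_card, Fintype.card_finset_len]
  congr 1
  rw [← Nat.card_eq_fintype_card,
    Nat.card_congr (QuotientGroup.quotientRightRelEquivQuotientLeftRel S)]
  have h3 := Subgroup.card_mul_index S
  rw [← h3, Nat.mul_div_cancel_left _ hSpos]
  rfl

end Cfsg.Agent.Lib.helper25.K4237c
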