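import Mathlib

/-!
# A divisibility lemma for invariant subsets of a group action (seat helper25, for S4237)
-/

set_option autoImplicit false

namespace Cfsg.Agent.Lib.helper25.K4237d

/-- If `P` is an invariant predicate on a finite `G`-set and `d` divides the length of the
orbit of every point satisfying `P`, then `d` divides the number of points satisfying `P`. -/
theorem dvd_card_of_forall_dvd {G X : Type*} [Group G] [Finite G] [MulAction G X] [Finite X]
    (P : X → Prop) (hP : ∀ (g : G) (x : X), P x → P (g • x)) (d : ℕ)
    (hd : ∀ x, P x → d ∣ Nat.card G / Nat.card (MulAction.stabilizer G x)) :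
    d ∣ Nat.card {x : X // P x} := by
  classical
  let act : MulAction G {x : X // P x} :=
    { smul := fun g y => ⟨g • y.1, hP g y.1 y.2⟩
      one_smul := fun y => Subtype.ext (one_smul G y.1)
      mul_smul := fun g h y => Subtype.ext (mul_smul g h y.1) }
  have hstab : ∀ y : {x : X // P x},
      MulAction.stabilizer G y = MulAction.stabilizer G y.1 := by
    intro y
    ext g
    simp only [MulAction.mem_stabilizer_iff]
    constructor
    · intro h
      exact congrArg Subtype.val h
    · intro h
      exact Subtype.ext h
  have : Fintype (MulAction.orbitRel.Quotient G {x : X // P x}) := Fintype.ofFinite _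
  have e := MulAction.selfEquivSigmaOrbits G {x : X // P x}
  rw [Nat.card_congr e, Nat.card_sigma]
  apply Finset.dvd_sum
  intro ω _
  have h1 : Nat.card (MulAction.orbit G (Quotient.out ω)) =
      (MulAction.stabilizer G (Quotient.out ω)).index := by
    rw [MulAction.index_stabilizer, _root_.Nat.card_coe_set_eq]
  have h2 : (MulAction.stabilizer G (Quotient.out ω)).index =
      Nat.card G / Nat.card (MulAction.stabilizer G (Quotient.out ω)) := by
    have h3 := Subgroup.card_mul_index (MulAction.stabilizer G (Quotient.out ω))
    have hpos : 0 < Nat.card (MulAction.stabilizer G (Quotient.out ω)) := Nat.card_pos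
    rw [← h3, Nat.mul_div_cancel_left _ hpos]
  rw [h1, h2, hstab]
  exact hd _ (Quotient.out ω).2

end Cfsg.Agent.Lib.helper25.K4237d
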