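import Mathlib
import Cfsg.Prelude.Def_FusionSystem
import Cfsg.Agent.Lib.helper26.Alperin
import Cfsg.Agent.Lib.helper26.FusionIso
import Cfsg.Agent.Lib.helper14.PIrredQuot
import Cfsg.Agent.Lib.helper25.FusionBasic

set_option autoImplicit false

namespace Cfsg.Agent.Lib.helper25

open Cfsg Cfsg.FusionSystem
open scoped commutatorElement

variable {Ω : Type*} [Group Ω] {S : Subgroup Ω}

theorem map_pResidual_le {A B : Type*} [Group A] [Group B] (p : ℕ) (f : A →* B) :
    (pResidual p A).map f ≤ pResidual p B := by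
  unfold pResidual
  rw [MonoidHom.map_closure, Subgroup.closure_le]
  rintro _ ⟨g, hg, rfl⟩
  exact Subgroup.subset_closure (Nat.Coprime.coprime_dvd_left (orderOf_map_dvd _ _) hg)

theorem hyperfocal_le (F : FusionSystem S) (p : ℕ) : F.hyperfocalSubgroup p ≤ S := by
  unfold hyperfocalSubgroup
  rw [Subgroup.closure_le]
  rintro _ ⟨P, α, x, hP, -, rfl⟩
  exact S.mul_mem (S.inv_mem (hP x.2)) (hP ((α : MulAut P) x).2)

theorem mem_hyperfocal (F : FusionSystem S) (p : ℕ) {P : Subgroup Ω} (hP : P ≤ S)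
    (α : F.autGroup P) (hα : α ∈ pResidual p (F.autGroup P)) (x : P) :
    (x : Ω)⁻¹ * ((α : MulAut P) x : P) ∈ F.hyperfocalSubgroup p :=
  Subgroup.subset_closure ⟨P, α, x, hP, hα, rfl⟩

/-- The hyperfocal subgroup is normalized by `S`. -/
theorem hyperfocal_conj_mem (F : FusionSystem S) (p : ℕ) {s t : Ω} (hs : s ∈ S)
    (ht : t ∈ F.hyperfocalSubgroup p) : s * t * s⁻¹ ∈ F.hyperfocalSubgroup p := by
  unfold hyperfocalSubgroup at ht
  induction ht using Subgroup.closure_induction with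
  | mem y hy =>
    obtain ⟨P, α, x, hP, hα, rfl⟩ := hy
    have hφ := F.conj_mem (P := P) hP hs
    obtain ⟨e, he, hex⟩ := Cfsg.Agent.Lib.helper26.exists_iso_of_mem F hφ rfl
    let Φ : F.autGroup P →* F.autGroup (Cfsg.conjHom P s).range :=
      ((MulAut.congr e).toMonoidHom.comp (F.autGroup P).subtype).codRestrict _
        (fun β => he.congr_mem β.2)
    have hΦ : Φ α ∈ pResidual p (F.autGroup (Cfsg.conjHom P s).range) :=
      map_pResidual_le p Φ ⟨α, hα, rfl⟩
    have h1 := mem_hyperfocal F p he.le_right (Φ α) hΦ (e x)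
    have h2 : ((Φ α : MulAut (Cfsg.conjHom P s).range) (e x)) = e ((α : MulAut P) x) := by
      show (MulAut.congr e (α : MulAut P)) (e x) = _
      simp [MulAut.congr]
    rw [h2, hex, hex] at h1
    have h3 : s * ((x : Ω)⁻¹ * (((α : MulAut P) x : P) : Ω)) * s⁻¹ =
        ((Cfsg.conjHom P s) x)⁻¹ * (Cfsg.conjHom P s) ((α : MulAut P) x) := by
      show _ = (s * (x : Ω) * s⁻¹)⁻¹ * (s * (((α : MulAut P) x : P) : Ω) * s⁻¹)
      group
    rw [h3]
    exact h1
  | one =>
    have : s * 1 * s⁻¹ = 1 := by group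
    rw [this]
    exact Subgroup.one_mem _
  | mul a b _ _ ha hb =>
    have : s * (a * b) * s⁻¹ = (s * a * s⁻¹) * (s * b * s⁻¹) := by group
    rw [this]
    exact Subgroup.mul_mem _ ha hb
  | inv a _ ha =>
    have : s * a⁻¹ * s⁻¹ = (s * a * s⁻¹)⁻¹ := by group
    rw [this]
    exact Subgroup.inv_mem _ ha

/-- For a fully automized `W`, `Aut_F(W) = O^p(Aut_F(W)) Aut_S(W)`. -/
theorem exists_residual_mul_conj [Finite S] {p : ℕ} [Fact p.Prime]
    (F : FusionSystem S) {W : Subgroup Ω} (hfa : F.IsFullyAutomized p W) (α : MulAut W)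
    (hα : α ∈ F.autGroup W) :
    ∃ ρ : F.autGroup W, ρ ∈ pResidual p (F.autGroup W) ∧ ∃ g : normalizerIn S W,
      α = (ρ : MulAut W) * Cfsg.Agent.Lib.helper26.conjAut S W g := by
  obtain ⟨hW, R, hR⟩ := hfa
  have hfinW : Finite W := Cfsg.Agent.Lib.helper26.finite_of_le hW
  have hfinA : Finite (MulAut W) := inferInstance
  have hsup := Cfsg.Agent.Lib.helper14.pResidual_sup_sylow R
  have hn := Cfsg.Agent.Lib.helper14.pResidual_normal' p (F.autGroup W)
  have hmem : (⟨α, hα⟩ : F.autGroup W) ∈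
      ((pResidual p (F.autGroup W) ⊔ (R : Subgroup (F.autGroup W)) : Subgroup (F.autGroup W)) :
        Set (F.autGroup W)) := by
    rw [hsup]
    trivial
  rw [Subgroup.normal_mul] at hmem
  obtain ⟨ρ, hρ, σ, hσ, hρσ⟩ := Set.mem_mul.1 hmem
  have hσ' : (σ : MulAut W) ∈ autInducedBy S W := by
    have h1 : σ ∈ (R : Subgroup (F.autGroup W)) := hσ
    rw [hR] at h1
    exact Subgroup.mem_subgroupOf.1 h1
  obtain ⟨g, hg⟩ := (Cfsg.Agent.Lib.helper26.mem_autInducedBy_iff_conjAut _).1 hσ'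
  refine ⟨ρ, hρ, g, ?_⟩
  rw [hg]
  exact congrArg Subtype.val hρσ.symm

theorem aut_map_mem_hyperfocal [Finite S] {p : ℕ} [Fact p.Prime] (hS : IsPGroup p S)
    (F : FusionSystem S) (hF : F.IsSaturated p) {W : Subgroup Ω} (hW : F.IsFullyNormalized W)
    (α : MulAut W) (hα : α ∈ F.autGroup W) (x : W) (hx : (x : Ω) ∈ F.hyperfocalSubgroup p) :
    ((α x : W) : Ω) ∈ F.hyperfocalSubgroup p := by
  have hfa := Cfsg.Agent.Lib.helper26.fullyAutomized_of_fullyNormalized hS F hF hW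
  obtain ⟨ρ, hρ, g, rfl⟩ := exists_residual_mul_conj F hfa α hα
  have h1 : ((Cfsg.Agent.Lib.helper26.conjAut S W g x : W) : Ω) ∈ F.hyperfocalSubgroup p := by
    rw [Cfsg.Agent.Lib.helper26.conjAut_apply]
    exact hyperfocal_conj_mem F p g.2.1 hx
  have h2 := mem_hyperfocal F p hW.1 ρ hρ (Cfsg.Agent.Lib.helper26.conjAut S W g x)
  have h3 : ((((ρ : MulAut W) * Cfsg.Agent.Lib.helper26.conjAut S W g) x : W) : Ω) =
      ((Cfsg.Agent.Lib.helper26.conjAut S W g x : W) : Ω) *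
        (((Cfsg.Agent.Lib.helper26.conjAut S W g x : W) : Ω)⁻¹ *
          ((ρ : MulAut W) (Cfsg.Agent.Lib.helper26.conjAut S W g x) : W)) := by
    rw [mul_inv_cancel_left]
    rfl
  rw [h3]
  exact Subgroup.mul_mem _ h1 h2

/-- The hyperfocal subgroup of a saturated system is strongly closed. -/
theorem hyperfocal_stronglyClosed [Finite S] {p : ℕ} [Fact p.Prime] (hS : IsPGroup p S)
    (F : FusionSystem S) (hF : F.IsSaturated p) : F.StronglyClosed (F.hyperfocalSubgroup p) := by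
  refine ⟨hyperfocal_le F p, ?_⟩
  have key : ∀ (U : Subgroup Ω) (φ : U →* Ω), φ ∈ F.Hom U →
      ∀ x : U, (x : Ω) ∈ F.hyperfocalSubgroup p → φ x ∈ F.hyperfocalSubgroup p := by
    apply Cfsg.Agent.Lib.helper26.alperin_induction hS F hF
      (fun U φ => ∀ x : U, (x : Ω) ∈ F.hyperfocalSubgroup p → φ x ∈ F.hyperfocalSubgroup p)
    · intro U V φ h _ hPr x hx
      exact hPr (Subgroup.inclusion h x) hx
    · intro U V φ ψ h _ _ h1 h2 x hx
      exact h2 ⟨φ x, h x⟩ (h1 x hx)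
    · intro W hW _ α hα x hx
      exact aut_map_mem_hyperfocal hS F hF hW α
        ((Cfsg.Agent.Lib.helper26.mem_autGroup_iff F hW.1 α).2 hα) x hx
  intro R hR φ hφ x
  exact key R φ hφ x (hR x.2)

/-- The focal subgroup is the product of the hyperfocal subgroup and the derived subgroup. -/
theorem focal_eq_hyperfocal_sup [Finite S] {p : ℕ} [Fact p.Prime] (hS : IsPGroup p S)
    (F : FusionSystem S) (hF : F.IsSaturated p) :
    F.focalSubgroup = F.hyperfocalSubgroup p ⊔ ⁅(S : Subgroup Ω), (S : Subgroup Ω)⁆ := by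
  apply le_antisymm
  · have key : ∀ (U : Subgroup Ω) (φ : U →* Ω), φ ∈ F.Hom U →
        ∀ x : U, (x : Ω)⁻¹ * φ x ∈ F.hyperfocalSubgroup p ⊔ ⁅(S : Subgroup Ω), (S : Subgroup Ω)⁆ := by
      apply Cfsg.Agent.Lib.helper26.alperin_induction hS F hF
        (fun U φ => ∀ x : U, (x : Ω)⁻¹ * φ x ∈
          F.hyperfocalSubgroup p ⊔ ⁅(S : Subgroup Ω), (S : Subgroup Ω)⁆)
      · intro U V φ h _ hPr x
        exact hPr (Subgroup.inclusion h x)
      · intro U V φ ψ h _ _ h1 h2 x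
        have h3 : (x : Ω)⁻¹ * (ψ.comp (φ.codRestrict V h)) x =
            ((x : Ω)⁻¹ * φ x) * ((φ x)⁻¹ * ψ ⟨φ x, h x⟩) := by
          rw [mul_assoc, mul_inv_cancel_left]
          rfl
        rw [h3]
        exact Subgroup.mul_mem _ (h1 x) (h2 ⟨φ x, h x⟩)
      · intro W hW _ α hα x
        have hfa := Cfsg.Agent.Lib.helper26.fullyAutomized_of_fullyNormalized hS F hF hW
        obtain ⟨ρ, hρ, g, rfl⟩ := exists_residual_mul_conj F hfa α
          ((Cfsg.Agent.Lib.helper26.mem_autGroup_iff F hW.1 α).2 hα)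
        have h2 := mem_hyperfocal F p hW.1 ρ hρ (Cfsg.Agent.Lib.helper26.conjAut S W g x)
        have h1 : (x : Ω)⁻¹ * ((Cfsg.Agent.Lib.helper26.conjAut S W g x : W) : Ω) ∈
            ⁅(S : Subgroup Ω), (S : Subgroup Ω)⁆ := by
          rw [Cfsg.Agent.Lib.helper26.conjAut_apply]
          have h4 : (x : Ω)⁻¹ * ((g : Ω) * x * (g : Ω)⁻¹) = ⁅(x : Ω)⁻¹, (g : Ω)⁆ := by
            rw [commutatorElement_def]
            group
          rw [h4]
          exact Subgroup.commutator_mem_commutator (S.inv_mem (hW.1 x.2)) g.2.1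
        have h3 : (x : Ω)⁻¹ * (W.subtype.comp
            ((ρ : MulAut W) * Cfsg.Agent.Lib.helper26.conjAut S W g).toMonoidHom) x =
            ((x : Ω)⁻¹ * ((Cfsg.Agent.Lib.helper26.conjAut S W g x : W) : Ω)) *
            (((Cfsg.Agent.Lib.helper26.conjAut S W g x : W) : Ω)⁻¹ *
              ((ρ : MulAut W) (Cfsg.Agent.Lib.helper26.conjAut S W g x) : W)) := by
          rw [mul_assoc, mul_inv_cancel_left]
          rfl
        rw [h3]
        exact Subgroup.mul_mem _ (Subgroup.mem_sup_right h1) (Subgroup.mem_sup_left h2)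
    unfold focalSubgroup
    rw [Subgroup.closure_le]
    rintro _ ⟨P, φ, x, hφ, rfl⟩
    exact key P φ hφ x
  · apply sup_le
    · unfold hyperfocalSubgroup
      rw [Subgroup.closure_le]
      rintro _ ⟨P, α, x, hP, -, rfl⟩
      exact Subgroup.subset_closure ⟨P, P.subtype.comp (α : MulAut P).toMonoidHom, x,
        (Cfsg.Agent.Lib.helper26.mem_autGroup_iff F hP _).1 α.2, rfl⟩
    · rw [Subgroup.commutator_le]
      intro a ha b hb
      refine Subgroup.subset_closure ⟨S, Cfsg.conjHom S b, ⟨a⁻¹, S.inv_mem ha⟩,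
        F.conj_mem le_rfl hb, ?_⟩
      show ⁅a, b⁆ = (a⁻¹)⁻¹ * (b * a⁻¹ * b⁻¹)
      rw [commutatorElement_def]
      group

end Cfsg.Agent.Lib.helper25
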