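import Mathlib
import Cfsg.Prelude.Def_CaseTheorems

set_option autoImplicit false

namespace Cfsg.Agent.Lib.helper25.K4157b0

theorem not_mem_zpowers_of_rel {P : Type*} [Group P] [Finite P] (m : ℕ) (hm : 3 ≤ m)
    (a b : P) (ha : orderOf a = 2 ^ (m - 1))
    (hrel : b * a * b⁻¹ = a⁻¹ ∨ (4 ≤ m ∧ b * a * b⁻¹ = a ^ (2 ^ (m - 2) - 1))) :
    b ∉ Subgroup.zpowers a := by
  intro hb
  obtain ⟨k, rfl⟩ := Subgroup.mem_zpowers_iff.mp hb
  have hcomm : a ^ k * a * (a ^ k)⁻¹ = a := by group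
  rcases hrel with h | ⟨h4, h⟩
  · rw [hcomm] at h
    have h2 : a ^ 2 = 1 := by
      rw [pow_two]
      nth_rewrite 1 [h]
      simp
    have hd := orderOf_dvd_of_pow_eq_one h2
    rw [ha] at hd
    have h4' : 4 ≤ 2 ^ (m - 1) := by
      calc 4 = 2 ^ 2 := by norm_num
        _ ≤ 2 ^ (m - 1) := Nat.pow_le_pow_right (by norm_num) (by omega)
    have hle := Nat.le_of_dvd (by norm_num) hd
    omega
  · rw [hcomm] at h
    have hk : 4 ≤ 2 ^ (m - 2) := by
      calc 4 = 2 ^ 2 := by norm_num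
        _ ≤ 2 ^ (m - 2) := Nat.pow_le_pow_right (by norm_num) (by omega)
    have h2 : a ^ (2 ^ (m - 2) - 2) = 1 := by
      have h3 : a ^ (2 ^ (m - 2) - 1) = a ^ (2 ^ (m - 2) - 2) * a := by
        rw [← pow_succ]
        congr 1
        omega
      rw [h3] at h
      exact mul_eq_right.mp h.symm
    have hd := orderOf_dvd_of_pow_eq_one h2
    rw [ha] at hd
    have hle := Nat.le_of_dvd (by omega) hd
    have h5 : 2 ^ (m - 1) = 2 * 2 ^ (m - 2) := by
      rw [← pow_succ']
      congr 1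
      omega
    omega

/-- The statement of W4c (class of a 2-group with a cyclic maximal subgroup inverted or
semi-inverted by an outside element), for a fixed group `P`. -/
def RelClass (P : Type*) [Group P] : Prop :=
  ∀ n : ℕ, 3 ≤ n → Nat.card P = 2 ^ n → ∀ a b : P, orderOf a = 2 ^ (n - 1) →
    b ∉ Subgroup.zpowers a →
    (b * a * b⁻¹ = a⁻¹ ∨ (4 ≤ n ∧ b * a * b⁻¹ = a ^ (2 ^ (n - 2) - 1))) →
    Group.nilpotencyClass P = n - 1

theorem class_of_rel' {P : Type*} [Group P] [Finite P] (hW : RelClass P) (m : ℕ) (hm : 3 ≤ m)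
    (hP : Nat.card P = 2 ^ m) (a b : P) (ha : orderOf a = 2 ^ (m - 1))
    (hrel : b * a * b⁻¹ = a⁻¹ ∨ (4 ≤ m ∧ b * a * b⁻¹ = a ^ (2 ^ (m - 2) - 1))) :
    Group.nilpotencyClass P = m - 1 :=
  hW m hm hP a b ha (not_mem_zpowers_of_rel m hm a b ha hrel) hrel

theorem class_of_QDS_of {P : Type*} [Group P] [Finite P] (hW : RelClass P) (m : ℕ)
    (hP : Nat.card P = 2 ^ m)
    (hnc : ¬ IsCyclic P)
    (h : (∃ n : ℕ, Nonempty (P ≃* QuaternionGroup n)) ∨
      (∃ n : ℕ, 8 ≤ n ∧ Nonempty (P ≃* DihedralGroup n)) ∨ Cfsg.IsQuasiDihedral P) :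
    Group.nilpotencyClass P = m - 1 := by
  rcases h with ⟨n, ⟨e⟩⟩ | ⟨n, hn8, ⟨e⟩⟩ | ⟨n, hn3, hcard, x, y, hx, hy, hrel⟩
  · -- generalized quaternion
    have hord : orderOf (e.symm (QuaternionGroup.a 1)) = 2 * n := by
      rw [MulEquiv.orderOf_eq, QuaternionGroup.orderOf_a_one]
    have hn0 : n ≠ 0 := by
      intro h0
      have hpos := orderOf_pos (e.symm (QuaternionGroup.a 1))
      rw [hord, h0] at hpos
      omega
    haveI : NeZero n := ⟨hn0⟩
    have hc : Nat.card P = 4 * n := by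
      rw [Nat.card_congr e.toEquiv, Nat.card_eq_fintype_card, QuaternionGroup.card]
    have hn1 : n ≠ 1 := by
      rintro rfl
      haveI := QuaternionGroup.quaternionGroup_one_isCyclic
      exact hnc (isCyclic_of_surjective e.symm e.symm.surjective)
    have hm3 : 3 ≤ m := by
      by_contra hlt
      have h2 : m ≤ 2 := by omega
      have h3 : 2 ^ m ≤ 2 ^ 2 := Nat.pow_le_pow_right (by norm_num) h2
      omega
    have h2n : 2 * n = 2 ^ (m - 1) := by
      have h3 : 2 ^ m = 2 * 2 ^ (m - 1) := by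
        rw [← pow_succ']
        congr 1
        omega
      omega
    have hinv : (QuaternionGroup.a 1 : QuaternionGroup n)⁻¹ = QuaternionGroup.a (-1) := by
      apply inv_eq_of_mul_eq_one_right
      rw [QuaternionGroup.a_mul_a]
      simp
    have hrel : e.symm (QuaternionGroup.xa 0) * e.symm (QuaternionGroup.a 1) *
        (e.symm (QuaternionGroup.xa 0))⁻¹ = (e.symm (QuaternionGroup.a 1))⁻¹ := by
      rw [← map_mul, ← map_inv, ← map_mul, ← map_inv]
      congr 1
      rw [mul_inv_eq_iff_eq_mul, hinv, QuaternionGroup.xa_mul_a, QuaternionGroup.a_mul_xa]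
      simp
    exact class_of_rel' hW m hm3 hP _ _ (hord.trans h2n) (Or.inl hrel)
  · -- dihedral
    have hord : orderOf (e.symm (DihedralGroup.r 1)) = n := by
      rw [MulEquiv.orderOf_eq, DihedralGroup.orderOf_r_one]
    have hc : Nat.card P = 2 * n := by
      rw [Nat.card_congr e.toEquiv, DihedralGroup.nat_card]
    have hm3 : 3 ≤ m := by
      by_contra hlt
      have h2 : m ≤ 2 := by omega
      have h3 : 2 ^ m ≤ 2 ^ 2 := Nat.pow_le_pow_right (by norm_num) h2
      omega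
    have h2n : n = 2 ^ (m - 1) := by
      have h3 : 2 ^ m = 2 * 2 ^ (m - 1) := by
        rw [← pow_succ']
        congr 1
        omega
      omega
    have hrel : e.symm (DihedralGroup.sr 0) * e.symm (DihedralGroup.r 1) *
        (e.symm (DihedralGroup.sr 0))⁻¹ = (e.symm (DihedralGroup.r 1))⁻¹ := by
      rw [← map_mul, ← map_inv, ← map_mul, ← map_inv]
      congr 1
      rw [mul_inv_eq_iff_eq_mul, DihedralGroup.inv_r, DihedralGroup.sr_mul_r,
        DihedralGroup.r_mul_sr]
      simp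
    exact class_of_rel' hW m hm3 hP _ _ (hord.trans h2n) (Or.inl hrel)
  · -- quasi-dihedral
    have hmn : m = n + 1 := Nat.pow_right_injective (le_refl 2) (hP.symm.trans hcard)
    subst hmn
    have hrel' : y * x * y⁻¹ = x ^ (2 ^ (n + 1 - 2) - 1) := by
      rw [hrel]
      congr 2
    exact class_of_rel' hW (n + 1) (by omega) hP x y (by simpa using hx)
      (Or.inr ⟨by omega, hrel'⟩)

end Cfsg.Agent.Lib.helper25.K4157b0
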