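import Cfsg.Agent.Lib.helper28.GolayEnum
import Cfsg.Agent.Lib.helper25.FusionSimple2

set_option autoImplicit false

namespace Cfsg.Agent.Lib.helper25

open Cfsg Cfsg.Agent.Lib.helper28

/-! ### Canonical packed tables ("codes") of permutations of the 24 points -/

/-- The canonical packed table of a permutation. -/
def cpk (g : Equiv.Perm GolayPt) : ℕ := pack ((List.range 24).map fun i => idx (g (pt i)))

theorem isPk_cpk (g : Equiv.Perm GolayPt) : IsPk g (cpk g) := by
  intro i hi
  unfold cpk
  rw [look5_pack _ i (fun j hj => by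
    rw [getD_map_range _ (by omega)]
    have := idx_lt (g (pt j))
    omega), getD_map_range _ hi]

theorem eq_of_isPk {g h : Equiv.Perm GolayPt} {P : ℕ} (hg : IsPk g P) (hh : IsPk h P) : g = h := by
  ext p
  have h1 := (hg (idx p) (idx_lt p)).symm.trans (hh (idx p) (idx_lt p))
  rw [pt_idx] at h1
  rw [← pt_idx (g p), h1, pt_idx]

theorem cpk_injective {g h : Equiv.Perm GolayPt} (e : cpk g = cpk h) : g = h := by
  have h1 : IsPk h (cpk g) := by
    rw [e]
    exact isPk_cpk h
  exact eq_of_isPk (isPk_cpk g) h1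

theorem pack_map_eq_cpk {f : ℕ → ℕ} {g : Equiv.Perm GolayPt}
    (h : ∀ i, i < 24 → f i = idx (g (pt i))) : pack ((List.range 24).map f) = cpk g := by
  unfold cpk
  congr 1
  apply List.map_congr_left
  intro i hi
  exact h i (List.mem_range.mp hi)

/-- Product of packed tables. -/
def mulP (A B : ℕ) : ℕ := pack ((List.range 24).map fun i => look5 A (look5 B i))

theorem mulP_cpk (g h : Equiv.Perm GolayPt) : mulP (cpk g) (cpk h) = cpk (g * h) := by
  apply pack_map_eq_cpk
  intro i hi
  rw [isPk_cpk h i hi, isPk_cpk g _ (idx_lt _), pt_idx]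
  rfl

/-- The packed identity table. -/
def idP : ℕ := pack (List.range 24)

theorem cpk_one : cpk 1 = idP := by
  have h := pack_map_eq_cpk (f := id) (g := 1) (fun i hi => (idx_pt hi).symm)
  rw [List.map_id] at h
  exact h.symm

/-- The packed table of the product of a word. -/
def pkW (w : List ℕ) : ℕ := pack ((List.range 24).map (entR w))

theorem pkW_eq {g : Equiv.Perm GolayPt} {w : List ℕ} (hw : IsW g w) : pkW w = cpk g :=
  pack_map_eq_cpk hw

/-- Entry `i` of the product of the packed tables of a word, listed from left to right. -/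
def entL : List ℕ → ℕ → ℕ
  | [], i => i
  | u :: w, i => look5 u (entL w i)

/-- The word `w` (packed tables, from left to right) has product `g`. -/
def IsWL (g : Equiv.Perm GolayPt) (w : List ℕ) : Prop := ∀ i, i < 24 → entL w i = idx (g (pt i))

theorem isWL_nil : IsWL 1 [] := fun i hi => by
  rw [entL]; exact (idx_pt hi).symm

theorem isWL_cons {g h : Equiv.Perm GolayPt} {w : List ℕ} {u : ℕ} (hg : IsWL g w) (hu : IsPk h u) :
    IsWL (h * g) (u :: w) := by
  intro i hi
  rw [entL, hg i hi, hu _ (idx_lt _), pt_idx]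
  rfl

/-- The packed table of the conjugate of `s` by the product of `w`, where `wi` is a word for the
inverse. -/
def cjW (w wi : List ℕ) (s : ℕ) : ℕ :=
  pack ((List.range 24).map fun p => entR w (look5 s (entL wi p)))

theorem cjW_eq {g x : Equiv.Perm GolayPt} {w wi : List ℕ} (hw : IsW g w) (hwi : IsWL g⁻¹ wi) :
    cjW w wi (cpk x) = cpk (g * x * g⁻¹) := by
  apply pack_map_eq_cpk
  intro i hi
  rw [hwi i hi, isPk_cpk x _ (idx_lt _), pt_idx, hw _ (idx_lt _), pt_idx]
  rfl

/-- The table with packed table `P`. -/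
def unpk (P : ℕ) : List ℕ := (List.range 24).map (look5 P)

theorem exists_of_code {Inv : List ℕ} {P : ℕ} (h1 : tabIn Inv (unpk P) = true)
    (h2 : pack (unpk P) = P) : ∃ g ∈ stabM Inv, cpk g = P := by
  obtain ⟨g, hg, hgl⟩ := tabIn_spec h1
  refine ⟨g, hg, ?_⟩
  rw [← h2]
  unfold unpk
  symm
  apply pack_map_eq_cpk
  intro i hi
  have := getD_of_isTable hgl hi
  unfold unpk at this
  rw [getD_map_range _ hi] at this
  exact this

/-- The inverse table is the table of the inverse. -/
theorem isTable_invTab {u : Equiv.Perm GolayPt} {l : List ℕ} (hg : tabGood l = true)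
    (hu : IsTable u l) : IsTable u⁻¹ (invTab l) := by
  have he : u = tabPerm l hg := eq_of_isTable hu (isTable_tabPerm l hg)
  intro p
  have h1 : u⁻¹ p = pt ((invTab l).getD (idx p) 0) := by
    rw [he]
    rfl
  rw [h1, idx_pt (tabGood_spec hg (idx_lt p)).2.2.1]

/-! ### Codes of elements of a stabiliser -/

theorem tabGood_of_tabIn {Inv l : List ℕ} (h : tabIn Inv l = true) : tabGood l = true := by
  unfold tabIn at h
  simp only [Bool.and_eq_true] at h
  exact h.1.1

/-- Test that `c` is the canonical code of an element of `stabM Inv`. -/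
def codeOK (Inv : List ℕ) (c : ℕ) : Bool := tabIn Inv (unpk c) && Nat.beq (pack (unpk c)) c

/-- The code of the inverse. -/
def invP (c : ℕ) : ℕ := pack (invTab (unpk c))

theorem exists_of_codeOK {Inv : List ℕ} {c : ℕ} (h : codeOK Inv c = true) :
    ∃ g ∈ stabM Inv, cpk g = c ∧ cpk g⁻¹ = invP c := by
  unfold codeOK at h
  rw [Bool.and_eq_true] at h
  obtain ⟨h1, h2⟩ := h
  have h2' : pack (unpk c) = c := Nat.eq_of_beq_eq_true h2
  obtain ⟨g, hg, hgl⟩ := tabIn_spec h1
  refine ⟨g, hg, ?_, ?_⟩
  · rw [← h2']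
    unfold unpk
    symm
    apply pack_map_eq_cpk
    intro i hi
    have := getD_of_isTable hgl hi
    unfold unpk at this
    rw [getD_map_range _ hi] at this
    exact this
  · unfold invP invTab
    symm
    apply pack_map_eq_cpk
    intro i hi
    have := getD_of_isTable (isTable_invTab (tabGood_of_tabIn h1) hgl) hi
    unfold invTab at this
    rw [getD_map_range _ hi] at this
    exact this

theorem getD_code (K : Subgroup (Equiv.Perm GolayPt)) (l : List ℕ)
    (h : ∀ a ∈ l, ∃ g ∈ K, cpk g = a) (i : ℕ) : ∃ g ∈ K, cpk g = l.getD i idP := by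
  rw [List.getD_eq_getElem?_getD]
  cases hi : l[i]? with
  | none =>
    rw [Option.getD_none]
    exact ⟨1, K.one_mem, cpk_one⟩
  | some a =>
    rw [Option.getD_some]
    exact h a (List.mem_of_getElem? hi)

/-! ### Pruned enumeration -/

/-- Pre-packed chain: base points with the packed transversal tables and packed inverse tables. -/
def prepack (C : List (ℕ × ℕ × List (List ℕ))) : List (ℕ × List (ℕ × ℕ)) :=
  C.map fun c => (c.1, c.2.2.map fun l => (pack l, pack (invTab l)))

theorem prepack_nil : prepack [] = [] := rfl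

theorem prepack_cons (b E : ℕ) (U : List (List ℕ)) (rest : List (ℕ × ℕ × List (List ℕ))) :
    prepack ((b, E, U) :: rest) = (b, U.map fun l => (pack l, pack (invTab l))) :: prepack rest :=
  rfl

/-- Check a property of words (with inverse words) on the products of the transversal elements of a
pre-packed chain, pruning the branches on which `test` fails. -/
def enumP (test : List ℕ → List ℕ → Bool) (Q : List ℕ → List ℕ → Bool) :
    List (ℕ × List (ℕ × ℕ)) → List ℕ → List ℕ → List ℕ → Bool
  | [], _, w, wi => Q w wi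
  | (b, U) :: rest, bs, w, wi =>
      U.all fun u => !(test (b :: bs) (u.1 :: w)) ||
        enumP test Q rest (b :: bs) (u.1 :: w) (u.2 :: wi)

theorem enumP_sound (P : Equiv.Perm GolayPt → Prop) (test Q : List ℕ → List ℕ → Bool)
    (htest : ∀ (g a : Equiv.Perm GolayPt) (bs w : List ℕ), P g → IsW a w →
      (∀ b ∈ bs, b < 24 ∧ g (pt b) = a (pt b)) → test bs w = true)
    (C : List (ℕ × ℕ × List (List ℕ))) :
    ∀ (Inv bs w wi : List ℕ) (a : Equiv.Perm GolayPt), IsW a w → IsWL a⁻¹ wi →
      chainGen Inv C = true → Nat.card (stabM Inv) ≤ chainProd C →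
      (∀ b ∈ bs, b < 24 ∧ ∀ h ∈ stabM Inv, h (pt b) = pt b) →
      enumP test Q (prepack C) bs w wi = true →
      ∀ h ∈ stabM Inv, P (a * h) →
        ∃ w' wi', IsW (a * h) w' ∧ IsWL (a * h)⁻¹ wi' ∧ Q w' wi' = true := by
  induction C with
  | nil =>
    intro Inv bs w wi a ha hai _ hcard _ hQ h hh _
    rw [chainProd] at hcard
    have hbot : stabM Inv = ⊥ := Subgroup.eq_bot_of_card_le _ hcard
    rw [hbot, Subgroup.mem_bot] at hh
    rw [prepack_nil, enumP] at hQ
    refine ⟨w, wi, ?_, ?_, hQ⟩
    · rw [hh, mul_one]; exact ha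
    · rw [hh, mul_one]; exact hai
  | cons c rest ih =>
    obtain ⟨b, E, U⟩ := c
    intro Inv bs w wi a ha hai hC hcard hbs hQ h hh hP
    obtain ⟨hcard', horb⟩ := chain_step_card hC hcard
    rw [chainGen] at hC
    simp only [Bool.and_eq_true, decide_eq_true_eq] at hC
    obtain ⟨⟨⟨hb, hE⟩, hU⟩, hrest⟩ := hC
    rw [prepack_cons, enumP, List.all_eq_true] at hQ
    obtain ⟨l, hl, u, hu, hul, hub⟩ := levOK_sound hb hU (h (pt b)) (horb h hh)
    have hgood : tabGood l = true := by
      unfold levOK at hU
      rw [Bool.and_eq_true] at hU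
      exact tabGood_of_tabIn (List.all_eq_true.mp hU.1 l hl)
    have hh' : u⁻¹ * h ∈ stabM (2 ^ b :: Inv) := by
      rw [mem_stabM_cons_pt hb]
      refine ⟨(stabM Inv).mul_mem ((stabM Inv).inv_mem hu) hh, ?_⟩
      show u⁻¹ (h (pt b)) = pt b
      rw [← hub]; simp
    have hq := hQ (pack l, pack (invTab l))
      (List.mem_map_of_mem (f := fun l => (pack l, pack (invTab l))) hl)
    have haw : IsW (a * u) (pack l :: w) := isW_cons ha (isPk_pack hul)
    have ht : test (b :: bs) (pack l :: w) = true := by
      apply htest (a * h) (a * u) _ _ hP haw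
      intro b' hb'
      rcases List.mem_cons.mp hb' with rfl | hb'
      · refine ⟨hb, ?_⟩
        show a (h (pt b')) = a (u (pt b'))
        rw [hub]
      · refine ⟨(hbs b' hb').1, ?_⟩
        show a (h (pt b')) = a (u (pt b'))
        rw [(hbs b' hb').2 h hh, (hbs b' hb').2 u hu]
    dsimp only at hq
    rw [ht, Bool.not_true, Bool.false_or] at hq
    have haiw : IsWL (a * u)⁻¹ (pack (invTab l) :: wi) := by
      rw [mul_inv_rev]
      exact isWL_cons hai (isPk_pack (isTable_invTab hgood hul))
    have hbs' : ∀ b' ∈ b :: bs, b' < 24 ∧ ∀ h ∈ stabM (2 ^ b :: Inv), h (pt b') = pt b' := by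
      intro b' hb'
      rcases List.mem_cons.mp hb' with rfl | hb'
      · exact ⟨hb, fun h hh => ((mem_stabM_cons_pt hb).mp hh).2⟩
      · exact ⟨(hbs b' hb').1, fun h hh => (hbs b' hb').2 h (stabM_cons_le _ _ hh)⟩
    have hmul : a * u * (u⁻¹ * h) = a * h := by group
    obtain ⟨w', wi', h1, h2, h3⟩ := ih (2 ^ b :: Inv) (b :: bs) (pack l :: w)
      (pack (invTab l) :: wi) (a * u) haw haiw hrest hcard' hbs' hq (u⁻¹ * h) hh'
      (by rw [hmul]; exact hP)
    rw [hmul] at h1 h2
    exact ⟨w', wi', h1, h2, h3⟩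

/-- Pruning test for elements commuting with the involution with code `zP`: if the image under the
involution of the last base point is also a base point, compare. -/
def testZ (zP : ℕ) : List ℕ → List ℕ → Bool
  | [], _ => true
  | b :: bs, w => forceNat (look5 zP b) fun c =>
      !((b :: bs).any (Nat.beq c)) || Nat.beq (entR w c) (look5 zP (entR w b))

theorem testZ_sound {z : Equiv.Perm GolayPt} {zP : ℕ} (hz : IsPk z zP)
    (g a : Equiv.Perm GolayPt) (bs w : List ℕ) (hP : g * z = z * g) (ha : IsW a w)
    (hbs : ∀ b ∈ bs, b < 24 ∧ g (pt b) = a (pt b)) : testZ zP bs w = true := by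
  cases bs with
  | nil => rfl
  | cons b bs =>
    rw [testZ, forceNat_eq, Bool.or_eq_true]
    by_cases hc : ((b :: bs).any (Nat.beq (look5 zP b))) = true
    · right
      rw [List.any_eq_true] at hc
      obtain ⟨c, hc, hcb⟩ := hc
      have hcb' : look5 zP b = c := Nat.eq_of_beq_eq_true hcb
      have hb := hbs b List.mem_cons_self
      have hc' := hbs c hc
      have h1 : pt c = z (pt b) := by rw [← hcb', hz b hb.1, pt_idx]
      rw [natBeq_eq, beq_iff_eq, hcb', ha c hc'.1, ha b hb.1, hz _ (idx_lt _), pt_idx, ← hc'.2,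
        ← hb.2, h1]
      exact congrArg idx (congrArg (fun f : Equiv.Perm GolayPt => f (pt b)) hP)
    · left
      rw [Bool.not_eq_true] at hc
      rw [hc]
      rfl

/-- Membership in a list of codes, with the code evaluated first. -/
def memL (LP : List ℕ) (x : ℕ) : Bool := forceNat x fun x' => LP.any (Nat.beq x')

theorem memL_sound {LP : List ℕ} {x : ℕ} (h : memL LP x = true) : x ∈ LP := by
  unfold memL at h
  rw [forceNat_eq, List.any_eq_true] at h
  obtain ⟨a, ha, hxa⟩ := h
  rw [Nat.eq_of_beq_eq_true hxa]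
  exact ha

/-- Leaf test: if the element conjugates all the generators into the subgroup, it lies in the
subgroup. -/
def leafQ (gensP : List ℕ) (mem : ℕ → Bool) (w wi : List ℕ) : Bool :=
  !(gensP.all fun s => mem (cjW w wi s)) || mem (pkW w)

/-! ### Subgroups generated by codes -/

/-- The subgroup generated by the permutations with codes in `gensP`. -/
def genSub (gensP : List ℕ) : Subgroup (Equiv.Perm GolayPt) :=
  Subgroup.closure {g | cpk g ∈ gensP}

theorem genSub_le {Inv gensP : List ℕ} (hgens : gensP.all (codeOK Inv) = true) :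
    genSub gensP ≤ stabM Inv := by
  unfold genSub
  rw [Subgroup.closure_le]
  intro g hg
  obtain ⟨g', hg', h1, _⟩ := exists_of_codeOK (List.all_eq_true.mp hgens _ hg)
  rw [← cpk_injective h1]
  exact hg'

theorem cpk_mem_of_mem_genSub {Inv gensP LP : List ℕ} {mem : ℕ → Bool}
    (hgens : gensP.all (codeOK Inv) = true)
    (hinv : (gensP.all fun s => gensP.any fun s' => Nat.beq (mulP s s') idP) = true)
    (hmemS : ∀ x, mem x = true → x ∈ LP) (h1 : mem idP = true)
    (hcl : (LP.all fun a => gensP.all fun s => mem (mulP a s)) = true)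
    {g : Equiv.Perm GolayPt} (hg : g ∈ genSub gensP) : cpk g ∈ LP := by
  have hstep : ∀ a ∈ LP, ∀ s ∈ gensP, mulP a s ∈ LP := fun a ha s hs =>
    hmemS _ (List.all_eq_true.mp (List.all_eq_true.mp hcl a ha) s hs)
  unfold genSub at hg
  refine Subgroup.closure_induction_right (p := fun x _ => cpk x ∈ LP) ?_ ?_ ?_ hg
  · rw [cpk_one]
    exact hmemS _ h1
  · intro x _ y hy ih
    rw [← mulP_cpk]
    exact hstep _ ih _ hy
  · intro x _ y hy ih
    have h2 := List.all_eq_true.mp hinv _ hy
    rw [List.any_eq_true] at h2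
    obtain ⟨s', hs', h3⟩ := h2
    obtain ⟨y', _, hy', _⟩ := exists_of_codeOK (List.all_eq_true.mp hgens _ hs')
    have h4 : mulP (cpk y) s' = idP := Nat.eq_of_beq_eq_true h3
    rw [← hy', mulP_cpk, ← cpk_one] at h4
    have h5 : y⁻¹ = y' := inv_eq_of_mul_eq_one_right (cpk_injective h4)
    rw [← mulP_cpk, h5, hy']
    exact hstep _ ih _ hs'

/-- Build a list of codes: each new code is the product of an earlier code (counted from the most
recent one) and a generator. -/
def buildL (gensP : List ℕ) : List (ℕ × ℕ) → List ℕ → List ℕ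
  | [], acc => acc
  | (i, j) :: rest, acc =>
      forceNat (mulP (acc.getD i idP) (gensP.getD j idP)) fun x => buildL gensP rest (x :: acc)

theorem buildL_sound (gensP : List ℕ) (K : Subgroup (Equiv.Perm GolayPt))
    (hg : ∀ s ∈ gensP, ∃ g ∈ K, cpk g = s) :
    ∀ (par : List (ℕ × ℕ)) (acc : List ℕ), (∀ a ∈ acc, ∃ g ∈ K, cpk g = a) →
      ∀ a ∈ buildL gensP par acc, ∃ g ∈ K, cpk g = a := by
  intro par
  induction par with
  | nil => intro acc h a ha; exact h a ha
  | cons ij rest ih =>
    obtain ⟨i, j⟩ := ij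
    intro acc h a ha
    rw [buildL, forceNat_eq] at ha
    refine ih _ ?_ a ha
    intro a' ha'
    rcases List.mem_cons.mp ha' with he | ha'
    · obtain ⟨g1, hg1, e1⟩ := getD_code K acc h i
      obtain ⟨g2, hg2, e2⟩ := getD_code K gensP hg j
      exact ⟨g1 * g2, K.mul_mem hg1 hg2, by rw [he, ← mulP_cpk, e1, e2]⟩
    · exact h a' ha'

/-- Test that a list of numbers has no repetition. -/
def nodupB : List ℕ → Bool
  | [] => true
  | a :: r => !(r.any (Nat.beq a)) && nodupB r

theorem nodup_of_nodupB : ∀ l : List ℕ, nodupB l = true → l.Nodup := by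
  intro l
  induction l with
  | nil => intro _; exact List.nodup_nil
  | cons a r ih =>
    intro h
    rw [nodupB, Bool.and_eq_true] at h
    rw [List.nodup_cons]
    refine ⟨?_, ih h.2⟩
    intro ha
    have : r.any (Nat.beq a) = true := by
      rw [List.any_eq_true]
      exact ⟨a, ha, Nat.beq_refl a⟩
    rw [this] at h
    exact absurd h.1 (by decide)

theorem card_eq_length_of_codes {K : Subgroup (Equiv.Perm GolayPt)} {LP : List ℕ}
    (hnd : LP.Nodup) (h2 : ∀ g ∈ K, cpk g ∈ LP) (h3 : ∀ a ∈ LP, ∃ g ∈ K, cpk g = a) :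
    Nat.card K = LP.length := by
  classical
  have e : Nat.card K = (K : Set (Equiv.Perm GolayPt)).ncard :=
    Nat.card_coe_set_eq (K : Set (Equiv.Perm GolayPt))
  have himg : cpk '' (K : Set (Equiv.Perm GolayPt)) = (LP.toFinset : Set ℕ) := by
    ext a
    simp only [Set.mem_image, SetLike.mem_coe, List.coe_toFinset, Set.mem_ofPred_eq]
    constructor
    · rintro ⟨g, hg, rfl⟩
      exact h2 g hg
    · intro ha
      exact h3 a ha
  rw [e, ← Set.ncard_image_of_injective _ (fun _ _ h => cpk_injective h), himg,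
    Set.ncard_coe_finset, List.toFinset_card_of_nodup hnd]

/-! ### Fusion steps -/

/-- Run fusion steps on a list of codes: the step `(i, j, 0)` appends the product of the codes
number `i` and `j`; the step `(i, j, c)` with `c ≠ 0` appends the conjugate of the code number `i`
by the element with code `c`, if that is an element of `stabM Inv` and the conjugate passes the
membership test. -/
def runSteps (Inv : List ℕ) (mem : ℕ → Bool) : List (ℕ × ℕ × ℕ) → List ℕ → List ℕ
  | [], X => X
  | (i, j, c) :: rest, X =>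
    if c = 0 then
      forceNat (mulP (X.getD i idP) (X.getD j idP)) fun r => runSteps Inv mem rest (X ++ [r])
    else
      forceNat (mulP (mulP c (X.getD i idP)) (invP c)) fun r =>
        if (codeOK Inv c && mem r) = true then runSteps Inv mem rest (X ++ [r])
        else runSteps Inv mem rest X

theorem runSteps_sound {Inv : List ℕ} {mem : ℕ → Bool} (S₀ T : Subgroup (Equiv.Perm GolayPt))
    (hmem : ∀ x, mem x = true → ∃ y ∈ S₀, cpk y = x)
    (hT : ∀ t ∈ T, ∀ g ∈ stabM Inv, g * t * g⁻¹ ∈ S₀ → g * t * g⁻¹ ∈ T) :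
    ∀ (steps : List (ℕ × ℕ × ℕ)) (X : List ℕ), (∀ a ∈ X, ∃ t ∈ T, cpk t = a) →
      ∀ a ∈ runSteps Inv mem steps X, ∃ t ∈ T, cpk t = a := by
  intro steps
  induction steps with
  | nil => intro X hX a ha; exact hX a ha
  | cons st rest ih =>
    obtain ⟨i, j, c⟩ := st
    intro X hX a ha
    rw [runSteps] at ha
    split at ha
    · rw [forceNat_eq] at ha
      refine ih _ ?_ a ha
      intro a' ha'
      rw [List.mem_append, List.mem_singleton] at ha'
      rcases ha' with ha' | he
      · exact hX a' ha'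
      · obtain ⟨t1, ht1, e1⟩ := getD_code T X hX i
        obtain ⟨t2, ht2, e2⟩ := getD_code T X hX j
        exact ⟨t1 * t2, T.mul_mem ht1 ht2, by rw [he, ← mulP_cpk, e1, e2]⟩
    · rw [forceNat_eq] at ha
      split at ha
      · rename_i hcond
        rw [Bool.and_eq_true] at hcond
        obtain ⟨g, hg, hgc, hgi⟩ := exists_of_codeOK hcond.1
        obtain ⟨t1, ht1, e1⟩ := getD_code T X hX i
        obtain ⟨y, hy, hyc⟩ := hmem _ hcond.2
        have hr : mulP (mulP c (X.getD i idP)) (invP c) = cpk (g * t1 * g⁻¹) := by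
          rw [← hgi, ← e1, ← mulP_cpk, ← mulP_cpk, hgc]
        refine ih _ ?_ a ha
        intro a' ha'
        rw [List.mem_append, List.mem_singleton] at ha'
        rcases ha' with ha' | he
        · exact hX a' ha'
        · have hyg : y = g * t1 * g⁻¹ := cpk_injective (hyc.trans hr)
          refine ⟨g * t1 * g⁻¹, hT t1 ht1 g hg ?_, ?_⟩
          · rw [← hyg]; exact hy
          · rw [he]; exact hr.symm
      · exact ih X hX a ha

/-! ### The main criterion -/

theorem factorization_two_pow_mul {k m : ℕ} (hm : m % 2 = 1) : (2 ^ k * m).factorization 2 = k := by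
  have hm0 : m ≠ 0 := by rintro rfl; omega
  rw [Nat.factorization_mul (pow_ne_zero k (by norm_num)) hm0, Finsupp.add_apply,
    Nat.factorization_pow, Finsupp.smul_apply, Nat.Prime.factorization_self Nat.prime_two,
    Nat.factorization_eq_zero_of_not_dvd (by omega)]
  simp

/-- Simplicity of the `2`-fusion system of `stabM Inv` from a certificate: a chain of the right
length, generators `gensP` of a `2`-subgroup whose codes are listed in `LP`, a central involution
`zP` spanning the centre of this subgroup, fusion steps producing all the generators from `zP`, and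
a pruned enumeration showing that the subgroup is its own normaliser. -/
theorem mathieu_fusion_simple (Inv : List ℕ) (C : List (ℕ × ℕ × List (List ℕ)))
    (PC : List (ℕ × List (ℕ × ℕ))) (N k m : ℕ) (gensP LP : List ℕ) (par : List (ℕ × ℕ)) (zP : ℕ)
    (steps : List (ℕ × ℕ × ℕ)) (mem : ℕ → Bool)
    (hcard : Nat.card (stabM Inv) = N) (hN : N = 2 ^ k * m) (hm : m % 2 = 1)
    (hC : chainGen Inv C = true) (hprod : chainProd C = N) (hPC : prepack C = PC)
    (hgens : gensP.all (codeOK Inv) = true)
    (hinv : (gensP.all fun s => gensP.any fun s' => Nat.beq (mulP s s') idP) = true)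
    (hmemS : ∀ x, mem x = true → x ∈ LP) (hmemC : LP.all mem = true) (h1 : mem idP = true)
    (hcl : (LP.all fun a => gensP.all fun s => mem (mulP a s)) = true)
    (hbuild : buildL gensP par [idP] = LP) (hnd : nodupB LP = true) (hlen : LP.length = 2 ^ k)
    (hcen : (LP.all fun a => !(gensP.all fun s => Nat.beq (mulP a s) (mulP s a)) ||
      Nat.beq a idP || Nat.beq a zP) = true)
    (hz : mem zP = true) (hz1 : Nat.beq zP idP = false)
    (hzc : (gensP.all fun s => Nat.beq (mulP zP s) (mulP s zP)) = true)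
    (hsteps : (gensP.all fun s => (runSteps Inv mem steps [zP]).any (Nat.beq s)) = true)
    (henum : enumP (testZ zP) (leafQ gensP mem) PC [] [] [] = true)
    (S : Sylow 2 (stabM Inv)) :
    (Cfsg.groupFusionSystem (S : Subgroup (stabM Inv))).IsSimple 2 := by
  classical
  have hgen_mem : ∀ s ∈ gensP, ∃ g ∈ genSub gensP, cpk g = s := by
    intro s hs
    obtain ⟨g, _, hg1, _⟩ := exists_of_codeOK (List.all_eq_true.mp hgens s hs)
    refine ⟨g, Subgroup.subset_closure ?_, hg1⟩
    show cpk g ∈ gensP
    rw [hg1]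
    exact hs
  have hle : genSub gensP ≤ stabM Inv := genSub_le hgens
  have hF2 : ∀ g ∈ genSub gensP, cpk g ∈ LP := fun g hg =>
    cpk_mem_of_mem_genSub hgens hinv hmemS h1 hcl hg
  have hF3 : ∀ a ∈ LP, ∃ g ∈ genSub gensP, cpk g = a := by
    rw [← hbuild]
    refine buildL_sound gensP (genSub gensP) hgen_mem par [idP] ?_
    intro a ha
    rw [List.mem_singleton] at ha
    rw [ha]
    exact ⟨1, Subgroup.one_mem _, cpk_one⟩
  have hcardS : Nat.card (genSub gensP) = 2 ^ k := by
    rw [card_eq_length_of_codes (nodup_of_nodupB _ hnd) hF2 hF3, hlen]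
  have hfact : (Nat.card (stabM Inv)).factorization 2 = k := by
    rw [hcard, hN]
    exact factorization_two_pow_mul hm
  obtain ⟨z, hzS, hzP⟩ := hF3 zP (hmemS zP hz)
  have hz1' : z ≠ 1 := by
    intro h
    rw [h, cpk_one] at hzP
    rw [← hzP, Nat.beq_refl] at hz1
    exact absurd hz1 (by decide)
  have hzcomm : ∀ s ∈ genSub gensP, s * z = z * s := by
    intro s hs
    have hcle : genSub gensP ≤ Subgroup.centralizer {z} := by
      unfold genSub
      rw [Subgroup.closure_le]
      intro g hg
      rw [SetLike.mem_coe, Subgroup.mem_centralizer_iff]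
      intro y hy
      rw [Set.mem_singleton_iff] at hy
      rw [hy]
      apply cpk_injective
      rw [← mulP_cpk, ← mulP_cpk, hzP]
      exact Nat.eq_of_beq_eq_true (List.all_eq_true.mp hzc _ hg)
    exact (Subgroup.mem_centralizer_iff.1 (hcle hs) z rfl).symm
  have hcenter : ∀ c ∈ genSub gensP, (∀ s ∈ genSub gensP, s * c = c * s) → c = 1 ∨ c = z := by
    intro c hc hcc
    have h2 := List.all_eq_true.mp hcen (cpk c) (hF2 c hc)
    rw [Bool.or_eq_true, Bool.or_eq_true] at h2
    rcases h2 with (h2 | h2) | h2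
    · exfalso
      have h3 : (gensP.all fun s => Nat.beq (mulP (cpk c) s) (mulP s (cpk c))) = true := by
        rw [List.all_eq_true]
        intro s hs
        obtain ⟨g, hg, hgs⟩ := hgen_mem s hs
        rw [← hgs, mulP_cpk, mulP_cpk, ← hcc g hg]
        exact Nat.beq_refl _
      rw [h3] at h2
      exact absurd h2 (by decide)
    · left
      apply cpk_injective
      rw [cpk_one]
      exact Nat.eq_of_beq_eq_true h2
    · right
      apply cpk_injective
      rw [hzP]
      exact Nat.eq_of_beq_eq_true h2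
  have hSp : IsPGroup 2 (genSub gensP) := IsPGroup.of_card hcardS
  apply isSimple_groupFusion_of_closed_sub (stabM Inv) 2 (genSub gensP) hle
    (by rw [hcardS, hfact])
  · intro hbot
    rw [hbot, Subgroup.mem_bot] at hzS
    exact hz1' hzS
  · intro T hTS hT0 hTc
    obtain ⟨t, htT, ht1, htc⟩ := exists_central_of_normal hSp hTS hT0
      (fun s hs t ht => hTc t ht s (hle hs)
        ((genSub gensP).mul_mem ((genSub gensP).mul_mem hs (hTS ht)) ((genSub gensP).inv_mem hs)))
    have htz : t = z := (hcenter t (hTS htT) htc).resolve_left ht1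
    have hzT : z ∈ T := by rw [← htz]; exact htT
    have hall := runSteps_sound (Inv := Inv) (mem := mem) (genSub gensP) T
      (fun x hx => hF3 x (hmemS x hx)) hTc steps [zP] (by
        intro a ha
        rw [List.mem_singleton] at ha
        rw [ha]
        exact ⟨z, hzT, hzP⟩)
    unfold genSub
    rw [Subgroup.closure_le]
    intro g hg
    have h2 := List.all_eq_true.mp hsteps (cpk g) hg
    rw [List.any_eq_true] at h2
    obtain ⟨a, ha, hab⟩ := h2
    obtain ⟨t', ht', htc'⟩ := hall a ha
    have h3 : t' = g := cpk_injective (by rw [htc']; exact (Nat.eq_of_beq_eq_true hab).symm)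
    rw [SetLike.mem_coe, ← h3]
    exact ht'
  · intro g hg hgn
    have hgz : g * z = z * g := by
      have h2 : g * z * g⁻¹ ∈ genSub gensP := hgn z hzS
      have h3 : ∀ s ∈ genSub gensP, s * (g * z * g⁻¹) = (g * z * g⁻¹) * s := by
        intro s hs
        have h4 : g⁻¹ * s * g ∈ genSub gensP := by
          rw [conj_mem_iff_of_forall_conj_mem (genSub gensP) g hgn]
          have : g * (g⁻¹ * s * g) * g⁻¹ = s := by group
          rw [this]
          exact hs
        have h5 := hzcomm _ h4
        calc s * (g * z * g⁻¹) = g * ((g⁻¹ * s * g) * z) * g⁻¹ := by group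
          _ = g * (z * (g⁻¹ * s * g)) * g⁻¹ := by rw [h5]
          _ = (g * z * g⁻¹) * s := by group
      rcases hcenter _ h2 h3 with h5 | h5
      · exfalso
        apply hz1'
        have : z = g⁻¹ * (g * z * g⁻¹) * g := by group
        rw [this, h5]
        group
      · calc g * z = (g * z * g⁻¹) * g := by group
          _ = z * g := by rw [h5]
    have hzPk : IsPk z zP := by
      rw [← hzP]
      exact isPk_cpk z
    obtain ⟨w', wi', hw, hwi, hQ⟩ := enumP_sound
      (fun g => g * z = z * g ∧ ∀ x ∈ genSub gensP, g * x * g⁻¹ ∈ genSub gensP) (testZ zP)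
      (leafQ gensP mem) (fun g a bs w hP ha hbs => testZ_sound hzPk g a bs w hP.1 ha hbs) C Inv
      [] [] [] 1 isW_nil (by rw [inv_one]; exact isWL_nil) hC (by rw [hcard, hprod])
      (fun b hb => absurd hb List.not_mem_nil) (by rw [hPC]; exact henum) g hg
      (by rw [one_mul]; exact ⟨hgz, hgn⟩)
    rw [one_mul] at hw hwi
    unfold leafQ at hQ
    rw [Bool.or_eq_true] at hQ
    rcases hQ with hQ | hQ
    · exfalso
      have h2 : (gensP.all fun s => mem (cjW w' wi' s)) = true := by
        rw [List.all_eq_true]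
        intro s hs
        obtain ⟨x, hx, hxs⟩ := hgen_mem s hs
        rw [← hxs, cjW_eq hw hwi]
        exact List.all_eq_true.mp hmemC _ (hF2 _ (hgn x hx))
      rw [h2] at hQ
      exact absurd hQ (by decide)
    · rw [pkW_eq hw] at hQ
      obtain ⟨y, hy, hyc⟩ := hF3 _ (hmemS _ hQ)
      have h2 : y = g := cpk_injective hyc
      rw [h2] at hy
      exact ⟨g, hy, fun x _ => rfl⟩

/-! ### The five groups as stabilisers -/

open scoped Pointwise

theorem card_m24 : Nat.card (stabM []) = 244823040 := by
  rw [stabM_nil]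
  exact card_M24

theorem card_m23 : Nat.card (stabM [2 ^ 23]) = 10200960 := by
  rw [← card_stabilizer_point (pt 23)]
  symm
  apply card_sub_eq _ _ (stabM_le_M24 _)
  intro g
  rw [MulAction.mem_stabilizer_iff, mem_stabM_cons_pt (by norm_num), stabM_nil]
  constructor
  · intro h
    exact ⟨g.2, h⟩
  · rintro ⟨_, h⟩
    exact h

theorem card_m22 : Nat.card (stabM [2 ^ 0, 2 ^ 23]) = 443520 := by
  have hne : pt 0 ≠ pt 23 := by decide
  rw [← card_stabilizer_pair (pt 0) (pt 23) hne]
  symm
  apply card_sub_eq _ _ (stabM_le_M24 _)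
  intro g
  rw [Subgroup.mem_inf, MulAction.mem_stabilizer_iff, MulAction.mem_stabilizer_iff,
    mem_stabM_cons_pt (by norm_num), mem_stabM_cons_pt (by norm_num), stabM_nil]
  constructor
  · rintro ⟨h1, h2⟩
    exact ⟨⟨g.2, h2⟩, h1⟩
  · rintro ⟨⟨_, h2⟩, h1⟩
    exact ⟨h1, h2⟩

theorem m23_eq : Cfsg.Spor.M23 = stabM [2 ^ 23] := by
  have hpt : pt 23 = (none : GolayPt) := by decide
  ext g
  rw [mem_stabM_cons_pt (by norm_num), stabM_nil, hpt]
  unfold Cfsg.Spor.M23
  rw [Subgroup.mem_inf]
  exact Iff.rfl

theorem m22_eq : Cfsg.Spor.M22 = stabM [2 ^ 0, 2 ^ 23] := by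
  have hpt : pt 0 = (some 0 : GolayPt) := by decide
  ext g
  rw [mem_stabM_cons_pt (by norm_num), ← m23_eq, hpt]
  unfold Cfsg.Spor.M22
  rw [Subgroup.mem_inf]
  exact Iff.rfl

theorem m12_eq : Cfsg.Spor.M12 = stabM [d0] := by
  ext g
  unfold Cfsg.Spor.M12
  rw [Subgroup.mem_inf, MulAction.mem_stabilizer_iff, squareDodecad_eq, mem_stabM]
  constructor
  · rintro ⟨h1, h2⟩
    refine ⟨h1, fun m hm => ?_⟩
    rw [List.mem_singleton] at hm
    rw [hm]
    exact h2
  · rintro ⟨h1, h2⟩
    exact ⟨h1, h2 d0 List.mem_cons_self⟩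

theorem m11_eq : Cfsg.Spor.M11 = stabM [2 ^ 0, d0] := by
  have hpt : pt 0 = (some 0 : GolayPt) := by decide
  ext g
  rw [mem_stabM_cons_pt (by norm_num), ← m12_eq, hpt]
  unfold Cfsg.Spor.M11
  rw [Subgroup.mem_inf]
  exact Iff.rfl

/-- Transport of the conclusion along an equality of subgroups. -/
theorem simple_of_eq {H K : Subgroup (Equiv.Perm GolayPt)} (h : H = K)
    (hK : ∀ S : Sylow 2 K, (Cfsg.groupFusionSystem (S : Subgroup K)).IsSimple 2)
    (S : Sylow 2 H) : (Cfsg.groupFusionSystem (S : Subgroup H)).IsSimple 2 := by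
  subst h
  exact hK S

end Cfsg.Agent.Lib.helper25
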