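import Cfsg.Agent.Lib.helper25.MathieuFusion

set_option autoImplicit false

namespace Cfsg.Agent.Lib.helper25

open Cfsg Cfsg.Agent.Lib.helper28

/-! ### Tables of codes packed in a single number -/

/-- Entry `i` of a table of codes packed in 120-bit fields. -/
def slot (T i : ℕ) : ℕ :=
  Nat.land (Nat.shiftRight T (Nat.mul 120 i)) 1329227995784915872903807060280344575

/-- The list of the first `n` entries of a packed table of codes. -/
def LPl (T n : ℕ) : List ℕ := (List.range n).map (slot T)

theorem mem_LPl {T n a : ℕ} : a ∈ LPl T n ↔ ∃ i, i < n ∧ slot T i = a := by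
  unfold LPl
  rw [List.mem_map]
  constructor
  · rintro ⟨i, hi, h⟩
    exact ⟨i, List.mem_range.mp hi, h⟩
  · rintro ⟨i, hi, h⟩
    exact ⟨i, List.mem_range.mpr hi, h⟩

/-- Binary search in a packed table of increasing codes. -/
def bsearch (T x : ℕ) : ℕ → ℕ → ℕ → Bool
  | 0, _, _ => false
  | f + 1, lo, hi =>
    bif Nat.ble hi lo then false
    else forceNat (Nat.div (Nat.add lo hi) 2) fun mid => forceNat (slot T mid) fun v =>
      bif Nat.beq v x then true
      else bif Nat.blt v x then bsearch T x f (Nat.succ mid) hi else bsearch T x f lo mid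

theorem bsearch_sound (T x : ℕ) :
    ∀ (f lo hi : ℕ), bsearch T x f lo hi = true → ∃ i, i < hi ∧ slot T i = x := by
  intro f
  induction f with
  | zero => intro lo hi h; rw [bsearch] at h; exact absurd h (by decide)
  | succ f ih =>
    intro lo hi h
    rw [bsearch] at h
    cases hle : Nat.ble hi lo with
    | true => rw [hle, cond_true] at h; exact absurd h (by decide)
    | false =>
      rw [hle, cond_false, forceNat_eq, forceNat_eq] at h
      have hlt : lo < hi := by
        by_contra hcon
        rw [Nat.ble_eq_true_of_le (Nat.le_of_not_lt hcon)] at hle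
        exact absurd hle (by decide)
      have hmid : Nat.div (Nat.add lo hi) 2 < hi := by
        show (lo + hi) / 2 < hi
        omega
      cases hbeq : Nat.beq (slot T (Nat.div (Nat.add lo hi) 2)) x with
      | true => exact ⟨_, hmid, Nat.eq_of_beq_eq_true hbeq⟩
      | false =>
        rw [hbeq, cond_false] at h
        cases hblt : Nat.blt (slot T (Nat.div (Nat.add lo hi) 2)) x with
        | true =>
          rw [hblt, cond_true] at h
          exact ih _ _ h
        | false =>
          rw [hblt, cond_false] at h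
          obtain ⟨i, hi', hx⟩ := ih _ _ h
          exact ⟨i, lt_trans hi' hmid, hx⟩

/-- Membership in a packed table of increasing codes, by binary search with fuel `f`. -/
def memB (T n f : ℕ) (x : ℕ) : Bool := forceNat x fun x' => bsearch T x' f 0 n

theorem memB_sound {T n f x : ℕ} (h : memB T n f x = true) : x ∈ LPl T n := by
  unfold memB at h
  rw [forceNat_eq] at h
  exact mem_LPl.mpr (bsearch_sound T x f 0 n h)

/-- Test that the first `n` entries of a packed table are strictly increasing. -/
def sortedN (T n : ℕ) : Bool := allLt (fun i => Nat.blt (slot T i) (slot T (Nat.succ i))) (Nat.pred n)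

theorem nodup_LPl {T n : ℕ} (h : sortedN T n = true) : (LPl T n).Nodup := by
  have hadj : ∀ i, i + 1 < n → slot T i < slot T (i + 1) := by
    intro i hi
    have h1 := allLt_spec h i (by show i < n - 1; omega)
    have h2 : Nat.ble (slot T i + 1) (slot T (i + 1)) = true := h1
    exact Nat.le_of_ble_eq_true h2
  have hmono : ∀ j i, i < j → j < n → slot T i < slot T j := by
    intro j
    induction j with
    | zero => intro i hi _; omega
    | succ j ih =>
      intro i hi hj
      rcases Nat.lt_succ_iff_lt_or_eq.mp hi with h1 | h1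
      · exact lt_trans (ih i h1 (by omega)) (hadj j hj)
      · rw [h1]; exact hadj j hj
  unfold LPl
  apply List.Nodup.map_on _ List.nodup_range
  intro i hi j hj heq
  rw [List.mem_range] at hi hj
  by_contra hne
  rcases Nat.lt_or_gt_of_ne hne with h1 | h1
  · exact absurd heq (Nat.ne_of_lt (hmono j i h1 hj))
  · exact absurd heq.symm (Nat.ne_of_lt (hmono i j h1 hi))

/-- Entry `i` of a table packed in 32-bit fields. -/
def slot32 (T i : ℕ) : ℕ := Nat.land (Nat.shiftRight T (Nat.mul 32 i)) 4294967295

/-- Check that the code number `i` is the identity, or the product of a code of smaller depth and a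
generator; the entry `p + 2 ^ 10 * j + 2 ^ 15 * d` of `PT` gives the number `p` of the earlier
code, the number `j` of the generator, and the depth `d`. -/
def parOK (gensP : List ℕ) (T PT n : ℕ) (i : ℕ) : Bool :=
  forceNat (slot T i) fun a =>
    bif Nat.beq a idP then true
    else forceNat (slot32 PT i) fun e => forceNat (Nat.land e 1023) fun p =>
      Nat.blt p n && Nat.blt (Nat.shiftRight (slot32 PT p) 15) (Nat.shiftRight e 15) &&
        Nat.beq (mulP (slot T p) (gensP.getD (Nat.land (Nat.shiftRight e 10) 31) idP)) a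

theorem parOK_sound (gensP : List ℕ) (K : Subgroup (Equiv.Perm GolayPt))
    (hg : ∀ s ∈ gensP, ∃ g ∈ K, cpk g = s) (T PT n : ℕ)
    (h : ∀ i, i < n → parOK gensP T PT n i = true) :
    ∀ (D i : ℕ), i < n → Nat.shiftRight (slot32 PT i) 15 ≤ D → ∃ g ∈ K, cpk g = slot T i := by
  have key : ∀ (D : ℕ), (∀ p, p < n → Nat.shiftRight (slot32 PT p) 15 < D →
      ∃ g ∈ K, cpk g = slot T p) → ∀ i, i < n → Nat.shiftRight (slot32 PT i) 15 ≤ D →
      ∃ g ∈ K, cpk g = slot T i := by
    intro D ih i hi hd
    have h1 := h i hi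
    unfold parOK at h1
    rw [forceNat_eq] at h1
    cases hid : Nat.beq (slot T i) idP with
    | true =>
      rw [Nat.eq_of_beq_eq_true hid]
      exact ⟨1, K.one_mem, cpk_one⟩
    | false =>
      rw [hid, cond_false, forceNat_eq, forceNat_eq, Bool.and_eq_true, Bool.and_eq_true] at h1
      obtain ⟨⟨hp, hdp⟩, hmul⟩ := h1
      have hp' : Nat.land (slot32 PT i) 1023 < n := Nat.le_of_ble_eq_true hp
      have hdp' : Nat.shiftRight (slot32 PT (Nat.land (slot32 PT i) 1023)) 15 <
          Nat.shiftRight (slot32 PT i) 15 := Nat.le_of_ble_eq_true hdp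
      obtain ⟨g1, hg1, e1⟩ := ih _ hp' (lt_of_lt_of_le hdp' hd)
      obtain ⟨g2, hg2, e2⟩ := getD_code K gensP hg
        (Nat.land (Nat.shiftRight (slot32 PT i) 10) 31)
      refine ⟨g1 * g2, K.mul_mem hg1 hg2, ?_⟩
      rw [← mulP_cpk, e1, e2]
      exact Nat.eq_of_beq_eq_true hmul
  intro D
  induction D with
  | zero =>
    exact key 0 (fun p _ hp => absurd hp (Nat.not_lt_zero _))
  | succ D ih =>
    exact key (D + 1) (fun p hp hpd => ih p hp (Nat.lt_succ_iff.mp hpd))

/-! ### Pruned enumeration with symmetry witnesses -/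

/-- Forget the symmetry witnesses of a pre-packed chain. -/
def strip (PC : List (ℕ × List (ℕ × ℕ × ℕ))) : List (ℕ × List (ℕ × ℕ)) :=
  PC.map fun c => (c.1, c.2.map fun e => (e.1, e.2.1))

theorem strip_cons (b : ℕ) (U : List (ℕ × ℕ × ℕ)) (rest : List (ℕ × List (ℕ × ℕ × ℕ))) :
    strip ((b, U) :: rest) = (b, U.map fun e => (e.1, e.2.1)) :: strip rest := rfl

/-- Check of a symmetry witness `s` for the branch `u` at a node: it passes the membership test,
fixes the images of the earlier base points, and maps the image of the base point `b` under the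
branch to its image under a branch marked for exploration. -/
def symOK (mem : ℕ → Bool) (bs w : List ℕ) (b : ℕ) (U : List (ℕ × ℕ × ℕ)) (u s : ℕ) : Bool :=
  mem s && (bs.all fun b' => forceNat (entR w b') fun p => Nat.beq (look5 s p) p) &&
    forceNat (look5 s (entR w (look5 u b))) fun t =>
      U.any fun e' => Nat.beq e'.2.2 0 && Nat.beq (entR w (look5 e'.1 b)) t

/-- Pruned enumeration along a pre-packed chain with symmetry witnesses: a branch `(u, u⁻¹, s)` is
explored if `s = 0`, and otherwise `s` has to be a valid symmetry witness. -/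
def enumS (test : List ℕ → List ℕ → Bool) (Q : List ℕ → List ℕ → Bool) (mem : ℕ → Bool) :
    List (ℕ × List (ℕ × ℕ × ℕ)) → List ℕ → List ℕ → List ℕ → Bool
  | [], _, w, wi => Q w wi
  | (b, U) :: rest, bs, w, wi =>
      U.all fun e => !(test (b :: bs) (e.1 :: w)) ||
        (bif Nat.beq e.2.2 0 then enumS test Q mem rest (b :: bs) (e.1 :: w) (e.2.1 :: wi)
         else symOK mem bs w b U e.1 e.2.2)

theorem enumS_sound (S₀ : Subgroup (Equiv.Perm GolayPt)) (Inv₀ : List ℕ) (hS₀ : S₀ ≤ stabM Inv₀)
    (P R : Equiv.Perm GolayPt → Prop) (test Q : List ℕ → List ℕ → Bool) (mem : ℕ → Bool)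
    (hmem : ∀ x, mem x = true → ∃ y ∈ S₀, cpk y = x)
    (hPinv : ∀ σ ∈ S₀, ∀ g, P g → P (σ * g))
    (hRinv : ∀ σ ∈ S₀, ∀ g, R (σ * g) → R g)
    (htest : ∀ (g a : Equiv.Perm GolayPt) (bs w : List ℕ), P g → IsW a w →
      (∀ b ∈ bs, b < 24 ∧ g (pt b) = a (pt b)) → test bs w = true)
    (hQ : ∀ (g : Equiv.Perm GolayPt) (w wi : List ℕ), P g → IsW g w → IsWL g⁻¹ wi →
      Q w wi = true → R g)
    (C : List (ℕ × ℕ × List (List ℕ))) :
    ∀ (PC : List (ℕ × List (ℕ × ℕ × ℕ))) (Inv bs w wi : List ℕ) (a : Equiv.Perm GolayPt),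
      strip PC = prepack C → IsW a w → IsWL a⁻¹ wi → a ∈ stabM Inv₀ →
      chainGen Inv C = true → Nat.card (stabM Inv) ≤ chainProd C → (∀ b ∈ bs, b < 24) →
      (∀ x, x ∈ stabM Inv ↔ x ∈ stabM Inv₀ ∧ ∀ b ∈ bs, x (pt b) = pt b) →
      enumS test Q mem PC bs w wi = true →
      ∀ h ∈ stabM Inv, P (a * h) → R (a * h) := by
  induction C with
  | nil =>
    intro PC Inv bs w wi a hstrip ha hai _ _ hcard _ _ hE h hh hP
    rw [chainProd] at hcard
    have hbot : stabM Inv = ⊥ := Subgroup.eq_bot_of_card_le _ hcard
    rw [hbot, Subgroup.mem_bot] at hh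
    cases PC with
    | cons c PC' => rw [strip, List.map_cons, prepack_nil] at hstrip; exact absurd hstrip (by simp)
    | nil =>
      rw [enumS] at hE
      rw [hh, mul_one] at hP ⊢
      exact hQ a w wi hP ha hai hE
  | cons c rest ih =>
    obtain ⟨b, E, U⟩ := c
    intro PC Inv bs w wi a hstrip ha hai haH hC hcard hbs hInv hE h hh hP
    cases PC with
    | nil => rw [strip, List.map_nil, prepack_cons] at hstrip; exact absurd hstrip (by simp)
    | cons c' PC' =>
    obtain ⟨b', U'⟩ := c'
    rw [strip_cons, prepack_cons, List.cons.injEq, Prod.mk.injEq] at hstrip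
    obtain ⟨⟨hbb, hU'⟩, hstrip'⟩ := hstrip
    have hbb' : b = b' := hbb.symm
    subst hbb'
    obtain ⟨hcard', horb⟩ := chain_step_card hC hcard
    rw [chainGen] at hC
    simp only [Bool.and_eq_true, decide_eq_true_eq] at hC
    obtain ⟨⟨⟨hb, hE'⟩, hU⟩, hrest⟩ := hC
    rw [enumS, List.all_eq_true] at hE
    have hUin : ∀ l ∈ U, tabIn Inv l = true := by
      unfold levOK at hU
      rw [Bool.and_eq_true] at hU
      exact fun l hl => List.all_eq_true.mp hU.1 l hl
    -- the entry of a table
    have hentry : ∀ l ∈ U, ∃ e ∈ U', e.1 = pack l ∧ e.2.1 = pack (invTab l) := by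
      intro l hl
      have h1 : (pack l, pack (invTab l)) ∈ U'.map fun e => (e.1, e.2.1) := by
        rw [hU']
        exact List.mem_map_of_mem (f := fun l => (pack l, pack (invTab l))) hl
      rw [List.mem_map] at h1
      obtain ⟨e, he, h2⟩ := h1
      rw [Prod.mk.injEq] at h2
      exact ⟨e, he, h2.1, h2.2⟩
    -- the table of an entry
    have htable : ∀ e ∈ U', ∃ l ∈ U, e.1 = pack l ∧ e.2.1 = pack (invTab l) := by
      intro e he
      have h1 : (e.1, e.2.1) ∈ U.map fun l => (pack l, pack (invTab l)) := by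
        rw [← hU']
        exact List.mem_map_of_mem (f := fun e : ℕ × ℕ × ℕ => (e.1, e.2.1)) he
      rw [List.mem_map] at h1
      obtain ⟨l, hl, h2⟩ := h1
      rw [Prod.mk.injEq] at h2
      exact ⟨l, hl, h2.1.symm, h2.2.symm⟩
    have hInv' : ∀ x, x ∈ stabM (2 ^ b :: Inv) ↔
        x ∈ stabM Inv₀ ∧ ∀ b'' ∈ b :: bs, x (pt b'') = pt b'' := by
      intro x
      rw [mem_stabM_cons_pt hb, hInv x]
      constructor
      · rintro ⟨⟨h1, h2⟩, h3⟩
        refine ⟨h1, fun b'' hb'' => ?_⟩
        rcases List.mem_cons.mp hb'' with h4 | h4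
        · rw [h4]; exact h3
        · exact h2 b'' h4
      · rintro ⟨h1, h2⟩
        exact ⟨⟨h1, fun b'' hb'' => h2 b'' (List.mem_cons_of_mem _ hb'')⟩,
          h2 b List.mem_cons_self⟩
    have hbs' : ∀ b'' ∈ b :: bs, b'' < 24 := by
      intro b'' hb''
      rcases List.mem_cons.mp hb'' with h4 | h4
      · rw [h4]; exact hb
      · exact hbs b'' h4
    -- the claim for an explored branch
    have hexp : ∀ l ∈ U, ∀ e ∈ U', e.1 = pack l → e.2.1 = pack (invTab l) → Nat.beq e.2.2 0 = true →
        ∀ u ∈ stabM Inv, IsTable u l → ∀ h' ∈ stabM (2 ^ b :: Inv), P (a * u * h') →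
          R (a * u * h') := by
      intro l hl e he he1 he2 he3 u hu hul h' hh' hP'
      have hq := hE e he
      have haw : IsW (a * u) (pack l :: w) := isW_cons ha (isPk_pack hul)
      have ht : test (b :: bs) (e.1 :: w) = true := by
        rw [he1]
        apply htest (a * u * h') (a * u) _ _ hP' haw
        intro b'' hb''
        refine ⟨hbs' b'' hb'', ?_⟩
        show (a * u) (h' (pt b'')) = (a * u) (pt b'')
        rw [((hInv' h').mp hh').2 b'' hb'']
      rw [ht, Bool.not_true, Bool.false_or, he3, cond_true, he1, he2] at hq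
      have haiw : IsWL (a * u)⁻¹ (pack (invTab l) :: wi) := by
        rw [mul_inv_rev]
        exact isWL_cons hai (isPk_pack (isTable_invTab (tabGood_of_tabIn (hUin l hl)) hul))
      exact ih PC' (2 ^ b :: Inv) (b :: bs) (pack l :: w) (pack (invTab l) :: wi) (a * u) hstrip'
        haw haiw ((stabM Inv₀).mul_mem haH ((hInv u).mp hu).1) hrest hcard' hbs' hInv' hq h' hh' hP'
    -- the element
    obtain ⟨l, hl, u, hu, hul, hub⟩ := levOK_sound hb hU (h (pt b)) (horb h hh)
    have hh' : u⁻¹ * h ∈ stabM (2 ^ b :: Inv) := by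
      rw [mem_stabM_cons_pt hb]
      refine ⟨(stabM Inv).mul_mem ((stabM Inv).inv_mem hu) hh, ?_⟩
      show u⁻¹ (h (pt b)) = pt b
      rw [← hub]; simp
    have hmul : a * u * (u⁻¹ * h) = a * h := by group
    obtain ⟨e, he, he1, he2⟩ := hentry l hl
    cases he3 : Nat.beq e.2.2 0 with
    | true =>
      have := hexp l hl e he he1 he2 he3 u hu hul (u⁻¹ * h) hh' (by rw [hmul]; exact hP)
      rw [hmul] at this
      exact this
    | false =>
      have hq := hE e he
      have haw : IsW (a * u) (pack l :: w) := isW_cons ha (isPk_pack hul)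
      have ht : test (b :: bs) (e.1 :: w) = true := by
        rw [he1]
        apply htest (a * h) (a * u) _ _ hP haw
        intro b'' hb''
        refine ⟨hbs' b'' hb'', ?_⟩
        rcases List.mem_cons.mp hb'' with h4 | h4
        · show a (h (pt b'')) = a (u (pt b''))
          rw [h4, hub]
        · show a (h (pt b'')) = a (u (pt b''))
          rw [((hInv h).mp hh).2 b'' h4, ((hInv u).mp hu).2 b'' h4]
      rw [ht, Bool.not_true, Bool.false_or, he3, cond_false] at hq
      unfold symOK at hq
      rw [forceNat_eq, Bool.and_eq_true, Bool.and_eq_true] at hq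
      obtain ⟨⟨hms, hfix⟩, htgt⟩ := hq
      obtain ⟨σ, hσ, hσc⟩ := hmem _ hms
      have hσpk : IsPk σ e.2.2 := by rw [← hσc]; exact isPk_cpk σ
      -- σ fixes the images of the earlier base points
      have hσfix : ∀ b'' ∈ bs, σ (a (pt b'')) = a (pt b'') := by
        intro b'' hb''
        have h1 := List.all_eq_true.mp hfix b'' hb''
        rw [forceNat_eq, ha b'' (hbs b'' hb''), hσpk _ (idx_lt _), pt_idx] at h1
        exact idx_injective (Nat.eq_of_beq_eq_true h1)
      rw [List.any_eq_true] at htgt
      obtain ⟨e', he', htgt'⟩ := htgt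
      rw [Bool.and_eq_true] at htgt'
      obtain ⟨he'3, himg⟩ := htgt'
      obtain ⟨l', hl', he'1, he'2⟩ := htable e' he'
      obtain ⟨u', hu', hul'⟩ := tabIn_spec (hUin l' hl')
      have himg' : a (u' (pt b)) = σ (a (u (pt b))) := by
        have h1 := Nat.eq_of_beq_eq_true himg
        rw [he'1, he1, isPk_pack hul' b hb, isPk_pack hul b hb, ha _ (idx_lt _), ha _ (idx_lt _),
          pt_idx, pt_idx, hσpk _ (idx_lt _), pt_idx] at h1
        exact idx_injective h1
      -- the element σ * (a * h)
      have hh'' : (a * u')⁻¹ * (σ * (a * h)) ∈ stabM (2 ^ b :: Inv) := by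
        rw [hInv']
        refine ⟨(stabM Inv₀).mul_mem ((stabM Inv₀).inv_mem
          ((stabM Inv₀).mul_mem haH ((hInv u').mp hu').1))
          ((stabM Inv₀).mul_mem (hS₀ hσ) ((stabM Inv₀).mul_mem haH ((hInv h).mp hh).1)), ?_⟩
        intro b'' hb''
        show (a * u')⁻¹ (σ (a (h (pt b'')))) = pt b''
        rw [Equiv.Perm.inv_eq_iff_eq]
        show σ (a (h (pt b''))) = a (u' (pt b''))
        rcases List.mem_cons.mp hb'' with h4 | h4
        · rw [h4, ← hub, himg']
        · rw [((hInv h).mp hh).2 b'' h4, ((hInv u').mp hu').2 b'' h4, hσfix b'' h4]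
      have hmul' : a * u' * ((a * u')⁻¹ * (σ * (a * h))) = σ * (a * h) := by group
      have := hexp l' hl' e' he' he'1 he'2 he'3 u' hu' hul' _ hh''
        (by rw [hmul']; exact hPinv σ hσ _ hP)
      rw [hmul'] at this
      exact hRinv σ hσ _ this

/-- Pruning test for elements commuting with the involution with code `zP`: the image of a base
point and the image of its partner correspond; fixed points go to fixed points and moved points to
moved points. -/
def testZ2 (zP : ℕ) : List ℕ → List ℕ → Bool
  | [], _ => true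
  | b :: bs, w => forceNat (look5 zP b) fun c => forceNat (entR w b) fun q =>
      bif bs.any (Nat.beq c) then Nat.beq (entR w c) (look5 zP q)
      else bif Nat.beq c b then Nat.beq (look5 zP q) q
      else !(Nat.beq (look5 zP q) q)

theorem testZ2_sound {z : Equiv.Perm GolayPt} {zP : ℕ} (hz : IsPk z zP)
    (g a : Equiv.Perm GolayPt) (bs w : List ℕ) (hP : g * z = z * g) (ha : IsW a w)
    (hbs : ∀ b ∈ bs, b < 24 ∧ g (pt b) = a (pt b)) : testZ2 zP bs w = true := by
  cases bs with
  | nil => rfl
  | cons b bs =>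
    rw [testZ2, forceNat_eq, forceNat_eq]
    have hb := hbs b List.mem_cons_self
    have hcomm : ∀ p, g (z p) = z (g p) := fun p =>
      congrArg (fun f : Equiv.Perm GolayPt => f p) hP
    have hq : look5 zP (entR w b) = idx (z (g (pt b))) := by
      rw [ha b hb.1, hz _ (idx_lt _), pt_idx, hb.2]
    cases hany : bs.any (Nat.beq (look5 zP b)) with
    | true =>
      rw [cond_true]
      rw [List.any_eq_true] at hany
      obtain ⟨c, hc, hcb⟩ := hany
      have hcb' : look5 zP b = c := Nat.eq_of_beq_eq_true hcb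
      have hc' := hbs c (List.mem_cons_of_mem _ hc)
      have h1 : pt c = z (pt b) := by rw [← hcb', hz b hb.1, pt_idx]
      rw [hq, hcb', ha c hc'.1, ← hc'.2, h1, hcomm]
      exact Nat.beq_refl _
    | false =>
      rw [cond_false]
      cases hcb : Nat.beq (look5 zP b) b with
      | true =>
        rw [cond_true, hq, ha b hb.1, ← hb.2]
        have h1 : z (pt b) = pt b := by
          have h2 : look5 zP b = b := Nat.eq_of_beq_eq_true hcb
          rw [hz b hb.1] at h2
          rw [← pt_idx (z (pt b)), h2]
        rw [← hcomm, h1]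
        exact Nat.beq_refl _
      | false =>
        rw [cond_false, hq, ha b hb.1, ← hb.2]
        cases h3 : Nat.beq (idx (z (g (pt b)))) (idx (g (pt b))) with
        | false => rfl
        | true =>
          exfalso
          have h4 : z (g (pt b)) = g (pt b) := idx_injective (Nat.eq_of_beq_eq_true h3)
          rw [← hcomm] at h4
          have h5 : z (pt b) = pt b := g.injective h4
          have h6 : look5 zP b = b := by rw [hz b hb.1, h5, idx_pt hb.1]
          rw [h6, Nat.beq_refl] at hcb
          exact absurd hcb (by decide)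

/-! ### The criterion, second form -/

theorem gen_mem_genSub {Inv gensP : List ℕ} (hgens : gensP.all (codeOK Inv) = true) :
    ∀ s ∈ gensP, ∃ g ∈ genSub gensP, cpk g = s := by
  intro s hs
  obtain ⟨g, _, hg1, _⟩ := exists_of_codeOK (List.all_eq_true.mp hgens s hs)
  refine ⟨g, Subgroup.subset_closure ?_, hg1⟩
  show cpk g ∈ gensP
  rw [hg1]
  exact hs

/-- The core of the criterion: the list `LP` is the list of the codes of the elements of the
subgroup generated by `gensP`, and the normaliser condition is given abstractly. -/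
theorem fusion_simple_core (Inv : List ℕ) (gensP LP : List ℕ) (k : ℕ) (zP : ℕ)
    (steps : List (ℕ × ℕ × ℕ)) (mem : ℕ → Bool)
    (hfact : (Nat.card (stabM Inv)).factorization 2 = k)
    (hgens : gensP.all (codeOK Inv) = true)
    (hmemS : ∀ x, mem x = true → x ∈ LP)
    (hF2 : ∀ g ∈ genSub gensP, cpk g ∈ LP)
    (hF3 : ∀ a ∈ LP, ∃ g ∈ genSub gensP, cpk g = a)
    (hnd : LP.Nodup) (hlen : LP.length = 2 ^ k)
    (hcen : ∀ a ∈ LP, (!(gensP.all fun s => Nat.beq (mulP a s) (mulP s a)) ||
      Nat.beq a idP || Nat.beq a zP) = true)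
    (hz : mem zP = true) (hz1 : Nat.beq zP idP = false)
    (hzc : (gensP.all fun s => Nat.beq (mulP zP s) (mulP s zP)) = true)
    (hsteps : (gensP.all fun s => (runSteps Inv mem steps [zP]).any (Nat.beq s)) = true)
    (hnorm : ∀ z : Equiv.Perm GolayPt, cpk z = zP → z ∈ genSub gensP →
      (∀ s ∈ genSub gensP, s * z = z * s) → ∀ g ∈ stabM Inv, g * z = z * g →
      (∀ x ∈ genSub gensP, g * x * g⁻¹ ∈ genSub gensP) → g ∈ genSub gensP)
    (S : Sylow 2 (stabM Inv)) :
    (Cfsg.groupFusionSystem (S : Subgroup (stabM Inv))).IsSimple 2 := by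
  classical
  have hgen_mem := gen_mem_genSub hgens
  have hle : genSub gensP ≤ stabM Inv := genSub_le hgens
  have hcardS : Nat.card (genSub gensP) = 2 ^ k := by
    rw [card_eq_length_of_codes hnd hF2 hF3, hlen]
  obtain ⟨z, hzS, hzP⟩ := hF3 zP (hmemS zP hz)
  have hz1' : z ≠ 1 := by
    intro h
    rw [h, cpk_one] at hzP
    rw [← hzP, Nat.beq_refl] at hz1
    exact absurd hz1 (by decide)
  have hzcomm : ∀ s ∈ genSub gensP, s * z = z * s := by
    intro s hs
    have hcle : genSub gensP ≤ Subgroup.centralizer {z} := by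
      unfold genSub
      rw [Subgroup.closure_le]
      intro g hg
      rw [SetLike.mem_coe, Subgroup.mem_centralizer_iff]
      intro y hy
      rw [Set.mem_singleton_iff] at hy
      rw [hy]
      apply cpk_injective
      rw [← mulP_cpk, ← mulP_cpk, hzP]
      exact Nat.eq_of_beq_eq_true (List.all_eq_true.mp hzc _ hg)
    exact (Subgroup.mem_centralizer_iff.1 (hcle hs) z rfl).symm
  have hcenter : ∀ c ∈ genSub gensP, (∀ s ∈ genSub gensP, s * c = c * s) → c = 1 ∨ c = z := by
    intro c hc hcc
    have h2 := hcen (cpk c) (hF2 c hc)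
    rw [Bool.or_eq_true, Bool.or_eq_true] at h2
    rcases h2 with (h2 | h2) | h2
    · exfalso
      have h3 : (gensP.all fun s => Nat.beq (mulP (cpk c) s) (mulP s (cpk c))) = true := by
        rw [List.all_eq_true]
        intro s hs
        obtain ⟨g, hg, hgs⟩ := hgen_mem s hs
        rw [← hgs, mulP_cpk, mulP_cpk, ← hcc g hg]
        exact Nat.beq_refl _
      rw [h3] at h2
      exact absurd h2 (by decide)
    · left
      apply cpk_injective
      rw [cpk_one]
      exact Nat.eq_of_beq_eq_true h2
    · right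
      apply cpk_injective
      rw [hzP]
      exact Nat.eq_of_beq_eq_true h2
  have hSp : IsPGroup 2 (genSub gensP) := IsPGroup.of_card hcardS
  apply isSimple_groupFusion_of_closed_sub (stabM Inv) 2 (genSub gensP) hle
    (by rw [hcardS, hfact])
  · intro hbot
    rw [hbot, Subgroup.mem_bot] at hzS
    exact hz1' hzS
  · intro T hTS hT0 hTc
    obtain ⟨t, htT, ht1, htc⟩ := exists_central_of_normal hSp hTS hT0
      (fun s hs t ht => hTc t ht s (hle hs)
        ((genSub gensP).mul_mem ((genSub gensP).mul_mem hs (hTS ht)) ((genSub gensP).inv_mem hs)))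
    have htz : t = z := (hcenter t (hTS htT) htc).resolve_left ht1
    have hzT : z ∈ T := by rw [← htz]; exact htT
    have hall := runSteps_sound (Inv := Inv) (mem := mem) (genSub gensP) T
      (fun x hx => hF3 x (hmemS x hx)) hTc steps [zP] (by
        intro a ha
        rw [List.mem_singleton] at ha
        rw [ha]
        exact ⟨z, hzT, hzP⟩)
    unfold genSub
    rw [Subgroup.closure_le]
    intro g hg
    have h2 := List.all_eq_true.mp hsteps (cpk g) hg
    rw [List.any_eq_true] at h2
    obtain ⟨a, ha, hab⟩ := h2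
    obtain ⟨t', ht', htc'⟩ := hall a ha
    have h3 : t' = g := cpk_injective (by rw [htc']; exact (Nat.eq_of_beq_eq_true hab).symm)
    rw [SetLike.mem_coe, ← h3]
    exact ht'
  · intro g hg hgn
    have hgz : g * z = z * g := by
      have h2 : g * z * g⁻¹ ∈ genSub gensP := hgn z hzS
      have h3 : ∀ s ∈ genSub gensP, s * (g * z * g⁻¹) = (g * z * g⁻¹) * s := by
        intro s hs
        have h4 : g⁻¹ * s * g ∈ genSub gensP := by
          rw [conj_mem_iff_of_forall_conj_mem (genSub gensP) g hgn]
          have : g * (g⁻¹ * s * g) * g⁻¹ = s := by group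
          rw [this]
          exact hs
        have h5 := hzcomm _ h4
        calc s * (g * z * g⁻¹) = g * ((g⁻¹ * s * g) * z) * g⁻¹ := by group
          _ = g * (z * (g⁻¹ * s * g)) * g⁻¹ := by rw [h5]
          _ = (g * z * g⁻¹) * s := by group
      rcases hcenter _ h2 h3 with h5 | h5
      · exfalso
        apply hz1'
        have : z = g⁻¹ * (g * z * g⁻¹) * g := by group
        rw [this, h5]
        group
      · calc g * z = (g * z * g⁻¹) * g := by group
          _ = z * g := by rw [h5]
    exact ⟨g, hnorm z hzP hzS hzcomm g hg hgz hgn, fun x _ => rfl⟩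

/-- The criterion with the codes of the subgroup in a packed increasing table `T` with `n`
entries, parents in the packed table `PT`, and symmetry witnesses in the enumeration. -/
theorem mathieu_fusion_simple2 (Inv : List ℕ) (C : List (ℕ × ℕ × List (List ℕ)))
    (PC : List (ℕ × List (ℕ × ℕ × ℕ))) (N k m : ℕ) (gensP : List ℕ) (T PT n f : ℕ) (zP : ℕ)
    (steps : List (ℕ × ℕ × ℕ))
    (hcard : Nat.card (stabM Inv) = N) (hN : N = 2 ^ k * m) (hm : m % 2 = 1)
    (hC : chainGen Inv C = true) (hprod : chainProd C = N) (hPC : strip PC = prepack C)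
    (hgens : gensP.all (codeOK Inv) = true)
    (hinv : (gensP.all fun s => gensP.any fun s' => Nat.beq (mulP s s') idP) = true)
    (hn : n = 2 ^ k)
    (hmemC : allLt (fun i => memB T n f (slot T i)) n = true)
    (h1 : memB T n f idP = true)
    (hcl : allLt (fun i => forceNat (slot T i) fun a =>
      gensP.all fun s => memB T n f (mulP a s)) n = true)
    (hpar : allLt (parOK gensP T PT n) n = true)
    (hsort : sortedN T n = true)
    (hcen : allLt (fun i => forceNat (slot T i) fun a =>
      !(gensP.all fun s => Nat.beq (mulP a s) (mulP s a)) || Nat.beq a idP || Nat.beq a zP) n =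
        true)
    (hz : memB T n f zP = true) (hz1 : Nat.beq zP idP = false)
    (hzc : (gensP.all fun s => Nat.beq (mulP zP s) (mulP s zP)) = true)
    (hsteps : (gensP.all fun s => (runSteps Inv (memB T n f) steps [zP]).any (Nat.beq s)) = true)
    (henum : enumS (testZ2 zP) (leafQ gensP (memB T n f)) (memB T n f) PC [] [] [] = true)
    (S : Sylow 2 (stabM Inv)) :
    (Cfsg.groupFusionSystem (S : Subgroup (stabM Inv))).IsSimple 2 := by
  have hgen_mem := gen_mem_genSub hgens
  have hmemS : ∀ x, memB T n f x = true → x ∈ LPl T n := fun x hx => memB_sound hx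
  have hmemC' : ∀ a ∈ LPl T n, memB T n f a = true := by
    intro a ha
    obtain ⟨i, hi, hia⟩ := mem_LPl.mp ha
    rw [← hia]
    exact allLt_spec hmemC i hi
  have hcl' : ((LPl T n).all fun a => gensP.all fun s => memB T n f (mulP a s)) = true := by
    rw [List.all_eq_true]
    intro a ha
    obtain ⟨i, hi, hia⟩ := mem_LPl.mp ha
    have h2 := allLt_spec hcl i hi
    rw [forceNat_eq, hia] at h2
    exact h2
  have hF2 : ∀ g ∈ genSub gensP, cpk g ∈ LPl T n := fun g hg =>
    cpk_mem_of_mem_genSub hgens hinv hmemS h1 hcl' hg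
  have hF3 : ∀ a ∈ LPl T n, ∃ g ∈ genSub gensP, cpk g = a := by
    intro a ha
    obtain ⟨i, hi, hia⟩ := mem_LPl.mp ha
    rw [← hia]
    exact parOK_sound gensP (genSub gensP) hgen_mem T PT n (fun i hi => allLt_spec hpar i hi) _ i
      hi le_rfl
  have hlen : (LPl T n).length = 2 ^ k := by
    unfold LPl
    rw [List.length_map, List.length_range, hn]
  have hfact : (Nat.card (stabM Inv)).factorization 2 = k := by
    rw [hcard, hN]
    exact factorization_two_pow_mul hm
  have hle : genSub gensP ≤ stabM Inv := genSub_le hgens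
  apply fusion_simple_core Inv gensP (LPl T n) k zP steps (memB T n f) hfact hgens hmemS hF2 hF3
    (nodup_LPl hsort) hlen ?_ hz hz1 hzc hsteps ?_ S
  · intro a ha
    obtain ⟨i, hi, hia⟩ := mem_LPl.mp ha
    have h2 := allLt_spec hcen i hi
    rw [forceNat_eq, hia] at h2
    exact h2
  · intro z hzP hzS hzcomm g hg hgz hgn
    have hzPk : IsPk z zP := by
      rw [← hzP]
      exact isPk_cpk z
    have key := enumS_sound (genSub gensP) Inv hle
      (fun g => g * z = z * g ∧ ∀ x ∈ genSub gensP, g * x * g⁻¹ ∈ genSub gensP)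
      (fun g => g ∈ genSub gensP) (testZ2 zP) (leafQ gensP (memB T n f)) (memB T n f)
      (fun x hx => hF3 x (hmemS x hx))
      (by
        rintro σ hσ g ⟨h2, h3⟩
        refine ⟨?_, fun x hx => ?_⟩
        · rw [mul_assoc, h2, ← mul_assoc, hzcomm σ hσ, mul_assoc]
        · have h4 : σ * g * x * (σ * g)⁻¹ = σ * (g * x * g⁻¹) * σ⁻¹ := by group
          rw [h4]
          exact (genSub gensP).mul_mem ((genSub gensP).mul_mem hσ (h3 x hx))
            ((genSub gensP).inv_mem hσ))
      (by
        intro σ hσ g h2
        have h3 : g = σ⁻¹ * (σ * g) := by group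
        rw [h3]
        exact (genSub gensP).mul_mem ((genSub gensP).inv_mem hσ) h2)
      (fun g a bs w hP ha hbs => testZ2_sound hzPk g a bs w hP.1 ha hbs)
      (by
        intro g w wi hP hw hwi hQ
        unfold leafQ at hQ
        rw [Bool.or_eq_true] at hQ
        rcases hQ with hQ | hQ
        · exfalso
          have h2 : (gensP.all fun s => memB T n f (cjW w wi s)) = true := by
            rw [List.all_eq_true]
            intro s hs
            obtain ⟨x, hx, hxs⟩ := hgen_mem s hs
            rw [← hxs, cjW_eq hw hwi]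
            exact hmemC' _ (hF2 _ (hP.2 x hx))
          rw [h2] at hQ
          exact absurd hQ (by decide)
        · rw [pkW_eq hw] at hQ
          obtain ⟨y, hy, hyc⟩ := hF3 _ (hmemS _ hQ)
          have h2 : y = g := cpk_injective hyc
          rw [h2] at hy
          exact hy)
      C PC Inv [] [] [] 1 hPC isW_nil (by rw [inv_one]; exact isWL_nil) (Subgroup.one_mem _) hC
      (by rw [hcard, hprod]) (fun b hb => absurd hb List.not_mem_nil)
      (fun x => ⟨fun hx => ⟨hx, fun b hb => absurd hb List.not_mem_nil⟩, fun hx => hx.1⟩)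
      henum g hg (by rw [one_mul]; exact ⟨hgz, hgn⟩)
    rw [one_mul] at key
    exact key

end Cfsg.Agent.Lib.helper25
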