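import Cfsg.Agent.Lib.helper25.MathieuFusion2

set_option autoImplicit false

namespace Cfsg.Agent.Lib.helper25

open Cfsg Cfsg.Agent.Lib.helper28
open scoped Pointwise

/-! ### Self-normalising Sylow subgroups from the certificates -/

/-- A conjugate of a self-normalising subgroup is self-normalising. -/
theorem normalizer_eq_of_conj {G : Type*} [Group G] (K S : Subgroup G) (g : G)
    (hmem : ∀ x, x ∈ S ↔ g⁻¹ * x * g ∈ K) (hK : Subgroup.normalizer (K : Set G) = K) :
    Subgroup.normalizer (S : Set G) = S := by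
  apply le_antisymm _ Subgroup.le_normalizer
  intro h hn
  rw [Subgroup.mem_normalizer_iff] at hn
  rw [hmem, ← hK, Subgroup.mem_normalizer_iff]
  intro x
  have h1 := hn (g * x * g⁻¹)
  rw [hmem, hmem] at h1
  have e1 : g⁻¹ * (g * x * g⁻¹) * g = x := by group
  have e2 : g⁻¹ * (h * (g * x * g⁻¹) * h⁻¹) * g = g⁻¹ * h * g * x * (g⁻¹ * h * g)⁻¹ := by group
  rw [e1, e2] at h1
  exact h1

/-- Every Sylow `p`-subgroup of `H` is self-normalising, if one subgroup of the right order is. -/
theorem sylow_normalizer_of_data {Γ : Type*} [Group Γ] (H : Subgroup Γ) [Finite H] (p : ℕ)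
    [Fact p.Prime] (S₀ : Subgroup Γ) (hle : S₀ ≤ H)
    (hcard : Nat.card S₀ = p ^ (Nat.card H).factorization p)
    (hnorm : ∀ g ∈ H, (∀ x ∈ S₀, g * x * g⁻¹ ∈ S₀) → g ∈ S₀) (S : Sylow p H) :
    Subgroup.normalizer ((S : Subgroup H) : Set H) = (S : Subgroup H) := by
  have hcardK : Nat.card (S₀.subgroupOf H) = p ^ (Nat.card H).factorization p := by
    rw [← hcard]
    exact Nat.card_congr (Subgroup.subgroupOfEquivOfLe hle).toEquiv
  obtain ⟨g, hg⟩ := MulAction.exists_smul_eq H (Sylow.ofCard (S₀.subgroupOf H) hcardK) S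
  have hmem : ∀ x : H, x ∈ (S : Subgroup H) ↔ g⁻¹ * x * g ∈ S₀.subgroupOf H := by
    intro x
    rw [← hg, Sylow.coe_subgroup_smul, Subgroup.mem_pointwise_smul_iff_inv_smul_mem,
      MulAut.smul_def, MulAut.conj_inv_apply]
    rfl
  apply normalizer_eq_of_conj (S₀.subgroupOf H) (S : Subgroup H) g hmem
  apply le_antisymm _ Subgroup.le_normalizer
  intro h hn
  rw [Subgroup.mem_normalizer_iff] at hn
  rw [Subgroup.mem_subgroupOf]
  apply hnorm h h.2
  intro x hx
  exact Subgroup.mem_subgroupOf.1 ((hn ⟨x, hle hx⟩).1 (Subgroup.mem_subgroupOf.2 hx))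

/-- The subgroup of the certificate has the order of a Sylow `2`-subgroup and is its own
normaliser. -/
theorem core_normalizer (Inv : List ℕ) (gensP LP : List ℕ) (k : ℕ) (zP : ℕ) (mem : ℕ → Bool)
    (hgens : gensP.all (codeOK Inv) = true)
    (hmemS : ∀ x, mem x = true → x ∈ LP)
    (hF2 : ∀ g ∈ genSub gensP, cpk g ∈ LP)
    (hF3 : ∀ a ∈ LP, ∃ g ∈ genSub gensP, cpk g = a)
    (hnd : LP.Nodup) (hlen : LP.length = 2 ^ k)
    (hcen : ∀ a ∈ LP, (!(gensP.all fun s => Nat.beq (mulP a s) (mulP s a)) ||
      Nat.beq a idP || Nat.beq a zP) = true)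
    (hz : mem zP = true) (hz1 : Nat.beq zP idP = false)
    (hzc : (gensP.all fun s => Nat.beq (mulP zP s) (mulP s zP)) = true)
    (hnorm : ∀ z : Equiv.Perm GolayPt, cpk z = zP → z ∈ genSub gensP →
      (∀ s ∈ genSub gensP, s * z = z * s) → ∀ g ∈ stabM Inv, g * z = z * g →
      (∀ x ∈ genSub gensP, g * x * g⁻¹ ∈ genSub gensP) → g ∈ genSub gensP) :
    genSub gensP ≤ stabM Inv ∧ Nat.card (genSub gensP) = 2 ^ k ∧
      ∀ g ∈ stabM Inv, (∀ x ∈ genSub gensP, g * x * g⁻¹ ∈ genSub gensP) → g ∈ genSub gensP := by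
  classical
  have hgen_mem := gen_mem_genSub hgens
  have hle : genSub gensP ≤ stabM Inv := genSub_le hgens
  have hcardS : Nat.card (genSub gensP) = 2 ^ k := by
    rw [card_eq_length_of_codes hnd hF2 hF3, hlen]
  refine ⟨hle, hcardS, ?_⟩
  obtain ⟨z, hzS, hzP⟩ := hF3 zP (hmemS zP hz)
  have hz1' : z ≠ 1 := by
    intro h
    rw [h, cpk_one] at hzP
    rw [← hzP, Nat.beq_refl] at hz1
    exact absurd hz1 (by decide)
  have hzcomm : ∀ s ∈ genSub gensP, s * z = z * s := by
    intro s hs
    have hcle : genSub gensP ≤ Subgroup.centralizer {z} := by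
      unfold genSub
      rw [Subgroup.closure_le]
      intro g hg
      rw [SetLike.mem_coe, Subgroup.mem_centralizer_iff]
      intro y hy
      rw [Set.mem_singleton_iff] at hy
      rw [hy]
      apply cpk_injective
      rw [← mulP_cpk, ← mulP_cpk, hzP]
      exact Nat.eq_of_beq_eq_true (List.all_eq_true.mp hzc _ hg)
    exact (Subgroup.mem_centralizer_iff.1 (hcle hs) z rfl).symm
  have hcenter : ∀ c ∈ genSub gensP, (∀ s ∈ genSub gensP, s * c = c * s) → c = 1 ∨ c = z := by
    intro c hc hcc
    have h2 := hcen (cpk c) (hF2 c hc)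
    rw [Bool.or_eq_true, Bool.or_eq_true] at h2
    rcases h2 with (h2 | h2) | h2
    · exfalso
      have h3 : (gensP.all fun s => Nat.beq (mulP (cpk c) s) (mulP s (cpk c))) = true := by
        rw [List.all_eq_true]
        intro s hs
        obtain ⟨g, hg, hgs⟩ := hgen_mem s hs
        rw [← hgs, mulP_cpk, mulP_cpk, ← hcc g hg]
        exact Nat.beq_refl _
      rw [h3] at h2
      exact absurd h2 (by decide)
    · left
      apply cpk_injective
      rw [cpk_one]
      exact Nat.eq_of_beq_eq_true h2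
    · right
      apply cpk_injective
      rw [hzP]
      exact Nat.eq_of_beq_eq_true h2
  intro g hg hgn
  have hgz : g * z = z * g := by
    have h2 : g * z * g⁻¹ ∈ genSub gensP := hgn z hzS
    have h3 : ∀ s ∈ genSub gensP, s * (g * z * g⁻¹) = (g * z * g⁻¹) * s := by
      intro s hs
      have h4 : g⁻¹ * s * g ∈ genSub gensP := by
        rw [conj_mem_iff_of_forall_conj_mem (genSub gensP) g hgn]
        have : g * (g⁻¹ * s * g) * g⁻¹ = s := by group
        rw [this]
        exact hs
      have h5 := hzcomm _ h4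
      calc s * (g * z * g⁻¹) = g * ((g⁻¹ * s * g) * z) * g⁻¹ := by group
        _ = g * (z * (g⁻¹ * s * g)) * g⁻¹ := by rw [h5]
        _ = (g * z * g⁻¹) * s := by group
    rcases hcenter _ h2 h3 with h5 | h5
    · exfalso
      apply hz1'
      have : z = g⁻¹ * (g * z * g⁻¹) * g := by group
      rw [this, h5]
      group
    · calc g * z = (g * z * g⁻¹) * g := by group
        _ = z * g := by rw [h5]
  exact hnorm z hzP hzS hzcomm g hg hgz hgn

/-- The normaliser statement from the certificate in the second form. -/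
theorem mathieu_selfNormalizing2 (Inv : List ℕ) (C : List (ℕ × ℕ × List (List ℕ)))
    (PC : List (ℕ × List (ℕ × ℕ × ℕ))) (N k m : ℕ) (gensP : List ℕ) (T PT n f : ℕ) (zP : ℕ)
    (hcard : Nat.card (stabM Inv) = N) (hN : N = 2 ^ k * m) (hm : m % 2 = 1)
    (hC : chainGen Inv C = true) (hprod : chainProd C = N) (hPC : strip PC = prepack C)
    (hgens : gensP.all (codeOK Inv) = true)
    (hinv : (gensP.all fun s => gensP.any fun s' => Nat.beq (mulP s s') idP) = true)
    (hn : n = 2 ^ k)
    (hmemC : allLt (fun i => memB T n f (slot T i)) n = true)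
    (h1 : memB T n f idP = true)
    (hcl : allLt (fun i => forceNat (slot T i) fun a =>
      gensP.all fun s => memB T n f (mulP a s)) n = true)
    (hpar : allLt (parOK gensP T PT n) n = true)
    (hsort : sortedN T n = true)
    (hcen : allLt (fun i => forceNat (slot T i) fun a =>
      !(gensP.all fun s => Nat.beq (mulP a s) (mulP s a)) || Nat.beq a idP || Nat.beq a zP) n =
        true)
    (hz : memB T n f zP = true) (hz1 : Nat.beq zP idP = false)
    (hzc : (gensP.all fun s => Nat.beq (mulP zP s) (mulP s zP)) = true)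
    (henum : enumS (testZ2 zP) (leafQ gensP (memB T n f)) (memB T n f) PC [] [] [] = true) :
    genSub gensP ≤ stabM Inv ∧
      Nat.card (genSub gensP) = 2 ^ (Nat.card (stabM Inv)).factorization 2 ∧
      ∀ g ∈ stabM Inv, (∀ x ∈ genSub gensP, g * x * g⁻¹ ∈ genSub gensP) → g ∈ genSub gensP := by
  have hgen_mem := gen_mem_genSub hgens
  have hmemS : ∀ x, memB T n f x = true → x ∈ LPl T n := fun x hx => memB_sound hx
  have hmemC' : ∀ a ∈ LPl T n, memB T n f a = true := by
    intro a ha
    obtain ⟨i, hi, hia⟩ := mem_LPl.mp ha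
    rw [← hia]
    exact allLt_spec hmemC i hi
  have hcl' : ((LPl T n).all fun a => gensP.all fun s => memB T n f (mulP a s)) = true := by
    rw [List.all_eq_true]
    intro a ha
    obtain ⟨i, hi, hia⟩ := mem_LPl.mp ha
    have h2 := allLt_spec hcl i hi
    rw [forceNat_eq, hia] at h2
    exact h2
  have hF2 : ∀ g ∈ genSub gensP, cpk g ∈ LPl T n := fun g hg =>
    cpk_mem_of_mem_genSub hgens hinv hmemS h1 hcl' hg
  have hF3 : ∀ a ∈ LPl T n, ∃ g ∈ genSub gensP, cpk g = a := by
    intro a ha
    obtain ⟨i, hi, hia⟩ := mem_LPl.mp ha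
    rw [← hia]
    exact parOK_sound gensP (genSub gensP) hgen_mem T PT n (fun i hi => allLt_spec hpar i hi) _ i
      hi le_rfl
  have hlen : (LPl T n).length = 2 ^ k := by
    unfold LPl
    rw [List.length_map, List.length_range, hn]
  have hfact : (Nat.card (stabM Inv)).factorization 2 = k := by
    rw [hcard, hN]
    exact factorization_two_pow_mul hm
  have hle : genSub gensP ≤ stabM Inv := genSub_le hgens
  rw [hfact]
  apply core_normalizer Inv gensP (LPl T n) k zP (memB T n f) hgens hmemS hF2 hF3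
    (nodup_LPl hsort) hlen ?_ hz hz1 hzc ?_
  · intro a ha
    obtain ⟨i, hi, hia⟩ := mem_LPl.mp ha
    have h2 := allLt_spec hcen i hi
    rw [forceNat_eq, hia] at h2
    exact h2
  · intro z hzP hzS hzcomm g hg hgz hgn
    have hzPk : IsPk z zP := by
      rw [← hzP]
      exact isPk_cpk z
    have key := enumS_sound (genSub gensP) Inv hle
      (fun g => g * z = z * g ∧ ∀ x ∈ genSub gensP, g * x * g⁻¹ ∈ genSub gensP)
      (fun g => g ∈ genSub gensP) (testZ2 zP) (leafQ gensP (memB T n f)) (memB T n f)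
      (fun x hx => hF3 x (hmemS x hx))
      (by
        rintro σ hσ g ⟨h2, h3⟩
        refine ⟨?_, fun x hx => ?_⟩
        · rw [mul_assoc, h2, ← mul_assoc, hzcomm σ hσ, mul_assoc]
        · have h4 : σ * g * x * (σ * g)⁻¹ = σ * (g * x * g⁻¹) * σ⁻¹ := by group
          rw [h4]
          exact (genSub gensP).mul_mem ((genSub gensP).mul_mem hσ (h3 x hx))
            ((genSub gensP).inv_mem hσ))
      (by
        intro σ hσ g h2
        have h3 : g = σ⁻¹ * (σ * g) := by group
        rw [h3]
        exact (genSub gensP).mul_mem ((genSub gensP).inv_mem hσ) h2)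
      (fun g a bs w hP ha hbs => testZ2_sound hzPk g a bs w hP.1 ha hbs)
      (by
        intro g w wi hP hw hwi hQ
        unfold leafQ at hQ
        rw [Bool.or_eq_true] at hQ
        rcases hQ with hQ | hQ
        · exfalso
          have h2 : (gensP.all fun s => memB T n f (cjW w wi s)) = true := by
            rw [List.all_eq_true]
            intro s hs
            obtain ⟨x, hx, hxs⟩ := hgen_mem s hs
            rw [← hxs, cjW_eq hw hwi]
            exact hmemC' _ (hF2 _ (hP.2 x hx))
          rw [h2] at hQ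
          exact absurd hQ (by decide)
        · rw [pkW_eq hw] at hQ
          obtain ⟨y, hy, hyc⟩ := hF3 _ (hmemS _ hQ)
          have h2 : y = g := cpk_injective hyc
          rw [h2] at hy
          exact hy)
      C PC Inv [] [] [] 1 hPC isW_nil (by rw [inv_one]; exact isWL_nil) (Subgroup.one_mem _) hC
      (by rw [hcard, hprod]) (fun b hb => absurd hb List.not_mem_nil)
      (fun x => ⟨fun hx => ⟨hx, fun b hb => absurd hb List.not_mem_nil⟩, fun hx => hx.1⟩)
      henum g hg (by rw [one_mul]; exact ⟨hgz, hgn⟩)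
    rw [one_mul] at key
    exact key

/-- Transport of the normaliser statement along an equality of subgroups. -/
theorem normalizer_of_eq {H K : Subgroup (Equiv.Perm GolayPt)} (h : H = K)
    (hK : ∀ S : Sylow 2 K, Subgroup.normalizer ((S : Subgroup K) : Set K) = (S : Subgroup K))
    (S : Sylow 2 H) : Subgroup.normalizer ((S : Subgroup H) : Set H) = (S : Subgroup H) := by
  subst h
  exact hK S

end Cfsg.Agent.Lib.helper25
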