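import Mathlib
import Cfsg.Prelude.Def_Sporadic_a
import Cfsg.Agent.Lib.helper28.Plane4

/-!
# An automorphism of the plane of order 4 fixing a hyperoval pointwise is trivial
(seat helper25, sub-lemma for helper28's S5626/S5628)
-/

set_option autoImplicit false

namespace Cfsg.Agent.Lib.helper25.Plane4D

open Cfsg
open scoped Pointwise
open Cfsg.Agent.Lib.helper28.Plane4

/-- A hyperoval has no tangent lines: a line through one of its points contains a second. -/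
theorem no_tangent {α : Type*} [Fintype α] [DecidableEq α] (hα : Fintype.card α = 21)
    (L : Set (Finset α)) (hL : Cfsg.IsSteinerSystem 2 5 L) (H : Finset α)
    (hH : H.card = 6 ∧ ∀ l ∈ L, (l ∩ H).card ≤ 2) {x : α} (hx : x ∈ H) {l : Finset α}
    (hl : l ∈ L) (hxl : x ∈ l) : ∃ y ∈ H, y ≠ x ∧ y ∈ l := by
  classical
  by_contra hno
  have hno' : ∀ y ∈ H, y ≠ x → y ∉ l := fun y hy hyx hyl => hno ⟨y, hy, hyx, hyl⟩
  let Lx : Finset (Finset α) := Finset.univ.filter (fun k => k ∈ L ∧ x ∈ k)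
  have hLx : ∀ k, k ∈ Lx ↔ k ∈ L ∧ x ∈ k := by intro k; simp [Lx]
  have h5 := card_pencil hα hL x Lx hLx
  have hsub : H.erase x ⊆ (Lx.erase l).biUnion (fun k => (k ∩ H).erase x) := by
    intro y hy
    rw [Finset.mem_erase] at hy
    obtain ⟨k, hk, hxk, hyk⟩ := exists_line hL (Ne.symm hy.1)
    rw [Finset.mem_biUnion]
    refine ⟨k, Finset.mem_erase.mpr ⟨?_, (hLx k).mpr ⟨hk, hxk⟩⟩, ?_⟩
    · intro hkl
      exact hno' y hy.2 hy.1 (hkl ▸ hyk)
    · exact Finset.mem_erase.mpr ⟨hy.1, Finset.mem_inter.mpr ⟨hyk, hy.2⟩⟩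
  have hle := Finset.card_le_card hsub
  have h1 : ∀ k ∈ Lx.erase l, ((k ∩ H).erase x).card ≤ 1 := by
    intro k hk
    have hk' := (hLx k).mp (Finset.mem_of_mem_erase hk)
    have hxk : x ∈ k ∩ H := Finset.mem_inter.mpr ⟨hk'.2, hx⟩
    rw [Finset.card_erase_of_mem hxk]
    have := hH.2 k hk'.1
    omega
  have hsum : ((Lx.erase l).biUnion (fun k => (k ∩ H).erase x)).card ≤ 4 := by
    refine le_trans Finset.card_biUnion_le ?_
    refine le_trans (Finset.sum_le_card_nsmul _ _ 1 h1) ?_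
    rw [Finset.card_erase_of_mem ((hLx l).mpr ⟨hl, hxl⟩), h5]
    simp
  rw [Finset.card_erase_of_mem hx, hH.1] at hle
  omega

/-- An automorphism of a Steiner system `S(2,5,21)` that fixes every point of a hyperoval
is the identity. -/
theorem fix_hyperoval_eq_one {α : Type*} [Fintype α] [DecidableEq α]
    (hα : Fintype.card α = 21) (L : Set (Finset α)) (hL : Cfsg.IsSteinerSystem 2 5 L)
    (H : Finset α) (hH : H.card = 6 ∧ ∀ l ∈ L, (l ∩ H).card ≤ 2) (g : Equiv.Perm α)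
    (hg : g ∈ Cfsg.setSystemAut L) (hfix : ∀ p ∈ H, g p = p) : g = 1 := by
  have hgL : ∀ l ∈ L, l.image g ∈ L := by
    intro l hl
    have h1 : g • l ∈ g • L := Set.smul_mem_smul_set hl
    have h2 : g • L = L := MulAction.mem_stabilizer_iff.1 hg
    rw [h2] at h1
    exact h1
  have hfixline : ∀ l ∈ L, ∀ a ∈ H, ∀ b ∈ H, a ≠ b → a ∈ l → b ∈ l → l.image g = l := by
    intro l hl a ha b hb hab hal hbl
    refine line_unique hL (hgL l hl) hl hab ?_ ?_ hal hbl
    · rw [Finset.mem_image]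
      exact ⟨a, hal, hfix a ha⟩
    · rw [Finset.mem_image]
      exact ⟨b, hbl, hfix b hb⟩
  ext p
  rw [Equiv.Perm.coe_one, id_eq]
  by_cases hp : p ∈ H
  · exact hfix p hp
  obtain ⟨a, ha⟩ : H.Nonempty := Finset.card_pos.mp (by rw [hH.1]; norm_num)
  have hpa : p ≠ a := fun h => hp (h ▸ ha)
  obtain ⟨l₁, hl₁, hpl₁, hal₁⟩ := exists_line hL hpa
  obtain ⟨b, hb, hba, hbl₁⟩ := no_tangent hα L hL H hH ha hl₁ hal₁
  obtain ⟨c, hc⟩ : ((H.erase a).erase b).Nonempty := by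
    apply Finset.card_pos.mp
    rw [Finset.card_erase_of_mem (Finset.mem_erase.mpr ⟨hba, hb⟩),
      Finset.card_erase_of_mem ha, hH.1]
    norm_num
  rw [Finset.mem_erase, Finset.mem_erase] at hc
  obtain ⟨hcb, hca, hcH⟩ := hc
  have hpc : p ≠ c := fun h => hp (h ▸ hcH)
  obtain ⟨l₂, hl₂, hpl₂, hcl₂⟩ := exists_line hL hpc
  obtain ⟨d, hd, hdc, hdl₂⟩ := no_tangent hα L hL H hH hcH hl₂ hcl₂
  have hne : l₁ ≠ l₂ := by
    intro h
    have h3 : ({a, b, c} : Finset α) ⊆ l₁ ∩ H := by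
      intro z hz
      simp only [Finset.mem_insert, Finset.mem_singleton] at hz
      rcases hz with rfl | rfl | rfl
      · exact Finset.mem_inter.mpr ⟨hal₁, ha⟩
      · exact Finset.mem_inter.mpr ⟨hbl₁, hb⟩
      · exact Finset.mem_inter.mpr ⟨h ▸ hcl₂, hcH⟩
    have h4 := Finset.card_le_card h3
    have h5 : ({a, b, c} : Finset α).card = 3 :=
      Finset.card_eq_three.mpr ⟨a, b, c, hba.symm, hca.symm, hcb.symm, rfl⟩
    have := hH.2 l₁ hl₁
    omega
  have h1 := hfixline l₁ hl₁ a ha b hb hba.symm hal₁ hbl₁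
  have h2 := hfixline l₂ hl₂ c hcH d hd hdc.symm hcl₂ hdl₂
  have hg1 : g p ∈ l₁ := by
    rw [← h1]
    exact Finset.mem_image_of_mem g hpl₁
  have hg2 : g p ∈ l₂ := by
    rw [← h2]
    exact Finset.mem_image_of_mem g hpl₂
  by_contra hgp
  exact hne (line_unique hL hl₁ hl₂ hgp hg1 hpl₁ hg2 hpl₂)

end Cfsg.Agent.Lib.helper25.Plane4D
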