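import Mathlib
import Cfsg.Prelude.Def_LocalEven
import Cfsg.Prelude.Def_PLocal
import Cfsg.Agent.Lib.helper15.QdMat
import Cfsg.Agent.Lib.helper25.SylowAux

/-!
# Groups with a TI Sylow `p`-subgroup are `Qd(p)`-free (library, seat helper25)
-/

set_option autoImplicit false
set_option linter.unusedSectionVars false
set_option linter.unusedSimpArgs false
set_option linter.style.haveILetI false

namespace Cfsg.Agent.Lib.helper25.QdFree

open Matrix Cfsg.Agent.Lib.helper15 Cfsg.Agent.Lib.helper15.Qd Cfsg.Agent.Lib.helper25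

section qd

variable (p : ℕ) [Fact p.Prime]

/-- `p`-elements of the `3 × 3` matrix ring over `ZMod p` have trace `3`. -/
theorem trace_of_pelt (M : Matrix (Fin 3) (Fin 3) (ZMod p)) (k : ℕ) (h : M ^ (p ^ k) = 1) :
    M.trace = 3 := by
  have h1 : (M - 1) ^ (p ^ k) = 0 := by
    rw [sub_pow_char_pow_of_commute p k (Commute.one_right M), h, one_pow, sub_self]
  have h2 : IsNilpotent (M - 1) := ⟨_, h1⟩
  have h3 := Matrix.isNilpotent_trace_of_isNilpotent h2
  have h4 : (M - 1).trace = 0 := IsNilpotent.eq_zero h3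
  rw [Matrix.trace_sub, Matrix.trace_one] at h4
  simp at h4
  linear_combination h4

theorem pow_p_of_sq_zero (N : Matrix (Fin 3) (Fin 3) (ZMod p)) (hN : N * N = 0) :
    (1 + N) ^ p = 1 := by
  rw [add_pow_char_of_commute p (Commute.one_left N), one_pow]
  have : N ^ p = 0 := by
    have h2 : 2 ≤ p := (Fact.out : p.Prime).two_le
    obtain ⟨k, rfl⟩ := Nat.exists_eq_add_of_le h2
    rw [pow_add, pow_two, hN, zero_mul]
  rw [this, add_zero]

/-- The linear part of an element of `Qd(p)`. -/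
noncomputable def lp (y : ↥(Cfsg.qd p)) : Dk.SL2 (ZMod p) :=
  Classical.choose (exists_aff_of_mem_qd p y.1 y.2)

theorem lp_spec (y : ↥(Cfsg.qd p)) : ∃ t, y.1 = aff (lp p y) t :=
  Classical.choose_spec (exists_aff_of_mem_qd p y.1 y.2)

/-- The linear part as a homomorphism. -/
noncomputable def linPart : ↥(Cfsg.qd p) →* Dk.SL2 (ZMod p) where
  toFun y := lp p y
  map_one' := by
    obtain ⟨t, ht⟩ := lp_spec p 1
    have h1 : aff (1 : Dk.SL2 (ZMod p)) 0 = aff (lp p 1) t := by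
      rw [← ht, aff_one]; rfl
    exact (aff_inj h1).1.symm
  map_mul' := by
    intro x y
    obtain ⟨t, ht⟩ := lp_spec p x
    obtain ⟨s, hs⟩ := lp_spec p y
    obtain ⟨r, hr⟩ := lp_spec p (x * y)
    have h1 : (x * y).1 = x.1 * y.1 := rfl
    have h2 : aff (lp p x) t * aff (lp p y) s = aff (lp p (x * y)) r := by
      rw [← ht, ← hs, ← h1, hr]
    rw [aff_mul] at h2
    exact (aff_inj h2).1.symm

theorem linPart_spec (y : ↥(Cfsg.qd p)) : ∃ t, y.1 = aff (linPart p y) t := lp_spec p y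

theorem linPart_aff (A : Dk.SL2 (ZMod p)) (t : Fin 2 → ZMod p) :
    linPart p ⟨aff A t, aff_mem_qd p A t⟩ = A := by
  obtain ⟨s, hs⟩ := linPart_spec p ⟨aff A t, aff_mem_qd p A t⟩
  exact (aff_inj hs).1.symm

theorem aff_one_pow (t : Fin 2 → ZMod p) (m : ℕ) :
    (aff (1 : Dk.SL2 (ZMod p)) t) ^ m = aff 1 (m • t) := by
  induction m with
  | zero => simp [aff_one]
  | succ m ih =>
    rw [pow_succ, ih, aff_mul]
    congr 1
    · exact mul_one _
    · rw [Matrix.SpecialLinearGroup.coe_one, Matrix.one_mulVec, add_smul, one_smul, add_comm]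

theorem isPGroup_ker : IsPGroup p (linPart p).ker := by
  intro y
  refine ⟨1, ?_⟩
  obtain ⟨t, ht⟩ := linPart_spec p y.1
  have hy : linPart p y.1 = 1 := y.2
  rw [hy] at ht
  apply Subtype.ext
  apply Subtype.ext
  show ((y.1 : ↥(Cfsg.qd p)).1) ^ (p ^ 1) = 1
  rw [ht, pow_one, aff_one_pow]
  have h0 : (p • t : Fin 2 → ZMod p) = 0 := by
    ext i; simp
  rw [h0, aff_one]

theorem ker_ne_bot : (linPart p).ker ≠ ⊥ := by
  intro h
  have hmem : (⟨aff 1 ![1, 0], aff_mem_qd p 1 ![1, 0]⟩ : ↥(Cfsg.qd p)) ∈ (linPart p).ker := by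
    rw [MonoidHom.mem_ker, linPart_aff]
  rw [h, Subgroup.mem_bot] at hmem
  have h1 : aff (1 : Dk.SL2 (ZMod p)) ![1, 0] = aff 1 0 := by
    rw [aff_one]; exact congrArg Subtype.val hmem
  have h2 := (aff_inj h1).2
  have h3 := congrFun h2 0
  simp at h3

/-- The two unipotent matrices. -/
def ma : Matrix (Fin 3) (Fin 3) (ZMod p) := !![1, 1, 0; 0, 1, 0; 0, 0, 1]

def mb : Matrix (Fin 3) (Fin 3) (ZMod p) := !![1, 0, 0; 1, 1, 0; 0, 0, 1]

theorem ma_det : (ma p).det = 1 := by
  rw [Matrix.det_fin_three]; simp [ma]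

theorem mb_det : (mb p).det = 1 := by
  rw [Matrix.det_fin_three]; simp [mb]

theorem ma_pow : (ma p) ^ p = 1 := by
  have h : ma p = 1 + !![0, 1, 0; 0, 0, 0; 0, 0, 0] := by
    ext i j; fin_cases i <;> fin_cases j <;> simp [ma]
  rw [h]
  apply pow_p_of_sq_zero
  ext i j; fin_cases i <;> fin_cases j <;> simp [Matrix.mul_apply, Fin.sum_univ_three]

theorem mb_pow : (mb p) ^ p = 1 := by
  have h : mb p = 1 + !![0, 0, 0; 1, 0, 0; 0, 0, 0] := by
    ext i j; fin_cases i <;> fin_cases j <;> simp [mb]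
  rw [h]
  apply pow_p_of_sq_zero
  ext i j; fin_cases i <;> fin_cases j <;> simp [Matrix.mul_apply, Fin.sum_univ_three]

theorem mab_trace : (ma p * mb p).trace = 4 := by
  simp [ma, mb, Matrix.trace, Fin.sum_univ_three, Matrix.mul_apply]
  norm_num

def qa : ↥(Cfsg.qd p) :=
  ⟨⟨ma p, ma_det p⟩, Subgroup.subset_closure ⟨by simp [ma], by simp [ma], by simp [ma]⟩⟩

def qb : ↥(Cfsg.qd p) :=
  ⟨⟨mb p, mb_det p⟩, Subgroup.subset_closure ⟨by simp [mb], by simp [mb], by simp [mb]⟩⟩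

theorem qa_pow : (qa p) ^ p = 1 := by
  apply Subtype.ext
  apply Subtype.ext
  show (ma p) ^ p = 1
  exact ma_pow p

theorem qb_pow : (qb p) ^ p = 1 := by
  apply Subtype.ext
  apply Subtype.ext
  show (mb p) ^ p = 1
  exact mb_pow p

theorem no_normal_sylow (W : Sylow p ↥(Cfsg.qd p)) (hW : (W : Subgroup ↥(Cfsg.qd p)).Normal) :
    False := by
  haveI := hW
  have key : ∀ y : ↥(Cfsg.qd p), y ^ p = 1 → y ∈ (W : Subgroup ↥(Cfsg.qd p)) := by
    intro y hy
    have hz : IsPGroup p (Subgroup.zpowers y) := by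
      intro w
      obtain ⟨w, hw⟩ := w
      obtain ⟨k, rfl⟩ := Subgroup.mem_zpowers_iff.mp hw
      refine ⟨1, Subtype.ext ?_⟩
      show (y ^ k) ^ p ^ 1 = 1
      rw [pow_one, ← zpow_natCast, ← _root_.zpow_mul, mul_comm, _root_.zpow_mul, zpow_natCast, hy, _root_.one_zpow]
    obtain ⟨Q, hQ⟩ := hz.exists_le_sylow
    obtain ⟨g, rfl⟩ := MulAction.exists_smul_eq (↥(Cfsg.qd p)) W Q
    rw [Sylow.smul_eq_of_normal] at hQ
    exact hQ (Subgroup.mem_zpowers y)
  have ha := key _ (qa_pow p)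
  have hb := key _ (qb_pow p)
  have hab : qa p * qb p ∈ (W : Subgroup ↥(Cfsg.qd p)) := mul_mem ha hb
  obtain ⟨k, hk⟩ := W.isPGroup' ⟨qa p * qb p, hab⟩
  have hk' : (qa p * qb p) ^ (p ^ k) = 1 := congrArg Subtype.val hk
  have hk'' : (ma p * mb p) ^ (p ^ k) = 1 := by
    have := congrArg (fun z : ↥(Cfsg.qd p) => (z.1 : Matrix (Fin 3) (Fin 3) (ZMod p))) hk'
    exact this
  have h3 := trace_of_pelt p _ k hk''
  rw [mab_trace] at h3
  have : (1 : ZMod p) = 0 := by linear_combination h3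
  exact one_ne_zero this

end qd

section main

variable (p : ℕ) [Fact p.Prime]

/-- A finite group whose Sylow `p`-subgroups are TI does not involve `Qd(p)`. -/
theorem not_involves_qd_of_ti {G : Type*} [Group G] [Finite G]
    (hTI : ∀ (P : Sylow p G) (g : G), (∃ u ∈ (P : Subgroup G), u ≠ 1 ∧ g⁻¹ * u * g ∈ (P : Subgroup G)) →
      g ∈ Subgroup.normalizer ((P : Subgroup G) : Set G)) :
    ¬ Cfsg.Involves ↥(Cfsg.qd p) G := by
  rintro ⟨K, R, hn, ⟨φ⟩⟩
  haveI := hn
  set π : K →* ↥(Cfsg.qd p) := φ.toMonoidHom.comp (QuotientGroup.mk' (R.subgroupOf K)) with hπdef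
  have hπ : Function.Surjective π := φ.surjective.comp (QuotientGroup.mk'_surjective _)
  set V : Subgroup ↥(Cfsg.qd p) := (linPart p).ker with hV
  set L : Subgroup K := V.comap π with hL
  haveI hLn : L.Normal := by rw [hL]; infer_instance
  obtain ⟨Q⟩ : Nonempty (Sylow p L) := inferInstance
  set Q' : Subgroup K := (Q : Subgroup L).map L.subtype with hQ'
  have hfr : Subgroup.normalizer (Q' : Set K) ⊔ L = ⊤ := Sylow.normalizer_sup_eq_top Q
  have hQV : Q'.map π = V := by
    let π' : L →* V := π.subgroupComap V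
    have hπ' : Function.Surjective π' := π.subgroupComap_surjective_of_surjective V hπ
    have hsyl : ((Q.mapSurjective hπ' : Sylow p V) : Subgroup V) = (Q : Subgroup L).map π' :=
      Sylow.coe_mapSurjective hπ' Q
    have htop : (⊤ : Subgroup V) = ((Q.mapSurjective hπ' : Sylow p V) : Subgroup V) :=
      (Q.mapSurjective hπ').is_maximal' ((isPGroup_ker p).to_subgroup ⊤) le_top
    ext y
    constructor
    · rintro ⟨x, ⟨l, hl, rfl⟩, rfl⟩
      exact l.2
    · intro hy
      have h1 : (⟨y, hy⟩ : V) ∈ (Q : Subgroup L).map π' := by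
        rw [← hsyl, ← htop]; exact Subgroup.mem_top _
      obtain ⟨l, hl, hly⟩ := h1
      exact ⟨l.1, ⟨l, hl, rfl⟩, congrArg Subtype.val hly⟩
  have hQp : IsPGroup p Q' := Q.isPGroup'.map L.subtype
  obtain ⟨P, hP⟩ := hQp.exists_le_sylow
  have hPp : IsPGroup p ((P : Subgroup K).map K.subtype) := P.isPGroup'.map K.subtype
  obtain ⟨S', hS'⟩ := hPp.exists_le_sylow
  have hPS : (S' : Subgroup G).subgroupOf K = (P : Subgroup K) := by
    apply P.is_maximal' (S'.isPGroup'.comap_subtype)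
    intro x hx
    show ((x : K) : G) ∈ (S' : Subgroup G)
    exact hS' ⟨x, hx, rfl⟩
  -- a nontrivial element of `Q'`
  have hQne : Q' ≠ ⊥ := by
    intro h
    rw [h, Subgroup.map_bot] at hQV
    exact ker_ne_bot p hQV.symm
  obtain ⟨u0, hu01⟩ := (Subgroup.ne_bot_iff_exists_ne_one.mp hQne)
  have hu0' : (u0 : K) ≠ 1 := fun h => hu01 (Subtype.ext h)
  have hN : Subgroup.normalizer (Q' : Set K) ≤ Subgroup.normalizer ((P : Subgroup K) : Set K) := by
    intro x hx
    have hxG : (x : G) ∈ Subgroup.normalizer ((S' : Subgroup G) : Set G) := by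
      have h1 := hTI S' ((x : G)⁻¹) ⟨((u0 : K) : G), ?_, ?_, ?_⟩
      · exact inv_mem_iff.mp h1
      · exact hS' ⟨u0, hP u0.2, rfl⟩
      · intro h
        exact hu0' (Subtype.ext h)
      · rw [inv_inv]
        have h2 : x * (u0 : K) * x⁻¹ ∈ Q' := (Subgroup.mem_normalizer_iff.mp hx _).mp u0.2
        exact hS' ⟨x * (u0 : K) * x⁻¹, hP h2, rfl⟩
    rw [Subgroup.mem_normalizer_iff]
    intro y
    rw [← hPS, Subgroup.mem_subgroupOf, Subgroup.mem_subgroupOf]
    exact Subgroup.mem_normalizer_iff.mp hxG (y : G)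
  set W : Sylow p ↥(Cfsg.qd p) := P.mapSurjective hπ with hW
  have hWc : (W : Subgroup ↥(Cfsg.qd p)) = (P : Subgroup K).map π := Sylow.coe_mapSurjective hπ P
  have hWn : (W : Subgroup ↥(Cfsg.qd p)).Normal := by
    rw [← Subgroup.normalizer_eq_top_iff]
    have h1 : Subgroup.normalizer (Q' : Set K) ⊔ L ≤
        (Subgroup.normalizer ((W : Subgroup ↥(Cfsg.qd p)) : Set ↥(Cfsg.qd p))).comap π := by
      apply sup_le
      · intro x hx
        rw [Subgroup.mem_comap, hWc]
        exact Subgroup.le_normalizer_map π ⟨x, hN hx, rfl⟩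
      · intro x hx
        rw [Subgroup.mem_comap]
        apply Subgroup.le_normalizer
        rw [hWc]
        have h2 : π x ∈ V := hx
        rw [← hQV] at h2
        exact Subgroup.map_mono hP h2
    rw [hfr] at h1
    rw [eq_top_iff]
    intro y _
    obtain ⟨x, rfl⟩ := hπ y
    exact h1 (Subgroup.mem_top x)
  exact no_normal_sylow p W hWn

/-- The TI property of one Sylow `p`-subgroup passes to all of them. -/
theorem ti_all {G : Type*} [Group G] [Finite G] (P0 : Sylow p G)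
    (h0 : ∀ g : G, (∃ u ∈ (P0 : Subgroup G), u ≠ 1 ∧ g⁻¹ * u * g ∈ (P0 : Subgroup G)) →
      g ∈ Subgroup.normalizer ((P0 : Subgroup G) : Set G)) :
    ∀ (P : Sylow p G) (g : G), (∃ u ∈ (P : Subgroup G), u ≠ 1 ∧ g⁻¹ * u * g ∈ (P : Subgroup G)) →
      g ∈ Subgroup.normalizer ((P : Subgroup G) : Set G) := by
  intro P g ⟨u, hu, hu1, hgu⟩
  obtain ⟨c, rfl⟩ := MulAction.exists_smul_eq G P0 P
  rw [sylow_smul_coe] at hu hgu ⊢
  rw [mem_map_cj] at hu hgu
  rw [normalizer_map_cj, mem_map_cj]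
  apply h0
  refine ⟨c⁻¹ * u * c, hu, ?_, ?_⟩
  · intro h
    apply hu1
    have : u = c * (c⁻¹ * u * c) * c⁻¹ := by group
    rw [this, h]; group
  · have : (c⁻¹ * g * c)⁻¹ * (c⁻¹ * u * c) * (c⁻¹ * g * c) = c⁻¹ * (g⁻¹ * u * g) * c := by group
    rw [this]
    exact hgu

/-- Involvement lifts along surjections. -/
theorem involves_of_surj_hom {G₁ G₂ H : Type*} [Group G₁] [Group G₂] [Group H]
    (f : G₁ →* G₂) (hf : Function.Surjective f) (h : Cfsg.Involves H G₂) : Cfsg.Involves H G₁ := by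
  obtain ⟨K, R, hn, ⟨e⟩⟩ := h
  haveI := hn
  set F : K.comap f →* H :=
    (e.toMonoidHom.comp (QuotientGroup.mk' (R.subgroupOf K))).comp (f.subgroupComap K) with hF
  have hFs : Function.Surjective F :=
    (e.surjective.comp (QuotientGroup.mk'_surjective _)).comp
      (f.subgroupComap_surjective_of_surjective K hf)
  have e1 : (F.ker.map (K.comap f).subtype).subgroupOf (K.comap f) = F.ker :=
    Subgroup.comap_map_eq_self_of_injective (K.comap f).subtype_injective F.ker
  have hn' : ((F.ker.map (K.comap f).subtype).subgroupOf (K.comap f)).Normal := by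
    rw [e1]; infer_instance
  exact ⟨K.comap f, F.ker.map (K.comap f).subtype, hn',
    ⟨(QuotientGroup.quotientMulEquivOfEq e1).trans (QuotientGroup.quotientKerEquivOfSurjective F hFs)⟩⟩

end main

end Cfsg.Agent.Lib.helper25.QdFree
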