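import Mathlib
import Cfsg.Agent.Lib.helper25.SUni3

set_option autoImplicit false
set_option linter.unusedSectionVars false
set_option linter.unusedSimpArgs false

namespace Cfsg.Agent.Lib.helper25.SUni

open Matrix
open Cfsg.Agent.Lib.helper4
open Cfsg.Agent.Lib.helper25.SLUni

variable {n : ℕ} {K : Type*} [Field K] [Fintype K] {q : ℕ}

/-! ### Monomial elements -/

/-- Monomial matrix. -/
def mnM (π : Equiv.Perm (Fin n)) (l : Fin n → K) : Matrix (Fin n) (Fin n) K :=
  Matrix.of fun r s => if r = π s then l s else 0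

theorem mnM_mulVec (π : Equiv.Perm (Fin n)) (l v : Fin n → K) (r : Fin n) :
    (mnM π l *ᵥ v) r = l (π.symm r) * v (π.symm r) := by
  unfold mnM mulVec dotProduct
  rw [Finset.sum_eq_single (π.symm r)]
  · simp
  · intro s _ hs
    show (if r = π s then l s else 0) * v s = 0
    rw [if_neg, zero_mul]
    intro h
    apply hs
    rw [h, Equiv.symm_apply_apply]
  · intro h
    exact absurd (Finset.mem_univ _) h

theorem mnM_mulVec_single (π : Equiv.Perm (Fin n)) (l : Fin n → K) (i : Fin n) (c : K) :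
    mnM π l *ᵥ Pi.single i c = Pi.single (π i) (l i * c) := by
  funext r
  rw [mnM_mulVec]
  by_cases h : r = π i
  · subst h
    simp
  · rw [Pi.single_eq_of_ne h, Pi.single_eq_of_ne, mul_zero]
    intro h'
    apply h
    rw [← h', Equiv.apply_symm_apply]

theorem mnM_mulVec_fix (π : Equiv.Perm (Fin n)) (l b : Fin n → K)
    (hb : ∀ i, π i ≠ i → b i = 0) (hl : ∀ i, π i = i → l i = 1) : mnM π l *ᵥ b = b := by
  funext r
  rw [mnM_mulVec]
  by_cases h : π r = r
  · have h' : π.symm r = r := by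
      rw [Equiv.symm_apply_eq]
      exact h.symm
    rw [h', hl r h, one_mul]
  · have h' : π (π.symm r) ≠ π.symm r := by
      rw [Equiv.apply_symm_apply]
      intro h2
      apply h
      exact ((Equiv.symm_apply_eq π).1 h2.symm).symm
    rw [hb _ h', hb r h, mul_zero]

theorem mnM_det (π : Equiv.Perm (Fin n)) (l : Fin n → K) :
    (mnM π l).det = ((Equiv.Perm.sign π : ℤˣ) : ℤ) * ∏ i, l i := by
  have h : mnM π l = (π⁻¹).permMatrix K * Matrix.diagonal l := by
    ext r s
    rw [Matrix.mul_diagonal]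
    simp only [mnM, Matrix.of_apply, Equiv.Perm.permMatrix, PEquiv.toMatrix_apply,
      Equiv.toPEquiv_apply, Option.mem_def, Option.some.injEq]
    by_cases h1 : r = π s
    · rw [if_pos h1, if_pos (by rw [h1]; simp), one_mul]
    · rw [if_neg h1, if_neg, zero_mul]
      intro h2
      apply h1
      rw [← h2]
      simp
  rw [h, det_mul, det_permutation, det_diagonal, Equiv.Perm.sign_inv]

theorem mnM_pres (π : Equiv.Perm (Fin n)) (l : Fin n → K)
    (hπ : ∀ i, π (Fin.rev i) = Fin.rev (π i)) (hl : ∀ i, l i * (l (Fin.rev i)) ^ q = 1)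
    (u v : Fin n → K) : hf n K q (mnM π l *ᵥ u) (mnM π l *ᵥ v) = hf n K q u v := by
  unfold hf
  rw [← Equiv.sum_comp π]
  refine Finset.sum_congr rfl fun i _ => ?_
  rw [mnM_mulVec, mnM_mulVec, Equiv.symm_apply_apply, ← hπ, Equiv.symm_apply_apply, mul_pow]
  linear_combination (u i * (v (Fin.rev i)) ^ q) * hl i

/-- Monomial element. -/
def mono (π : Equiv.Perm (Fin n)) (l : Fin n → K)
    (hπ : ∀ i, π (Fin.rev i) = Fin.rev (π i)) (hl : ∀ i, l i * (l (Fin.rev i)) ^ q = 1)
    (hdet : (((Equiv.Perm.sign π : ℤˣ) : ℤ) : K) * ∏ i, l i = 1) : GamU n K q :=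
  mkG (mnM π l) (by rw [mnM_det]; exact hdet) (mnM_pres π l hπ hl)

theorem gm_mono (π : Equiv.Perm (Fin n)) (l : Fin n → K)
    (hπ : ∀ i, π (Fin.rev i) = Fin.rev (π i)) (hl : ∀ i, l i * (l (Fin.rev i)) ^ q = 1)
    (hdet : (((Equiv.Perm.sign π : ℤˣ) : ℤ) : K) * ∏ i, l i = 1) :
    gm (mono π l hπ hl hdet) = mnM π l := rfl

theorem swap_rev (a b i : Fin n) :
    Equiv.swap (Fin.rev a) (Fin.rev b) (Fin.rev i) = Fin.rev (Equiv.swap a b i) := by
  simp only [Equiv.swap_apply_def, Fin.rev_inj]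
  split_ifs <;> rfl

theorem swap_swap_comm {a b c d : Fin n} (hac : a ≠ c) (had : a ≠ d) (hbc : b ≠ c)
    (hbd : b ≠ d) (x : Fin n) :
    Equiv.swap a b (Equiv.swap c d x) = Equiv.swap c d (Equiv.swap a b x) := by
  by_cases h1 : x = a
  · subst h1
    rw [Equiv.swap_apply_of_ne_of_ne hac had, Equiv.swap_apply_left,
      Equiv.swap_apply_of_ne_of_ne hbc hbd]
  · by_cases h2 : x = b
    · subst h2
      rw [Equiv.swap_apply_of_ne_of_ne hbc hbd, Equiv.swap_apply_right,
        Equiv.swap_apply_of_ne_of_ne hac had]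
    · rw [Equiv.swap_apply_of_ne_of_ne h1 h2]
      by_cases h3 : x = c
      · subst h3
        rw [Equiv.swap_apply_left, Equiv.swap_apply_of_ne_of_ne (Ne.symm had) (Ne.symm hbd)]
      · by_cases h4 : x = d
        · subst h4
          rw [Equiv.swap_apply_right, Equiv.swap_apply_of_ne_of_ne (Ne.symm hac) (Ne.symm hbc)]
        · rw [Equiv.swap_apply_of_ne_of_ne h3 h4, Equiv.swap_apply_of_ne_of_ne h1 h2]

/-- The double transposition `(a b)(a' b')` as an element. -/
def dsw (a b : Fin n) (hab : a ≠ b) (ha : a ≠ Fin.rev a) (hb : b ≠ Fin.rev b)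
    (hab' : a ≠ Fin.rev b) : GamU n K q :=
  mono (Equiv.swap a b * Equiv.swap (Fin.rev a) (Fin.rev b)) 1
    (by
      intro i
      have hba' : b ≠ Fin.rev a := by
        intro h
        apply hab'
        rw [h, Fin.rev_rev]
      have h1 : Fin.rev (Equiv.swap a b (Equiv.swap (Fin.rev a) (Fin.rev b) i)) =
          Equiv.swap (Fin.rev a) (Fin.rev b) (Equiv.swap a b (Fin.rev i)) := by
        rw [← swap_rev a b, ← swap_rev (Fin.rev a) (Fin.rev b) i, Fin.rev_rev, Fin.rev_rev]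
      rw [Equiv.Perm.mul_apply, Equiv.Perm.mul_apply, h1]
      exact swap_swap_comm ha hab' hba' hb (Fin.rev i))
    (by
      intro i
      simp)
    (by
      have hab2 : Fin.rev a ≠ Fin.rev b := fun h => hab (Fin.rev_injective h)
      rw [Equiv.Perm.sign_mul, Equiv.Perm.sign_swap hab, Equiv.Perm.sign_swap hab2]
      simp)

theorem dsw_mulVec_single (a b : Fin n) (hab : a ≠ b) (ha : a ≠ Fin.rev a)
    (hb : b ≠ Fin.rev b) (hab' : a ≠ Fin.rev b) (c : K) :
    gm (dsw (K := K) (q := q) a b hab ha hb hab') *ᵥ Pi.single a c = Pi.single b c := by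
  unfold dsw
  rw [gm_mono, mnM_mulVec_single, Equiv.Perm.mul_apply,
    Equiv.swap_apply_of_ne_of_ne ha hab', Equiv.swap_apply_left]
  simp

theorem dsw_mulVec_fix (a b : Fin n) (hab : a ≠ b) (ha : a ≠ Fin.rev a)
    (hb : b ≠ Fin.rev b) (hab' : a ≠ Fin.rev b) (v : Fin n → K)
    (h1 : v a = 0) (h2 : v b = 0) (h3 : v (Fin.rev a) = 0) (h4 : v (Fin.rev b) = 0) :
    gm (dsw (K := K) (q := q) a b hab ha hb hab') *ᵥ v = v := by
  unfold dsw
  rw [gm_mono]
  apply mnM_mulVec_fix
  · intro i hi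
    by_contra hne
    apply hi
    have e1 : i ≠ a := fun h => hne (h ▸ h1)
    have e2 : i ≠ b := fun h => hne (h ▸ h2)
    have e3 : i ≠ Fin.rev a := fun h => hne (h ▸ h3)
    have e4 : i ≠ Fin.rev b := fun h => hne (h ▸ h4)
    rw [Equiv.Perm.mul_apply, Equiv.swap_apply_of_ne_of_ne e3 e4,
      Equiv.swap_apply_of_ne_of_ne e1 e2]
  · intro i _
    rfl

/-- The Weyl reflection swapping `e_j` and `e_{j'}` (up to scalars). -/
def wk (hK : Fintype.card K = q ^ 2) (j : Fin n) (hj : j ≠ Fin.rev j) (κ : K) (hκ0 : κ ≠ 0)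
    (hκ : κ + κ ^ q = 0) : GamU n K q :=
  mono (Equiv.swap j (Fin.rev j))
    (fun i => (if i = j then κ else 1) * (if i = Fin.rev j then -κ⁻¹ else 1))
    (by
      intro i
      have h := swap_rev j (Fin.rev j) i
      rw [Fin.rev_rev, Equiv.swap_comm] at h
      exact h)
    (by
      intro i
      have hκq : κ ^ q = -κ := by linear_combination hκ
      have hq := uq_ge_two hK
      have hodd : ((-1 : K)) ^ q = -1 := by rw [frob_neg hK, one_pow]
      by_cases h1 : i = j
      · subst h1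
        rw [if_pos rfl, if_neg hj, if_neg (Ne.symm hj), if_pos rfl, mul_one, one_mul,
          frob_neg hK, inv_pow, hκq]
        field_simp
      · by_cases h2 : i = Fin.rev j
        · subst h2
          rw [if_neg h1, if_pos rfl, Fin.rev_rev, if_pos rfl, if_neg hj, one_mul, mul_one, hκq]
          field_simp
        · have h3 : Fin.rev i ≠ j := fun h => h2 (by rw [← h, Fin.rev_rev])
          have h4 : Fin.rev i ≠ Fin.rev j := fun h => h1 (Fin.rev_injective h)
          rw [if_neg h1, if_neg h2, if_neg h3, if_neg h4]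
          simp)
    (by
      rw [Equiv.Perm.sign_swap hj, Finset.prod_mul_distrib, Finset.prod_ite_eq',
        Finset.prod_ite_eq']
      simp only [Finset.mem_univ, if_true]
      push_cast
      field_simp)

theorem wk_mulVec_single (hK : Fintype.card K = q ^ 2) (j : Fin n) (hj : j ≠ Fin.rev j) (κ : K)
    (hκ0 : κ ≠ 0) (hκ : κ + κ ^ q = 0) (c : K) :
    gm (wk hK j hj κ hκ0 hκ) *ᵥ Pi.single j c = Pi.single (Fin.rev j) (κ * c) := by
  unfold wk
  rw [gm_mono, mnM_mulVec_single, Equiv.swap_apply_left, if_pos rfl, if_neg hj, mul_one]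

theorem wk_mulVec_single_of_ne (hK : Fintype.card K = q ^ 2) (j : Fin n) (hj : j ≠ Fin.rev j)
    (κ : K) (hκ0 : κ ≠ 0) (hκ : κ + κ ^ q = 0) (i : Fin n) (h1 : i ≠ j) (h2 : i ≠ Fin.rev j)
    (c : K) : gm (wk hK j hj κ hκ0 hκ) *ᵥ Pi.single i c = Pi.single i c := by
  unfold wk
  rw [gm_mono, mnM_mulVec_single, Equiv.swap_apply_of_ne_of_ne h1 h2, if_neg h1, if_neg h2,
    mul_one, one_mul]

/-! ### Lifting small matrices -/

section lift

variable {k : ℕ}

/-- The partial permutation matrix of `f`. -/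
def Pf (K : Type*) [Field K] (f : Fin k → Fin n) : Matrix (Fin n) (Fin k) K :=
  Matrix.of fun r s => if r = f s then 1 else 0

theorem Pf_apply (f : Fin k → Fin n) (r : Fin n) (s : Fin k) :
    Pf K f r s = if r = f s then 1 else 0 := rfl

theorem Pf_tmul (f : Fin k → Fin n) (hf : Function.Injective f) : (Pf K f)ᵀ * Pf K f = 1 := by
  ext a b
  rw [Matrix.mul_apply, Finset.sum_eq_single (f a)]
  · rw [Matrix.transpose_apply, Pf_apply, Pf_apply, if_pos rfl, one_mul, Matrix.one_apply]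
    by_cases h : a = b
    · rw [if_pos (by rw [h]), if_pos h]
    · rw [if_neg (fun h' => h (hf h')), if_neg h]
  · intro r _ hr
    rw [Matrix.transpose_apply, Pf_apply, if_neg hr, zero_mul]
  · intro h
    exact absurd (Finset.mem_univ _) h

theorem Pf_mul_mul_apply (f : Fin k → Fin n) (N : Matrix (Fin k) (Fin k) K) (r s : Fin n) :
    (Pf K f * N * (Pf K f)ᵀ) r s =
      ∑ b, ∑ a, (if r = f a then 1 else 0) * N a b * (if s = f b then 1 else 0) := by
  rw [Matrix.mul_apply]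
  refine Finset.sum_congr rfl fun b _ => ?_
  rw [Matrix.mul_apply, Finset.sum_mul]
  rfl

theorem Pf_single (f : Fin k → Fin n) (a b : Fin k) (x : K) :
    Pf K f * Matrix.single a b x * (Pf K f)ᵀ = Matrix.single (f a) (f b) x := by
  ext r s
  rw [Pf_mul_mul_apply, Finset.sum_eq_single b]
  · rw [Finset.sum_eq_single a]
    · rw [Matrix.single_apply_same, Matrix.single_apply]
      by_cases h1 : r = f a <;> by_cases h2 : s = f b <;> simp [h1, h2, eq_comm]
    · intro c _ hc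
      rw [Matrix.single_apply_of_ne _ _ _ _ _ (fun h => hc h.1.symm), mul_zero, zero_mul]
    · intro h
      exact absurd (Finset.mem_univ _) h
  · intro d _ hd
    apply Finset.sum_eq_zero
    intro c _
    rw [Matrix.single_apply_of_ne _ _ _ _ _ (fun h => hd h.2.symm), mul_zero, zero_mul]
  · intro h
    exact absurd (Finset.mem_univ _) h

/-- Lift of a small matrix along `f`. -/
def lift (f : Fin k → Fin n) (A : Matrix (Fin k) (Fin k) K) : Matrix (Fin n) (Fin n) K :=
  1 + Pf K f * (A - 1) * (Pf K f)ᵀ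

theorem lift_mul (f : Fin k → Fin n) (hf : Function.Injective f)
    (A B : Matrix (Fin k) (Fin k) K) : lift f A * lift f B = lift f (A * B) := by
  unfold lift
  have h := Pf_tmul (K := K) f hf
  have e : A * B - 1 = (A - 1) + (B - 1) + (A - 1) * (B - 1) := by noncomm_ring
  rw [e]
  simp only [Matrix.mul_add, Matrix.add_mul, Matrix.mul_one, Matrix.one_mul]
  have h2 : Pf K f * (A - 1) * (Pf K f)ᵀ * (Pf K f * (B - 1) * (Pf K f)ᵀ) =
      Pf K f * ((A - 1) * (B - 1)) * (Pf K f)ᵀ := by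
    calc Pf K f * (A - 1) * (Pf K f)ᵀ * (Pf K f * (B - 1) * (Pf K f)ᵀ)
        = Pf K f * (A - 1) * ((Pf K f)ᵀ * Pf K f) * (B - 1) * (Pf K f)ᵀ := by
          simp only [Matrix.mul_assoc]
      _ = Pf K f * ((A - 1) * (B - 1)) * (Pf K f)ᵀ := by
          rw [h, Matrix.mul_one]
          simp only [Matrix.mul_assoc]
  rw [h2]
  abel

theorem lift_diagonal (f : Fin k → Fin n) (hf : Function.Injective f) (δ : Fin k → K) :
    lift f (Matrix.diagonal δ) = Matrix.diagonal (Function.extend f δ 1) := by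
  ext r s
  unfold lift
  rw [Matrix.add_apply, Pf_mul_mul_apply]
  by_cases hr : ∃ a, f a = r
  · obtain ⟨a₀, rfl⟩ := hr
    rw [Finset.sum_eq_single a₀]
    · rw [Finset.sum_eq_single a₀]
      · rw [if_pos rfl, one_mul, Matrix.sub_apply, Matrix.diagonal_apply_eq, Matrix.one_apply_eq]
        by_cases hs : s = f a₀
        · subst hs
          rw [if_pos rfl, Matrix.one_apply_eq, Matrix.diagonal_apply_eq, hf.extend_apply]
          ring
        · rw [if_neg hs, Matrix.one_apply_ne (Ne.symm hs), Matrix.diagonal_apply_ne _ (Ne.symm hs)]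
          ring
      · intro c _ hc
        rw [if_neg (fun h => hc (hf h).symm), zero_mul, zero_mul]
      · intro h
        exact absurd (Finset.mem_univ _) h
    · intro b _ hb
      apply Finset.sum_eq_zero
      intro c _
      by_cases hc : c = a₀
      · subst hc
        rw [Matrix.sub_apply, Matrix.diagonal_apply_ne _ (Ne.symm hb),
          Matrix.one_apply_ne (Ne.symm hb), sub_zero, mul_zero, zero_mul]
      · rw [if_neg (fun h => hc (hf h).symm), zero_mul, zero_mul]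
    · intro h
      exact absurd (Finset.mem_univ _) h
  · have h0 : ∑ b, ∑ a, (if r = f a then (1 : K) else 0) * (Matrix.diagonal δ - 1) a b *
        (if s = f b then 1 else 0) = 0 := by
      apply Finset.sum_eq_zero
      intro b _
      apply Finset.sum_eq_zero
      intro a _
      rw [if_neg (fun h => hr ⟨a, h.symm⟩), zero_mul, zero_mul]
    rw [h0, add_zero]
    by_cases hs : r = s
    · subst hs
      rw [Matrix.one_apply_eq, Matrix.diagonal_apply_eq, Function.extend_apply' _ _ _ hr]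
      rfl
    · rw [Matrix.one_apply_ne hs, Matrix.diagonal_apply_ne _ hs]

end lift

/-! ### Root matrices -/

theorem vmv_single (r s : Fin n) (x y : K) :
    vecMulVec (Pi.single r x) (Pi.single s y) = Matrix.single r s (x * y) := by
  ext i j
  rw [vecMulVec_apply, Matrix.single_apply, Pi.single_apply, Pi.single_apply]
  by_cases h1 : i = r
  · by_cases h2 : j = s
    · rw [if_pos h1, if_pos h2, if_pos ⟨h1.symm, h2.symm⟩]
    · rw [if_pos h1, if_neg h2, mul_zero, if_neg (fun h => h2 h.2.symm)]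
  · rw [if_neg h1, zero_mul, if_neg (fun h => h1 h.1.symm)]

theorem sgM_root (hK : Fintype.card K = q ^ 2) (i j : Fin n) (c d : K) :
    sgM q (Pi.single i 1) (Pi.single j c) d = 1 + Matrix.single j (Fin.rev i) c
      - Matrix.single i (Fin.rev j) (c ^ q) + Matrix.single i (Fin.rev i) d := by
  unfold sgM
  rw [st_single hK, st_single hK, one_pow, vmv_single, vmv_single, vmv_single, mul_one, one_mul,
    mul_one, Matrix.smul_single, smul_eq_mul, mul_one]

theorem sgM_tv (hK : Fintype.card K = q ^ 2) (i : Fin n) (d : K) :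
    sgM q (Pi.single i 1) 0 d = 1 + Matrix.single i (Fin.rev i) d := by
  unfold sgM
  rw [st_zero hK, st_single hK, one_pow, vmv_single, mul_one, Matrix.smul_single, smul_eq_mul,
    mul_one]
  simp

theorem inj4 (a b c d : Fin n) (hab : a ≠ b) (hac : a ≠ c) (had : a ≠ d) (hbc : b ≠ c)
    (hbd : b ≠ d) (hcd : c ≠ d) : Function.Injective (![a, b, c, d] : Fin 4 → Fin n) := by
  intro x y h
  fin_cases x <;> fin_cases y <;> first
    | rfl
    | (exfalso; revert h
       simp [hab, hac, had, hbc, hbd, hcd, hab.symm, hac.symm, had.symm, hbc.symm, hbd.symm,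
         hcd.symm])

theorem inj3 (a b c : Fin n) (hab : a ≠ b) (hac : a ≠ c) (hbc : b ≠ c) :
    Function.Injective (![a, b, c] : Fin 3 → Fin n) := by
  intro x y h
  fin_cases x <;> fin_cases y <;> first
    | rfl
    | (exfalso; revert h
       simp [hab, hac, hbc, hab.symm, hac.symm, hbc.symm])

theorem inj2 (a b : Fin n) (hab : a ≠ b) : Function.Injective (![a, b] : Fin 2 → Fin n) := by
  intro x y h
  fin_cases x <;> fin_cases y <;> first
    | rfl
    | (exfalso; revert h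
       simp [hab, hab.symm])

/-! ### Small identities -/

section small

variable {F : Type*} [Field F]

/-- `4 × 4` root matrices. -/
def X4 (c C : F) : Matrix (Fin 4) (Fin 4) F := 1 + Matrix.single 0 1 c - Matrix.single 2 3 C

/-- `4 × 4` opposite root matrices. -/
def Y4 (c C : F) : Matrix (Fin 4) (Fin 4) F := 1 + Matrix.single 1 0 c - Matrix.single 3 2 C

theorem X4_eq (c C : F) : X4 c C = !![1, c, 0, 0; 0, 1, 0, 0; 0, 0, 1, -C; 0, 0, 0, 1] := by
  ext i j
  fin_cases i <;> fin_cases j <;> simp [X4]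

theorem Y4_eq (c C : F) : Y4 c C = !![1, 0, 0, 0; c, 1, 0, 0; 0, 0, 1, 0; 0, 0, -C, 1] := by
  ext i j
  fin_cases i <;> fin_cases j <;> simp [Y4]

theorem rel4 (t T : F) (ht : t ≠ 0) (hT : T ≠ 0) :
    X4 t T * Y4 (-t⁻¹) (-T⁻¹) * X4 t T * (X4 (-1) (-1) * Y4 1 1 * X4 (-1) (-1)) =
      Matrix.diagonal ![t, t⁻¹, T, T⁻¹] := by
  simp only [X4_eq, Y4_eq]
  ext i j
  fin_cases i <;> fin_cases j <;>
    simp [Matrix.mul_apply, Fin.sum_univ_four] <;> (try field_simp) <;>
    first | ring1 | (left; ring1)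

/-- `3 × 3` root matrices. -/
def A3 (c C d : F) : Matrix (Fin 3) (Fin 3) F :=
  1 + Matrix.single 1 2 c - Matrix.single 0 1 C + Matrix.single 0 2 d

/-- `3 × 3` opposite root matrices. -/
def B3 (c C d : F) : Matrix (Fin 3) (Fin 3) F :=
  1 + Matrix.single 1 0 c - Matrix.single 2 1 C + Matrix.single 2 0 d

theorem A3_eq (c C d : F) : A3 c C d = !![1, -C, d; 0, 1, c; 0, 0, 1] := by
  ext i j
  fin_cases i <;> fin_cases j <;> simp [A3]

theorem B3_eq (c C d : F) : B3 c C d = !![1, 0, 0; c, 1, 0; d, -C, 1] := by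
  ext i j
  fin_cases i <;> fin_cases j <;> simp [B3]

theorem rel3 (c C d D κ : F) (hD : D = -d - c * C) (hd : d ≠ 0) (hD0 : D ≠ 0) (hκ : κ ≠ 0) :
    A3 c C d * B3 (-c / D) (-C / d) (1 / D) * A3 (c * d / D) (C * D / d) d *
      (A3 0 0 (-κ) * B3 0 0 (1 / κ) * A3 0 0 (-κ)) =
      Matrix.diagonal ![d / κ, -D / d, -κ / D] := by
  have hz : D + C * c + d = 0 := by linear_combination hD
  simp only [A3_eq, B3_eq]
  ext i j
  fin_cases i <;> fin_cases j <;>
    simp [Matrix.mul_apply, Fin.sum_univ_three] <;> (try field_simp) <;>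
    first
      | ring1
      | linear_combination hz
      | linear_combination d * hz
      | linear_combination (-C) * hz
      | linear_combination (-κ) * hz
      | linear_combination c * hz

/-- `2 × 2` root matrices. -/
def A2 (d : F) : Matrix (Fin 2) (Fin 2) F := 1 + Matrix.single 0 1 d

/-- `2 × 2` opposite root matrices. -/
def B2 (d : F) : Matrix (Fin 2) (Fin 2) F := 1 + Matrix.single 1 0 d

theorem A2_eq (d : F) : A2 d = !![1, d; 0, 1] := by
  ext i j
  fin_cases i <;> fin_cases j <;> simp [A2]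

theorem B2_eq (d : F) : B2 d = !![1, 0; d, 1] := by
  ext i j
  fin_cases i <;> fin_cases j <;> simp [B2]

theorem rel2 (d κ : F) (hd : d ≠ 0) (hκ : κ ≠ 0) :
    A2 d * B2 (-d⁻¹) * A2 d * (A2 (-κ) * B2 κ⁻¹ * A2 (-κ)) = Matrix.diagonal ![d / κ, κ / d] := by
  simp only [A2_eq, B2_eq]
  ext i j
  fin_cases i <;> fin_cases j <;>
    simp [Matrix.mul_apply, Fin.sum_univ_two] <;> (try field_simp) <;> (try ring)

end small

/-! ### Torus elements as products of root elements -/

theorem lift_X4 (f : Fin 4 → Fin n) (c C : K) :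
    lift f (X4 c C) = 1 + Matrix.single (f 0) (f 1) c - Matrix.single (f 2) (f 3) C := by
  unfold lift X4
  have e : (1 + Matrix.single 0 1 c - Matrix.single 2 3 C : Matrix (Fin 4) (Fin 4) K) - 1 =
      Matrix.single 0 1 c - Matrix.single 2 3 C := by abel
  rw [e, Matrix.mul_sub, Matrix.sub_mul, Pf_single, Pf_single]
  abel

theorem lift_Y4 (f : Fin 4 → Fin n) (c C : K) :
    lift f (Y4 c C) = 1 + Matrix.single (f 1) (f 0) c - Matrix.single (f 3) (f 2) C := by
  unfold lift Y4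
  have e : (1 + Matrix.single 1 0 c - Matrix.single 3 2 C : Matrix (Fin 4) (Fin 4) K) - 1 =
      Matrix.single 1 0 c - Matrix.single 3 2 C := by abel
  rw [e, Matrix.mul_sub, Matrix.sub_mul, Pf_single, Pf_single]
  abel

theorem lift_A3 (f : Fin 3 → Fin n) (c C d : K) :
    lift f (A3 c C d) = 1 + Matrix.single (f 1) (f 2) c - Matrix.single (f 0) (f 1) C
      + Matrix.single (f 0) (f 2) d := by
  unfold lift A3
  have e : (1 + Matrix.single 1 2 c - Matrix.single 0 1 C + Matrix.single 0 2 d :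
      Matrix (Fin 3) (Fin 3) K) - 1 =
      Matrix.single 1 2 c - Matrix.single 0 1 C + Matrix.single 0 2 d := by abel
  rw [e, Matrix.mul_add, Matrix.add_mul, Matrix.mul_sub, Matrix.sub_mul, Pf_single, Pf_single,
    Pf_single]
  abel

theorem lift_B3 (f : Fin 3 → Fin n) (c C d : K) :
    lift f (B3 c C d) = 1 + Matrix.single (f 1) (f 0) c - Matrix.single (f 2) (f 1) C
      + Matrix.single (f 2) (f 0) d := by
  unfold lift B3
  have e : (1 + Matrix.single 1 0 c - Matrix.single 2 1 C + Matrix.single 2 0 d :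
      Matrix (Fin 3) (Fin 3) K) - 1 =
      Matrix.single 1 0 c - Matrix.single 2 1 C + Matrix.single 2 0 d := by abel
  rw [e, Matrix.mul_add, Matrix.add_mul, Matrix.mul_sub, Matrix.sub_mul, Pf_single, Pf_single,
    Pf_single]
  abel

theorem lift_A2 (f : Fin 2 → Fin n) (d : K) :
    lift f (A2 d) = 1 + Matrix.single (f 0) (f 1) d := by
  unfold lift A2
  rw [add_sub_cancel_left, Pf_single]

theorem lift_B2 (f : Fin 2 → Fin n) (d : K) :
    lift f (B2 d) = 1 + Matrix.single (f 1) (f 0) d := by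
  unfold lift B2
  rw [add_sub_cancel_left, Pf_single]

theorem SgOK_xr (hK : Fintype.card K = q ^ 2) (i j : Fin n) (h1 : i ≠ Fin.rev i) (h2 : i ≠ j)
    (h3 : j ≠ Fin.rev j) (c : K) : SgOK n K q (Pi.single i 1) (Pi.single (Fin.rev j) c) 0 := by
  have hq := uq_ge_two hK
  refine SgOK_single hK i h1 _ 0 (Pi.single_eq_of_ne (fun h => h2 (Fin.rev_injective h)) _) ?_
  rw [hf_single_left, Fin.rev_rev, Pi.single_eq_of_ne h3, zero_pow (by omega), mul_zero,
    add_zero, add_zero]

/-- Root element `1 + c E_{ij} - c^q E_{j'i'}`. -/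
def xr (hK : Fintype.card K = q ^ 2) (i j : Fin n) (h1 : i ≠ Fin.rev i) (h2 : i ≠ j)
    (h3 : j ≠ Fin.rev j) (c : K) : GamU n K q :=
  sgl hK (Pi.single i 1) (Pi.single (Fin.rev j) (-(c ^ q))) 0 (SgOK_xr hK i j h1 h2 h3 _)

theorem gm_xr (hK : Fintype.card K = q ^ 2) (i j : Fin n) (h1 : i ≠ Fin.rev i) (h2 : i ≠ j)
    (h3 : j ≠ Fin.rev j) (c : K) : gm (xr hK i j h1 h2 h3 c) =
      1 + Matrix.single i j c - Matrix.single (Fin.rev j) (Fin.rev i) (c ^ q) := by
  unfold xr
  rw [gm_sgl, sgM_root hK, Fin.rev_rev, frob_neg hK, frob_frob hK]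
  ext r s
  simp only [Matrix.add_apply, Matrix.sub_apply, Matrix.single_apply]
  split_ifs <;> ring

theorem hal (hK : Fintype.card K = q ^ 2) (i j : Fin n) (h1 : i ≠ Fin.rev i) (h2 : i ≠ j)
    (h3 : j ≠ Fin.rev j) (h4 : i ≠ Fin.rev j) (t : K) (ht : t ≠ 0) (S : Set (GamU n K q))
    (hS : ∀ c, xr hK i j h1 h2 h3 c ∈ S) (hS' : ∀ c, xr hK j i h3 h2.symm h1 c ∈ S) :
    ∃ g ∈ Subgroup.closure S, gm g = Matrix.diagonal
      (Function.extend ![i, j, Fin.rev j, Fin.rev i] ![t, t⁻¹, t ^ q, (t ^ q)⁻¹] 1) := by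
  have hf4 : Function.Injective (![i, j, Fin.rev j, Fin.rev i] : Fin 4 → Fin n) :=
    inj4 _ _ _ _ h2 h4 h1 h3 (fun h => h4 (by rw [h, Fin.rev_rev]))
      (fun h => h2 (Fin.rev_injective h).symm)
  have e1 : ∀ c, gm (xr hK i j h1 h2 h3 c) =
      lift ![i, j, Fin.rev j, Fin.rev i] (X4 c (c ^ q)) := by
    intro c
    rw [gm_xr, lift_X4]
    rfl
  have e2 : ∀ c, gm (xr hK j i h3 h2.symm h1 c) =
      lift ![i, j, Fin.rev j, Fin.rev i] (Y4 c (c ^ q)) := by
    intro c
    rw [gm_xr, lift_Y4]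
    rfl
  refine ⟨xr hK i j h1 h2 h3 t * xr hK j i h3 h2.symm h1 (-t⁻¹) * xr hK i j h1 h2 h3 t *
    (xr hK i j h1 h2 h3 (-1) * xr hK j i h3 h2.symm h1 1 * xr hK i j h1 h2 h3 (-1)), ?_, ?_⟩
  · exact Subgroup.mul_mem _ (Subgroup.mul_mem _ (Subgroup.mul_mem _
      (Subgroup.subset_closure (hS _)) (Subgroup.subset_closure (hS' _)))
      (Subgroup.subset_closure (hS _))) (Subgroup.mul_mem _ (Subgroup.mul_mem _
      (Subgroup.subset_closure (hS _)) (Subgroup.subset_closure (hS' _)))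
      (Subgroup.subset_closure (hS _)))
  · simp only [gm_mul, e1, e2, lift_mul _ hf4]
    have q1 : (-t⁻¹) ^ q = -(t ^ q)⁻¹ := by rw [frob_neg hK, inv_pow]
    have q2 : (-1 : K) ^ q = -1 := by rw [frob_neg hK, one_pow]
    rw [q1, q2, one_pow, rel4 t (t ^ q) ht (pow_ne_zero q ht), lift_diagonal _ hf4]

theorem kev (hK : Fintype.card K = q ^ 2) (l : Fin n) (hl : l ≠ Fin.rev l) (π : K)
    (hπ0 : π ≠ 0) (hπ : π ^ q = π) (S : Set (GamU n K q))
    (hS : ∀ a, (a = l ∨ a = Fin.rev l) → ∀ (d : K) (h : SgOK n K q (Pi.single a 1) 0 d),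
      sgl hK (Pi.single a 1) 0 d h ∈ S) :
    ∃ g ∈ Subgroup.closure S, gm g = Matrix.diagonal
      (Function.extend ![l, Fin.rev l] ![π, π⁻¹] 1) := by
  obtain ⟨κ, hκ0, hκ⟩ := exists_trace_zero hK
  have hκq : κ ^ q = -κ := by linear_combination hκ
  have hl' : Fin.rev l ≠ Fin.rev (Fin.rev l) := by
    rw [Fin.rev_rev]
    exact hl.symm
  have hf2 : Function.Injective (![l, Fin.rev l] : Fin 2 → Fin n) := inj2 _ _ hl
  have ok : ∀ (a : Fin n) (ha : a ≠ Fin.rev a) (d : K), d ^ q = -d →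
      SgOK n K q (Pi.single a 1) 0 d := by
    intro a ha d hd
    exact SgOK_single hK a ha 0 d rfl (by rw [hf_zero_left, add_zero, hd, add_neg_cancel])
  have hdq : (π * κ) ^ q = -(π * κ) := by
    rw [mul_pow, hπ, hκq]
    ring
  have hd0 : π * κ ≠ 0 := mul_ne_zero hπ0 hκ0
  have t1 : (-(π * κ)⁻¹) ^ q = -(-(π * κ)⁻¹) := by
    rw [frob_neg hK, inv_pow, hdq]
    field_simp
  have t2 : (-κ) ^ q = -(-κ) := by rw [frob_neg hK, hκq]
  have t3 : (κ⁻¹) ^ q = -κ⁻¹ := by
    rw [inv_pow, hκq]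
    field_simp
  have e1 : ∀ (x : K) (h : SgOK n K q (Pi.single l 1) 0 x),
      gm (sgl hK (Pi.single l 1) 0 x h) = lift ![l, Fin.rev l] (A2 x) := by
    intro x h
    rw [gm_sgl, sgM_tv hK, lift_A2]
    rfl
  have e2 : ∀ (x : K) (h : SgOK n K q (Pi.single (Fin.rev l) 1) 0 x),
      gm (sgl hK (Pi.single (Fin.rev l) 1) 0 x h) = lift ![l, Fin.rev l] (B2 x) := by
    intro x h
    rw [gm_sgl, sgM_tv hK, lift_B2, Fin.rev_rev]
    rfl
  refine ⟨sgl hK _ 0 (π * κ) (ok l hl _ hdq) * sgl hK _ 0 (-(π * κ)⁻¹) (ok _ hl' _ t1) *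
    sgl hK _ 0 (π * κ) (ok l hl _ hdq) * (sgl hK _ 0 (-κ) (ok l hl _ t2) *
    sgl hK _ 0 κ⁻¹ (ok _ hl' _ t3) * sgl hK _ 0 (-κ) (ok l hl _ t2)), ?_, ?_⟩
  · exact Subgroup.mul_mem _ (Subgroup.mul_mem _ (Subgroup.mul_mem _
      (Subgroup.subset_closure (hS _ (Or.inl rfl) _ _))
      (Subgroup.subset_closure (hS _ (Or.inr rfl) _ _)))
      (Subgroup.subset_closure (hS _ (Or.inl rfl) _ _))) (Subgroup.mul_mem _ (Subgroup.mul_mem _
      (Subgroup.subset_closure (hS _ (Or.inl rfl) _ _))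
      (Subgroup.subset_closure (hS _ (Or.inr rfl) _ _)))
      (Subgroup.subset_closure (hS _ (Or.inl rfl) _ _)))
  · simp only [gm_mul, e1, e2, lift_mul _ hf2]
    rw [rel2 (π * κ) κ hd0 hκ0, lift_diagonal _ hf2]
    have e3 : π * κ / κ = π := by field_simp
    have e4 : κ / (π * κ) = π⁻¹ := by field_simp
    rw [e3, e4]

theorem kod (hK : Fintype.card K = q ^ 2) (l μ : Fin n) (hl : l ≠ Fin.rev l)
    (hμ : Fin.rev μ = μ) (π : K) (hπ0 : π ≠ 0) (S : Set (GamU n K q))
    (hS : ∀ a, (a = l ∨ a = Fin.rev l) → ∀ (c d : K)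
      (h : SgOK n K q (Pi.single a 1) (Pi.single μ c) d),
      sgl hK (Pi.single a 1) (Pi.single μ c) d h ∈ S) :
    ∃ g ∈ Subgroup.closure S, gm g = Matrix.diagonal
      (Function.extend ![l, μ, Fin.rev l] ![π, π ^ q / π, (π ^ q)⁻¹] 1) := by
  obtain ⟨κ, hκ0, hκ⟩ := exists_trace_zero hK
  have hκq : κ ^ q = -κ := by linear_combination hκ
  have hq := uq_ge_two hK
  have hlμ : l ≠ μ := by
    intro h
    apply hl
    rw [h, hμ]
  have hl'μ : Fin.rev l ≠ μ := by
    intro h
    apply hl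
    rw [h, ← hμ, ← h, Fin.rev_rev]
  have hl' : Fin.rev l ≠ Fin.rev (Fin.rev l) := by
    rw [Fin.rev_rev]
    exact hl.symm
  have hl''μ : Fin.rev (Fin.rev l) ≠ μ := by
    rw [Fin.rev_rev]
    exact hlμ
  have hf3 : Function.Injective (![l, μ, Fin.rev l] : Fin 3 → Fin n) :=
    inj3 _ _ _ hlμ hl (Ne.symm hl'μ)
  have ok : ∀ (a : Fin n) (ha : a ≠ Fin.rev a) (haμ : Fin.rev a ≠ μ) (c d : K),
      d + d ^ q + c * c ^ q = 0 → SgOK n K q (Pi.single a 1) (Pi.single μ c) d := by
    intro a ha haμ c d hd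
    exact SgOK_single hK a ha _ d (Pi.single_eq_of_ne haμ _)
      (by rw [hf_single_left, hμ, Pi.single_eq_same]; exact hd)
  set d := π * κ with hd
  have hd0 : d ≠ 0 := mul_ne_zero hπ0 hκ0
  have hdq : d ^ q = -(π ^ q * κ) := by
    rw [hd, mul_pow, hκq]
    ring
  have hD0 : d ^ q ≠ 0 := pow_ne_zero q hd0
  obtain ⟨c, hc⟩ := unorm_surj hK (-(d + d ^ q)) (by
    rw [frob_neg hK, frob_add hK, frob_frob hK]
    ring)
  rw [unorm_eq] at hc
  have hd1 : d + d ^ q + c * c ^ q = 0 := by linear_combination hc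
  have p2 : (-c / d ^ q) ^ q = -c ^ q / d := by rw [div_pow, frob_neg hK, frob_frob hK]
  have p3 : (c * d / d ^ q) ^ q = c ^ q * d ^ q / d := by rw [div_pow, mul_pow, frob_frob hK]
  have p0 : (0 : K) ^ q = 0 := zero_pow (by omega)
  have c2 : 1 / d ^ q + (1 / d ^ q) ^ q + -c / d ^ q * (-c / d ^ q) ^ q = 0 := by
    rw [p2, div_pow, one_pow, frob_frob hK]
    field_simp
    linear_combination hd1
  have c3 : d + d ^ q + c * d / d ^ q * (c * d / d ^ q) ^ q = 0 := by
    rw [p3]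
    field_simp
    linear_combination hd1
  have c4 : -κ + (-κ) ^ q + 0 * (0 : K) ^ q = 0 := by
    rw [frob_neg hK, hκq]
    ring
  have c5 : 1 / κ + (1 / κ) ^ q + 0 * (0 : K) ^ q = 0 := by
    rw [div_pow, one_pow, hκq]
    field_simp
    ring
  have e1 : ∀ (c d : K) (h : SgOK n K q (Pi.single l 1) (Pi.single μ c) d),
      gm (sgl hK (Pi.single l 1) (Pi.single μ c) d h) =
        lift ![l, μ, Fin.rev l] (A3 c (c ^ q) d) := by
    intro c d h
    rw [gm_sgl, sgM_root hK, hμ, lift_A3]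
    rfl
  have e2 : ∀ (c d : K) (h : SgOK n K q (Pi.single (Fin.rev l) 1) (Pi.single μ c) d),
      gm (sgl hK (Pi.single (Fin.rev l) 1) (Pi.single μ c) d h) =
        lift ![l, μ, Fin.rev l] (B3 c (c ^ q) d) := by
    intro c d h
    rw [gm_sgl, sgM_root hK, hμ, lift_B3, Fin.rev_rev]
    rfl
  refine ⟨sgl hK _ _ d (ok l hl hl'μ c d hd1) *
    sgl hK _ _ (1 / d ^ q) (ok _ hl' hl''μ (-c / d ^ q) _ c2) *
    sgl hK _ _ d (ok l hl hl'μ (c * d / d ^ q) d c3) *
    (sgl hK _ _ (-κ) (ok l hl hl'μ 0 _ c4) * sgl hK _ _ (1 / κ) (ok _ hl' hl''μ 0 _ c5) *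
    sgl hK _ _ (-κ) (ok l hl hl'μ 0 _ c4)), ?_, ?_⟩
  · exact Subgroup.mul_mem _ (Subgroup.mul_mem _ (Subgroup.mul_mem _
      (Subgroup.subset_closure (hS _ (Or.inl rfl) _ _ _))
      (Subgroup.subset_closure (hS _ (Or.inr rfl) _ _ _)))
      (Subgroup.subset_closure (hS _ (Or.inl rfl) _ _ _))) (Subgroup.mul_mem _ (Subgroup.mul_mem _
      (Subgroup.subset_closure (hS _ (Or.inl rfl) _ _ _))
      (Subgroup.subset_closure (hS _ (Or.inr rfl) _ _ _)))
      (Subgroup.subset_closure (hS _ (Or.inl rfl) _ _ _)))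
  · simp only [gm_mul, e1, e2, lift_mul _ hf3]
    rw [p2, p3, p0, rel3 c (c ^ q) d (d ^ q) κ (by linear_combination hd1) hd0 hD0 hκ0,
      lift_diagonal _ hf3]
    have e3 : d / κ = π := by
      rw [hd]
      field_simp
    have e4 : -d ^ q / d = π ^ q / π := by
      rw [hdq, hd]
      field_simp
    have e5 : -κ / d ^ q = (π ^ q)⁻¹ := by
      rw [hdq]
      field_simp
    rw [e3, e4, e5]

end Cfsg.Agent.Lib.helper25.SUni
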