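import Mathlib
import Cfsg.Agent.Lib.helper25.SUni4

set_option autoImplicit false
set_option linter.unusedSectionVars false
set_option linter.unusedSimpArgs false

namespace Cfsg.Agent.Lib.helper25.SUni

open Matrix
open Cfsg.Agent.Lib.helper4
open Cfsg.Agent.Lib.helper25.SLUni

variable {n : ℕ} {K : Type*} [Field K] [Fintype K] {q : ℕ}

/-- Commuting with a transvection along `e_k`. -/
theorem comm_tv0 (hK : Fintype.card K = q ^ 2) (z : GamU n K q)
    (hz : ∀ u ∈ UUu n K q, z * u = u * z) (k : Fin n) (hk : k < Fin.rev k) :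
    (∀ r, r ≠ k → gm z r k = 0) ∧ (∀ s, s ≠ Fin.rev k → gm z (Fin.rev k) s = 0) ∧
      (∀ d : K, gm z * Matrix.single k (Fin.rev k) d = Matrix.single k (Fin.rev k) d * gm z) := by
  obtain ⟨κ, hκ0, hκ⟩ := exists_trace_zero hK
  have hOK : SgOK n K q (Pi.single k 1) (0 : Fin n → K) κ :=
    SgOK_single hK k (ne_of_lt hk) _ κ rfl (by rw [hf_zero_left, add_zero]; exact hκ)
  have hu := sgl_mem_UUu hK k hk (0 : Fin n → K) κ (fun _ _ => rfl) hOK
  have h1 := congrArg gm (hz _ hu)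
  rw [gm_mul, gm_mul, gm_sgl, sgM_tv hK, mul_add, add_mul, mul_one, one_mul] at h1
  have h2 : gm z * Matrix.single k (Fin.rev k) κ = Matrix.single k (Fin.rev k) κ * gm z :=
    add_left_cancel h1
  refine ⟨?_, ?_, ?_⟩
  · intro r hr
    have h3 := congrFun (congrFun h2 r) (Fin.rev k)
    rw [Matrix.mul_single_apply_same, Matrix.single_mul_apply_of_ne _ _ _ _ _ hr] at h3
    exact (mul_eq_zero.1 h3).resolve_right hκ0
  · intro s hs
    have h3 := congrFun (congrFun h2 k) s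
    rw [Matrix.mul_single_apply_of_ne _ _ _ _ _ hs, Matrix.single_mul_apply_same] at h3
    exact (mul_eq_zero.1 h3.symm).resolve_left hκ0
  · intro d
    have e : Matrix.single k (Fin.rev k) d = (d * κ⁻¹) • Matrix.single k (Fin.rev k) κ := by
      rw [Matrix.smul_single, smul_eq_mul, inv_mul_cancel_right₀ hκ0]
    rw [e, Matrix.mul_smul, Matrix.smul_mul, h2]

/-- Commuting with a root element `E_k(c e_j, d)`. -/
theorem comm_root (hK : Fintype.card K = q ^ 2) (z : GamU n K q)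
    (hz : ∀ u ∈ UUu n K q, z * u = u * z) (k j : Fin n) (hk : k < Fin.rev k)
    (hj : j < Fin.rev k) (hjk : j ≠ k) (c d : K) (hc : c ≠ 0)
    (hd : d + d ^ q + hf n K q (Pi.single j c) (Pi.single j c) = 0) :
    (∀ r, r ≠ k → r ≠ j → gm z r j = 0) ∧
      (∀ s, s ≠ Fin.rev k → s ≠ Fin.rev j → gm z (Fin.rev j) s = 0) ∧
      gm z k j * c = -(c ^ q * gm z (Fin.rev j) (Fin.rev k)) := by
  obtain ⟨hA, hB, hC⟩ := comm_tv0 hK z hz k hk
  have hOK : SgOK n K q (Pi.single k 1) (Pi.single j c) d :=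
    SgOK_single hK k (ne_of_lt hk) _ d (Pi.single_eq_of_ne (ne_of_gt hj) _) hd
  have hu := sgl_mem_UUu hK k hk _ d (fun r hr =>
    Pi.single_eq_of_ne (ne_of_gt (lt_of_lt_of_le hj hr)) _) hOK
  have h1 := congrArg gm (hz _ hu)
  rw [gm_mul, gm_mul, gm_sgl, sgM_root hK] at h1
  simp only [mul_add, mul_sub, add_mul, sub_mul, mul_one, one_mul, hC d] at h1
  have hkj' : Fin.rev k ≠ Fin.rev j := fun h => hjk (Fin.rev_injective h).symm
  have hcq : c ^ q ≠ 0 := pow_ne_zero q hc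
  refine ⟨?_, ?_, ?_⟩
  · intro r hrk hrj
    have h3 := congrFun (congrFun h1 r) (Fin.rev k)
    simp only [Matrix.add_apply, Matrix.sub_apply] at h3
    rw [Matrix.mul_single_apply_same, Matrix.mul_single_apply_of_ne _ _ _ _ _ hkj',
      Matrix.single_mul_apply_of_ne _ _ _ _ _ hrj, Matrix.single_mul_apply_of_ne _ _ _ _ _ hrk,
      Matrix.single_mul_apply_of_ne _ _ _ _ _ hrk] at h3
    have h4 : gm z r j * c = 0 := by linear_combination h3
    exact (mul_eq_zero.1 h4).resolve_right hc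
  · intro s hsk hsj
    have h3 := congrFun (congrFun h1 k) s
    simp only [Matrix.add_apply, Matrix.sub_apply] at h3
    rw [Matrix.mul_single_apply_of_ne _ _ _ _ _ hsk, Matrix.mul_single_apply_of_ne _ _ _ _ _ hsj,
      Matrix.single_mul_apply_of_ne _ _ _ _ _ (Ne.symm hjk), Matrix.single_mul_apply_same,
      Matrix.single_mul_apply_same, hB s hsk] at h3
    have h4 : c ^ q * gm z (Fin.rev j) s = 0 := by linear_combination h3
    exact (mul_eq_zero.1 h4).resolve_left hcq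
  · have h3 := congrFun (congrFun h1 k) (Fin.rev k)
    simp only [Matrix.add_apply, Matrix.sub_apply] at h3
    rw [Matrix.mul_single_apply_same, Matrix.mul_single_apply_of_ne _ _ _ _ _ hkj',
      Matrix.single_mul_apply_of_ne _ _ _ _ _ (Ne.symm hjk), Matrix.single_mul_apply_same,
      Matrix.single_mul_apply_same] at h3
    linear_combination h3

section idx

variable {m : ℕ}

theorem rev0_eq : Fin.rev (0 : Fin (m + 4)) = Fin.last (m + 3) := Fin.rev_zero (m + 3)

theorem i0_lt_rev : (0 : Fin (m + 4)) < Fin.rev 0 := by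
  rw [Fin.lt_def, Fin.val_rev]
  simp

theorem i1_lt_rev : (1 : Fin (m + 4)) < Fin.rev 1 := by
  rw [Fin.lt_def, Fin.val_rev]
  simp

theorem i0_ne_1 : (0 : Fin (m + 4)) ≠ 1 := by
  intro h
  have := congrArg Fin.val h
  simp at this

theorem i0_ne_rev1 : (0 : Fin (m + 4)) ≠ Fin.rev 1 := by
  intro h
  have := congrArg Fin.val h
  rw [Fin.val_rev] at this
  simp at this

theorem i1_ne_rev0 : (1 : Fin (m + 4)) ≠ Fin.rev 0 := by
  intro h
  have := congrArg Fin.val h
  rw [Fin.val_rev] at this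
  simp at this

theorem rev1_lt_rev0 : Fin.rev (1 : Fin (m + 4)) < Fin.rev 0 := by
  rw [Fin.rev_lt_rev, Fin.lt_def]
  simp

theorem lt_rev0_of_ne (j : Fin (m + 4)) (hj : j ≠ Fin.rev 0) : j < Fin.rev 0 := by
  rw [rev0_eq] at hj ⊢
  exact Fin.lt_last_iff_ne_last.2 hj

theorem lt_rev1_of_ne (j : Fin (m + 4)) (hj : j ≠ Fin.rev 0) (hj' : j ≠ Fin.rev 1) :
    j < Fin.rev 1 := by
  have h1 := lt_rev0_of_ne j hj
  rw [Fin.lt_def, Fin.val_rev] at h1 ⊢
  have h2 : (j : ℕ) ≠ ((Fin.rev 1 : Fin (m + 4)) : ℕ) := fun h => hj' (Fin.ext h)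
  rw [Fin.val_rev] at h2
  simp at h1 h2 ⊢
  omega

end idx

/-- Central elements of the unitriangular group are long root elements. -/
theorem central_form {m : ℕ} (hK : Fintype.card K = q ^ 2) (z : GamU (m + 4) K q)
    (hzU : z ∈ UUu (m + 4) K q) (hz : ∀ u ∈ UUu (m + 4) K q, z * u = u * z) :
    ∃ d : K, d + d ^ q = 0 ∧ gm z = sgM q (Pi.single 0 1) 0 d := by
  have hq := uq_ge_two hK
  rw [mem_UUu] at hzU
  obtain ⟨hUT, hdiag⟩ := hzU
  have trd : ∀ j : Fin (m + 4), ∃ d : K,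
      d + d ^ q + hf (m + 4) K q (Pi.single j (1 : K)) (Pi.single j (1 : K)) = 0 := by
    intro j
    obtain ⟨d, hd⟩ := utrace_surj hK (-hf (m + 4) K q (Pi.single j (1 : K))
      (Pi.single j (1 : K))) (by rw [frob_neg hK, hf_symm hK])
    exact ⟨d, by linear_combination hd⟩
  -- columns and rows from `k = 0`
  have hA : ∀ j : Fin (m + 4), j ≠ 0 → j ≠ Fin.rev 0 → ∀ r, r ≠ 0 → r ≠ j → gm z r j = 0 := by
    intro j hj0 hjl r hr0 hrj
    obtain ⟨d, hd⟩ := trd j
    exact (comm_root hK z hz 0 j i0_lt_rev (lt_rev0_of_ne j hjl) hj0 1 d one_ne_zero hd).1 r hr0 hrj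
  have hC := comm_tv0 hK z hz (1 : Fin (m + 4)) i1_lt_rev
  have hB : ∀ j : Fin (m + 4), j ≠ 1 → j < Fin.rev 1 →
      (∀ r, r ≠ 1 → r ≠ j → gm z r j = 0) ∧
      (∀ s, s ≠ Fin.rev 1 → s ≠ Fin.rev j → gm z (Fin.rev j) s = 0) := by
    intro j hj1 hjl
    obtain ⟨d, hd⟩ := trd j
    have h := comm_root hK z hz 1 j i1_lt_rev hjl hj1 1 d one_ne_zero hd
    exact ⟨h.1, h.2.1⟩
  -- the relation for `(0, rev 1)`
  have hrel : ∀ c : K, c ≠ 0 → gm z 0 (Fin.rev 1) * c = -(c ^ q * gm z 1 (Fin.rev 0)) := by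
    intro c hc
    have h := (comm_root hK z hz 0 (Fin.rev 1) i0_lt_rev rev1_lt_rev0 (Ne.symm i0_ne_rev1) c 0 hc
      (by
        rw [hf_single_left, Fin.rev_rev, Pi.single_eq_of_ne (ne_of_lt i1_lt_rev),
          zero_pow (by omega), mul_zero, add_zero, add_zero])).2.2
    rwa [Fin.rev_rev] at h
  have hD : gm z 0 (Fin.rev 1) = 0 ∧ gm z 1 (Fin.rev 0) = 0 := by
    obtain ⟨x, hx⟩ := exists_frob_ne hK
    have hx0 : x ≠ 0 := by
      rintro rfl
      exact hx (zero_pow (by omega))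
    have h1 := hrel 1 one_ne_zero
    rw [one_pow, one_mul, mul_one] at h1
    have h2 := hrel x hx0
    have h3 : (x - x ^ q) * gm z 0 (Fin.rev 1) = 0 := by
      linear_combination h2 - x ^ q * h1
    have h5 : gm z 0 (Fin.rev 1) = 0 :=
      (mul_eq_zero.1 h3).resolve_left (fun h => hx (by linear_combination -h))
    refine ⟨h5, ?_⟩
    linear_combination h1 - h5
  have key : ∀ r s : Fin (m + 4), r ≠ s → ¬ (r = 0 ∧ s = Fin.rev 0) → gm z r s = 0 := by
    intro r s hrs hne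
    by_cases hs0 : s = 0
    · subst hs0
      exact hUT r 0 (Fin.pos_of_ne_zero hrs)
    by_cases hsl : s = Fin.rev 0
    · subst hsl
      have hr0 : r ≠ 0 := fun h => hne ⟨h, rfl⟩
      by_cases hr1 : r = 1
      · subst hr1
        exact hD.2
      by_cases hr2 : r = Fin.rev 1
      · subst hr2
        exact hC.2.1 _ (Ne.symm (ne_of_lt rev1_lt_rev0))
      · have hj1 : Fin.rev r ≠ 1 := fun h => hr2 (by rw [← h, Fin.rev_rev])
        have hjl : Fin.rev r < Fin.rev 1 := by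
          rw [Fin.rev_lt_rev]
          exact lt_of_le_of_ne (Fin.one_le_of_ne_zero hr0) (Ne.symm hr1)
        have h := (hB (Fin.rev r) hj1 hjl).2 (Fin.rev 0) (ne_of_gt rev1_lt_rev0)
          (by rw [Fin.rev_rev]; exact Ne.symm hrs)
        rwa [Fin.rev_rev] at h
    · by_cases hr0 : r = 0
      · subst hr0
        by_cases hs1 : s = 1
        · subst hs1
          exact hC.1 0 i0_ne_1
        by_cases hs2 : s = Fin.rev 1
        · subst hs2
          exact hD.1
        · exact (hB s hs1 (lt_rev1_of_ne s hsl hs2)).1 0 i0_ne_1 (Ne.symm hs0)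
      · exact hA s hs0 hsl r hr0 hrs
  have hgm : gm z = sgM q (Pi.single 0 1) 0 (gm z 0 (Fin.rev 0)) := by
    rw [sgM_tv hK]
    ext r s
    rw [Matrix.add_apply, Matrix.single_apply]
    by_cases hrs : r = s
    · subst hrs
      rw [hdiag, Matrix.one_apply_eq, if_neg, add_zero]
      rintro ⟨h1, h2⟩
      rw [← h1] at h2
      exact (ne_of_lt i0_lt_rev) h2.symm
    · rw [Matrix.one_apply_ne hrs, zero_add]
      by_cases h : r = 0 ∧ s = Fin.rev 0
      · rw [if_pos ⟨h.1.symm, h.2.symm⟩, h.1, h.2]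
      · rw [if_neg (fun h' => h ⟨h'.1.symm, h'.2.symm⟩)]
        exact key r s hrs h
  refine ⟨gm z 0 (Fin.rev 0), ?_, hgm⟩
  have h1 := gm_row_rel hK z 0 (Fin.rev 0)
  rw [if_neg (ne_of_lt i0_lt_rev), Fin.rev_rev,
    Finset.sum_eq_add (0 : Fin (m + 4)) (Fin.rev 0) (ne_of_lt i0_lt_rev)] at h1
  · rw [hdiag, Fin.rev_rev, hdiag, one_pow, one_mul, mul_one] at h1
    linear_combination h1
  · intro s _ hs
    rw [key 0 s (Ne.symm hs.1) (fun h => hs.2 h.2), zero_mul]
  · intro h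
    exact absurd (Finset.mem_univ _) h
  · intro h
    exact absurd (Finset.mem_univ _) h

end Cfsg.Agent.Lib.helper25.SUni
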