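import Mathlib
import Cfsg.Agent.Lib.helper25.SUni5
import Cfsg.Agent.Lib.helper25.FusionSimple2

set_option autoImplicit false
set_option linter.unusedSectionVars false
set_option linter.unusedSimpArgs false

namespace Cfsg.Agent.Lib.helper25.SUni

open Matrix
open Cfsg.Agent.Lib.helper4
open Cfsg.Agent.Lib.helper25.SLUni

variable {n : ℕ} {K : Type*} [Field K] [Fintype K] {q : ℕ}

/-- If row `rev s` is standard then column `s` is standard. -/
theorem rows_std_col (hK : Fintype.card K = q ^ 2) (u : GamU n K q) (s : Fin n)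
    (hrow : ∀ x, gm u (Fin.rev s) x = if Fin.rev s = x then 1 else 0) (r : Fin n) :
    gm u r s = if r = s then 1 else 0 := by
  have hq := uq_ge_two hK
  have h1 : gm u⁻¹ *ᵥ Pi.single s 1 = Pi.single s 1 := by
    funext k
    rw [mulVec_single_one]
    show gm u⁻¹ k s = _
    rw [gm_inv_apply hK, hrow, Pi.single_apply]
    by_cases h : k = s
    · subst h
      rw [if_pos rfl, if_pos rfl, one_pow]
    · rw [if_neg (fun h' => h (Fin.rev_injective h').symm), if_neg h, zero_pow (by omega)]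
  have h2 : gm u *ᵥ Pi.single s 1 = Pi.single s 1 := by
    have := gm_mulVec_inv u (Pi.single s 1)
    rw [h1] at this
    exact this
  have h3 := congrFun h2 r
  rw [mulVec_single_one, Pi.single_apply] at h3
  exact h3

/-- A unitriangular element whose lower-half rows are standard is trivial. -/
theorem eq_one_of_rows (hK : Fintype.card K = q ^ 2) (u : GamU n K q) (hu : u ∈ UUu n K q)
    (h : ∀ i, i < Fin.rev i → ∀ s, gm u i s = if i = s then 1 else 0) : u = 1 := by
  have hu' := (mem_UUu u).1 hu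
  apply gm_injective
  ext r s
  rw [gm_one, Matrix.one_apply]
  by_cases hr : r < Fin.rev r
  · exact h r hr s
  · rcases lt_trichotomy s r with hs | hs | hs
    · rw [hu'.1 r s hs, if_neg (ne_of_gt hs)]
    · rw [hs, hu'.2 r, if_pos rfl]
    · apply rows_std_col hK u s
      apply h
      rw [Fin.rev_rev]
      exact lt_of_lt_of_le (lt_of_lt_of_le (Fin.rev_lt_rev.2 hs) (not_lt.1 hr)) hs.le

theorem SgOK_add (hK : Fintype.card K = q ^ 2) {a b b' : Fin n → K} {d d' : K}
    (h : SgOK n K q a b d) (h' : SgOK n K q a b' d') :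
    SgOK n K q a (b + b') (d + d' - hf n K q b' b) := by
  refine ⟨h.1, by rw [hf_add_left, h.2.1, h'.2.1, add_zero], ?_⟩
  rw [frob_sub hK, frob_add hK, hf_symm hK, hf_add_left, hf_add_right hK, hf_add_right hK]
  linear_combination h.2.2 + h'.2.2

theorem sgl_mul (hK : Fintype.card K = q ^ 2) (a b b' : Fin n → K) (d d' : K)
    (h : SgOK n K q a b d) (h' : SgOK n K q a b' d')
    (h'' : SgOK n K q a (b + b') (d + d' - hf n K q b' b)) :
    sgl hK a b d h * sgl hK a b' d' h' = sgl hK a (b + b') (d + d' - hf n K q b' b) h'' :=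
  gm_injective (sgM_mul hK a b b' d d' h.1 h.2.1 h'.2.1)

set_option maxHeartbeats 1000000 in
/-- No proper nontrivial subgroup of the unitriangular group is closed under fusion. -/
theorem strongly_closed_UUu {m : ℕ} (p : ℕ) [Fact p.Prime] [CharP K p]
    (hK : Fintype.card K = q ^ 2)
    (T : Subgroup (GamU (m + 4) K q)) (hTU : T ≤ UUu (m + 4) K q) (hT0 : T ≠ ⊥)
    (hTc : ∀ t ∈ T, ∀ g : GamU (m + 4) K q,
      g * t * g⁻¹ ∈ UUu (m + 4) K q → g * t * g⁻¹ ∈ T) : UUu (m + 4) K q ≤ T := by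
  have hq := uq_ge_two hK
  have hp0 : (0 : K) ^ q = 0 := zero_pow (by omega)
  obtain ⟨κ, hκ0, hκ⟩ := exists_trace_zero hK
  have hκq : κ ^ q = -κ := by linear_combination hκ
  have hUp : IsPGroup p (UUu (m + 4) K q) := isPGroup_UUu p
  obtain ⟨z, hzT, hz1, hzc⟩ := Cfsg.Agent.Lib.helper25.exists_central_of_normal hUp hTU hT0
    (fun s hs t ht => hTc t ht s ((UUu _ K q).mul_mem ((UUu _ K q).mul_mem hs (hTU ht))
      ((UUu _ K q).inv_mem hs)))
  obtain ⟨d₀, hd₀, hzd⟩ := central_form hK z (hTU hzT) (fun u hu => (hzc u hu).symm)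
  have ok0 : ∀ d : K, d + d ^ q = 0 →
      SgOK (m + 4) K q (Pi.single 0 1) (0 : Fin (m + 4) → K) d := fun d hd =>
    SgOK_single hK 0 (ne_of_lt i0_lt_rev) _ d rfl (by rw [hf_zero_left, add_zero]; exact hd)
  have ok1 : ∀ d : K, d + d ^ q = 0 →
      SgOK (m + 4) K q (Pi.single 1 1) (0 : Fin (m + 4) → K) d := fun d hd =>
    SgOK_single hK 1 (ne_of_lt i1_lt_rev) _ d rfl (by rw [hf_zero_left, add_zero]; exact hd)
  have hd₀0 : d₀ ≠ 0 := by
    rintro rfl
    apply hz1
    apply gm_injective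
    rw [hzd, sgM_zero hK]
    rfl
  have hf4 : Function.Injective (![(0 : Fin (m + 4)), 1, Fin.rev 1, Fin.rev 0] : Fin 4 → Fin (m + 4)) :=
    inj4 _ _ _ _ i0_ne_1 i0_ne_rev1 (ne_of_lt i0_lt_rev) (ne_of_lt i1_lt_rev) i1_ne_rev0
      (ne_of_lt rev1_lt_rev0)
  -- Step 2: all long root elements of the highest root
  have step2 : ∀ (d : K) (hd : d + d ^ q = 0),
      sgl hK (Pi.single 0 1) (0 : Fin (m + 4) → K) d (ok0 d hd) ∈ T := by
    intro d hd
    by_cases hd0 : d = 0
    · subst hd0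
      have : sgl hK (Pi.single 0 1) (0 : Fin (m + 4) → K) 0 (ok0 0 hd) = 1 :=
        gm_injective (sgM_zero hK _)
      rw [this]
      exact T.one_mem
    · have hs : (d / d₀) ^ q = d / d₀ := by
        have e1 : d ^ q = -d := by linear_combination hd
        have e2 : d₀ ^ q = -d₀ := by linear_combination hd₀
        rw [div_pow, e1, e2, neg_div_neg_eq]
      obtain ⟨l, hl⟩ := unorm_surj hK (d / d₀) hs
      rw [unorm_eq] at hl
      have hl0 : l ≠ 0 := by
        rintro rfl
        rw [zero_mul] at hl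
        exact (div_ne_zero hd0 hd₀0) hl.symm
      obtain ⟨g, -, hg⟩ := hal hK (0 : Fin (m + 4)) 1 (ne_of_lt i0_lt_rev) i0_ne_1
        (ne_of_lt i1_lt_rev) i0_ne_rev1 l hl0 Set.univ (fun _ => Set.mem_univ _)
        (fun _ => Set.mem_univ _)
      have hg0 : gm g *ᵥ Pi.single 0 1 = l • Pi.single (0 : Fin (m + 4)) (1 : K) := by
        have e : Function.extend ![(0 : Fin (m + 4)), 1, Fin.rev 1, Fin.rev 0]
            ![l, l⁻¹, l ^ q, (l ^ q)⁻¹] 1 0 = l := hf4.extend_apply _ _ (0 : Fin 4)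
        rw [hg, Matrix.diagonal_mulVec_single, e, ← Pi.single_smul, smul_eq_mul]
      have h1 : g * z * g⁻¹ = sgl hK (Pi.single 0 1) 0 d (ok0 d hd) := by
        apply gm_injective
        rw [gm_mul, gm_mul, hzd, sgM_conj, hg0, mulVec_zero, sgM_smul hK, smul_zero, gm_sgl]
        congr 1
        rw [hl]
        field_simp
      rw [← h1]
      apply hTc z hzT
      rw [h1]
      exact sgl_mem_UUu hK 0 i0_lt_rev _ d (fun _ _ => rfl) (ok0 d hd)
  -- Step 3: long root elements along `e_1`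
  have step3 : ∀ (d : K) (hd : d + d ^ q = 0),
      sgl hK (Pi.single 1 1) (0 : Fin (m + 4) → K) d (ok1 d hd) ∈ T := by
    intro d hd
    have h1 : dsw (K := K) (q := q) (0 : Fin (m + 4)) 1 i0_ne_1 (ne_of_lt i0_lt_rev)
        (ne_of_lt i1_lt_rev) i0_ne_rev1 * sgl hK (Pi.single 0 1) 0 d (ok0 d hd) *
        (dsw (K := K) (q := q) (0 : Fin (m + 4)) 1 i0_ne_1 (ne_of_lt i0_lt_rev)
        (ne_of_lt i1_lt_rev) i0_ne_rev1)⁻¹ = sgl hK (Pi.single 1 1) 0 d (ok1 d hd) := by
      apply gm_injective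
      rw [gm_mul, gm_mul, gm_sgl, sgM_conj, dsw_mulVec_single, mulVec_zero, gm_sgl]
    rw [← h1]
    apply hTc _ (step2 d hd)
    rw [h1]
    exact sgl_mem_UUu hK 1 i1_lt_rev _ d (fun _ _ => rfl) (ok1 d hd)
  have okX : ∀ (j : Fin (m + 4)) (c : K), j ≠ Fin.rev 0 → j ≠ Fin.rev j →
      SgOK (m + 4) K q (Pi.single 0 1) (Pi.single j c) 0 := by
    intro j c hj hjj
    refine SgOK_single hK 0 (ne_of_lt i0_lt_rev) _ 0 (Pi.single_eq_of_ne (Ne.symm hj) _) ?_
    rw [hf_single_left, Pi.single_eq_of_ne (Ne.symm hjj), hp0, mul_zero, add_zero, add_zero]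
  have memX : ∀ (j : Fin (m + 4)) (c : K) (hj : j ≠ Fin.rev 0) (hjj : j ≠ Fin.rev j),
      sgl hK (Pi.single 0 1) (Pi.single j c) 0 (okX j c hj hjj) ∈ UUu (m + 4) K q := by
    intro j c hj hjj
    exact sgl_mem_UUu hK 0 i0_lt_rev _ 0 (fun r hr =>
      Pi.single_eq_of_ne (ne_of_gt (lt_of_lt_of_le (lt_rev0_of_ne j hj) hr)) _) _
  have h1r : (1 : Fin (m + 4)) ≠ Fin.rev 1 := ne_of_lt i1_lt_rev
  have hr1r : Fin.rev (1 : Fin (m + 4)) ≠ Fin.rev (Fin.rev 1) := by
    rw [Fin.rev_rev]
    exact h1r.symm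
  -- Step 4: the short root elements `E_0(c e_1, 0)`
  have step4 : ∀ c : K, sgl hK (Pi.single 0 1) (Pi.single 1 c) 0 (okX 1 c i1_ne_rev0 h1r) ∈ T := by
    intro c
    obtain ⟨β, hβ⟩ : ∃ β : K, β = -(c / κ) := ⟨_, rfl⟩
    obtain ⟨γ, hγ⟩ : ∃ γ : K, γ = -(β ^ q) := ⟨_, rfl⟩
    have hγq : γ ^ q = c / κ := by
      rw [hγ, hβ]
      simp only [frob_neg hK, neg_neg, frob_frob hK]
    have hu_ok := okX (Fin.rev 1) β (ne_of_lt rev1_lt_rev0) hr1r
    have huU := memX (Fin.rev 1) β (ne_of_lt rev1_lt_rev0) hr1r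
    have hue : gm (sgl hK (Pi.single 0 1) (Pi.single (Fin.rev 1) β) 0 hu_ok) *ᵥ Pi.single 1 1 =
        Pi.single 1 1 + γ • Pi.single (0 : Fin (m + 4)) (1 : K) := by
      simp only [gm_sgl, sgM_mulVec, hf_single_left, Pi.single_eq_of_ne (Ne.symm i0_ne_rev1),
        Pi.single_eq_same, hp0, mul_zero, zero_smul, one_mul, add_zero, zero_mul]
      rw [hγ]
      module
    have hconj : sgl hK (Pi.single 0 1) (Pi.single (Fin.rev 1) β) 0 hu_ok *
        sgl hK (Pi.single 1 1) 0 κ (ok1 κ hκ) *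
        (sgl hK (Pi.single 0 1) (Pi.single (Fin.rev 1) β) 0 hu_ok)⁻¹ ∈ T :=
      hTc _ (step3 κ hκ) _ ((UUu _ K q).mul_mem ((UUu _ K q).mul_mem huU
        (sgl_mem_UUu hK 1 i1_lt_rev _ κ (fun _ _ => rfl) (ok1 κ hκ))) ((UUu _ K q).inv_mem huU))
    have hγγ : (γ * γ ^ q * κ) + (γ * γ ^ q * κ) ^ q = 0 := by
      rw [mul_pow, mul_pow, frob_frob hK, hκq]
      ring
    have e11 : hf (m + 4) K q (Pi.single 1 (1 : K)) (Pi.single 1 (1 : K)) = 0 := by
      rw [hf_single_left, Pi.single_eq_of_ne (Ne.symm h1r), hp0, mul_zero]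
    have e00 : hf (m + 4) K q (Pi.single 0 (1 : K)) (Pi.single 0 (1 : K)) = 0 := by
      rw [hf_single_left, Pi.single_eq_of_ne (Ne.symm (ne_of_lt i0_lt_rev)), hp0, mul_zero]
    have e10 : hf (m + 4) K q (Pi.single 1 (1 : K)) (Pi.single 0 (1 : K)) = 0 := by
      rw [hf_single_left, Pi.single_eq_of_ne (Ne.symm i0_ne_rev1), hp0, mul_zero]
    have hdec : sgl hK (Pi.single 0 1) (Pi.single (Fin.rev 1) β) 0 hu_ok *
        sgl hK (Pi.single 1 1) 0 κ (ok1 κ hκ) *
        (sgl hK (Pi.single 0 1) (Pi.single (Fin.rev 1) β) 0 hu_ok)⁻¹ =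
        sgl hK (Pi.single 1 1) 0 κ (ok1 κ hκ) *
          sgl hK (Pi.single 0 1) 0 (γ * γ ^ q * κ) (ok0 _ hγγ) *
          sgl hK (Pi.single 0 1) (Pi.single 1 c) 0 (okX 1 c i1_ne_rev0 h1r) := by
      apply gm_injective
      rw [gm_mul, gm_mul, gm_sgl hK (Pi.single 1 1) (0 : Fin (m + 4) → K) κ, sgM_conj, hue,
        mulVec_zero, gm_mul, gm_mul, gm_sgl, gm_sgl,
        gm_sgl, sgM_add_iso hK (Pi.single 1 1) (γ • Pi.single 0 1) κ e11
          (by rw [hf_smul_left, hf_smul_right, e00, mul_zero, mul_zero])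
          (by rw [hf_smul_right, e10, mul_zero]) hκq,
        sgM_smul hK γ, sgM_smul hK γ, smul_zero, mul_zero, smul_smul, ← Pi.single_smul,
        smul_eq_mul, mul_one, hγq, div_mul_cancel₀ _ hκ0]
    have h2 : sgl hK (Pi.single 0 1) (Pi.single 1 c) 0 (okX 1 c i1_ne_rev0 h1r) =
        (sgl hK (Pi.single 1 1) 0 κ (ok1 κ hκ) *
          sgl hK (Pi.single 0 1) 0 (γ * γ ^ q * κ) (ok0 _ hγγ))⁻¹ *
        (sgl hK (Pi.single 0 1) (Pi.single (Fin.rev 1) β) 0 hu_ok *
        sgl hK (Pi.single 1 1) 0 κ (ok1 κ hκ) *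
        (sgl hK (Pi.single 0 1) (Pi.single (Fin.rev 1) β) 0 hu_ok)⁻¹) := by
      rw [hdec]
      group
    rw [h2]
    exact T.mul_mem (T.inv_mem (T.mul_mem (step3 κ hκ) (step2 _ hγγ))) hconj
  -- Step 5: the whole radical `Q_0`
  obtain ⟨P, hP⟩ : ∃ P : (Fin (m + 4) → K) → Prop, P = fun b => b (Fin.rev 0) = 0 ∧
      ∀ (d : K) (h : SgOK (m + 4) K q (Pi.single 0 1) b d), sgl hK (Pi.single 0 1) b d h ∈ T :=
    ⟨_, rfl⟩
  have Pa : ∀ (b : Fin (m + 4) → K) (d₁ : K) (h₁ : SgOK (m + 4) K q (Pi.single 0 1) b d₁),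
      sgl hK (Pi.single 0 1) b d₁ h₁ ∈ T → P b := by
    intro b d₁ h₁ hmem
    rw [hP]
    refine ⟨?_, ?_⟩
    · have := h₁.2.1
      rwa [hf_single_right hK, one_pow, mul_one] at this
    · intro d h
      have htr : (d - d₁) + (d - d₁) ^ q = 0 := by
        rw [frob_sub hK]
        linear_combination h.2.2 - h₁.2.2
      have e : sgl hK (Pi.single 0 1) b d h = sgl hK (Pi.single 0 1) b d₁ h₁ *
          sgl hK (Pi.single 0 1) 0 (d - d₁) (ok0 _ htr) := by
        apply gm_injective
        rw [gm_mul, gm_sgl, gm_sgl, gm_sgl,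
          sgM_mul hK _ b 0 d₁ (d - d₁) h₁.1 h₁.2.1 (hf_zero_left _), add_zero, hf_zero_left]
        congr 1
        ring
      rw [e]
      exact T.mul_mem hmem (step2 _ htr)
  have P0 : P 0 := by
    rw [hP]
    refine ⟨rfl, fun d h => ?_⟩
    have h2 := h.2.2
    rw [hf_zero_left, add_zero] at h2
    exact step2 d h2
  have Padd : ∀ b₁ b₂ : Fin (m + 4) → K, P b₁ → P b₂ → P (b₁ + b₂) := by
    intro b₁ b₂ hb₁ hb₂
    rw [hP] at hb₁ hb₂
    obtain ⟨h1, H1⟩ := hb₁
    obtain ⟨h2, H2⟩ := hb₂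
    obtain ⟨d₁, hd₁⟩ := utrace_surj hK (-hf _ K q b₁ b₁) (by rw [frob_neg hK, hf_symm hK])
    obtain ⟨d₂, hd₂⟩ := utrace_surj hK (-hf _ K q b₂ b₂) (by rw [frob_neg hK, hf_symm hK])
    have ok₁ : SgOK _ K q (Pi.single 0 1) b₁ d₁ :=
      SgOK_single hK 0 (ne_of_lt i0_lt_rev) _ d₁ h1 (by linear_combination hd₁)
    have ok₂ : SgOK _ K q (Pi.single 0 1) b₂ d₂ :=
      SgOK_single hK 0 (ne_of_lt i0_lt_rev) _ d₂ h2 (by linear_combination hd₂)
    have ok₃ := SgOK_add hK ok₁ ok₂
    apply Pa (b₁ + b₂) _ ok₃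
    rw [← sgl_mul hK _ _ _ _ _ ok₁ ok₂ ok₃]
    exact T.mul_mem (H1 d₁ ok₁) (H2 d₂ ok₂)
  have P1 : ∀ c : K, P (Pi.single 1 c) := fun c => Pa _ 0 _ (step4 c)
  have Pj : ∀ (j : Fin (m + 4)) (c : K), j ≠ 0 → j ≠ 1 → j ≠ Fin.rev 1 → j ≠ Fin.rev 0 →
      j ≠ Fin.rev j → P (Pi.single j c) := by
    intro j c hj0 hj1 hjr1 hjr0 hjj
    have h1j : (1 : Fin (m + 4)) ≠ Fin.rev j := fun h => hjr1 (by rw [h, Fin.rev_rev])
    have h0j : (0 : Fin (m + 4)) ≠ Fin.rev j := fun h => hjr0 (by rw [h, Fin.rev_rev])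
    apply Pa _ 0 (okX j c hjr0 hjj)
    have h1 : dsw (K := K) (q := q) (1 : Fin (m + 4)) j (Ne.symm hj1) h1r hjj h1j *
        sgl hK (Pi.single 0 1) (Pi.single 1 c) 0 (okX 1 c i1_ne_rev0 h1r) *
        (dsw (K := K) (q := q) (1 : Fin (m + 4)) j (Ne.symm hj1) h1r hjj h1j)⁻¹ =
        sgl hK (Pi.single 0 1) (Pi.single j c) 0 (okX j c hjr0 hjj) := by
      apply gm_injective
      rw [gm_mul, gm_mul, gm_sgl, sgM_conj, dsw_mulVec_single,
        dsw_mulVec_fix 1 j (Ne.symm hj1) h1r hjj h1j (Pi.single 0 1)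
          (Pi.single_eq_of_ne (Ne.symm i0_ne_1) _) (Pi.single_eq_of_ne hj0 _)
          (Pi.single_eq_of_ne (Ne.symm i0_ne_rev1) _) (Pi.single_eq_of_ne (Ne.symm h0j) _),
        gm_sgl]
    rw [← h1]
    apply hTc _ (step4 c)
    rw [h1]
    exact memX j c hjr0 hjj
  have Pr1 : ∀ c : K, P (Pi.single (Fin.rev 1) c) := by
    intro c
    apply Pa _ 0 (okX (Fin.rev 1) c (ne_of_lt rev1_lt_rev0) hr1r)
    have h1 : wk hK (1 : Fin (m + 4)) h1r κ hκ0 hκ *
        sgl hK (Pi.single 0 1) (Pi.single 1 (c / κ)) 0 (okX 1 (c / κ) i1_ne_rev0 h1r) *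
        (wk hK (1 : Fin (m + 4)) h1r κ hκ0 hκ)⁻¹ =
        sgl hK (Pi.single 0 1) (Pi.single (Fin.rev 1) c) 0
          (okX (Fin.rev 1) c (ne_of_lt rev1_lt_rev0) hr1r) := by
      apply gm_injective
      rw [gm_mul, gm_mul, gm_sgl, sgM_conj, wk_mulVec_single,
        wk_mulVec_single_of_ne hK 1 h1r κ hκ0 hκ 0 i0_ne_1 i0_ne_rev1, gm_sgl,
        mul_div_cancel₀ _ hκ0]
    rw [← h1]
    apply hTc _ (step4 _)
    rw [h1]
    exact memX _ c (ne_of_lt rev1_lt_rev0) hr1r
  have Pμ : ∀ (μ : Fin (m + 4)) (c : K), Fin.rev μ = μ → P (Pi.single μ c) := by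
    intro μ c hμ
    have hμ0 : μ ≠ 0 := by
      rintro rfl
      exact (ne_of_lt i0_lt_rev) hμ.symm
    have hμ1 : μ ≠ 1 := by
      rintro rfl
      exact h1r hμ.symm
    have hμr0 : μ ≠ Fin.rev 0 := by
      intro h
      apply hμ0
      rw [← hμ, h, Fin.rev_rev]
    have hμr1 : μ ≠ Fin.rev 1 := by
      intro h
      apply hμ1
      rw [← hμ, h, Fin.rev_rev]
    have hμlt : μ < Fin.rev 1 := lt_rev1_of_ne μ hμr0 hμr1
    obtain ⟨d', hd'⟩ := utrace_surj hK (-(c * c ^ q)) (by
      rw [frob_neg hK, mul_pow, frob_frob hK]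
      ring)
    have hgok : SgOK (m + 4) K q (Pi.single 1 1) (Pi.single μ c) d' :=
      SgOK_single hK 1 h1r _ d' (Pi.single_eq_of_ne (Ne.symm hμr1) _) (by
        rw [hf_single_left, hμ, Pi.single_eq_same]
        linear_combination hd')
    have hgU : sgl hK (Pi.single 1 1) (Pi.single μ c) d' hgok ∈ UUu (m + 4) K q :=
      sgl_mem_UUu hK 1 i1_lt_rev _ d' (fun r hr =>
        Pi.single_eq_of_ne (ne_of_gt (lt_of_lt_of_le hμlt hr)) _) hgok
    have hge0 : gm (sgl hK (Pi.single 1 1) (Pi.single μ c) d' hgok) *ᵥ Pi.single 0 1 =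
        Pi.single (0 : Fin (m + 4)) (1 : K) := by
      simp only [gm_sgl, sgM_mulVec, hf_single_left, Pi.single_eq_of_ne i1_ne_rev0.symm,
        Pi.single_eq_of_ne (Ne.symm hμr0), hp0, mul_zero, zero_smul, add_zero, sub_zero]
    have hgv : gm (sgl hK (Pi.single 1 1) (Pi.single μ c) d' hgok) *ᵥ Pi.single (Fin.rev 1) 1 =
        Pi.single (Fin.rev 1) 1 + Pi.single μ c + Pi.single (1 : Fin (m + 4)) d' := by
      simp only [gm_sgl, sgM_mulVec, hf_single_left, Fin.rev_rev, Pi.single_eq_same,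
        Pi.single_eq_of_ne (Ne.symm hμ1), hp0, one_pow, mul_zero, mul_one, zero_smul, one_smul,
        sub_zero]
      rw [← Pi.single_smul, smul_eq_mul, mul_one]
    have hX' := (Pr1 1)
    rw [hP] at hX'
    have hokX' := okX (Fin.rev 1) (1 : K) (ne_of_lt rev1_lt_rev0) hr1r
    have h₃ : SgOK (m + 4) K q (Pi.single 0 1)
        (Pi.single (Fin.rev 1) 1 + Pi.single μ c + Pi.single (1 : Fin (m + 4)) d') 0 := by
      have := SgOK_conj (sgl hK (Pi.single 1 1) (Pi.single μ c) d' hgok) hokX'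
      rwa [hge0, hgv] at this
    have h1 : sgl hK (Pi.single 1 1) (Pi.single μ c) d' hgok *
        sgl hK (Pi.single 0 1) (Pi.single (Fin.rev 1) 1) 0 hokX' *
        (sgl hK (Pi.single 1 1) (Pi.single μ c) d' hgok)⁻¹ =
        sgl hK (Pi.single 0 1)
          (Pi.single (Fin.rev 1) 1 + Pi.single μ c + Pi.single (1 : Fin (m + 4)) d') 0 h₃ := by
      apply gm_injective
      rw [gm_mul, gm_mul, gm_sgl hK (Pi.single 0 1) (Pi.single (Fin.rev 1) 1) 0 hokX', sgM_conj,
        hge0, hgv, gm_sgl]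
    have hb₃ : P (Pi.single (Fin.rev 1) 1 + Pi.single μ c + Pi.single (1 : Fin (m + 4)) d') := by
      apply Pa _ 0 h₃
      rw [← h1]
      exact hTc _ (hX'.2 0 hokX') _ ((UUu _ K q).mul_mem ((UUu _ K q).mul_mem hgU
        (memX _ 1 (ne_of_lt rev1_lt_rev0) hr1r)) ((UUu _ K q).inv_mem hgU))
    have e : (Pi.single μ c : Fin (m + 4) → K) = Pi.single (Fin.rev 1) 1 + Pi.single μ c +
        Pi.single (1 : Fin (m + 4)) d' + Pi.single (Fin.rev 1) (-1) +
        Pi.single (1 : Fin (m + 4)) (-d') := by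
      rw [Pi.single_neg, Pi.single_neg]
      abel
    rw [e]
    exact Padd _ _ (Padd _ _ hb₃ (Pr1 (-1))) (P1 (-d'))
  have Pall : ∀ b : Fin (m + 4) → K, b 0 = 0 → b (Fin.rev 0) = 0 → P b := by
    intro b hb0 hbl
    have h1 : P (∑ j, Pi.single j (b j)) := by
      apply Finset.sum_induction _ P Padd P0
      intro j _
      by_cases h0 : j = 0
      · rw [h0, hb0, Pi.single_zero]
        exact P0
      by_cases hl : j = Fin.rev 0
      · rw [hl, hbl, Pi.single_zero]
        exact P0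
      by_cases h1 : j = 1
      · rw [h1]
        exact P1 _
      by_cases hr1 : j = Fin.rev 1
      · rw [hr1]
        exact Pr1 _
      by_cases hμ : Fin.rev j = j
      · exact Pμ j _ hμ
      · exact Pj j _ h0 h1 hr1 hl (Ne.symm hμ)
    rwa [Finset.univ_sum_single] at h1
  -- Step 6: the radicals `Q_k`
  have Qk : ∀ (k : Fin (m + 4)) (hk : k < Fin.rev k) (b : Fin (m + 4) → K) (d : K)
      (h : SgOK (m + 4) K q (Pi.single k 1) b d), (∀ j, j ≤ k → b j = 0) →
      (∀ j, Fin.rev k ≤ j → b j = 0) → sgl hK (Pi.single k 1) b d h ∈ T := by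
    intro k hk b d h hb1 hb2
    have hbl : b (Fin.rev 0) = 0 := hb2 _ (Fin.rev_le_rev.2 (Fin.zero_le k))
    have hb0 : b 0 = 0 := hb1 0 (Fin.zero_le k)
    have hPb := Pall b hb0 hbl
    rw [hP] at hPb
    by_cases hk0 : k = 0
    · subst hk0
      exact hPb.2 d h
    · have h0k : (0 : Fin (m + 4)) ≠ Fin.rev k := by
        intro h'
        rw [← h'] at hk
        exact absurd hk (Fin.not_lt_zero k)
      have h₀ : SgOK (m + 4) K q (Pi.single 0 1) b d :=
        SgOK_single hK 0 (ne_of_lt i0_lt_rev) b d hbl h.2.2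
      have h1 : dsw (K := K) (q := q) (0 : Fin (m + 4)) k (Ne.symm hk0) (ne_of_lt i0_lt_rev)
          (ne_of_lt hk) h0k * sgl hK (Pi.single 0 1) b d h₀ *
          (dsw (K := K) (q := q) (0 : Fin (m + 4)) k (Ne.symm hk0) (ne_of_lt i0_lt_rev)
          (ne_of_lt hk) h0k)⁻¹ = sgl hK (Pi.single k 1) b d h := by
        apply gm_injective
        rw [gm_mul, gm_mul, gm_sgl, sgM_conj, dsw_mulVec_single,
          dsw_mulVec_fix 0 k (Ne.symm hk0) (ne_of_lt i0_lt_rev) (ne_of_lt hk) h0k b hb0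
            (hb1 k le_rfl) hbl (hb2 _ le_rfl), gm_sgl]
      rw [← h1]
      apply hTc _ (hPb.2 d h₀)
      rw [h1]
      exact sgl_mem_UUu hK k hk b d hb2 h
  -- Step 7: clearing rows
  have key : ∀ (j k : ℕ), m + 4 ≤ k + j → ∀ u ∈ UUu (m + 4) K q,
      (∀ i : Fin (m + 4), (i : ℕ) < k → ∀ s, gm u i s = if i = s then 1 else 0) → u ∈ T := by
    intro j
    induction j with
    | zero =>
      intro k hk u hu hrows
      have : u = 1 := eq_one_of_rows hK u hu (fun i _ s => hrows i (by have := i.2; omega) s)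
      rw [this]
      exact T.one_mem
    | succ j ih =>
      intro k hk u hu hrows
      by_cases hkN : m + 4 ≤ k
      · have : u = 1 := eq_one_of_rows hK u hu (fun i _ s => hrows i (by have := i.2; omega) s)
        rw [this]
        exact T.one_mem
      · push Not at hkN
        obtain ⟨kk, hkk⟩ : ∃ kk : Fin (m + 4), (kk : ℕ) = k := ⟨⟨k, hkN⟩, rfl⟩
        by_cases hlow : kk < Fin.rev kk
        · have hu' := (mem_UUu u).1 hu
          have hUT := hu'.1
          have hdg := hu'.2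
          have hcol : ∀ s, Fin.rev kk < s → ∀ r, gm u r s = if r = s then 1 else 0 := by
            intro s hs
            apply rows_std_col hK u s
            intro x
            apply hrows (Fin.rev s)
            have h1 : Fin.rev s < kk := by
              rw [← Fin.rev_rev kk]
              exact Fin.rev_lt_rev.2 hs
            rw [← hkk]
            exact h1
          obtain ⟨b, hb⟩ : ∃ b : Fin (m + 4) → K, b = fun j =>
              if kk < j ∧ j < Fin.rev kk then -(gm u kk (Fin.rev j)) ^ q else 0 := ⟨_, rfl⟩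
          have hbdef : ∀ j, b j =
              if kk < j ∧ j < Fin.rev kk then -(gm u kk (Fin.rev j)) ^ q else 0 := by
            intro j
            rw [hb]
          have hb1 : ∀ j, j ≤ kk → b j = 0 := by
            intro j hj
            rw [hbdef, if_neg (fun h => absurd h.1 (not_lt.2 hj))]
          have hb2 : ∀ j, Fin.rev kk ≤ j → b j = 0 := by
            intro j hj
            rw [hbdef, if_neg (fun h => absurd h.2 (not_lt.2 hj))]
          have hbmid : ∀ s, kk < s → s < Fin.rev kk → b (Fin.rev s) = -(gm u kk s) ^ q := by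
            intro s h h'
            rw [hbdef, if_pos ⟨by rw [← Fin.rev_rev kk]; exact Fin.rev_lt_rev.2 h',
              Fin.rev_lt_rev.2 h⟩, Fin.rev_rev]
          have htr : gm u kk (Fin.rev kk) + (gm u kk (Fin.rev kk)) ^ q +
              hf (m + 4) K q b b = 0 := by
            have h1 := gm_row_rel hK u kk (Fin.rev kk)
            rw [if_neg (ne_of_lt hlow), Fin.rev_rev] at h1
            have h2 : ∀ s, gm u kk s * (gm u kk (Fin.rev s)) ^ q =
                (if s = kk then (gm u kk (Fin.rev kk)) ^ q else 0) +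
                (if s = Fin.rev kk then gm u kk (Fin.rev kk) else 0) +
                b s * (b (Fin.rev s)) ^ q := by
              intro s
              rcases lt_trichotomy s kk with h | h | h
              · rw [hUT kk s h, zero_mul, if_neg (ne_of_lt h),
                  if_neg (ne_of_lt (lt_trans h hlow)), hb1 s h.le, zero_mul]
                ring
              · rw [h, hdg kk, one_mul, if_pos rfl, if_neg (ne_of_lt hlow), hb1 kk le_rfl,
                  zero_mul]
                ring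
              · rcases lt_trichotomy s (Fin.rev kk) with h' | h' | h'
                · rw [if_neg (ne_of_gt h), if_neg (ne_of_lt h'), hbmid s h h',
                    hbdef s, if_pos ⟨h, h'⟩, frob_neg hK, frob_frob hK]
                  ring
                · rw [h', Fin.rev_rev, hdg kk, one_pow, mul_one, if_neg (ne_of_gt hlow),
                    if_pos rfl, hb2 (Fin.rev kk) le_rfl, zero_mul]
                  ring
                · rw [hcol s h' kk, if_neg (ne_of_lt h), zero_mul, if_neg (ne_of_gt h),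
                    if_neg (ne_of_gt h'), hb2 s h'.le, zero_mul]
                  ring
            rw [Finset.sum_congr rfl (fun s _ => h2 s), Finset.sum_add_distrib,
              Finset.sum_add_distrib, Finset.sum_ite_eq', Finset.sum_ite_eq'] at h1
            simp only [Finset.mem_univ, if_true] at h1
            unfold hf
            linear_combination h1
          have hOK : SgOK (m + 4) K q (Pi.single kk 1) b (gm u kk (Fin.rev kk)) :=
            SgOK_single hK kk (ne_of_lt hlow) b _ (hb2 _ le_rfl) htr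
          have hEU := sgl_mem_UUu hK kk hlow b _ hb2 hOK
          have hET := Qk kk hlow b _ hOK hb1 hb2
          have hErow : ∀ s, gm (sgl hK (Pi.single kk 1) b (gm u kk (Fin.rev kk)) hOK) kk s =
              gm u kk s := by
            intro s
            rw [gm_sgl, sgM_single_apply hK, if_pos rfl, hb1 kk le_rfl, ite_self, add_zero]
            rcases lt_trichotomy s kk with h | h | h
            · rw [hb2 (Fin.rev s) (Fin.rev_le_rev.2 h.le), hp0, if_neg (ne_of_gt h),
                if_neg (fun h' : kk = kk ∧ s = Fin.rev kk => (ne_of_lt (lt_trans h hlow)) h'.2),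
                hUT kk s h]
              simp
            · rw [h, if_pos rfl, hb2 (Fin.rev kk) le_rfl, hp0,
                if_neg (fun h' : kk = kk ∧ kk = Fin.rev kk => (ne_of_lt hlow) h'.2), hdg]
              simp
            · rcases lt_trichotomy s (Fin.rev kk) with h' | h' | h'
              · rw [hbmid s h h', frob_neg hK, frob_frob hK, if_neg (ne_of_lt h),
                  if_neg (fun h'' : kk = kk ∧ s = Fin.rev kk => (ne_of_lt h') h''.2)]
                simp
              · rw [h', Fin.rev_rev, hb1 kk le_rfl, hp0, if_neg (ne_of_lt hlow),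
                  if_pos (⟨rfl, rfl⟩ : kk = kk ∧ Fin.rev kk = Fin.rev kk)]
                simp
              · rw [hb1 (Fin.rev s) (by rw [← Fin.rev_rev kk]; exact Fin.rev_le_rev.2 h'.le),
                  hp0, if_neg (ne_of_lt h),
                  if_neg (fun h'' : kk = kk ∧ s = Fin.rev kk => (ne_of_gt h') h''.2),
                  hcol s h' kk, if_neg (ne_of_lt h)]
                simp
          have hw_rows : ∀ i : Fin (m + 4), (i : ℕ) < k + 1 → ∀ s,
              gm (u * (sgl hK (Pi.single kk 1) b (gm u kk (Fin.rev kk)) hOK)⁻¹) i s =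
                if i = s then 1 else 0 := by
            intro i hi s
            by_cases hik : (i : ℕ) < k
            · have hikk : i < kk := by
                rw [Fin.lt_def, hkk]
                exact hik
              rw [gm_mul, Matrix.mul_apply, Finset.sum_eq_single i]
              · rw [hrows i hik i, if_pos rfl, one_mul, sgl_inv, gm_sgl, sgM_single_apply hK,
                  if_neg (ne_of_lt hikk),
                  if_neg (fun h : i = kk ∧ s = Fin.rev kk => (ne_of_lt hikk) h.1), Pi.neg_apply,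
                  hb1 i hikk.le]
                simp
              · intro r _ hr
                rw [hrows i hik r, if_neg (Ne.symm hr), zero_mul]
              · intro h
                exact absurd (Finset.mem_univ _) h
            · have hi_eq : i = kk := Fin.ext (by omega)
              rw [hi_eq, gm_mul, Matrix.mul_apply]
              have h1 : ∑ r, gm u kk r *
                  gm (sgl hK (Pi.single kk 1) b (gm u kk (Fin.rev kk)) hOK)⁻¹ r s =
                  ∑ r, gm (sgl hK (Pi.single kk 1) b (gm u kk (Fin.rev kk)) hOK) kk r *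
                  gm (sgl hK (Pi.single kk 1) b (gm u kk (Fin.rev kk)) hOK)⁻¹ r s :=
                Finset.sum_congr rfl (fun r _ => by rw [hErow])
              rw [h1, ← Matrix.mul_apply, gm_mul_inv, Matrix.one_apply]
          have hwT := ih (k + 1) (by omega) _ ((UUu _ K q).mul_mem hu ((UUu _ K q).inv_mem hEU))
            hw_rows
          have e : u = u * (sgl hK (Pi.single kk 1) b (gm u kk (Fin.rev kk)) hOK)⁻¹ *
              sgl hK (Pi.single kk 1) b (gm u kk (Fin.rev kk)) hOK := by group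
          rw [e]
          exact T.mul_mem hwT hET
        · have : u = 1 := eq_one_of_rows hK u hu (fun i hi s => hrows i (by
            by_contra hcon
            have h1 : kk ≤ i := by
              rw [Fin.le_def, hkk]
              omega
            have h2 : Fin.rev i ≤ Fin.rev kk := Fin.rev_le_rev.2 h1
            exact hlow (lt_of_le_of_lt h1 (lt_of_lt_of_le hi h2))) s)
          rw [this]
          exact T.one_mem
  intro u hu
  exact key (m + 4) 0 (by omega) u hu (fun i hi => absurd hi (Nat.not_lt_zero _))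

end Cfsg.Agent.Lib.helper25.SUni
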