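import Mathlib
import Cfsg.Agent.Lib.helper25.SUni6
import Cfsg.Agent.Lib.helper25.SpUni1

set_option autoImplicit false
set_option linter.unusedSectionVars false
set_option linter.unusedSimpArgs false

namespace Cfsg.Agent.Lib.helper25.SUni

open Matrix
open Cfsg.Agent.Lib.helper4
open Cfsg.Agent.Lib.helper25.SLUni
open Cfsg.Agent.Lib.helper25.SpUni (UTr utr_one utr_mul)

variable {n : ℕ} {K : Type*} [Field K] [Fintype K] {q : ℕ}

/-- Commuting with a transvection along `e_k`. -/
theorem comm_tv1 (hK : Fintype.card K = q ^ 2) (z : GamU n K q) (k : Fin n) (κ : K)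
    (hκ0 : κ ≠ 0) (hOK : SgOK n K q (Pi.single k 1) (0 : Fin n → K) κ)
    (hz : z * sgl hK (Pi.single k 1) 0 κ hOK = sgl hK (Pi.single k 1) 0 κ hOK * z) :
    (∀ r, r ≠ k → gm z r k = 0) ∧ (∀ s, s ≠ Fin.rev k → gm z (Fin.rev k) s = 0) ∧
      gm z k k = gm z (Fin.rev k) (Fin.rev k) ∧
      (∀ d : K, gm z * Matrix.single k (Fin.rev k) d = Matrix.single k (Fin.rev k) d * gm z) := by
  have h1 := congrArg gm hz
  rw [gm_mul, gm_mul, gm_sgl, sgM_tv hK, mul_add, add_mul, mul_one, one_mul] at h1
  have h2 : gm z * Matrix.single k (Fin.rev k) κ = Matrix.single k (Fin.rev k) κ * gm z :=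
    add_left_cancel h1
  refine ⟨?_, ?_, ?_, ?_⟩
  · intro r hr
    have h3 := congrFun (congrFun h2 r) (Fin.rev k)
    rw [Matrix.mul_single_apply_same, Matrix.single_mul_apply_of_ne _ _ _ _ _ hr] at h3
    exact (mul_eq_zero.1 h3).resolve_right hκ0
  · intro s hs
    have h3 := congrFun (congrFun h2 k) s
    rw [Matrix.mul_single_apply_of_ne _ _ _ _ _ hs, Matrix.single_mul_apply_same] at h3
    exact (mul_eq_zero.1 h3.symm).resolve_left hκ0
  · have h3 := congrFun (congrFun h2 k) (Fin.rev k)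
    rw [Matrix.mul_single_apply_same, Matrix.single_mul_apply_same] at h3
    have h4 : (gm z k k - gm z (Fin.rev k) (Fin.rev k)) * κ = 0 := by linear_combination h3
    have h5 := (mul_eq_zero.1 h4).resolve_right hκ0
    linear_combination h5
  · intro d
    have e : Matrix.single k (Fin.rev k) d = (d * κ⁻¹) • Matrix.single k (Fin.rev k) κ := by
      rw [Matrix.smul_single, smul_eq_mul, inv_mul_cancel_right₀ hκ0]
    rw [e, Matrix.mul_smul, Matrix.smul_mul, h2]

/-- Commuting with a root element `E_k(c e_j, d)`. -/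
theorem comm_root1 (hK : Fintype.card K = q ^ 2) (z : GamU n K q) (k j : Fin n)
    (hjk : j ≠ k) (c d : K) (hc : c ≠ 0)
    (hOK : SgOK n K q (Pi.single k 1) (Pi.single j c) d)
    (hC : ∀ d : K, gm z * Matrix.single k (Fin.rev k) d = Matrix.single k (Fin.rev k) d * gm z)
    (hz : z * sgl hK (Pi.single k 1) (Pi.single j c) d hOK =
      sgl hK (Pi.single k 1) (Pi.single j c) d hOK * z) :
    (∀ r, r ≠ k → r ≠ j → gm z r j = 0) ∧ gm z j j = gm z (Fin.rev k) (Fin.rev k) := by
  have h1 := congrArg gm hz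
  rw [gm_mul, gm_mul, gm_sgl, sgM_root hK] at h1
  simp only [mul_add, mul_sub, add_mul, sub_mul, mul_one, one_mul, hC d] at h1
  have hkj' : Fin.rev k ≠ Fin.rev j := fun h => hjk (Fin.rev_injective h).symm
  refine ⟨?_, ?_⟩
  · intro r hrk hrj
    have h3 := congrFun (congrFun h1 r) (Fin.rev k)
    simp only [Matrix.add_apply, Matrix.sub_apply] at h3
    rw [Matrix.mul_single_apply_same, Matrix.mul_single_apply_of_ne _ _ _ _ _ hkj',
      Matrix.single_mul_apply_of_ne _ _ _ _ _ hrj, Matrix.single_mul_apply_of_ne _ _ _ _ _ hrk,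
      Matrix.single_mul_apply_of_ne _ _ _ _ _ hrk] at h3
    have h4 : gm z r j * c = 0 := by linear_combination h3
    exact (mul_eq_zero.1 h4).resolve_right hc
  · have h3 := congrFun (congrFun h1 j) (Fin.rev k)
    simp only [Matrix.add_apply, Matrix.sub_apply] at h3
    rw [Matrix.mul_single_apply_same, Matrix.mul_single_apply_of_ne _ _ _ _ _ hkj',
      Matrix.single_mul_apply_same, Matrix.single_mul_apply_of_ne _ _ _ _ _ hjk,
      Matrix.single_mul_apply_of_ne _ _ _ _ _ hjk] at h3
    have h4 : (gm z j j - gm z (Fin.rev k) (Fin.rev k)) * c = 0 := by linear_combination h3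
    have h5 := (mul_eq_zero.1 h4).resolve_right hc
    linear_combination h5

/-! ### Subgroups attached to a weight function -/

/-- Block upper triangular elements for a weight function. -/
noncomputable def PWu (K : Type*) [Field K] [Fintype K] (q : ℕ) (w : Fin n → ℕ) :
    Subgroup (GamU n K q) :=
  ofMulClosed {g | UTr w (gm g)} (utr_one w) (fun _ _ ha hb => utr_mul ha hb)

/-- Block unitriangular elements for a weight function. -/
noncomputable def RWu (K : Type*) [Field K] [Fintype K] (q : ℕ) (w : Fin n → ℕ) :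
    Subgroup (GamU n K q) :=
  ofMulClosed {g | ∀ k l, w l ≤ w k → gm g k l = (1 : Matrix (Fin n) (Fin n) K) k l}
    (fun _ _ _ => rfl)
    (fun a b ha hb k l hkl => by
      show (gm a * gm b) k l = _
      rw [Matrix.mul_apply, Finset.sum_eq_single k]
      · rw [ha k k le_rfl, Matrix.one_apply_eq, one_mul, hb k l hkl]
      · intro c _ hc
        by_cases hck : w c ≤ w k
        · rw [ha k c hck, Matrix.one_apply_ne (Ne.symm hc), zero_mul]
        · have h1 : w l ≤ w c := le_trans hkl (not_le.1 hck).le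
          have h2 : c ≠ l := by
            rintro rfl
            exact hck hkl
          rw [hb c l h1, Matrix.one_apply_ne h2, mul_zero]
      · intro h
        exact absurd (Finset.mem_univ _) h)

theorem mem_PWu (w : Fin n → ℕ) (g : GamU n K q) : g ∈ PWu K q w ↔ UTr w (gm g) := Iff.rfl

theorem mem_RWu (w : Fin n → ℕ) (g : GamU n K q) :
    g ∈ RWu K q w ↔ ∀ k l, w l ≤ w k → gm g k l = (1 : Matrix (Fin n) (Fin n) K) k l := Iff.rfl

theorem PWu_le_normalizer (w : Fin n → ℕ) :
    PWu K q w ≤ Subgroup.normalizer ((RWu K q w : Subgroup (GamU n K q)) : Set (GamU n K q)) := by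
  intro g hg
  rw [Subgroup.mem_normalizer_iff]
  intro y
  apply Cfsg.Agent.Lib.helper25.conj_mem_iff_of_forall_conj_mem
  intro r hr
  have hg' : g⁻¹ ∈ PWu K q w := (PWu K q w).inv_mem hg
  rw [mem_PWu] at hg hg'
  rw [mem_RWu] at hr ⊢
  intro k l hkl
  have h1 : ∀ b, w b ≤ w k → (gm g * gm r) k b = gm g k b := by
    intro b hb
    rw [Matrix.mul_apply]
    have h0 : gm g k b = ∑ a, gm g k a * (1 : Matrix (Fin n) (Fin n) K) a b := by
      rw [← Matrix.mul_apply, Matrix.mul_one]
    rw [h0]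
    apply Finset.sum_congr rfl
    intro a _
    by_cases ha : w a < w k
    · rw [hg k a ha, zero_mul, zero_mul]
    · rw [hr a b (le_trans hb (not_lt.1 ha))]
  show ((gm g * gm r) * gm g⁻¹) k l = _
  have h2 : ((gm g * gm r) * gm g⁻¹) k l = (gm g * gm g⁻¹) k l := by
    rw [Matrix.mul_apply, Matrix.mul_apply]
    apply Finset.sum_congr rfl
    intro b _
    by_cases hb : w l < w b
    · rw [hg' b l hb, mul_zero, mul_zero]
    · rw [h1 b (le_trans (not_lt.1 hb) hkl)]
  rw [h2, gm_mul_inv]

theorem UUu_le_PWu (w : Fin n → ℕ) (hw : ∀ i j : Fin n, i ≤ j → w i ≤ w j) :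
    UUu n K q ≤ PWu K q w := by
  intro g hg
  rw [mem_UUu] at hg
  rw [mem_PWu]
  intro k l hlk
  apply hg.1
  by_contra h
  exact absurd (hw k l (not_lt.1 h)) (not_le.2 hlk)

theorem RWu_le_UUu (w : Fin n → ℕ) (hw : ∀ i j : Fin n, i ≤ j → w i ≤ w j) :
    RWu K q w ≤ UUu n K q := by
  intro g hg
  rw [mem_RWu] at hg
  rw [mem_UUu]
  refine ⟨fun i j hji => ?_, fun i => ?_⟩
  · rw [hg i j (hw j i hji.le), Matrix.one_apply_ne (ne_of_gt hji)]
  · rw [hg i i le_rfl, Matrix.one_apply_eq]

theorem sgl_mem_RWu (hK : Fintype.card K = q ^ 2) (w : Fin n → ℕ) (k : Fin n)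
    (b : Fin n → K) (d : K) (hOK : SgOK n K q (Pi.single k 1) b d)
    (h1 : ∀ r, b r ≠ 0 → w r < w (Fin.rev k)) (h2 : ∀ s, b (Fin.rev s) ≠ 0 → w k < w s)
    (h3 : w k < w (Fin.rev k)) : sgl hK (Pi.single k 1) b d hOK ∈ RWu K q w := by
  have hq := uq_ge_two hK
  rw [mem_RWu]
  intro r s hsr
  rw [gm_sgl, sgM_single_apply hK, Matrix.one_apply]
  have e1 : (if s = Fin.rev k then b r else 0) = 0 := by
    split_ifs with h
    · by_contra hb
      have := h1 r hb
      rw [← h] at this
      exact absurd hsr (not_le.2 this)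
    · rfl
  have e2 : (if r = k then (b (Fin.rev s)) ^ q else 0) = 0 := by
    split_ifs with h
    · have hb : b (Fin.rev s) = 0 := by
        by_contra hb
        have := h2 s hb
        rw [← h] at this
        exact absurd hsr (not_le.2 this)
      rw [hb, zero_pow (by omega)]
    · rfl
  have e3 : (if r = k ∧ s = Fin.rev k then d else 0) = 0 := by
    split_ifs with h
    · rw [h.1, h.2] at hsr
      exact absurd hsr (not_le.2 h3)
    · rfl
  rw [e1, e2, e3]
  ring

theorem sgl_mem_PWu (hK : Fintype.card K = q ^ 2) (w : Fin n → ℕ) (k : Fin n)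
    (b : Fin n → K) (d : K) (hOK : SgOK n K q (Pi.single k 1) b d)
    (h1 : ∀ r, b r ≠ 0 → w r ≤ w (Fin.rev k)) (h2 : ∀ s, b (Fin.rev s) ≠ 0 → w k ≤ w s)
    (h3 : w k ≤ w (Fin.rev k)) : sgl hK (Pi.single k 1) b d hOK ∈ PWu K q w := by
  have hq := uq_ge_two hK
  rw [mem_PWu]
  intro r s hsr
  rw [gm_sgl, sgM_single_apply hK]
  have e0 : r ≠ s := by
    rintro rfl
    exact lt_irrefl _ hsr
  have e1 : (if s = Fin.rev k then b r else 0) = 0 := by
    split_ifs with h
    · by_contra hb
      have := h1 r hb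
      rw [← h] at this
      exact absurd hsr (not_lt.2 this)
    · rfl
  have e2 : (if r = k then (b (Fin.rev s)) ^ q else 0) = 0 := by
    split_ifs with h
    · have hb : b (Fin.rev s) = 0 := by
        by_contra hb
        have := h2 s hb
        rw [← h] at this
        exact absurd hsr (not_lt.2 this)
      rw [hb, zero_pow (by omega)]
    · rfl
  have e3 : (if r = k ∧ s = Fin.rev k then d else 0) = 0 := by
    split_ifs with h
    · rw [h.1, h.2] at hsr
      exact absurd hsr (not_lt.2 h3)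
    · rfl
  rw [if_neg e0, e1, e2, e3]
  ring

end Cfsg.Agent.Lib.helper25.SUni
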