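import Mathlib
import Cfsg.Agent.Lib.helper25.SUni7

set_option autoImplicit false
set_option linter.unusedSectionVars false
set_option linter.unusedSimpArgs false

namespace Cfsg.Agent.Lib.helper25.SUni

open Matrix
open Cfsg.Agent.Lib.helper4
open Cfsg.Agent.Lib.helper25.SLUni
open Cfsg.Agent.Lib.helper25.SpUni (UTr utr_one utr_mul)

variable {K : Type*} [Field K] [Fintype K] {q : ℕ}

/-- Scalar elements. -/
theorem exists_scalar {n : ℕ} (hK : Fintype.card K = q ^ 2) (c : K) (h1 : c * c ^ q = 1)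
    (h2 : c ^ n = 1) :
    ∃ z : GamU n K q, gm z = c • (1 : Matrix (Fin n) (Fin n) K) ∧
      z ∈ Subgroup.center (GamU n K q) := by
  have hdet : (c • (1 : Matrix (Fin n) (Fin n) K)).det = 1 := by
    rw [Matrix.det_smul, Matrix.det_one, mul_one, Fintype.card_fin, h2]
  have hpres : ∀ u v, hf n K q ((c • (1 : Matrix (Fin n) (Fin n) K)) *ᵥ u)
      ((c • (1 : Matrix (Fin n) (Fin n) K)) *ᵥ v) = hf n K q u v := by
    intro u v
    rw [Matrix.smul_mulVec, Matrix.smul_mulVec, Matrix.one_mulVec, Matrix.one_mulVec,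
      hf_smul_left, hf_smul_right, ← mul_assoc, h1, one_mul]
  refine ⟨mkG _ hdet hpres, gm_mkG _ _ _, ?_⟩
  rw [Subgroup.mem_center_iff]
  intro g
  apply gm_injective
  rw [gm_mul, gm_mul, gm_mkG, Matrix.mul_smul, Matrix.smul_mul, Matrix.mul_one, Matrix.one_mul]

/-- Centralizers of the unipotent radicals attached to symmetric weight functions. -/
theorem centralizer_RWu_le {m : ℕ} (hK : Fintype.card K = q ^ 2) (w : Fin (m + 4) → ℕ)
    (hw1 : ∀ i j : Fin (m + 4), i ≤ j → w i ≤ w j)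
    (hw2 : ∀ i, w i + w (Fin.rev i) = 2) (hw3 : w 0 = 0) :
    Subgroup.centralizer ((RWu K q w : Subgroup (GamU (m + 4) K q)) : Set (GamU (m + 4) K q)) ≤
      RWu K q w ⊔ Subgroup.center (GamU (m + 4) K q) := by
  have hq := uq_ge_two hK
  intro g hg
  rw [Subgroup.mem_centralizer_iff] at hg
  obtain ⟨κ, hκ0, hκ⟩ := exists_trace_zero hK
  have hA : ∀ i : Fin (m + 4), w i = 0 →
      (∀ r, r ≠ i → gm g r i = 0) ∧ (∀ s, s ≠ Fin.rev i → gm g (Fin.rev i) s = 0) ∧
      gm g i i = gm g (Fin.rev i) (Fin.rev i) ∧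
      (∀ d : K, gm g * Matrix.single i (Fin.rev i) d = Matrix.single i (Fin.rev i) d * gm g) := by
    intro i hi
    have hi2 : w (Fin.rev i) = 2 := by have := hw2 i; omega
    have hne : i ≠ Fin.rev i := by
      intro h
      rw [← h] at hi2
      omega
    have hOK : SgOK (m + 4) K q (Pi.single i 1) (0 : Fin (m + 4) → K) κ :=
      SgOK_single hK i hne 0 κ rfl (by rw [hf_zero_left, add_zero]; exact hκ)
    have hmem : sgl hK (Pi.single i 1) 0 κ hOK ∈ RWu K q w :=
      sgl_mem_RWu hK w i 0 κ hOK (fun r hr => absurd rfl hr) (fun s hs => absurd rfl hs)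
        (by omega)
    exact comm_tv1 hK g i κ hκ0 hOK (hg _ hmem).symm
  have h0 := hA 0 hw3
  have hB : ∀ j : Fin (m + 4), j ≠ 0 → w j ≤ 1 →
      (∀ r, r ≠ 0 → r ≠ j → gm g r j = 0) ∧ gm g j j = gm g (Fin.rev 0) (Fin.rev 0) := by
    intro j hj hwj
    have hr0 : w (Fin.rev (0 : Fin (m + 4))) = 2 := by have := hw2 0; omega
    have hjr : j ≠ Fin.rev 0 := by
      rintro rfl
      omega
    have hfix : (-(hf (m + 4) K q (Pi.single j (1 : K)) (Pi.single j 1))) ^ q =
        -(hf (m + 4) K q (Pi.single j (1 : K)) (Pi.single j 1)) := by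
      rw [frob_neg hK, hf_symm hK]
    obtain ⟨d, hd⟩ := utrace_surj hK _ hfix
    have hOK : SgOK (m + 4) K q (Pi.single 0 1) (Pi.single j (1 : K)) d :=
      SgOK_single hK 0 (ne_of_lt i0_lt_rev) _ d (Pi.single_eq_of_ne (Ne.symm hjr) 1)
        (by rw [hd]; ring)
    have hmem : sgl hK (Pi.single 0 1) (Pi.single j (1 : K)) d hOK ∈ RWu K q w := by
      apply sgl_mem_RWu hK w 0 _ d hOK
      · intro r hr
        have : r = j := by
          by_contra h
          exact hr (Pi.single_eq_of_ne h 1)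
        rw [this]
        omega
      · intro s hs
        have : Fin.rev s = j := by
          by_contra h
          exact hs (Pi.single_eq_of_ne h 1)
        have h2 := hw2 s
        rw [this] at h2
        omega
      · omega
    exact comm_root1 hK g 0 j hj 1 d one_ne_zero hOK h0.2.2.2 (hg _ hmem).symm
  obtain ⟨lam, hlam⟩ : ∃ lam, lam = gm g 0 0 := ⟨_, rfl⟩
  have hlam' : gm g (Fin.rev 0) (Fin.rev 0) = lam := by
    rw [hlam]
    exact h0.2.2.1.symm
  have hdiag0 : ∀ s : Fin (m + 4), w s ≤ 1 → gm g s s = lam := by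
    intro s hs
    by_cases hs0 : s = 0
    · rw [hs0, hlam]
    · rw [(hB s hs0 hs).2, hlam']
  have hshape : ∀ r s : Fin (m + 4), w s ≤ w r → gm g r s = if r = s then lam else 0 := by
    intro r s hsr
    rcases eq_or_ne r s with rfl | hrs
    · rw [if_pos rfl]
      by_cases hs : w r ≤ 1
      · exact hdiag0 r hs
      · have hi : w (Fin.rev r) = 0 := by have := hw2 r; omega
        have h3 := (hA (Fin.rev r) hi).2.2.1
        rw [Fin.rev_rev] at h3
        rw [← h3]
        exact hdiag0 _ (by omega)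
    · rw [if_neg hrs]
      by_cases hs : w s = 0
      · exact (hA s hs).1 r hrs
      · by_cases hr : w r = 2
        · have hi : w (Fin.rev r) = 0 := by have := hw2 r; omega
          have h3 := (hA (Fin.rev r) hi).2.1 s
          rw [Fin.rev_rev] at h3
          exact h3 (Ne.symm hrs)
        · have hr2 : w r ≤ 2 := by have := hw2 r; omega
          have hs0 : s ≠ 0 := by
            rintro rfl
            exact hs hw3
          have hr0 : r ≠ 0 := by
            rintro rfl
            omega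
          exact (hB s hs0 (by omega)).1 r hr0 hrs
  have hUT : UT (gm g) := by
    intro i j hji
    rw [hshape i j (hw1 j i hji.le), if_neg (ne_of_gt hji)]
  have hdet : lam ^ (m + 4) = 1 := by
    have h1 := ut_det hUT
    rw [gm_det] at h1
    have h2 : ∀ i : Fin (m + 4), gm g i i = lam := fun i => by
      rw [hshape i i le_rfl, if_pos rfl]
    simp only [h2, Finset.prod_const, Finset.card_univ, Fintype.card_fin] at h1
    exact h1.symm
  have hnorm : lam * lam ^ q = 1 := by
    have h1 := gm_row_rel hK g (Fin.rev 0) (Fin.rev 0)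
    rw [if_pos rfl, Finset.sum_eq_single (Fin.rev 0)] at h1
    · rw [Fin.rev_rev, hlam', ← hlam] at h1
      exact h1
    · intro s _ hs
      rw [h0.2.1 s hs, zero_mul]
    · intro h
      exact absurd (Finset.mem_univ _) h
  obtain ⟨z, hz, hzc⟩ := exists_scalar hK lam hnorm hdet
  have hlam0 : lam ≠ 0 := by
    rintro rfl
    rw [zero_mul] at hnorm
    exact zero_ne_one hnorm
  have hzinv : gm z⁻¹ = lam⁻¹ • (1 : Matrix (Fin (m + 4)) (Fin (m + 4)) K) := by
    have h := gm_inv_mul z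
    rw [hz, Matrix.mul_smul, Matrix.mul_one] at h
    rw [← h, smul_smul, inv_mul_cancel₀ hlam0, one_smul]
  have hgz : g = (g * z⁻¹) * z := by group
  rw [hgz]
  apply Subgroup.mul_mem_sup _ hzc
  rw [mem_RWu]
  intro k l hkl
  show (gm g * gm z⁻¹) k l = _
  rw [hzinv, Matrix.mul_smul, Matrix.mul_one, Matrix.smul_apply, hshape k l hkl,
    Matrix.one_apply, smul_eq_mul]
  split_ifs
  · exact inv_mul_cancel₀ hlam0
  · exact mul_zero _

/-! ### The two weight functions -/

/-- The Siegel weight. -/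
def w1 (m : ℕ) (i : Fin (m + 4)) : ℕ :=
  if 2 * i.val + 1 < m + 4 then 0 else if 2 * i.val + 1 = m + 4 then 1 else 2

theorem w1_mono (m : ℕ) (i j : Fin (m + 4)) (h : i ≤ j) : w1 m i ≤ w1 m j := by
  have := Fin.le_def.1 h
  unfold w1
  split_ifs <;> omega

theorem w1_symm (m : ℕ) (i : Fin (m + 4)) : w1 m i + w1 m (Fin.rev i) = 2 := by
  have := i.2
  unfold w1
  rw [Fin.val_rev]
  split_ifs <;> omega

theorem w1_zero (m : ℕ) : w1 m 0 = 0 := by
  unfold w1
  rw [if_pos]
  rw [Fin.val_zero]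
  omega

theorem w1_eq_zero (m : ℕ) (i : Fin (m + 4)) (h : i < Fin.rev i) : w1 m i = 0 := by
  have h' := Fin.lt_def.1 h
  rw [Fin.val_rev] at h'
  unfold w1
  rw [if_pos (by omega)]

/-- The middle lower index. -/
def ell (m : ℕ) : Fin (m + 4) := ⟨(m + 2) / 2, by omega⟩

theorem ell_val (m : ℕ) : (ell m).val = (m + 2) / 2 := rfl

theorem ell_lt_rev (m : ℕ) : ell m < Fin.rev (ell m) := by
  rw [Fin.lt_def, Fin.val_rev, ell_val]
  omega

theorem le_ell (m : ℕ) (i : Fin (m + 4)) (h : i < Fin.rev i) : i ≤ ell m := by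
  have h' := Fin.lt_def.1 h
  rw [Fin.val_rev] at h'
  rw [Fin.le_def, ell_val]
  omega

/-- The second weight. -/
def w2 (m : ℕ) (i : Fin (m + 4)) : ℕ :=
  if i.val < (m + 2) / 2 then 0 else if m + 3 - (m + 2) / 2 < i.val then 2 else 1

theorem w2_mono (m : ℕ) (i j : Fin (m + 4)) (h : i ≤ j) : w2 m i ≤ w2 m j := by
  have := Fin.le_def.1 h
  unfold w2
  split_ifs <;> omega

theorem w2_symm (m : ℕ) (i : Fin (m + 4)) : w2 m i + w2 m (Fin.rev i) = 2 := by
  have := i.2
  unfold w2
  rw [Fin.val_rev]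
  split_ifs <;> omega

theorem w2_zero (m : ℕ) : w2 m 0 = 0 := by
  unfold w2
  rw [if_pos]
  rw [Fin.val_zero]
  omega

theorem w2_ell (m : ℕ) : w2 m (ell m) = 1 := by
  unfold w2
  rw [ell_val, if_neg (by omega), if_neg (by omega)]

theorem w2_rev_ell (m : ℕ) : w2 m (Fin.rev (ell m)) = 1 := by
  have := w2_symm m (ell m)
  rw [w2_ell] at this
  omega

theorem w2_mid (m : ℕ) (μ : Fin (m + 4)) (hμ : Fin.rev μ = μ) : w2 m μ = 1 := by
  have h := congrArg Fin.val hμ
  rw [Fin.val_rev] at h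
  unfold w2
  rw [if_neg (by omega), if_neg (by omega)]

theorem sgl_mem_PWu_zero {n : ℕ} (hK : Fintype.card K = q ^ 2) (w : Fin n → ℕ)
    (hw2 : ∀ i, w i + w (Fin.rev i) = 2) (k : Fin n) (hk : w k = 0) (b : Fin n → K) (d : K)
    (hOK : SgOK n K q (Pi.single k 1) b d) : sgl hK (Pi.single k 1) b d hOK ∈ PWu K q w := by
  have hk2 : w (Fin.rev k) = 2 := by have := hw2 k; omega
  apply sgl_mem_PWu hK w k b d hOK
  · intro r _
    have := hw2 r
    omega
  · intro s _
    omega
  · omega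

end Cfsg.Agent.Lib.helper25.SUni
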