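import Mathlib
import Cfsg.Agent.Lib.helper25.SUni8

set_option autoImplicit false
set_option linter.unusedSectionVars false
set_option linter.unusedSimpArgs false

namespace Cfsg.Agent.Lib.helper25.SUni

open Matrix
open Cfsg.Agent.Lib.helper4
open Cfsg.Agent.Lib.helper25.SLUni
open Cfsg.Agent.Lib.helper25.SpUni (UTr utr_one utr_mul)

variable {K : Type*} [Field K] [Fintype K] {q : ℕ}

/-- The generating set of the simplicity criterion. -/
def GenSet (p : ℕ) (m : ℕ) (K : Type*) [Field K] [Fintype K] (q : ℕ) :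
    Set (GamU (m + 4) K q) :=
  {x | x ∈ Subgroup.normalizer (UUu (m + 4) K q : Set (GamU (m + 4) K q)) ∧
    ∃ R : Subgroup (GamU (m + 4) K q), R ≤ UUu (m + 4) K q ∧
      UUu (m + 4) K q ≤ Subgroup.normalizer (R : Set (GamU (m + 4) K q)) ∧
      Subgroup.centralizer (R : Set (GamU (m + 4) K q)) ≤
        R ⊔ Subgroup.center (GamU (m + 4) K q) ∧
      x ∈ Subgroup.closure {y : GamU (m + 4) K q |
        y ∈ Subgroup.normalizer (R : Set (GamU (m + 4) K q)) ∧
        ∃ k : ℕ, orderOf y = p ^ k}}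

/-- `p`-elements normalizing the radical of a weight. -/
def PSet (p : ℕ) {m : ℕ} (K : Type*) [Field K] [Fintype K] (q : ℕ) (w : Fin (m + 4) → ℕ) :
    Set (GamU (m + 4) K q) :=
  {y | y ∈ Subgroup.normalizer (RWu K q w : Set (GamU (m + 4) K q)) ∧
    ∃ k : ℕ, orderOf y = p ^ k}

theorem mem_GenSet_of {m : ℕ} (p : ℕ) (hK : Fintype.card K = q ^ 2) (w : Fin (m + 4) → ℕ)
    (hw1 : ∀ i j : Fin (m + 4), i ≤ j → w i ≤ w j)
    (hw2 : ∀ i, w i + w (Fin.rev i) = 2) (hw3 : w 0 = 0) (x : GamU (m + 4) K q)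
    (hxN : x ∈ Subgroup.normalizer (UUu (m + 4) K q : Set (GamU (m + 4) K q)))
    (hx : x ∈ Subgroup.closure (PSet p K q w)) : x ∈ GenSet p m K q :=
  ⟨hxN, RWu K q w, RWu_le_UUu w hw1, (UUu_le_PWu w hw1).trans (PWu_le_normalizer w),
    centralizer_RWu_le hK w hw1 hw2 hw3, hx⟩

theorem diag_mem_BBu {n : ℕ} (g : GamU n K q) (δ : Fin n → K)
    (h : gm g = Matrix.diagonal δ) : g ∈ BBu n K q := by
  rw [mem_BBu]
  intro i j hji
  rw [h, Matrix.diagonal_apply_ne _ (ne_of_gt hji)]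

theorem sgl_mem_PSet {m : ℕ} (p : ℕ) [Fact p.Prime] [CharP K p] (hK : Fintype.card K = q ^ 2)
    (w : Fin (m + 4) → ℕ) (a b : Fin (m + 4) → K) (d : K) (hOK : SgOK (m + 4) K q a b d)
    (h : sgl hK a b d hOK ∈ PWu K q w) : sgl hK a b d hOK ∈ PSet p K q w :=
  ⟨PWu_le_normalizer w h, sgl_order p hK a b d hOK⟩

theorem diag_rel {n : ℕ} (hK : Fintype.card K = q ^ 2) (g : GamU n K q) (hg : UT (gm g))
    (i : Fin n) : gm g i i * (gm g (Fin.rev i) (Fin.rev i)) ^ q = 1 := by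
  have hq := uq_ge_two hK
  have h1 := gm_row_rel hK g i i
  rw [if_pos rfl, Finset.sum_eq_single i] at h1
  · exact h1
  · intro s _ hs
    rcases lt_or_gt_of_ne hs with h | h
    · rw [hg i s h, zero_mul]
    · rw [hg (Fin.rev i) (Fin.rev s) (Fin.rev_lt_rev.2 h), zero_pow (by omega), mul_zero]
  · intro h
    exact absurd (Finset.mem_univ _) h

theorem tor_hal {m : ℕ} (p : ℕ) [Fact p.Prime] [CharP K p] (hK : Fintype.card K = q ^ 2)
    (a : Fin (m + 4)) (ha : a < Fin.rev a) (hal' : a ≠ ell m) (t : K) (ht : t ≠ 0) :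
    ∃ h ∈ Subgroup.closure (PSet p K q (w1 m)), ∃ δ : Fin (m + 4) → K,
      gm h = Matrix.diagonal δ ∧ δ a = t⁻¹ ∧
      ∀ j, j < Fin.rev j → j ≠ ell m → j ≠ a → δ j = 1 := by
  have hl := ell_lt_rev m
  have h1 : ell m ≠ Fin.rev (ell m) := ne_of_lt hl
  have h3 : a ≠ Fin.rev a := ne_of_lt ha
  have h2 : ell m ≠ a := Ne.symm hal'
  have h4 : ell m ≠ Fin.rev a := by
    intro h
    have hl' := hl
    rw [h, Fin.rev_rev] at hl'
    exact absurd hl' (not_lt.2 ha.le)
  have hx : ∀ (i j : Fin (m + 4)) (hi : i < Fin.rev i) (hj : j < Fin.rev j) (hij : i ≠ j)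
      (c : K), xr hK i j (ne_of_lt hi) hij (ne_of_lt hj) c ∈ PSet p K q (w1 m) := by
    intro i j hi hj hij c
    exact sgl_mem_PSet p hK (w1 m) _ _ _ _
      (sgl_mem_PWu_zero hK (w1 m) (w1_symm m) i (w1_eq_zero m i hi) _ _ _)
  obtain ⟨h, hh, hgm⟩ := hal hK (ell m) a h1 h2 h3 h4 t ht (PSet p K q (w1 m))
    (fun c => hx _ _ hl ha h2 c) (fun c => hx _ _ ha hl h2.symm c)
  have hf4 : Function.Injective (![ell m, a, Fin.rev a, Fin.rev (ell m)] : Fin 4 → Fin (m + 4)) :=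
    inj4 _ _ _ _ h2 h4 h1 h3 (fun h => h4 (by rw [h, Fin.rev_rev]))
      (fun h => h2 (Fin.rev_injective h).symm)
  refine ⟨h, hh, _, hgm, ?_, ?_⟩
  · exact hf4.extend_apply _ 1 (1 : Fin 4)
  · intro j hj hjl hja
    apply Function.extend_apply'
    rintro ⟨k, hk⟩
    fin_cases k
    · exact hjl hk.symm
    · exact hja hk.symm
    · have e : Fin.rev a = j := hk
      rw [← e, Fin.rev_rev] at hj
      exact absurd hj (not_lt.2 ha.le)
    · have e : Fin.rev (ell m) = j := hk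
      rw [← e, Fin.rev_rev] at hj
      exact absurd hj (not_lt.2 hl.le)

theorem tor_kev {m : ℕ} (p : ℕ) [Fact p.Prime] [CharP K p] (hK : Fintype.card K = q ^ 2)
    (π : K) (hπ0 : π ≠ 0) (hπ : π ^ q = π) :
    ∃ k ∈ Subgroup.closure (PSet p K q (w2 m)), ∃ δ : Fin (m + 4) → K,
      gm k = Matrix.diagonal δ ∧ δ (ell m) = π ∧ δ (Fin.rev (ell m)) = π⁻¹ ∧
      ∀ j, j ≠ ell m → j ≠ Fin.rev (ell m) → δ j = 1 := by
  have hl := ne_of_lt (ell_lt_rev m)
  obtain ⟨k, hk, hgm⟩ := kev hK (ell m) hl π hπ0 hπ (PSet p K q (w2 m)) (by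
    intro a ha d h
    apply sgl_mem_PSet p hK
    apply sgl_mem_PWu hK (w2 m) a 0 d h
    · intro r hr
      exact absurd rfl hr
    · intro s hs
      exact absurd rfl hs
    · rcases ha with rfl | rfl
      · rw [w2_ell, w2_rev_ell]
      · rw [Fin.rev_rev, w2_ell, w2_rev_ell])
  have hf2 := inj2 (ell m) (Fin.rev (ell m)) hl
  refine ⟨k, hk, _, hgm, hf2.extend_apply _ 1 (0 : Fin 2), hf2.extend_apply _ 1 (1 : Fin 2), ?_⟩
  intro j h1 h2
  apply Function.extend_apply'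
  rintro ⟨i, hi⟩
  fin_cases i
  · exact h1 hi.symm
  · exact h2 hi.symm

theorem tor_kod {m : ℕ} (p : ℕ) [Fact p.Prime] [CharP K p] (hK : Fintype.card K = q ^ 2)
    (μ : Fin (m + 4)) (hμ : Fin.rev μ = μ) (π : K) (hπ0 : π ≠ 0) :
    ∃ k ∈ Subgroup.closure (PSet p K q (w2 m)), ∃ δ : Fin (m + 4) → K,
      gm k = Matrix.diagonal δ ∧ δ (ell m) = π ∧ δ μ = π ^ q / π ∧
      δ (Fin.rev (ell m)) = (π ^ q)⁻¹ ∧
      ∀ j, j ≠ ell m → j ≠ μ → j ≠ Fin.rev (ell m) → δ j = 1 := by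
  have hl := ne_of_lt (ell_lt_rev m)
  have hlμ : ell m ≠ μ := by
    intro h
    rw [h] at hl
    exact hl hμ.symm
  have hμl : μ ≠ Fin.rev (ell m) := by
    intro h
    apply hlμ
    have := congrArg Fin.rev h
    rw [Fin.rev_rev, hμ] at this
    exact this.symm
  obtain ⟨k, hk, hgm⟩ := kod hK (ell m) μ hl hμ π hπ0 (PSet p K q (w2 m)) (by
    intro a ha c d h
    apply sgl_mem_PSet p hK
    have hwa : w2 m a = 1 ∧ w2 m (Fin.rev a) = 1 := by
      rcases ha with rfl | rfl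
      · exact ⟨w2_ell m, w2_rev_ell m⟩
      · rw [Fin.rev_rev]
        exact ⟨w2_rev_ell m, w2_ell m⟩
    apply sgl_mem_PWu hK (w2 m) a _ d h
    · intro r hr
      have : r = μ := by
        by_contra h'
        exact hr (by rw [Pi.single_eq_of_ne h'])
      rw [this, w2_mid m μ hμ, hwa.2]
    · intro s hs
      have : Fin.rev s = μ := by
        by_contra h'
        exact hs (by rw [Pi.single_eq_of_ne h'])
      have h5 : s = μ := by rw [← hμ, ← this, Fin.rev_rev]
      rw [h5, w2_mid m μ hμ, hwa.1]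
    · rw [hwa.1, hwa.2])
  have hf3 := inj3 (ell m) μ (Fin.rev (ell m)) hlμ hl hμl
  refine ⟨k, hk, _, hgm, hf3.extend_apply _ 1 (0 : Fin 3), hf3.extend_apply _ 1 (1 : Fin 3),
    hf3.extend_apply _ 1 (2 : Fin 3), ?_⟩
  intro j h1 h2 h3
  apply Function.extend_apply'
  rintro ⟨i, hi⟩
  fin_cases i
  · exact h1 hi.symm
  · exact h2 hi.symm
  · exact h3 hi.symm

theorem UUu_le_closure {m : ℕ} (p : ℕ) [Fact p.Prime] [CharP K p]
    (hK : Fintype.card K = q ^ 2) :
    UUu (m + 4) K q ≤ Subgroup.closure (GenSet p m K q) := by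
  intro u hu
  apply Subgroup.subset_closure
  apply mem_GenSet_of p hK (w1 m) (w1_mono m) (w1_symm m) (w1_zero m) u
    (Subgroup.le_normalizer hu)
  apply Subgroup.subset_closure
  refine ⟨((UUu_le_PWu (w1 m) (w1_mono m)).trans (PWu_le_normalizer _)) hu, ?_⟩
  obtain ⟨k, hk⟩ := (IsPGroup.iff_orderOf.1
    (isPGroup_UUu (n := m + 4) (K := K) (q := q) p)) ⟨u, hu⟩
  exact ⟨k, by rw [← hk]; exact (Subgroup.orderOf_mk u hu).symm⟩

theorem base_case {m : ℕ} (p : ℕ) [Fact p.Prime] [CharP K p] (hK : Fintype.card K = q ^ 2)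
    (g : GamU (m + 4) K q) (hg : g ∈ BBu (m + 4) K q)
    (h1 : ∀ j, j < Fin.rev j → j ≠ ell m → gm g j j = 1) :
    g ∈ Subgroup.closure (GenSet p m K q) := by
  have hq := uq_ge_two hK
  have hUT : UT (gm g) := (mem_BBu g).1 hg
  have hrel := diag_rel hK g hUT
  have hl := ell_lt_rev m
  obtain ⟨π, hπ⟩ : ∃ π, π = gm g (ell m) (ell m) := ⟨_, rfl⟩
  obtain ⟨σ, hσ⟩ : ∃ σ, σ = gm g (Fin.rev (ell m)) (Fin.rev (ell m)) := ⟨_, rfl⟩
  have hπσ : π * σ ^ q = 1 := by
    rw [hπ, hσ]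
    exact hrel (ell m)
  have hπ0 : π ≠ 0 := by
    rintro rfl
    rw [zero_mul] at hπσ
    exact zero_ne_one hπσ
  have hπq0 : π ^ q ≠ 0 := pow_ne_zero _ hπ0
  have hσ' : σ = (π ^ q)⁻¹ := by
    have : σ ^ q = π⁻¹ := eq_inv_of_mul_eq_one_right hπσ
    rw [← frob_frob hK σ, this, inv_pow]
  have h2 : ∀ j, Fin.rev j < j → j ≠ Fin.rev (ell m) → gm g j j = 1 := by
    intro j hj hjl
    have h3 : Fin.rev j < Fin.rev (Fin.rev j) := by
      rw [Fin.rev_rev]
      exact hj
    have h4 : Fin.rev j ≠ ell m := by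
      intro h
      apply hjl
      rw [← h, Fin.rev_rev]
    have h5 := hrel (Fin.rev j)
    rw [h1 _ h3 h4, Fin.rev_rev, one_mul] at h5
    rw [← frob_frob hK (gm g j j), h5, one_pow]
  have hmemT : ∀ (k : GamU (m + 4) K q) (δ : Fin (m + 4) → K),
      k ∈ Subgroup.closure (PSet p K q (w2 m)) → gm k = Matrix.diagonal δ →
      (∀ j, gm g j j * δ j = 1) → g ∈ Subgroup.closure (GenSet p m K q) := by
    intro k δ hk hgm hd
    have hkB : k ∈ BBu (m + 4) K q := diag_mem_BBu k δ hgm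
    have hkG : k ∈ Subgroup.closure (GenSet p m K q) :=
      Subgroup.subset_closure (mem_GenSet_of p hK (w2 m) (w2_mono m) (w2_symm m) (w2_zero m) k
        (BBu_le_normalizer hkB) hk)
    have hu : g * k ∈ UUu (m + 4) K q := by
      rw [mem_UUu]
      refine ⟨(mem_BBu _).1 (Subgroup.mul_mem _ hg hkB), fun i => ?_⟩
      show (gm g * gm k) i i = 1
      rw [hgm, Matrix.mul_diagonal, hd i]
    have : g = (g * k) * k⁻¹ := by group
    rw [this]
    exact Subgroup.mul_mem _ (UUu_le_closure p hK hu) (Subgroup.inv_mem _ hkG)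
  have hdet := ut_det hUT
  rw [gm_det] at hdet
  by_cases hμ : ∃ μ : Fin (m + 4), Fin.rev μ = μ
  · obtain ⟨μ, hμ⟩ := hμ
    have hlμ : ell m ≠ μ := by
      intro h
      have hl' := hl
      rw [h, hμ] at hl'
      exact lt_irrefl _ hl'
    have hμl : μ ≠ Fin.rev (ell m) := by
      intro h
      apply hlμ
      have := congrArg Fin.rev h
      rw [Fin.rev_rev, hμ] at this
      exact this.symm
    have h3 : ∀ j, j ≠ ell m → j ≠ μ → j ≠ Fin.rev (ell m) → gm g j j = 1 := by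
      intro j hj1 hj2 hj3
      rcases lt_trichotomy j (Fin.rev j) with h | h | h
      · exact h1 j h hj1
      · exfalso
        apply hj2
        have e1 := congrArg Fin.val h
        have e2 := congrArg Fin.val hμ
        rw [Fin.val_rev] at e1 e2
        exact Fin.ext (by omega)
      · exact h2 j h hj3
    have hprod : ∏ i, gm g i i = π * (gm g μ μ * σ) := by
      rw [← Finset.prod_subset (Finset.subset_univ
        ({ell m, μ, Fin.rev (ell m)} : Finset (Fin (m + 4)))) ?_]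
      · rw [Finset.prod_insert (by simp [hlμ, ne_of_lt hl]), Finset.prod_insert (by simp [hμl]),
          Finset.prod_singleton, ← hπ, ← hσ]
      · intro j _ hj
        simp only [Finset.mem_insert, Finset.mem_singleton, not_or] at hj
        exact h3 j hj.1 hj.2.1 hj.2.2
    rw [hprod, hσ'] at hdet
    have hν : gm g μ μ = π ^ q / π := by
      rw [eq_div_iff hπ0]
      calc gm g μ μ * π = (π * (gm g μ μ * (π ^ q)⁻¹)) * π ^ q := by
            field_simp
        _ = π ^ q := by rw [← hdet, one_mul]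
    obtain ⟨k, hk, δ, hgm, d1, d2, d3, d4⟩ := tor_kod p hK μ hμ π⁻¹ (inv_ne_zero hπ0)
    apply hmemT k δ hk hgm
    intro j
    by_cases hj1 : j = ell m
    · rw [hj1, d1, ← hπ, mul_inv_cancel₀ hπ0]
    · by_cases hj2 : j = μ
      · rw [hj2, d2, hν, inv_pow]
        field_simp
      · by_cases hj3 : j = Fin.rev (ell m)
        · rw [hj3, d3, ← hσ, hσ', inv_pow, inv_inv, inv_mul_cancel₀ hπq0]
        · rw [d4 j hj1 hj2 hj3, h3 j hj1 hj2 hj3, mul_one]
  · rw [not_exists] at hμ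
    have h3 : ∀ j, j ≠ ell m → j ≠ Fin.rev (ell m) → gm g j j = 1 := by
      intro j hj1 hj3
      rcases lt_trichotomy j (Fin.rev j) with h | h | h
      · exact h1 j h hj1
      · exact absurd h.symm (hμ j)
      · exact h2 j h hj3
    have hprod : ∏ i, gm g i i = π * σ := by
      rw [hπ, hσ]
      exact Finset.prod_eq_mul (ell m) (Fin.rev (ell m)) (ne_of_lt hl)
        (fun c _ hc => h3 c hc.1 hc.2) (fun h => absurd (Finset.mem_univ _) h)
        (fun h => absurd (Finset.mem_univ _) h)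
    rw [hprod, hσ'] at hdet
    have hπq : π = π ^ q := (mul_inv_eq_one₀ hπq0).1 hdet.symm
    obtain ⟨k, hk, δ, hgm, d1, d2, d4⟩ := tor_kev p hK π⁻¹ (inv_ne_zero hπ0)
      (by rw [inv_pow, ← hπq])
    apply hmemT k δ hk hgm
    intro j
    by_cases hj1 : j = ell m
    · rw [hj1, d1, ← hπ, mul_inv_cancel₀ hπ0]
    · by_cases hj3 : j = Fin.rev (ell m)
      · rw [hj3, d2, ← hσ, hσ', inv_inv, ← hπq, inv_mul_cancel₀ hπ0]
      · rw [d4 j hj1 hj3, h3 j hj1 hj3, mul_one]

theorem BBu_le_closure_aux {m : ℕ} (p : ℕ) [Fact p.Prime] [CharP K p]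
    (hK : Fintype.card K = q ^ 2) (F : Finset (Fin (m + 4))) :
    ∀ g : GamU (m + 4) K q, g ∈ BBu (m + 4) K q →
      (∀ j, j < Fin.rev j → j ≠ ell m → j ∉ F → gm g j j = 1) →
      g ∈ Subgroup.closure (GenSet p m K q) := by
  induction F using Finset.induction_on with
  | empty =>
    intro g hg h
    exact base_case p hK g hg (fun j h1 h2 => h j h1 h2 (Finset.notMem_empty j))
  | insert a F ha ih =>
    intro g hg h
    by_cases hcond : a < Fin.rev a ∧ a ≠ ell m
    · have hUT : UT (gm g) := (mem_BBu g).1 hg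
      have ht : gm g a a ≠ 0 := by
        intro h0
        have := diag_rel hK g hUT a
        rw [h0, zero_mul] at this
        exact zero_ne_one this
      obtain ⟨x, hx, δ, hgm, d1, d2⟩ := tor_hal p hK a hcond.1 hcond.2 (gm g a a) ht
      have hxB : x ∈ BBu (m + 4) K q := diag_mem_BBu x δ hgm
      have hxG : x ∈ Subgroup.closure (GenSet p m K q) :=
        Subgroup.subset_closure (mem_GenSet_of p hK (w1 m) (w1_mono m) (w1_symm m) (w1_zero m) x
          (BBu_le_normalizer hxB) hx)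
      have h3 : g * x ∈ Subgroup.closure (GenSet p m K q) := by
        apply ih (g * x) (Subgroup.mul_mem _ hg hxB)
        intro j hj1 hj2 hj3
        show (gm g * gm x) j j = 1
        rw [hgm, Matrix.mul_diagonal]
        by_cases hja : j = a
        · rw [hja, d1, mul_inv_cancel₀ ht]
        · rw [d2 j hj1 hj2 hja, mul_one]
          apply h j hj1 hj2
          rw [Finset.mem_insert, not_or]
          exact ⟨hja, hj3⟩
      have : g = (g * x) * x⁻¹ := by group
      rw [this]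
      exact Subgroup.mul_mem _ h3 (Subgroup.inv_mem _ hxG)
    · apply ih g hg
      intro j hj1 hj2 hj3
      apply h j hj1 hj2
      rw [Finset.mem_insert, not_or]
      refine ⟨?_, hj3⟩
      rintro rfl
      exact hcond ⟨hj1, hj2⟩

/-- The generation hypothesis of the simplicity criterion. -/
theorem gen_UUu {m : ℕ} (p : ℕ) [Fact p.Prime] [CharP K p] (hK : Fintype.card K = q ^ 2) :
    Subgroup.normalizer (UUu (m + 4) K q : Set (GamU (m + 4) K q)) ≤
      Subgroup.closure (GenSet p m K q) := by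
  intro g hg
  exact BBu_le_closure_aux p hK Finset.univ g (normalizer_UUu_le_BBu hK hg)
    (fun j _ _ h => absurd (Finset.mem_univ j) h)

theorem UUu_ne_bot {m : ℕ} (hK : Fintype.card K = q ^ 2) : UUu (m + 4) K q ≠ ⊥ := by
  obtain ⟨κ, hκ0, hκ⟩ := exists_trace_zero hK
  have hOK : SgOK (m + 4) K q (Pi.single 0 1) (0 : Fin (m + 4) → K) κ :=
    SgOK_single hK 0 (ne_of_lt i0_lt_rev) 0 κ rfl (by rw [hf_zero_left, add_zero]; exact hκ)
  have hmem : sgl hK (Pi.single 0 1) 0 κ hOK ∈ UUu (m + 4) K q :=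
    sgl_mem_UUu hK 0 i0_lt_rev 0 κ (fun _ _ => rfl) hOK
  intro h
  rw [h, Subgroup.mem_bot] at hmem
  have h1 := congrArg gm hmem
  rw [gm_sgl, sgM_tv hK, gm_one] at h1
  have h2 := congrFun (congrFun h1 0) (Fin.rev 0)
  rw [Matrix.add_apply, Matrix.single_apply_same, Matrix.one_apply_ne (ne_of_lt i0_lt_rev),
    zero_add] at h2
  exact hκ0 h2

end Cfsg.Agent.Lib.helper25.SUni
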