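import Mathlib
import Cfsg.Prelude.Def_Classical
import Cfsg.Prelude.Def_FusionSystem
import Cfsg.Agent.Lib.helper25.SUni9
import Cfsg.Agent.Lib.helper25.FusionSimple3
import Cfsg.Agent.Lib.helper4.UCenter

set_option autoImplicit false
set_option linter.unusedSectionVars false
set_option linter.unusedSimpArgs false

namespace Cfsg.Agent.Lib.helper25.SUni

open Matrix
open Cfsg.Agent.Lib.helper4
open Cfsg.Agent.Lib.helper25.SLUni

variable {n : ℕ} {K : Type*} [Field K] [Fintype K] {q : ℕ}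

/-- The change of basis matrix. -/
def Pm (α β : Fin n → K) : Matrix (Fin n) (Fin n) K :=
  fun k j => (if k = j then α j else 0) + (if k = Fin.rev j then β j else 0)

theorem Pm_mulVec (α β : Fin n → K) (u : Fin n → K) (k : Fin n) :
    (Pm α β *ᵥ u) k = α k * u k + β (Fin.rev k) * u (Fin.rev k) := by
  unfold Pm
  simp only [Matrix.mulVec, dotProduct, add_mul, Finset.sum_add_distrib, ite_mul, zero_mul]
  rw [Finset.sum_ite_eq, if_pos (Finset.mem_univ _)]
  congr 1
  rw [Finset.sum_eq_single (Fin.rev k)]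
  · rw [Fin.rev_rev, if_pos rfl]
  · intro b _ hb
    rw [if_neg]
    intro h
    apply hb
    rw [h, Fin.rev_rev]
  · intro h
    exact absurd (Finset.mem_univ _) h

theorem Pm_form (hK : Fintype.card K = q ^ 2) (α β : Fin n → K)
    (h1 : ∀ k, k ≠ Fin.rev k → α k * α k ^ q + β k * β k ^ q = 0)
    (h2 : ∀ k, k ≠ Fin.rev k → α k * β (Fin.rev k) ^ q + β k * α (Fin.rev k) ^ q = 1)
    (h3 : ∀ k, k = Fin.rev k → α k = 1 ∧ β k = 0) (u v : Fin n → K) :
    Cfsg.hermForm n K q (Pm α β *ᵥ u) (Pm α β *ᵥ v) = hf n K q u v := by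
  have hq := uq_ge_two hK
  have hq0 : q ≠ 0 := by omega
  unfold Cfsg.hermForm hf
  simp only [Pm_mulVec, frob_add hK, mul_pow]
  have e : ∀ k, (α k * u k + β (Fin.rev k) * u (Fin.rev k)) *
      (α k ^ q * v k ^ q + β (Fin.rev k) ^ q * v (Fin.rev k) ^ q) =
      (α k * α k ^ q * (u k * v k ^ q) + α k * β (Fin.rev k) ^ q * (u k * v (Fin.rev k) ^ q)) +
      (β (Fin.rev k) * α k ^ q * (u (Fin.rev k) * v k ^ q) +
        β (Fin.rev k) * β (Fin.rev k) ^ q * (u (Fin.rev k) * v (Fin.rev k) ^ q)) := fun k => by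
    ring
  simp only [e]
  rw [Finset.sum_add_distrib]
  have e2 : ∑ k, (β (Fin.rev k) * α k ^ q * (u (Fin.rev k) * v k ^ q) +
        β (Fin.rev k) * β (Fin.rev k) ^ q * (u (Fin.rev k) * v (Fin.rev k) ^ q)) =
      ∑ k, (β k * α (Fin.rev k) ^ q * (u k * v (Fin.rev k) ^ q) +
        β k * β k ^ q * (u k * v k ^ q)) := by
    rw [← Equiv.sum_comp Fin.revPerm (fun k => β k * α (Fin.rev k) ^ q *
      (u k * v (Fin.rev k) ^ q) + β k * β k ^ q * (u k * v k ^ q))]
    apply Finset.sum_congr rfl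
    intro k _
    simp only [Fin.revPerm_apply, Fin.rev_rev]
  rw [e2, ← Finset.sum_add_distrib]
  apply Finset.sum_congr rfl
  intro k _
  by_cases hk : k = Fin.rev k
  · obtain ⟨ha, hb⟩ := h3 k hk
    rw [← hk, ha, hb, zero_pow hq0, one_pow]
    ring
  · linear_combination (u k * v k ^ q) * h1 k hk + (u k * v (Fin.rev k) ^ q) * h2 k hk

theorem exists_Pm (hK : Fintype.card K = q ^ 2) (n : ℕ) :
    ∃ P : Matrix (Fin n) (Fin n) K,
      ∀ u v, Cfsg.hermForm n K q (P *ᵥ u) (P *ᵥ v) = hf n K q u v := by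
  have hq := uq_ge_two hK
  obtain ⟨a, b, hab, ha, hb⟩ := exists_norm_neg_one_pair hK
  rw [unorm_eq] at ha hb
  have hb0 : b ^ q ≠ 0 := by
    intro h
    rw [h, mul_zero] at hb
    exact one_ne_zero (α := K) (by linear_combination hb)
  have h1ab : 1 + a * b ^ q ≠ 0 := by
    intro h
    apply hab
    have h2 : (a - b) * b ^ q = 0 := by linear_combination h - hb
    have h3 := (mul_eq_zero.1 h2).resolve_right hb0
    linear_combination h3
  obtain ⟨x, hx⟩ : ∃ x : K, x = ((1 + a * b ^ q)⁻¹) ^ q := ⟨_, rfl⟩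
  have hxq : x ^ q * (1 + a * b ^ q) = 1 := by
    rw [hx, frob_frob hK, inv_mul_cancel₀ h1ab]
  have hxq' : x * (1 + b * a ^ q) = 1 := by
    have h := congrArg (fun y => y ^ q) hxq
    simp only [mul_pow, frob_add hK, frob_frob hK, one_pow] at h
    linear_combination h
  refine ⟨Pm (fun k => if k < Fin.rev k then 1 else if k = Fin.rev k then 1 else x * b)
    (fun k => if k < Fin.rev k then a else if k = Fin.rev k then 0 else x),
    Pm_form hK _ _ ?_ ?_ ?_⟩
  · intro k hk
    rcases lt_or_gt_of_ne hk with h | h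
    · simp only [if_pos h]
      rw [one_pow, one_mul]
      linear_combination ha
    · have h' : ¬ k < Fin.rev k := not_lt.2 h.le
      simp only [if_neg h', if_neg hk]
      rw [mul_pow]
      linear_combination x * x ^ q * hb
  · intro k hk
    rcases lt_or_gt_of_ne hk with h | h
    · have e1 : ¬ Fin.rev k < Fin.rev (Fin.rev k) := by
        rw [Fin.rev_rev]
        exact not_lt.2 h.le
      have e2 : ¬ Fin.rev k = Fin.rev (Fin.rev k) := by
        rw [Fin.rev_rev]
        exact Ne.symm hk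
      simp only [if_pos h, if_neg e1, if_neg e2]
      rw [mul_pow]
      linear_combination hxq
    · have h' : ¬ k < Fin.rev k := not_lt.2 h.le
      have e1 : Fin.rev k < Fin.rev (Fin.rev k) := by
        rw [Fin.rev_rev]
        exact h
      simp only [if_neg h', if_neg hk, if_pos e1]
      rw [one_pow]
      linear_combination hxq'
  · intro k hk
    have h' : ¬ k < Fin.rev k := by
      rw [← hk]
      exact lt_irrefl k
    simp only [if_neg h', if_pos hk]
    exact ⟨trivial, trivial⟩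

theorem Pm_det_ne_zero (hK : Fintype.card K = q ^ 2) (P : Matrix (Fin n) (Fin n) K)
    (hP : ∀ u v, Cfsg.hermForm n K q (P *ᵥ u) (P *ᵥ v) = hf n K q u v) : P.det ≠ 0 := by
  intro h
  obtain ⟨v, hv, hPv⟩ := Matrix.exists_mulVec_eq_zero_iff.2 h
  apply hv
  ext i
  have h1 := hP v (Pi.single (Fin.rev i) 1)
  rw [hPv, hf_single_right hK, Fin.rev_rev, one_pow, mul_one, herm_zero_left] at h1
  exact h1.symm

/-- Conjugation map from the antidiagonal-form group to `Cfsg.SU`. -/
def toSU (P Q : Matrix (Fin n) (Fin n) K) (hPQ : P * Q = 1) (hQP : Q * P = 1)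
    (hP : ∀ u v, Cfsg.hermForm n K q (P *ᵥ u) (P *ᵥ v) = hf n K q u v) :
    GamU n K q →* Cfsg.SU n K q where
  toFun g := ⟨⟨P * gm g * Q, by
    rw [Matrix.det_mul, Matrix.det_mul, gm_det, mul_one, ← Matrix.det_mul, hPQ,
      Matrix.det_one]⟩, by
    intro u v
    show Cfsg.hermForm n K q ((P * gm g * Q) *ᵥ u) ((P * gm g * Q) *ᵥ v) = _
    rw [← Matrix.mulVec_mulVec, ← Matrix.mulVec_mulVec, ← Matrix.mulVec_mulVec,
      ← Matrix.mulVec_mulVec, hP, gm_pres, ← hP, Matrix.mulVec_mulVec, Matrix.mulVec_mulVec,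
      hPQ, Matrix.one_mulVec, Matrix.one_mulVec]⟩
  map_one' := by
    apply Subtype.ext
    apply Subtype.ext
    show P * gm (1 : GamU n K q) * Q = 1
    rw [gm_one, Matrix.mul_one, hPQ]
  map_mul' g h := by
    apply Subtype.ext
    apply Subtype.ext
    show P * (gm g * gm h) * Q = (P * gm g * Q) * (P * gm h * Q)
    have : (P * gm g * Q) * (P * gm h * Q) = P * gm g * (Q * P) * gm h * Q := by
      simp only [Matrix.mul_assoc]
    rw [this, hQP, Matrix.mul_one]
    simp only [Matrix.mul_assoc]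

theorem toSU_apply (P Q : Matrix (Fin n) (Fin n) K) (hPQ : P * Q = 1) (hQP : Q * P = 1)
    (hP : ∀ u v, Cfsg.hermForm n K q (P *ᵥ u) (P *ᵥ v) = hf n K q u v) (g : GamU n K q) :
    ((toSU P Q hPQ hQP hP g : Cfsg.SU n K q) : SpecialLinearGroup (Fin n) K).1 =
      P * gm g * Q := rfl

theorem exists_toSU (hK : Fintype.card K = q ^ 2) (n : ℕ) :
    ∃ e : GamU n K q →* Cfsg.SU n K q, Function.Bijective e := by
  obtain ⟨P, hP⟩ := exists_Pm (q := q) (K := K) hK n
  have hdet : P.det ≠ 0 := Pm_det_ne_zero hK P hP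
  have hu : IsUnit P.det := isUnit_iff_ne_zero.2 hdet
  have hPQ : P * P⁻¹ = 1 := Matrix.mul_nonsing_inv P hu
  have hQP : P⁻¹ * P = 1 := Matrix.nonsing_inv_mul P hu
  refine ⟨toSU P P⁻¹ hPQ hQP hP, ?_, ?_⟩
  · intro g h hgh
    apply gm_injective
    have h1 : P * gm g * P⁻¹ = P * gm h * P⁻¹ := by
      rw [← toSU_apply P P⁻¹ hPQ hQP hP g, ← toSU_apply P P⁻¹ hPQ hQP hP h, hgh]
    calc gm g = P⁻¹ * (P * gm g * P⁻¹) * P := by
          rw [Matrix.mul_assoc, Matrix.mul_assoc, hQP, Matrix.mul_one, ← Matrix.mul_assoc, hQP,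
            Matrix.one_mul]
      _ = P⁻¹ * (P * gm h * P⁻¹) * P := by rw [h1]
      _ = gm h := by
          rw [Matrix.mul_assoc, Matrix.mul_assoc, hQP, Matrix.mul_one, ← Matrix.mul_assoc, hQP,
            Matrix.one_mul]
  · intro N
    obtain ⟨Nm, hNm⟩ : ∃ Nm : Matrix (Fin n) (Fin n) K,
        Nm = (N : SpecialLinearGroup (Fin n) K).1 := ⟨_, rfl⟩
    have hNdet : Nm.det = 1 := by
      rw [hNm]
      exact (N : SpecialLinearGroup (Fin n) K).2
    have hNpres : ∀ u v, Cfsg.hermForm n K q (Nm *ᵥ u) (Nm *ᵥ v) = Cfsg.hermForm n K q u v := by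
      rw [hNm]
      exact N.2
    have hMdet : (P⁻¹ * Nm * P).det = 1 := by
      rw [Matrix.det_mul, Matrix.det_mul, hNdet, mul_one, ← Matrix.det_mul, hQP, Matrix.det_one]
    have hMpres : ∀ u v, hf n K q ((P⁻¹ * Nm * P) *ᵥ u) ((P⁻¹ * Nm * P) *ᵥ v) =
        hf n K q u v := by
      intro u v
      rw [← hP, Matrix.mulVec_mulVec, Matrix.mulVec_mulVec, ← Matrix.mul_assoc,
        ← Matrix.mul_assoc, hPQ, Matrix.one_mul, ← Matrix.mulVec_mulVec, ← Matrix.mulVec_mulVec,
        hNpres, hP]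
    refine ⟨mkG _ hMdet hMpres, ?_⟩
    apply Subtype.ext
    apply Subtype.ext
    show P * (P⁻¹ * Nm * P) * P⁻¹ = (N : SpecialLinearGroup (Fin n) K).1
    rw [← hNm, ← Matrix.mul_assoc, ← Matrix.mul_assoc, hPQ, Matrix.one_mul, Matrix.mul_assoc,
      hPQ, Matrix.mul_one]

end Cfsg.Agent.Lib.helper25.SUni

namespace Cfsg.Agent.Lib.helper25

open Cfsg.Agent.Lib.helper25.SUni
open Cfsg.Agent.Lib.helper4

set_option synthInstance.maxHeartbeats 400000 in
set_option maxHeartbeats 1000000 in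
/-- The defining-characteristic fusion system of `PSU_n(q)`, `n ≥ 4`, is simple. -/
theorem psu_fusion_simple {K : Type*} [Field K] [Fintype K] (p q : ℕ) [Fact p.Prime] [CharP K p]
    (hK : Fintype.card K = q ^ 2) (m : ℕ) (S : Sylow p (Cfsg.PSU (m + 4) K q)) :
    (Cfsg.groupFusionSystem (S : Subgroup (Cfsg.PSU (m + 4) K q))).IsSimple p := by
  have hp := (Fact.out : p.Prime)
  have hq := uq_ge_two hK
  obtain ⟨e, he⟩ := exists_toSU (q := q) (K := K) hK (m + 4)
  set π : GamU (m + 4) K q →* Cfsg.PSU (m + 4) K q :=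
    (QuotientGroup.mk' (Subgroup.center (Cfsg.SU (m + 4) K q))).comp e with hπ
  have hπapp : ∀ x, π x = QuotientGroup.mk' (Subgroup.center (Cfsg.SU (m + 4) K q)) (e x) :=
    fun x => rfl
  have hmemker : ∀ x, x ∈ π.ker ↔ e x ∈ Subgroup.center (Cfsg.SU (m + 4) K q) := by
    intro x
    rw [MonoidHom.mem_ker, hπapp, ← MonoidHom.mem_ker, QuotientGroup.ker_mk']
  have hπker : π.ker = Subgroup.center (GamU (m + 4) K q) := by
    ext x
    rw [hmemker, Subgroup.mem_center_iff, Subgroup.mem_center_iff]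
    constructor
    · intro h y
      apply he.1
      rw [map_mul, map_mul]
      exact h (e y)
    · intro h y
      obtain ⟨y', rfl⟩ := he.2 y
      rw [← map_mul, ← map_mul, h y']
  have hπsurj : Function.Surjective π := (QuotientGroup.mk'_surjective _).comp he.2
  obtain ⟨S0, hS0⟩ := exists_sylow_UUu (n := m + 4) (K := K) (q := q) p hK
  obtain ⟨g, hg⟩ := MulAction.exists_smul_eq (Cfsg.PSU (m + 4) K q)
    (S0.mapSurjective hπsurj) S
  set φ : GamU (m + 4) K q →* Cfsg.PSU (m + 4) K q :=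
    (MulAut.conj g).toMonoidHom.comp π with hφ
  have hφapp : ∀ x, φ x = g * π x * g⁻¹ := fun x => rfl
  have hφker : φ.ker = Subgroup.center (GamU (m + 4) K q) := by
    ext x
    have hx : x ∈ π.ker ↔ x ∈ Subgroup.center (GamU (m + 4) K q) := by
      rw [hπker]
    rw [← hx, MonoidHom.mem_ker, MonoidHom.mem_ker, hφapp]
    constructor
    · intro h
      have : π x = g⁻¹ * (g * π x * g⁻¹) * g := by group
      rw [this, h]
      group
    · intro h
      rw [h]
      group
  have hφsurj : Function.Surjective φ := by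
    intro y
    obtain ⟨x, hx⟩ := hπsurj (g⁻¹ * y * g)
    refine ⟨x, ?_⟩
    rw [hφapp, hx]
    group
  have hS : (S : Subgroup (Cfsg.PSU (m + 4) K q)) = (UUu (m + 4) K q).map φ := by
    rw [← hg, Sylow.coe_subgroup_smul, Sylow.coe_mapSurjective, hS0]
    ext x
    rw [Subgroup.mem_pointwise_smul_iff_inv_smul_mem, MulAut.smul_def, MulAut.conj_inv_apply]
    constructor
    · rintro ⟨u, hu, hux⟩
      refine ⟨u, hu, ?_⟩
      rw [hφapp, hux]
      group
    · rintro ⟨u, hu, rfl⟩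
      refine ⟨u, hu, ?_⟩
      rw [hφapp]
      group
  have hcop : (Nat.card φ.ker).Coprime p := by
    have hcard : Nat.card φ.ker = Nat.card (Subgroup.center (Cfsg.SU (m + 4) K q)) := by
      rw [hφker, ← hπker]
      exact Nat.card_congr (Equiv.subtypeEquiv (Equiv.ofBijective e he) (fun x => hmemker x))
    rw [hcard, card_center_su hK (by omega)]
    obtain ⟨f, -, hf⟩ := FiniteField.card K p
    have hpq : p ∣ q := by
      have h1 : p ∣ q ^ 2 := by
        rw [← hK, hf]
        exact dvd_pow_self p f.pos.ne'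
      exact hp.dvd_of_dvd_pow h1
    rw [Nat.coprime_comm, Nat.Prime.coprime_iff_not_dvd hp]
    intro h
    have h1 : p ∣ q + 1 := dvd_trans h (Nat.gcd_dvd_right _ _)
    have h2 : p ∣ 1 := (Nat.dvd_add_right hpq).1 h1
    exact hp.one_lt.ne' (Nat.dvd_one.1 h2)
  apply isSimple_groupFusion_of_cover p φ hφsurj (hφker.le) hcop (UUu (m + 4) K q)
    (isPGroup_UUu p) (UUu_ne_bot hK) S hS (strongly_closed_UUu p hK)
  rw [hφker]
  exact gen_UUu p hK

end Cfsg.Agent.Lib.helper25
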