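import Mathlib
import Cfsg.Agent.Lib.helper25.QdFree
import Cfsg.Agent.Lib.helper25.SUni10

/-!
# The unitriangular subgroup of `SU₃` is TI (library, seat helper25)
-/

set_option autoImplicit false
set_option linter.unusedSectionVars false
set_option linter.unusedSimpArgs false
set_option linter.style.haveILetI false

namespace Cfsg.Agent.Lib.helper25.QdFree

open Matrix Cfsg.Agent.Lib.helper25 Cfsg.Agent.Lib.helper25.SUni Cfsg.Agent.Lib.helper25.SLUni

variable {K : Type*} [Field K] [Fintype K] {q : ℕ}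

theorem hf3 (x y : Fin 3 → K) :
    hf 3 K q x y = x 0 * y 2 ^ q + x 1 * y 1 ^ q + x 2 * y 0 ^ q := by
  unfold hf
  rw [Fin.sum_univ_three]
  rfl

theorem mv3 (M : Matrix (Fin 3) (Fin 3) K) (x : Fin 3 → K) (i : Fin 3) :
    (M *ᵥ x) i = M i 0 * x 0 + M i 1 * x 1 + M i 2 * x 2 := by
  simp [Matrix.mulVec, dotProduct, Fin.sum_univ_three]

/-- `U ∩ U^g ≠ 1` forces `g` to be triangular. -/
theorem UUu3_ti (hK : Fintype.card K = q ^ 2) (g : GamU 3 K q)
    (h : ∃ u ∈ UUu 3 K q, u ≠ 1 ∧ g⁻¹ * u * g ∈ UUu 3 K q) : g ∈ BBu 3 K q := by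
  obtain ⟨u, hu, hu1, hgu⟩ := h
  have hq0 : q ≠ 0 := by
    rintro rfl
    have : 1 < Fintype.card K := Fintype.one_lt_card
    rw [hK] at this
    simp at this
  rw [mem_UUu] at hu hgu
  obtain ⟨hUT, hUd⟩ := hu
  obtain ⟨hNT, hNd⟩ := hgu
  have hE : gm u * gm g = gm g * gm (g⁻¹ * u * g) := by
    rw [← gm_mul, ← gm_mul]; congr 1; group
  have u10 : gm u 1 0 = 0 := hUT 1 0 (by decide)
  have u20 : gm u 2 0 = 0 := hUT 2 0 (by decide)
  have u21 : gm u 2 1 = 0 := hUT 2 1 (by decide)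
  have u00 : gm u 0 0 = 1 := hUd 0
  have u11 : gm u 1 1 = 1 := hUd 1
  have u22 : gm u 2 2 = 1 := hUd 2
  have n10 : gm (g⁻¹ * u * g) 1 0 = 0 := hNT 1 0 (by decide)
  have n20 : gm (g⁻¹ * u * g) 2 0 = 0 := hNT 2 0 (by decide)
  have n00 : gm (g⁻¹ * u * g) 0 0 = 1 := hNd 0
  have e0 := congrFun (congrFun hE 0) 0
  have e1 := congrFun (congrFun hE 1) 0
  simp only [Matrix.mul_apply, Fin.sum_univ_three, u10, u20, u21, u00, u11, u22, n10, n20, n00]
    at e0 e1
  -- unitarity of `u`
  have hu12 := gm_pres u ![0, 1, 0] ![0, 0, 1]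
  rw [hf3, hf3] at hu12
  simp only [mv3, u10, u20, u21, u00, u11, u22] at hu12
  simp [hq0] at hu12
  -- isotropy of the first column of `g`
  have hg00 := gm_pres g ![1, 0, 0] ![1, 0, 0]
  rw [hf3, hf3] at hg00
  simp only [mv3] at hg00
  simp [hq0] at hg00
  have hg10 := gm_pres g ![0, 1, 0] ![1, 0, 0]
  rw [hf3, hf3] at hg10
  simp only [mv3] at hg10
  simp [hq0] at hg10
  -- the first column
  have c2 : gm g 2 0 = 0 := by
    by_contra hne
    have hc : gm u 1 2 = 0 := by
      have : gm u 1 2 * gm g 2 0 = 0 := by linear_combination e1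
      rcases mul_eq_zero.mp this with h | h
      · exact h
      · exact absurd h hne
    have ha : gm u 0 1 = 0 := by
      rw [hc] at hu12
      simpa [hq0] using hu12
    have hb : gm u 0 2 = 0 := by
      have : gm u 0 2 * gm g 2 0 = 0 := by rw [ha] at e0; linear_combination e0
      rcases mul_eq_zero.mp this with h | h
      · exact h
      · exact absurd h hne
    apply hu1
    apply gm_injective
    rw [gm_one]
    ext i j
    fin_cases i <;> fin_cases j <;> simp [u10, u20, u21, u00, u11, u22, ha, hb, hc]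
  have c1 : gm g 1 0 = 0 := by
    rw [c2] at hg00
    simpa [hq0] using hg00
  have c0 : gm g 0 0 ≠ 0 := by
    intro h0
    have hdet := gm_det g
    rw [Matrix.det_fin_three, c1, c2, h0] at hdet
    simp at hdet
  have c21 : gm g 2 1 = 0 := by
    rw [c1, c2] at hg10
    simpa [hq0, c0] using hg10
  rw [mem_BBu]
  intro i j hij
  fin_cases i <;> fin_cases j <;> first | exact c1 | exact c2 | exact c21 | (exact absurd hij (by decide))

/-- `Qd(p)` is not involved in `SU₃(q)` (antidiagonal form). -/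
theorem not_involves_qd_GamU3 (p : ℕ) [Fact p.Prime] [CharP K p] (hK : Fintype.card K = q ^ 2) :
    ¬ Cfsg.Involves ↥(Cfsg.qd p) (GamU 3 K q) := by
  obtain ⟨S, hS⟩ := exists_sylow_UUu (n := 3) (q := q) (K := K) p hK
  apply not_involves_qd_of_ti p
  apply ti_all p S
  intro g hg
  rw [hS] at hg ⊢
  exact BBu_le_normalizer (UUu3_ti hK g hg)

/-- `Qd(p)` is not involved in `PSU₃(q)`. -/
theorem not_involves_qd_PSU3 (p : ℕ) [Fact p.Prime] [CharP K p] (hK : Fintype.card K = q ^ 2) :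
    ¬ Cfsg.Involves ↥(Cfsg.qd p) (Cfsg.PSU 3 K q) := by
  intro h
  obtain ⟨e, he⟩ := exists_toSU (q := q) (K := K) hK 3
  have hs : Function.Surjective
      ((QuotientGroup.mk' (Subgroup.center (Cfsg.SU 3 K q))).comp e) :=
    (QuotientGroup.mk'_surjective _).comp he.2
  exact not_involves_qd_GamU3 p hK (involves_of_surj_hom _ hs h)

end Cfsg.Agent.Lib.helper25.QdFree
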