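import Cfsg.Agent.Lib.helper25.SzIso2
import Cfsg.Agent.Lib.helper2.Suzuki5

set_option autoImplicit false

namespace Cfsg.Agent.Lib.helper25.SzIso

open Cfsg.Agent.Lib.helper2.Suzuki
open Cfsg.Agent.Lib.helper2.Ovoid (N)
open Matrix

section alt

variable {F : Type*} [Field F]

theorem alt_mulVec (M : Matrix (Fin 4) (Fin 4) F) (u v : Fin 4 → F) :
    Cfsg.Lie.altForm4 (M *ᵥ u) (M *ᵥ v) = ∑ i, ∑ j, u i * colrel M i j * v j := by
  simp only [Cfsg.Lie.altForm4, colrel, Matrix.mulVec, dotProduct, Fin.sum_univ_four]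
  ring

theorem alt_eq (u v : Fin 4 → F) :
    Cfsg.Lie.altForm4 u v = ∑ i, ∑ j, u i * Jm F i j * v j := by
  simp [Cfsg.Lie.altForm4, Cfsg.suzukiForm, Fin.sum_univ_four]

theorem mem_Sp4_iff (g : GL (Fin 4) F) :
    g ∈ Cfsg.Lie.Sp4 F ↔ (g : Matrix (Fin 4) (Fin 4) F)ᵀ * Jm F * (g : Matrix (Fin 4) (Fin 4) F)
      = Jm F := by
  constructor
  · intro h
    ext i j
    rw [← colrel_eq]
    have h1 := h (Pi.single i 1) (Pi.single j 1)
    change Cfsg.Lie.altForm4 ((g : Matrix (Fin 4) (Fin 4) F) *ᵥ _)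
      ((g : Matrix (Fin 4) (Fin 4) F) *ᵥ _) = _ at h1
    rw [alt_mulVec, alt_eq] at h1
    simp only [Pi.single_apply, mul_ite, mul_one, mul_zero, ite_mul, zero_mul,
      Finset.sum_ite_eq', Finset.mem_univ, if_true, one_mul] at h1
    exact h1
  · intro h u v
    change Cfsg.Lie.altForm4 ((g : Matrix (Fin 4) (Fin 4) F) *ᵥ _)
      ((g : Matrix (Fin 4) (Fin 4) F) *ᵥ _) = _
    rw [alt_mulVec, alt_eq]
    simp only [colrel_eq, h]

end alt

section main

variable {F : Type*} [Field F] [Fintype F] {s : ℕ} (H : Hyp F s)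
include H

theorem det_eq_one {g : Matrix (Fin 4) (Fin 4) F} (hg : gᵀ * Jm F * g = Jm F) : g.det = 1 := by
  have h1 := congrArg Matrix.det hg
  rw [Matrix.det_mul, Matrix.det_mul, Matrix.det_transpose] at h1
  have h2 : (Jm F).det * (Jm F).det = 1 := by rw [← Matrix.det_mul, Jm_sq, Matrix.det_one]
  have h3 : (Jm F).det ≠ 0 := by
    intro h0
    rw [h0, zero_mul] at h2
    exact zero_ne_one h2
  have h4 : g.det ^ 2 = 1 ^ 2 := by
    have : (Jm F).det * (g.det ^ 2 - 1) = 0 := by linear_combination h1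
    rcases mul_eq_zero.1 this with h | h
    · exact absurd h h3
    · linear_combination h
  exact sq_inj H h4

theorem Sz_eq_map :
    Cfsg.Lie.Sz F s = (Gs F s).map Matrix.SpecialLinearGroup.toGL := by
  apply le_antisymm
  · rw [Cfsg.Lie.Sz, Subgroup.closure_le]
    rintro g ⟨hgSp, hst⟩
    have hJ := (mem_Sp4_iff g).1 hgSp
    have hdet := det_eq_one H hJ
    refine ⟨⟨(g : Matrix (Fin 4) (Fin 4) F), hdet⟩, mem_of_isSzM H ⟨hJ, hst⟩, ?_⟩
    ext i j
    rfl
  · rintro _ ⟨h, hh, rfl⟩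
    have key : ∀ k : Matrix.SpecialLinearGroup (Fin 4) F, IsSzM s k.val →
        Matrix.SpecialLinearGroup.toGL k ∈ Cfsg.Lie.Sz F s := by
      intro k hk
      apply Subgroup.subset_closure
      exact ⟨(mem_Sp4_iff _).2 hk.1, hk.2⟩
    exact key h (isSzM_of_mem H hh)

/-- The Suzuki group of `Def_Sz` is isomorphic to the ovoid stabilizer. -/
noncomputable def szEquiv : ↥(Gs F s) ≃* ↥(Cfsg.Lie.Sz F s) :=
  (Subgroup.equivMapOfInjective (Gs F s) Matrix.SpecialLinearGroup.toGL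
    Matrix.SpecialLinearGroup.toGL_injective).trans (MulEquiv.subgroupCongr (Sz_eq_map H).symm)

theorem szEquiv_apply (g : ↥(Gs F s)) :
    ((szEquiv H g : ↥(Cfsg.Lie.Sz F s)) : GL (Fin 4) F) = Matrix.SpecialLinearGroup.toGL g.1 := rfl

theorem simple_Sz : IsSimpleGroup ↥(Cfsg.Lie.Sz F s) := by
  have := simple H
  exact (szEquiv H).symm.isSimpleGroup

end main

end Cfsg.Agent.Lib.helper25.SzIso
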