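import Mathlib
import Cfsg.Agent.Lib.helper2.Suzuki7

/-!
# Automorphisms of the Suzuki groups: generators and field automorphisms (library, seat helper25)
-/

set_option autoImplicit false
set_option linter.unusedSectionVars false
set_option linter.unusedSimpArgs false

namespace Cfsg.Agent.Lib.helper25.SzOut

open Cfsg.Agent.Lib.helper2.Suzuki
open Cfsg.Agent.Lib.helper2.Ovoid (N)

variable {F : Type*} [Field F] [Fintype F] {s : ℕ} (H : Hyp F s)

/-- translation as an element of the group -/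
def tG (a b : F) : ↥(Gs F s) := ⟨tS s a b, tS_mem H a b⟩

/-- diagonal element of the group -/
def eG (l : Fˣ) : ↥(Gs F s) := ⟨eS s l, eS_mem H l⟩

/-- Weyl element of the group -/
def wG : ↥(Gs F s) := ⟨wS F, wS_mem H⟩

theorem tG_val (a b : F) : (tG H a b).1 = tS s a b := rfl
theorem eG_val (l : Fˣ) : (eG H l).1 = eS s l := rfl
theorem wG_val : (wG H).1 = wS F := rfl

theorem tG_mul (a b a' b' : F) : tG H a b * tG H a' b' = tG H (a + a') (b + b' + a ^ s * a') :=
  Subtype.ext (tS_mul H a b a' b')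

theorem tG_zero : tG H (0 : F) 0 = 1 := Subtype.ext (tS_zero H)

theorem tG_inj {a b a' b' : F} (h : tG H a b = tG H a' b') : a = a' ∧ b = b' :=
  tS_inj H (congrArg Subtype.val h)

theorem tG_inv (a b : F) : (tG H a b)⁻¹ = tG H a (b + a ^ (s + 1)) := Subtype.ext (tS_inv H a b)

theorem eG_mul (l l' : Fˣ) : eG H l * eG H l' = eG H (l * l') := Subtype.ext (eS_mul H l l')

theorem eG_one : eG H (1 : Fˣ) = 1 := Subtype.ext eS_one

theorem eG_inv (l : Fˣ) : (eG H l)⁻¹ = eG H l⁻¹ := Subtype.ext (eS_inv H l)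

theorem eG_inj {l l' : Fˣ} (h : eG H l = eG H l') : l = l' := eS_inj H (congrArg Subtype.val h)

theorem eG_tG (l : Fˣ) (a b : F) :
    eG H l * tG H a b = tG H ((l : F) ^ 2 * a) ((l : F) ^ (2 * s + 2) * b) * eG H l :=
  Subtype.ext (eS_tS H l a b)

theorem eG_conj (l : Fˣ) (a b : F) :
    eG H l * tG H a b * (eG H l)⁻¹ = tG H ((l : F) ^ 2 * a) ((l : F) ^ (2 * s + 2) * b) := by
  rw [eG_tG, mul_assoc, mul_inv_cancel, mul_one]

theorem wG_sq : wG H * wG H = 1 := Subtype.ext wS_mul_self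

theorem wG_inv : (wG H)⁻¹ = wG H := inv_eq_of_mul_eq_one_right (wG_sq H)

theorem wG_eG (l : Fˣ) : wG H * eG H l * wG H = eG H l⁻¹ := Subtype.ext (wS_eS l)

theorem decompG (g : ↥(Gs F s)) :
    (∃ a b l, g = tG H a b * eG H l) ∨
      (∃ a b a' b' l, g = tG H a b * wG H * (tG H a' b' * eG H l)) := by
  rcases decomp H g.2 with ⟨a, b, l, h⟩ | ⟨a, b, a', b', l, h⟩
  · exact Or.inl ⟨a, b, l, Subtype.ext h⟩
  · exact Or.inr ⟨a, b, a', b', l, Subtype.ext h⟩

/-- elements fixing the point at infinity -/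
theorem stabG {g : ↥(Gs F s)} (h : g.1 • inf F = inf F) : ∃ a b l, g = tG H a b * eG H l := by
  obtain ⟨a, b, l, hg⟩ := stab_inf H g.2 h
  exact ⟨a, b, l, Subtype.ext hg⟩

theorem fixG {g : ↥(Gs F s)} (h1 : g.1 • inf F = inf F) (h0 : g.1 • P s (0 : F) 0 = P s 0 0) :
    ∃ l, g = eG H l := by
  obtain ⟨l, hl⟩ := fix_two H g.2 h1 h0
  exact ⟨l, Subtype.ext hl⟩

/-- An element normalizing the translations fixes the point at infinity. -/
theorem fix_inf_of_norm {h : ↥(Gs F s)}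
    (hn : ∃ a' b', h * tG H 1 0 * h⁻¹ = tG H a' b') : h.1 • inf F = inf F := by
  obtain ⟨a', b', hn⟩ := hn
  have h1 : (h * tG H 1 0 * h⁻¹).1 • inf F = inf F := by
    rw [hn]; exact tS_smul_inf s a' b'
  have h2 : (tS s (1 : F) 0) • (h.1⁻¹ • inf F) = h.1⁻¹ • inf F := by
    have e : (h * tG H 1 0 * h⁻¹).1 = h.1 * tS s 1 0 * h.1⁻¹ := rfl
    rw [e, mul_smul, mul_smul] at h1
    have h5 := congrArg (fun p => h.1⁻¹ • p) h1
    simp only [inv_smul_smul] at h5
    exact h5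
  have h3 : h.1⁻¹ • inf F ∈ ov F s := mem_Gs_iff.1 (inv_mem h.2) _ (inf_mem s)
  rcases (mem_ov s).1 h3 with h4 | ⟨x, y, h4⟩
  · rw [inv_smul_eq_iff] at h4
    exact h4.symm
  · exfalso
    rw [h4, tS_smul_P H] at h2
    obtain ⟨e1, -⟩ := P_inj s h2
    have : (1 : F) = 0 := by linear_combination e1
    exact one_ne_zero this

/-- the entrywise field automorphism on `SL₄` -/
noncomputable def fieldMap (σ : F ≃+* F) :
    Matrix.SpecialLinearGroup (Fin 4) F →* Matrix.SpecialLinearGroup (Fin 4) F :=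
  Matrix.SpecialLinearGroup.map (σ : F →+* F)

theorem fieldMap_val (σ : F ≃+* F) (g : Matrix.SpecialLinearGroup (Fin 4) F) (i j : Fin 4) :
    (fieldMap σ g).val i j = σ (g.val i j) := rfl

theorem fieldMap_tS (σ : F ≃+* F) (a b : F) : fieldMap σ (tS s a b) = tS s (σ a) (σ b) := by
  apply Subtype.ext
  ext i j
  rw [fieldMap_val]
  fin_cases i <;> fin_cases j <;> simp [tS, tm, N, map_add, map_mul, map_pow]

theorem fieldMap_eS (σ : F ≃+* F) (l : Fˣ) :
    fieldMap σ (eS s l) = eS s (Units.map (σ : F →* F) l) := by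
  apply Subtype.ext
  ext i j
  rw [fieldMap_val]
  fin_cases i <;> fin_cases j <;> simp [eS, Cfsg.Agent.Lib.helper2.Suzuki.em, map_inv₀, map_pow]

theorem fieldMap_wS (σ : F ≃+* F) : fieldMap σ (wS F) = wS F := by
  apply Subtype.ext
  ext i j
  rw [fieldMap_val]
  fin_cases i <;> fin_cases j <;> simp [wS, wm]

include H in
theorem fieldMap_mem (σ : F ≃+* F) {g : Matrix.SpecialLinearGroup (Fin 4) F} (hg : g ∈ Gs F s) :
    fieldMap σ g ∈ Gs F s := by
  rcases decomp H hg with ⟨a, b, l, rfl⟩ | ⟨a, b, a', b', l, rfl⟩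
  · rw [map_mul, fieldMap_tS, fieldMap_eS]
    exact mul_mem (tS_mem H _ _) (eS_mem H _)
  · simp only [map_mul, fieldMap_tS, fieldMap_eS, fieldMap_wS]
    exact mul_mem (mul_mem (tS_mem H _ _) (wS_mem H)) (mul_mem (tS_mem H _ _) (eS_mem H _))

theorem fieldMap_symm (σ : F ≃+* F) (g : Matrix.SpecialLinearGroup (Fin 4) F) :
    fieldMap σ.symm (fieldMap σ g) = g := by
  apply Subtype.ext
  ext i j
  rw [fieldMap_val, fieldMap_val, RingEquiv.symm_apply_apply]

theorem fieldMap_symm' (σ : F ≃+* F) (g : Matrix.SpecialLinearGroup (Fin 4) F) :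
    fieldMap σ (fieldMap σ.symm g) = g := by
  apply Subtype.ext
  ext i j
  rw [fieldMap_val, fieldMap_val, RingEquiv.apply_symm_apply]

/-- the field automorphisms of the Suzuki group -/
noncomputable def Phi (σ : F ≃+* F) : MulAut ↥(Gs F s) where
  toFun g := ⟨fieldMap σ g.1, fieldMap_mem H σ g.2⟩
  invFun g := ⟨fieldMap σ.symm g.1, fieldMap_mem H σ.symm g.2⟩
  left_inv g := Subtype.ext (fieldMap_symm σ g.1)
  right_inv g := Subtype.ext (fieldMap_symm' σ g.1)
  map_mul' g h := Subtype.ext (map_mul (fieldMap σ) g.1 h.1)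

theorem Phi_tG (σ : F ≃+* F) (a b : F) : Phi H σ (tG H a b) = tG H (σ a) (σ b) :=
  Subtype.ext (fieldMap_tS σ a b)

theorem Phi_eG (σ : F ≃+* F) (l : Fˣ) :
    Phi H σ (eG H l) = eG H (Units.map (σ : F →* F) l) :=
  Subtype.ext (fieldMap_eS σ l)

theorem Phi_wG (σ : F ≃+* F) : Phi H σ (wG H) = wG H := Subtype.ext (fieldMap_wS σ)

theorem Phi_symm_apply (σ : F ≃+* F) (g : ↥(Gs F s)) : Phi H σ.symm (Phi H σ g) = g :=
  Subtype.ext (fieldMap_symm σ g.1)

theorem Phi_symm_mul (σ : F ≃+* F) : Phi H σ.symm * Phi H σ = 1 := by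
  apply MulEquiv.ext
  intro g
  exact Phi_symm_apply H σ g

end Cfsg.Agent.Lib.helper25.SzOut
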