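import Mathlib
import Cfsg.Agent.Lib.helper25.SzOut1

/-!
# Automorphisms of the Suzuki groups: normalization steps (library, seat helper25)
-/

set_option autoImplicit false
set_option linter.unusedSectionVars false
set_option linter.unusedSimpArgs false

namespace Cfsg.Agent.Lib.helper25.SzOut

open Cfsg.Agent.Lib.helper2.Suzuki
open Cfsg.Agent.Lib.helper2.Ovoid (N)

variable {F : Type*} [Field F] [Fintype F] {s : ℕ} (H : Hyp F s)

/-- the automorphism maps translations to translations -/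
def PresU (φ : MulAut ↥(Gs F s)) : Prop := ∀ a b, ∃ a' b', φ (tG H a b) = tG H a' b'

theorem surjU {φ : MulAut ↥(Gs F s)} (hU : PresU H φ) :
    ∀ a b, ∃ a' b', φ (tG H a' b') = tG H a b := by
  classical
  choose f1 f2 hf using hU
  let f : F × F → F × F := fun p => (f1 p.1 p.2, f2 p.1 p.2)
  have hinj : Function.Injective f := by
    rintro ⟨a, b⟩ ⟨a', b'⟩ h
    have h1 : f1 a b = f1 a' b' := congrArg Prod.fst h
    have h2 : f2 a b = f2 a' b' := congrArg Prod.snd h
    have h3 : φ (tG H a b) = φ (tG H a' b') := by rw [hf, hf, h1, h2]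
    obtain ⟨e1, e2⟩ := tG_inj H (φ.injective h3)
    rw [e1, e2]
  have hsurj := Finite.surjective_of_injective hinj
  intro a b
  obtain ⟨⟨a', b'⟩, h⟩ := hsurj (a, b)
  refine ⟨a', b', ?_⟩
  rw [hf]
  have h1 : f1 a' b' = a := congrArg Prod.fst h
  have h2 : f2 a' b' = b := congrArg Prod.snd h
  rw [h1, h2]

theorem conjB (a b : F) (l : Fˣ) (x y : F) :
    ∃ a' b', (tG H a b * eG H l) * tG H x y * (tG H a b * eG H l)⁻¹ = tG H a' b' := by
  have e : (tG H a b * eG H l) * tG H x y * (tG H a b * eG H l)⁻¹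
      = tG H a b * (eG H l * tG H x y * (eG H l)⁻¹) * (tG H a b)⁻¹ := by group
  rw [e, eG_conj, tG_inv, tG_mul, tG_mul]
  exact ⟨_, _, rfl⟩

include H in
theorem wS_inf_ne : wS F • inf F ≠ inf F := by
  rw [wS_smul_inf H]
  exact P_ne_inf s 0 0

/-- Second normalization: the Weyl element goes to `w` times a diagonal element. -/
theorem norm2 {φ : MulAut ↥(Gs F s)} (hU : PresU H φ) :
    ∃ (u : ↥(Gs F s)) (l : Fˣ), PresU H (MulAut.conj u * φ) ∧
      (MulAut.conj u * φ) (wG H) = wG H * eG H l := by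
  rcases decompG H (φ (wG H)) with ⟨a, b, l, hw⟩ | ⟨a, b, a', b', l, hw⟩
  · exfalso
    obtain ⟨a1, b1, h1⟩ := hU 1 0
    obtain ⟨a2, b2, h2⟩ := conjB H a b l a1 b1
    obtain ⟨a3, b3, h3⟩ := surjU H hU a2 b2
    have h4 : φ (wG H * tG H 1 0 * (wG H)⁻¹) = φ (tG H a3 b3) := by
      rw [map_mul, map_mul, map_inv, hw, h1, h2, h3]
    have h5 := φ.injective h4
    have h6 := fix_inf_of_norm H ⟨a3, b3, h5⟩
    exact wS_inf_ne H h6
  · refine ⟨(tG H a b)⁻¹, ?_⟩
    have hP : PresU H (MulAut.conj (tG H a b)⁻¹ * φ) := by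
      intro x y
      obtain ⟨x', y', hxy⟩ := hU x y
      rw [MulAut.mul_apply, MulAut.conj_apply, hxy, inv_inv, tG_inv, tG_mul, tG_mul]
      exact ⟨_, _, rfl⟩
    have hW : ∃ a'' b'', (MulAut.conj (tG H a b)⁻¹ * φ) (wG H)
        = wG H * (tG H a'' b'' * eG H l) := by
      rw [MulAut.mul_apply, MulAut.conj_apply, hw, inv_inv]
      have e : (tG H a b)⁻¹ * (tG H a b * wG H * (tG H a' b' * eG H l)) * tG H a b
          = wG H * (tG H a' b' * (eG H l * tG H a b)) := by group
      rw [e, eG_tG, ← mul_assoc (tG H a' b'), tG_mul]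
      exact ⟨_, _, rfl⟩
    obtain ⟨a'', b'', hW⟩ := hW
    have hsq : (MulAut.conj (tG H a b)⁻¹ * φ) (wG H) * (MulAut.conj (tG H a b)⁻¹ * φ) (wG H) = 1 := by
      rw [← map_mul, wG_sq, map_one]
    rw [hW] at hsq
    have hact : (wG H * (tG H a'' b'' * eG H l) * (wG H * (tG H a'' b'' * eG H l))).1 • inf F
        = inf F := by rw [hsq]; exact one_smul _ _
    have e : (wG H * (tG H a'' b'' * eG H l) * (wG H * (tG H a'' b'' * eG H l))).1
        = wS F * (tS s a'' b'' * eS s l) * (wS F * (tS s a'' b'' * eS s l)) := rfl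
    rw [e] at hact
    simp only [mul_smul] at hact
    rw [eS_smul_inf, tS_smul_inf, wS_smul_inf H, eS_smul_P00 H, tS_smul_P00 H] at hact
    have h0 : P s a'' b'' = P s (0 : F) 0 := by
      have := congrArg (fun p => (wS F)⁻¹ • p) hact
      simp only [inv_smul_smul] at this
      rw [this, wS_inv, wS_smul_inf H]
    obtain ⟨ha, hb⟩ := P_inj s h0
    refine ⟨l, hP, ?_⟩
    rw [hW, ha, hb, tG_zero, one_mul]

/-- Fourth step: an automorphism trivial on first coordinates and sending `w` to `w e` fixes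
the translations and the diagonal elements. -/
theorem norm4 {φ : MulAut ↥(Gs F s)} (h1 : ∀ a b, ∃ b', φ (tG H a b) = tG H a b')
    (h2 : ∃ l0, φ (wG H) = wG H * eG H l0) :
    (∀ a b, φ (tG H a b) = tG H a b) ∧ ∀ l, φ (eG H l) = eG H l := by
  have hs := s_ne_zero H
  obtain ⟨l0, hw⟩ := h2
  choose ζ' hζ' using h1
  set ζ : F → F := fun a => ζ' a 0 with hζdef
  have hζ : ∀ a, φ (tG H a 0) = tG H a (ζ a) := fun a => hζ' a 0
  have hsq : ∀ c y : F, tG H c y * tG H c y = tG H 0 (c ^ (s + 1)) :=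
    fun c y => Subtype.ext (tS_sq H c y)
  have hcen : ∀ b, φ (tG H 0 b) = tG H 0 b := by
    intro b
    obtain ⟨c, hc⟩ := pow_s1_surj H b
    rw [← hc, ← hsq c 0, map_mul, hζ, hsq, hsq]
  have hgen : ∀ a b, φ (tG H a b) = tG H a (b + ζ a) := by
    intro a b
    have e : tG H a b = tG H a 0 * tG H 0 b := by
      rw [tG_mul]; congr 1 <;> ring
    rw [e, map_mul, hζ, hcen, tG_mul]
    congr 1 <;> ring
  have hadd : ∀ a a', ζ (a + a') = ζ a + ζ a' := by
    intro a a'
    have e := congrArg φ (tG_mul H a 0 a' 0)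
    rw [map_mul, hζ, hζ, tG_mul, hgen] at e
    have := (tG_inj H e).2
    linear_combination -this
  -- the diagonal elements
  have hfix1 : ∀ l, (φ (eG H l)).1 • inf F = inf F := by
    intro l
    apply fix_inf_of_norm H
    have e1 : φ (tG H 1 (ζ 1)) = tG H 1 0 := by
      rw [hgen]; congr 1; exact add_self H _
    rw [← e1, ← map_inv, ← map_mul, ← map_mul, eG_conj, hgen]
    exact ⟨_, _, rfl⟩
  have hfix0 : ∀ l, (φ (eG H l)).1 • P s (0 : F) 0 = P s 0 0 := by
    intro l
    have e : eG H l = wG H * eG H l⁻¹ * wG H := by rw [wG_eG, inv_inv]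
    have e2 : (φ (eG H l)).1 = wS F * eS s l0 * (φ (eG H l⁻¹)).1 * (wS F * eS s l0) := by
      conv_lhs => rw [e, map_mul, map_mul, hw]
      rfl
    rw [e2]
    simp only [mul_smul]
    rw [eS_smul_P00 H, wS_smul_P00 H, hfix1, eS_smul_inf, wS_smul_inf H]
  have hE : ∀ l, ∃ l', φ (eG H l) = eG H l' := fun l => fixG H (hfix1 l) (hfix0 l)
  have hrel : ∀ (l : Fˣ), φ (eG H l) = eG H l ∧ ∀ a, ζ ((l : F) ^ 2 * a) = (l : F) ^ (2 * s + 2) * ζ a := by
    intro l
    obtain ⟨l', hl'⟩ := hE l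
    have key : ∀ a b, tG H ((l' : F) ^ 2 * a) ((l' : F) ^ (2 * s + 2) * (b + ζ a))
        = tG H ((l : F) ^ 2 * a) ((l : F) ^ (2 * s + 2) * b + ζ ((l : F) ^ 2 * a)) := by
      intro a b
      have e := congrArg φ (eG_conj H l a b)
      rw [map_mul, map_mul, map_inv, hl', hgen, hgen, eG_conj] at e
      exact e
    have hl : l' = l := by
      have := (tG_inj H (key 1 0)).1
      rw [mul_one, mul_one] at this
      exact Units.ext (sq_inj H this)
    subst hl
    refine ⟨hl', fun a => ?_⟩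
    have := (tG_inj H (key a 0)).2
    linear_combination -this
  have hζ0 : ∀ a, ζ a = 0 := by
    intro a0
    by_contra hne
    obtain ⟨t, ht0, ht1⟩ := exists_ne01 H
    have hc : ∀ c : F, c ≠ 0 → ζ (c * a0) = c ^ (s + 1) * ζ a0 := by
      intro c hc
      obtain ⟨l, hl⟩ := exists_sqrt H c
      have hl0 : l ≠ 0 := by
        rintro rfl
        rw [zero_pow (by norm_num)] at hl
        exact hc hl.symm
      have := (hrel (Units.mk0 l hl0)).2 a0
      rw [Units.val_mk0, hl] at this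
      rw [this, ← hl]
      ring
    have ht1' : t + 1 ≠ 0 := by
      intro h
      apply ht1
      linear_combination h - H.h2
    have e1 := hc t ht0
    have e2 := hc (t + 1) ht1'
    have e3 : ζ ((t + 1) * a0) = ζ (t * a0) + ζ a0 := by
      rw [← hadd]; congr 1; ring
    rw [e3, e1] at e2
    have e4 : (t + 1) ^ (s + 1) = t ^ (s + 1) + t ^ s + t + 1 := by
      rw [pow_succ, H.hadd, one_pow]; ring
    rw [e4] at e2
    have e5 : (t ^ s + t) * ζ a0 = 0 := by linear_combination -e2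
    rcases mul_eq_zero.1 e5 with h | h
    · have : t ^ s = t := by linear_combination h - t * H.h2
      rcases pow_s_fix H this with h' | h'
      · exact ht0 h'
      · exact ht1 h'
    · exact hne h
  refine ⟨fun a b => ?_, fun l => (hrel l).1⟩
  rw [hgen, hζ0, add_zero]

/-- Fifth step: such an automorphism is trivial. -/
theorem norm5 {φ : MulAut ↥(Gs F s)} (hT : ∀ a b, φ (tG H a b) = tG H a b)
    (hE : ∀ l, φ (eG H l) = eG H l) (hW : ∃ l0, φ (wG H) = wG H * eG H l0) : φ = 1 := by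
  obtain ⟨l0, hw⟩ := hW
  have hl0 : l0 = 1 := by
    have hg1 : (φ (wG H * tG H 1 0 * wG H)).1 • inf F = (wG H * tG H 1 0 * wG H).1 • inf F := by
      rcases decompG H (wG H * tG H 1 0 * wG H) with ⟨a, b, l, hg⟩ | ⟨a, b, a', b', l, hg⟩
      · rw [hg, map_mul, hT, hE]
      · rw [hg, map_mul, map_mul, map_mul, hT, hT, hE, hw]
        have e1 : (tG H a b * (wG H * eG H l0) * (tG H a' b' * eG H l)).1
            = tS s a b * (wS F * eS s l0) * (tS s a' b' * eS s l) := rfl
        have e2 : (tG H a b * wG H * (tG H a' b' * eG H l)).1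
            = tS s a b * wS F * (tS s a' b' * eS s l) := rfl
        rw [e1, e2]
        simp only [mul_smul]
        rw [eS_smul_inf, tS_smul_inf, eS_smul_inf]
    rw [map_mul, map_mul, hT, hw] at hg1
    have e1 : (wG H * eG H l0 * tG H 1 0 * (wG H * eG H l0)).1
        = wS F * eS s l0 * tS s 1 0 * (wS F * eS s l0) := rfl
    have e2 : (wG H * tG H 1 0 * wG H).1 = wS F * tS s 1 0 * wS F := rfl
    rw [e1, e2] at hg1
    simp only [mul_smul] at hg1
    rw [eS_smul_inf, wS_smul_inf H, tS_smul_P00 H, eS_smul_P H] at hg1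
    have h0 := congrArg (fun p => (wS F)⁻¹ • p) hg1
    simp only [inv_smul_smul] at h0
    obtain ⟨h1, -⟩ := P_inj s h0
    rw [mul_one] at h1
    exact unit_sq_eq_one H h1
  rw [hl0, eG_one, mul_one] at hw
  apply MulEquiv.ext
  intro g
  rcases decompG H g with ⟨a, b, l, hg⟩ | ⟨a, b, a', b', l, hg⟩
  · rw [hg, map_mul, hT, hE]; rfl
  · rw [hg, map_mul, map_mul, map_mul, hT, hT, hE, hw]; rfl

/-- Injectivity of `(g, σ) ↦ conj g ∘ Φ_σ`. -/
theorem inj_aux {g g' : ↥(Gs F s)} {σ σ' : F ≃+* F}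
    (h : MulAut.conj g * Phi H σ = MulAut.conj g' * Phi H σ') : g = g' ∧ σ = σ' := by
  have hx : ∀ x, Phi H σ x = (g⁻¹ * g') * Phi H σ' x * (g⁻¹ * g')⁻¹ := by
    intro x
    have := congrArg (fun ψ : MulAut ↥(Gs F s) => ψ x) h
    simp only [MulAut.mul_apply, MulAut.conj_apply] at this
    calc Phi H σ x = g⁻¹ * (g * Phi H σ x * g⁻¹) * g := by group
      _ = g⁻¹ * (g' * Phi H σ' x * g'⁻¹) * g := by rw [this]
      _ = (g⁻¹ * g') * Phi H σ' x * (g⁻¹ * g')⁻¹ := by group
  have h1 : (g⁻¹ * g').1 • inf F = inf F := by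
    apply fix_inf_of_norm H
    have := hx (tG H 1 0)
    rw [Phi_tG, Phi_tG, map_one, map_zero, map_one, map_zero] at this
    exact ⟨1, 0, this.symm⟩
  have h0 : (g⁻¹ * g').1 • P s (0 : F) 0 = P s 0 0 := by
    have := hx (wG H)
    rw [Phi_wG, Phi_wG] at this
    have e : (g⁻¹ * g') * wG H = wG H * (g⁻¹ * g') := by
      have e' : wG H * (g⁻¹ * g') = (g⁻¹ * g') * wG H * (g⁻¹ * g')⁻¹ * (g⁻¹ * g') := by
        rw [← this]
      rw [e']; group
    have e2 := congrArg (fun k : ↥(Gs F s) => k.1 • inf F) e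
    have e3 : ((g⁻¹ * g') * wG H).1 = (g⁻¹ * g').1 * wS F := rfl
    have e4 : (wG H * (g⁻¹ * g')).1 = wS F * (g⁻¹ * g').1 := rfl
    simp only [e3, e4, mul_smul] at e2
    rw [wS_smul_inf H, h1, wS_smul_inf H] at e2
    exact e2
  obtain ⟨l, hl⟩ := fixG H h1 h0
  have hl1 : l = 1 := by
    have := hx (tG H 1 0)
    rw [Phi_tG, Phi_tG, map_one, map_zero, map_one, map_zero, hl, eG_conj] at this
    have h2 := (tG_inj H this).1
    rw [mul_one] at h2
    exact unit_sq_eq_one H h2.symm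
  rw [hl1, eG_one] at hl
  have hgg : g = g' := by
    have : g' = g * (g⁻¹ * g') := by group
    rw [this, hl, mul_one]
  refine ⟨hgg, ?_⟩
  apply RingEquiv.ext
  intro a
  have := hx (tG H a 0)
  rw [hl, Phi_tG, Phi_tG] at this
  simp only [one_mul, inv_one, mul_one] at this
  exact (tG_inj H this).1

end Cfsg.Agent.Lib.helper25.SzOut
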