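import Mathlib
import Cfsg.Agent.Lib.helper25.SzOut2
import Cfsg.Agent.Lib.helper2.Suzuki6

/-!
# The Borel subgroup of a Suzuki group is maximal (library, seat helper25)
-/

set_option autoImplicit false
set_option linter.unusedSectionVars false
set_option linter.unusedSimpArgs false
set_option linter.style.haveILetI false

namespace Cfsg.Agent.Lib.helper25.SzOut

open Cfsg.Agent.Lib.helper2.Suzuki
open Cfsg.Agent.Lib.helper2.Ovoid (N)

variable {F : Type*} [Field F] [Fintype F] {s : ℕ} (H : Hyp F s)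

/-- the translation subgroup inside the group -/
def UG : Subgroup ↥(Gs F s) := (Us H).subgroupOf (Gs F s)

theorem mem_UG {g : ↥(Gs F s)} : g ∈ UG H ↔ ∃ a b, g = tG H a b := by
  constructor
  · rintro ⟨a, b, h⟩
    exact ⟨a, b, Subtype.ext h⟩
  · rintro ⟨a, b, rfl⟩
    exact ⟨a, b, rfl⟩

/-- the stabilizer of the point at infinity inside the group -/
def BG (F : Type*) [Field F] (s : ℕ) : Subgroup ↥(Gs F s) where
  carrier := {g | g.1 • inf F = inf F}
  mul_mem' := by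
    intro g h hg hh
    show (g.1 * h.1) • inf F = inf F
    rw [mul_smul, hh, hg]
  one_mem' := one_smul _ _
  inv_mem' := by
    intro g hg
    show g.1⁻¹ • inf F = inf F
    rw [inv_smul_eq_iff, hg]

omit [Fintype F] in
theorem mem_BG {g : ↥(Gs F s)} : g ∈ BG F s ↔ g.1 • inf F = inf F := Iff.rfl

theorem tG_mem_BG (a b : F) : tG H a b ∈ BG F s := tS_smul_inf s a b

theorem eG_mem_BG (l : Fˣ) : eG H l ∈ BG F s := eS_smul_inf s l

theorem wG_not_mem_BG : wG H ∉ BG F s := wS_inf_ne H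

theorem UG_le_BG : UG H ≤ BG F s := by
  intro g hg
  obtain ⟨a, b, rfl⟩ := (mem_UG H).1 hg
  exact tG_mem_BG H a b

theorem BG_conj {g : ↥(Gs F s)} (hg : g ∈ BG F s) {u : ↥(Gs F s)} (hu : u ∈ UG H) :
    g * u * g⁻¹ ∈ UG H := by
  obtain ⟨a, b, l, rfl⟩ := stabG H hg
  obtain ⟨x, y, rfl⟩ := (mem_UG H).1 hu
  obtain ⟨a', b', h⟩ := conjB H a b l x y
  rw [h]
  exact (mem_UG H).2 ⟨a', b', rfl⟩

/-- a nontrivial translation has the point at infinity as its only fixed point -/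
theorem fix_inf_of_norm' {h : ↥(Gs F s)} {a b a' b' : F}
    (hn : h * tG H a b * h⁻¹ = tG H a' b') (hab : ¬ (a = 0 ∧ b = 0)) : h.1 • inf F = inf F := by
  have hs := s_ne_zero H
  have h1 : (h * tG H a b * h⁻¹).1 • inf F = inf F := by
    rw [hn]; exact tS_smul_inf s a' b'
  have h2 : (tS s a b) • (h.1⁻¹ • inf F) = h.1⁻¹ • inf F := by
    have e : (h * tG H a b * h⁻¹).1 = h.1 * tS s a b * h.1⁻¹ := rfl
    rw [e, mul_smul, mul_smul] at h1
    have h5 := congrArg (fun p => h.1⁻¹ • p) h1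
    simp only [inv_smul_smul] at h5
    exact h5
  have h3 : h.1⁻¹ • inf F ∈ ov F s := mem_Gs_iff.1 (inv_mem h.2) _ (inf_mem s)
  rcases (mem_ov s).1 h3 with h4 | ⟨x, y, h4⟩
  · rw [inv_smul_eq_iff] at h4
    exact h4.symm
  · exfalso
    rw [h4, tS_smul_P H] at h2
    obtain ⟨e1, e2⟩ := P_inj s h2
    have ha : a = 0 := by linear_combination e1
    rw [ha, zero_pow hs, zero_mul] at e2
    have hb : b = 0 := by linear_combination e2
    exact hab ⟨ha, hb⟩

theorem normalizer_UG : Subgroup.normalizer (UG H : Set ↥(Gs F s)) = BG F s := by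
  ext g
  constructor
  · intro hg
    have h1 := (Subgroup.mem_normalizer_iff.1 hg (tG H 1 0)).1 ((mem_UG H).2 ⟨1, 0, rfl⟩)
    exact fix_inf_of_norm H ((mem_UG H).1 h1)
  · intro hg
    rw [Subgroup.mem_normalizer_iff]
    intro u
    constructor
    · exact fun hu => BG_conj H hg hu
    · intro hu
      have := BG_conj H (inv_mem hg) hu
      rw [inv_inv] at this
      have e : g⁻¹ * (g * u * g⁻¹) * g = u := by group
      rwa [e] at this

include H in
theorem BG_ne_top : BG F s ≠ ⊤ := by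
  intro h
  apply wG_not_mem_BG H
  rw [h]
  exact Subgroup.mem_top _

theorem eq_top_of_wG {M : Subgroup ↥(Gs F s)} (hB : BG F s ≤ M) (hw : wG H ∈ M) : M = ⊤ := by
  rw [eq_top_iff]
  intro g _
  rcases decompG H g with ⟨a, b, l, rfl⟩ | ⟨a, b, a', b', l, rfl⟩
  · exact mul_mem (hB (tG_mem_BG H a b)) (hB (eG_mem_BG H l))
  · exact mul_mem (mul_mem (hB (tG_mem_BG H a b)) hw)
      (mul_mem (hB (tG_mem_BG H a' b')) (hB (eG_mem_BG H l)))

include H in
/-- the Borel subgroup is maximal -/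
theorem BG_coatom : IsCoatom (BG F s) := by
  refine ⟨BG_ne_top H, ?_⟩
  intro M hM
  obtain ⟨hle, hne⟩ := lt_iff_le_and_ne.1 hM
  have hex : ∃ g ∈ M, g ∉ BG F s := by
    by_contra hcon
    push Not at hcon
    exact hne (le_antisymm hle hcon)
  obtain ⟨g, hgM, hgB⟩ := hex
  apply eq_top_of_wG H hle
  rcases decompG H g with ⟨a, b, l, rfl⟩ | ⟨a, b, a', b', l, rfl⟩
  · exact absurd (mul_mem (tG_mem_BG H a b) (eG_mem_BG H l)) hgB
  · have h1 : tG H a b ∈ M := hle (tG_mem_BG H a b)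
    have h2 : tG H a' b' * eG H l ∈ M := hle (mul_mem (tG_mem_BG H a' b') (eG_mem_BG H l))
    have e : wG H = (tG H a b)⁻¹ * (tG H a b * wG H * (tG H a' b' * eG H l))
        * (tG H a' b' * eG H l)⁻¹ := by group
    rw [e]
    exact mul_mem (mul_mem (inv_mem h1) hgM) (inv_mem h2)

/-- the subgroup generated by two opposite unipotent subgroups -/
def NN : Subgroup ↥(Gs F s) :=
  Subgroup.closure {g | (∃ a b, g = tG H a b) ∨ (∃ a b, g = wG H * tG H a b * wG H)}

theorem NN_conj (x : ↥(Gs F s))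
    (hx : ∀ a b, x * tG H a b * x⁻¹ ∈ NN H ∧ x * (wG H * tG H a b * wG H) * x⁻¹ ∈ NN H) :
    ∀ n ∈ NN H, x * n * x⁻¹ ∈ NN H := by
  have : NN H ≤ (NN H).comap (MulAut.conj x).toMonoidHom := by
    rw [NN, Subgroup.closure_le]
    rintro g (⟨a, b, rfl⟩ | ⟨a, b, rfl⟩)
    · exact (hx a b).1
    · exact (hx a b).2
  exact fun n hn => this hn

theorem tG_mem_NN (a b : F) : tG H a b ∈ NN H := Subgroup.subset_closure (Or.inl ⟨a, b, rfl⟩)

theorem wtw_mem_NN (a b : F) : wG H * tG H a b * wG H ∈ NN H :=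
  Subgroup.subset_closure (Or.inr ⟨a, b, rfl⟩)

theorem NN_conj_all (g : ↥(Gs F s)) : ∀ n ∈ NN H, g * n * g⁻¹ ∈ NN H := by
  have ht : ∀ a b, ∀ n ∈ NN H, tG H a b * n * (tG H a b)⁻¹ ∈ NN H := fun a b n hn =>
    mul_mem (mul_mem (tG_mem_NN H a b) hn) (inv_mem (tG_mem_NN H a b))
  have he : ∀ l, ∀ n ∈ NN H, eG H l * n * (eG H l)⁻¹ ∈ NN H := by
    intro l
    apply NN_conj
    intro a b
    constructor
    · rw [eG_conj]; exact tG_mem_NN H _ _
    · have e1 : eG H l * wG H = wG H * eG H l⁻¹ := by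
        have := wG_eG H l⁻¹
        rw [inv_inv] at this
        rw [← this, mul_assoc (wG H * eG H l⁻¹), wG_sq, mul_one]
      have e3 : wG H * (eG H l)⁻¹ = (eG H l⁻¹)⁻¹ * wG H := by
        rw [eG_inv, eG_inv, inv_inv]
        exact e1.symm
      have e : eG H l * (wG H * tG H a b * wG H) * (eG H l)⁻¹
          = wG H * (eG H l⁻¹ * tG H a b * (eG H l⁻¹)⁻¹) * wG H := by
        calc eG H l * (wG H * tG H a b * wG H) * (eG H l)⁻¹
            = (eG H l * wG H) * tG H a b * (wG H * (eG H l)⁻¹) := by group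
          _ = (wG H * eG H l⁻¹) * tG H a b * ((eG H l⁻¹)⁻¹ * wG H) := by rw [e1, e3]
          _ = wG H * (eG H l⁻¹ * tG H a b * (eG H l⁻¹)⁻¹) * wG H := by group
      rw [e, eG_conj]
      exact wtw_mem_NN H _ _
  have hw : ∀ n ∈ NN H, wG H * n * (wG H)⁻¹ ∈ NN H := by
    apply NN_conj
    intro a b
    rw [wG_inv]
    constructor
    · exact wtw_mem_NN H a b
    · have e : wG H * (wG H * tG H a b * wG H) * wG H
          = (wG H * wG H) * tG H a b * (wG H * wG H) := by group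
      rw [e, wG_sq, one_mul, mul_one]
      exact tG_mem_NN H a b
  intro n hn
  rcases decompG H g with ⟨a, b, l, rfl⟩ | ⟨a, b, a', b', l, rfl⟩
  · have e : tG H a b * eG H l * n * (tG H a b * eG H l)⁻¹
        = tG H a b * (eG H l * n * (eG H l)⁻¹) * (tG H a b)⁻¹ := by group
    rw [e]
    exact ht a b _ (he l n hn)
  · have e : tG H a b * wG H * (tG H a' b' * eG H l) * n * (tG H a b * wG H * (tG H a' b' * eG H l))⁻¹
        = tG H a b * (wG H * (tG H a' b' * (eG H l * n * (eG H l)⁻¹) * (tG H a' b')⁻¹) * (wG H)⁻¹)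
          * (tG H a b)⁻¹ := by group
    rw [e]
    exact ht a b _ (hw _ (ht a' b' _ (he l n hn)))

theorem NN_eq_top : NN H = ⊤ := by
  haveI := simple H
  haveI : (NN H).Normal := ⟨fun n hn g => NN_conj_all H g n hn⟩
  rcases (inferInstance : (NN H).Normal).eq_bot_or_eq_top with h | h
  · exfalso
    have h1 : tG H 1 0 ∈ NN H := tG_mem_NN H 1 0
    rw [h, Subgroup.mem_bot, ← tG_zero H] at h1
    exact one_ne_zero (tG_inj H h1).1
  · exact h

/-- a proper subgroup containing the translations lies in the Borel subgroup -/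
theorem le_BG_of_UG_le {M : Subgroup ↥(Gs F s)} (hU : UG H ≤ M) (hM : M ≠ ⊤) : M ≤ BG F s := by
  by_contra hcon
  obtain ⟨g, hgM, hgB⟩ := SetLike.not_le_iff_exists.1 hcon
  apply hM
  rw [eq_top_iff, ← NN_eq_top H, NN, Subgroup.closure_le]
  rcases decompG H g with ⟨a, b, l, rfl⟩ | ⟨a, b, a', b', l, rfl⟩
  · exact absurd (mul_mem (tG_mem_BG H a b) (eG_mem_BG H l)) hgB
  · have h1 : tG H a b ∈ M := hU ((mem_UG H).2 ⟨a, b, rfl⟩)
    have h2 : wG H * (tG H a' b' * eG H l) ∈ M := by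
      have e : wG H * (tG H a' b' * eG H l)
          = (tG H a b)⁻¹ * (tG H a b * wG H * (tG H a' b' * eG H l)) := by group
      rw [e]
      exact mul_mem (inv_mem h1) hgM
    rintro x (⟨c, d, rfl⟩ | ⟨c, d, rfl⟩)
    · exact hU ((mem_UG H).2 ⟨c, d, rfl⟩)
    · -- `w t w = (w β) (β⁻¹ t β) (w β)⁻¹`
      have hβ : tG H a' b' * eG H l ∈ BG F s := mul_mem (tG_mem_BG H a' b') (eG_mem_BG H l)
      have h3 : (tG H a' b' * eG H l)⁻¹ * tG H c d * (tG H a' b' * eG H l)⁻¹⁻¹ ∈ UG H :=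
        BG_conj H (inv_mem hβ) ((mem_UG H).2 ⟨c, d, rfl⟩)
      have e' : (wG H * (tG H a' b' * eG H l))
            * ((tG H a' b' * eG H l)⁻¹ * tG H c d * (tG H a' b' * eG H l)⁻¹⁻¹)
            * (wG H * (tG H a' b' * eG H l))⁻¹ = wG H * tG H c d * (wG H)⁻¹ := by group
      have e : wG H * tG H c d * wG H
          = (wG H * (tG H a' b' * eG H l))
            * ((tG H a' b' * eG H l)⁻¹ * tG H c d * (tG H a' b' * eG H l)⁻¹⁻¹)
            * (wG H * (tG H a' b' * eG H l))⁻¹ := by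
        rw [e', wG_inv]
      rw [e]
      exact mul_mem (mul_mem h2 (hU h3)) (inv_mem h2)

end Cfsg.Agent.Lib.helper25.SzOut
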