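import Mathlib
import Cfsg.Agent.Lib.helper25.SzMax

/-!
# Sylow 2-subgroups of Suzuki groups: conjugacy, real elements, generation (library, seat helper25)
-/

set_option autoImplicit false
set_option linter.unusedSectionVars false
set_option linter.unusedSimpArgs false
set_option linter.style.haveILetI false

namespace Cfsg.Agent.Lib.helper25.SzOut

open Cfsg.Agent.Lib.helper2.Suzuki
open Cfsg.Agent.Lib.helper2.Ovoid (N)

/-- transport of the "unique maximal overgroup" statement along conjugation -/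
theorem transport_max {G : Type*} [Group G] (Q P : Subgroup G) (k : G)
    (hPQ : P = Q.map (MulAut.conj k).toMonoidHom)
    (hQ : IsCoatom (Subgroup.normalizer (Q : Set G)) ∧
      ∀ M : Subgroup G, IsCoatom M → Q ≤ M → M = Subgroup.normalizer (Q : Set G)) :
    IsCoatom (Subgroup.normalizer (P : Set G)) ∧
      ∀ M : Subgroup G, IsCoatom M → P ≤ M → M = Subgroup.normalizer (P : Set G) := by
  set f : G ≃* G := MulAut.conj k with hf
  have hN : Subgroup.normalizer (P : Set G) = f.mapSubgroup (Subgroup.normalizer (Q : Set G)) := by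
    rw [hPQ]
    exact (Subgroup.map_normalizer_eq_of_bijective Q (f := f.toMonoidHom) f.bijective).symm
  constructor
  · rw [hN, OrderIso.isCoatom_iff]
    exact hQ.1
  · intro M hM hPM
    have h1 : IsCoatom (f.mapSubgroup.symm M) := by
      rw [← OrderIso.isCoatom_iff f.mapSubgroup, OrderIso.apply_symm_apply]
      exact hM
    have h2 : Q ≤ f.mapSubgroup.symm M := by
      rw [← f.mapSubgroup.le_iff_le, OrderIso.apply_symm_apply]
      rw [hPQ] at hPM
      exact hPM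
    have h3 := hQ.2 _ h1 h2
    rw [hN, ← h3, OrderIso.apply_symm_apply]

variable {F : Type*} [Field F] [Fintype F] {s : ℕ} (H : Hyp F s)

/-- Every Sylow `2`-subgroup is conjugate to the translation subgroup. -/
theorem sylow_conj (r : ℕ) (hr : 1 ≤ r) (hq : Fintype.card F = 2 ^ r) (P : Sylow 2 ↥(Gs F s)) :
    ∃ k : ↥(Gs F s), (P : Subgroup ↥(Gs F s)) = (UG H).map (MulAut.conj k).toMonoidHom := by
  haveI : Fact (Nat.Prime 2) := ⟨Nat.prime_two⟩
  haveI : Finite ↥(Gs F s) := Finite.of_injective _ Subtype.val_injective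
  have eUK : ↥(UG H) ≃* ↥(Us H) := Subgroup.subgroupOfEquivOfLe (Us_le_Gs H)
  have hcardUK : Nat.card ↥(UG H) = 2 ^ (2 * r) := by
    rw [Nat.card_congr eUK.toEquiv, card_U H, hq, ← pow_mul, mul_comm]
  have hp : IsPGroup 2 ↥(UG H) := IsPGroup.of_card hcardUK
  have hidx : ¬ 2 ∣ (UG H).index := by
    have h1 := Subgroup.card_mul_index (UG H)
    rw [hcardUK, card_Gs H, hq] at h1
    have e : (2 ^ r) ^ 2 = 2 ^ (2 * r) := by rw [← pow_mul, mul_comm]
    rw [e, mul_assoc] at h1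
    have h2 : (UG H).index = (2 ^ (2 * r) + 1) * (2 ^ r - 1) :=
      Nat.eq_of_mul_eq_mul_left (by positivity) h1
    rw [h2]
    have hodd : Odd ((2 ^ (2 * r) + 1) * (2 ^ r - 1)) := by
      apply Odd.mul
      · exact Even.add_one (Even.pow_of_ne_zero even_two (by omega))
      · exact Nat.Even.sub_odd (Nat.one_le_two_pow) (Even.pow_of_ne_zero even_two (by omega))
          odd_one
    intro hd
    exact (Nat.not_even_iff_odd.2 hodd) (even_iff_two_dvd.2 hd)
  let Q : Sylow 2 ↥(Gs F s) := hp.toSylow hidx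
  have hQ : (Q : Subgroup ↥(Gs F s)) = UG H := rfl
  obtain ⟨k, hk⟩ := MulAction.exists_smul_eq ↥(Gs F s) Q P
  refine ⟨k, ?_⟩
  rw [← hk, Sylow.coe_subgroup_smul, hQ]
  rfl

/-- real elements of the translation group -/
theorem real_tG {a b : F} (hab : ¬ (a = 0 ∧ b = 0)) (h : IsConj (tG H a b) (tG H a b)⁻¹) :
    a = 0 := by
  have hs := s_ne_zero H
  by_contra ha
  rw [isConj_iff] at h
  obtain ⟨c, hc⟩ := h
  rw [tG_inv] at hc
  have h1 := fix_inf_of_norm' H hc hab
  obtain ⟨a', b', l, rfl⟩ := stabG H h1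
  have e : (tG H a' b' * eG H l) * tG H a b * (tG H a' b' * eG H l)⁻¹
      = tG H a' b' * (eG H l * tG H a b * (eG H l)⁻¹) * (tG H a' b')⁻¹ := by group
  rw [e, eG_conj, tG_inv, tG_mul, tG_mul] at hc
  obtain ⟨e1, e2⟩ := tG_inj H hc
  have hl2 : ((l : F) ^ 2 - 1) * a = 0 := by linear_combination e1 - a' * H.h2
  have hl : l = 1 := by
    apply unit_sq_eq_one H
    rcases mul_eq_zero.1 hl2 with h | h
    · linear_combination h
    · exact absurd h ha
  rw [hl, Units.val_one, one_pow, one_mul, one_pow, one_mul, H.hadd] at e2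
  have e3 : a' ^ s * a + a ^ s * a' = a ^ (s + 1) := by
    linear_combination e2 - (b' + a' ^ (s + 1)) * H.h2
  have e4 : (a' / a) ^ s + a' / a = 1 := by
    rw [div_pow]
    have has : a ^ s ≠ 0 := pow_ne_zero _ ha
    field_simp
    linear_combination e3
  set t := a' / a with ht
  have e5 : t ^ s = t + 1 := by linear_combination e4 - t * H.h2
  have e6 : t ^ 2 = t := by
    rw [← H.hs2 t, e5, H.hadd, e5, one_pow]
    linear_combination H.h2
  have e7 : t ^ s = t := by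
    have : t * (t - 1) = 0 := by linear_combination e6
    rcases mul_eq_zero.1 this with h | h
    · rw [h, zero_pow hs]
    · have : t = 1 := by linear_combination h
      rw [this, one_pow]
  have : (1 : F) = 0 := by linear_combination e7 - e5
  exact one_ne_zero this

theorem orderOf_tG {a b : F} (hab : ¬ (a = 0 ∧ b = 0)) : orderOf (tG H a b) = 2 ↔ a = 0 := by
  haveI : Fact (Nat.Prime 2) := ⟨Nat.prime_two⟩
  have hs := s_ne_zero H
  have hsq : tG H a b ^ 2 = tG H 0 (a ^ (s + 1)) := by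
    rw [pow_two]
    exact Subtype.ext (tS_sq H a b)
  have hne : tG H a b ≠ 1 := by
    intro h1
    rw [← tG_zero H] at h1
    exact hab (tG_inj H h1)
  constructor
  · intro h
    have h1 : tG H a b ^ 2 = 1 := by rw [← h]; exact pow_orderOf_eq_one _
    rw [hsq, ← tG_zero H] at h1
    have h2 := (tG_inj H h1).2
    exact (pow_eq_zero_iff (by omega)).1 h2
  · intro ha
    apply orderOf_eq_prime
    · rw [hsq, ha, zero_pow (by omega), tG_zero]
    · exact hne

include H in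
/-- real `2`-elements are involutions -/
theorem real_iff (r : ℕ) (hr : 1 ≤ r) (hq : Fintype.card F = 2 ^ r) (P : Sylow 2 ↥(Gs F s))
    (g : ↥(Gs F s)) (hg : g ∈ (P : Subgroup ↥(Gs F s))) (h1 : g ≠ 1) :
    IsConj g g⁻¹ ↔ orderOf g = 2 := by
  have hs := s_ne_zero H
  obtain ⟨k, hk⟩ := sylow_conj H r hr hq P
  rw [hk] at hg
  obtain ⟨u, hu, rfl⟩ := hg
  obtain ⟨a, b, rfl⟩ := (mem_UG H).1 hu
  have hab : ¬ (a = 0 ∧ b = 0) := by
    rintro ⟨rfl, rfl⟩
    apply h1
    rw [tG_zero, map_one]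
  have hord : orderOf ((MulAut.conj k).toMonoidHom (tG H a b)) = orderOf (tG H a b) :=
    MulEquiv.orderOf_eq (MulAut.conj k) (tG H a b)
  rw [hord, orderOf_tG H hab]
  have hc1 : IsConj (tG H a b) ((MulAut.conj k).toMonoidHom (tG H a b)) :=
    isConj_iff.2 ⟨k, rfl⟩
  have hc2 : IsConj (tG H a b)⁻¹ ((MulAut.conj k).toMonoidHom (tG H a b))⁻¹ := by
    rw [← map_inv]
    exact isConj_iff.2 ⟨k, rfl⟩
  constructor
  · intro h
    exact real_tG H hab ((hc1.trans h).trans hc2.symm)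
  · intro ha
    have : (tG H a b)⁻¹ = tG H a b := by
      rw [tG_inv, ha, zero_pow (by omega), add_zero]
    have h3 : IsConj (tG H a b) (tG H a b)⁻¹ := by rw [this]
    exact (hc1.symm.trans h3).trans hc2

/-- a subgroup of the translations normalized by the torus and containing a non-central
element is everything -/
theorem UG_le_of_torus {X : Subgroup ↥(Gs F s)}
    (hK : ∀ l, ∀ g ∈ X, eG H l * g * (eG H l)⁻¹ ∈ X) {a0 b0 : F} (ha0 : a0 ≠ 0)
    (h0 : tG H a0 b0 ∈ X) : UG H ≤ X := by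
  have hA : ∀ a, ∃ b, tG H a b ∈ X := by
    intro a
    by_cases ha : a = 0
    · exact ⟨0, by rw [ha, tG_zero]; exact one_mem _⟩
    · obtain ⟨l, hl⟩ := exists_sqrt H (a / a0)
      have hl0 : l ≠ 0 := by
        rintro rfl
        rw [zero_pow (by norm_num)] at hl
        exact (div_ne_zero ha ha0) hl.symm
      have := hK (Units.mk0 l hl0) _ h0
      rw [eG_conj, Units.val_mk0, hl, div_mul_cancel₀ a ha0] at this
      exact ⟨_, this⟩
  have hB : ∀ c, tG H 0 c ∈ X := by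
    intro c
    obtain ⟨a, ha⟩ := pow_s1_surj H c
    obtain ⟨b, hb⟩ := hA a
    have hsq : tG H a b * tG H a b = tG H 0 (a ^ (s + 1)) := Subtype.ext (tS_sq H a b)
    rw [← ha, ← hsq]
    exact mul_mem hb hb
  intro g hg
  obtain ⟨a, b, rfl⟩ := (mem_UG H).1 hg
  obtain ⟨b', hb'⟩ := hA a
  have e : tG H a b = tG H a b' * tG H 0 (b - b') := by
    rw [tG_mul]; congr 1 <;> ring
  rw [e]
  exact mul_mem hb' (hB _)

include H in
/-- The Suzuki groups are generated by two elements. -/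
theorem two_gen : ∃ a b : ↥(Gs F s), Subgroup.closure ({a, b} : Set ↥(Gs F s)) = ⊤ := by
  have hs := s_ne_zero H
  obtain ⟨lam, hlam⟩ := IsCyclic.exists_generator (α := Fˣ)
  refine ⟨eG H lam, wG H * tG H 1 0, ?_⟩
  set M : Subgroup ↥(Gs F s) := Subgroup.closure ({eG H lam, wG H * tG H 1 0} : Set ↥(Gs F s))
    with hMdef
  have hKM : ∀ l, eG H l ∈ M := by
    intro l
    obtain ⟨n, rfl⟩ := Subgroup.mem_zpowers_iff.1 (hlam l)
    have e : eG H (lam ^ n) = (eG H lam) ^ n := by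
      have := map_zpow (epsHom H) lam n
      exact this
    rw [e]
    exact zpow_mem (Subgroup.subset_closure (by simp)) n
  have hbM : wG H * tG H 1 0 ∈ M := Subgroup.subset_closure (by simp)
  have hwe : ∀ l, wG H * eG H l * (wG H)⁻¹ = eG H l⁻¹ := by
    intro l
    rw [wG_inv, wG_eG]
  -- the subgroup of translations whose `w`-conjugate lies in `M`
  set X : Subgroup ↥(Gs F s) := UG H ⊓ M.comap (MulAut.conj (wG H)).toMonoidHom with hX
  have hXmem : ∀ g, g ∈ X ↔ g ∈ UG H ∧ wG H * g * (wG H)⁻¹ ∈ M := fun g => Iff.rfl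
  have hXK : ∀ l, ∀ g ∈ X, eG H l * g * (eG H l)⁻¹ ∈ X := by
    intro l g hg
    rw [hXmem] at hg ⊢
    refine ⟨BG_conj H (eG_mem_BG H l) hg.1, ?_⟩
    have e : wG H * (eG H l * g * (eG H l)⁻¹) * (wG H)⁻¹
        = (wG H * eG H l * (wG H)⁻¹) * (wG H * g * (wG H)⁻¹) * (wG H * eG H l * (wG H)⁻¹)⁻¹ := by
      group
    rw [e, hwe]
    exact mul_mem (mul_mem (hKM _) hg.2) (inv_mem (hKM _))
  obtain ⟨t, ht0, ht1⟩ := exists_ne01 H
  set l : Fˣ := Units.mk0 t ht0 with hl
  have hcomm : tG H 1 0 * eG H l⁻¹ * (tG H 1 0)⁻¹ * eG H l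
      = tG H (1 + ((l⁻¹ : Fˣ) : F) ^ 2 * 1) (0 + ((l⁻¹ : Fˣ) : F) ^ (2 * s + 2) * (0 + 1 ^ (s + 1))
        + 1 ^ s * (((l⁻¹ : Fˣ) : F) ^ 2 * 1)) := by
    have e : tG H 1 0 * eG H l⁻¹ * (tG H 1 0)⁻¹ * eG H l
        = tG H 1 0 * (eG H l⁻¹ * (tG H 1 0)⁻¹ * (eG H l⁻¹)⁻¹) := by
      rw [eG_inv, inv_inv]; group
    rw [e, tG_inv, eG_conj, tG_mul]
  have hcX : tG H 1 0 * eG H l⁻¹ * (tG H 1 0)⁻¹ * eG H l ∈ X := by
    rw [hXmem]
    constructor
    · rw [hcomm]; exact (mem_UG H).2 ⟨_, _, rfl⟩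
    · have e : wG H * (tG H 1 0 * eG H l⁻¹ * (tG H 1 0)⁻¹ * eG H l) * (wG H)⁻¹
          = (wG H * tG H 1 0) * eG H l⁻¹ * (wG H * tG H 1 0)⁻¹ * (wG H * eG H l * (wG H)⁻¹) := by
        group
      rw [e, hwe]
      exact mul_mem (mul_mem (mul_mem hbM (hKM _)) (inv_mem hbM)) (hKM _)
  rw [hcomm] at hcX
  have hne : (1 : F) + ((l⁻¹ : Fˣ) : F) ^ 2 * 1 ≠ 0 := by
    intro h
    have h1 : (((l⁻¹ : Fˣ) : F)) ^ 2 = 1 ^ 2 := by linear_combination h - H.h2
    have h2 := sq_inj H h1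
    rw [Units.val_inv_eq_inv_val, hl, Units.val_mk0] at h2
    apply ht1
    field_simp at h2
    exact h2.symm
  have hUX := UG_le_of_torus H hXK hne hcX
  -- the conjugate Borel subgroup lies in `M`
  set M' : Subgroup ↥(Gs F s) := M.comap (MulAut.conj (wG H)).toMonoidHom with hM'
  have hM'mem : ∀ g, g ∈ M' ↔ wG H * g * (wG H)⁻¹ ∈ M := fun g => Iff.rfl
  have hBM' : BG F s ≤ M' := by
    intro g hg
    obtain ⟨a, b, l', rfl⟩ := stabG H hg
    rw [hM'mem]
    have e : wG H * (tG H a b * eG H l') * (wG H)⁻¹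
        = (wG H * tG H a b * (wG H)⁻¹) * (wG H * eG H l' * (wG H)⁻¹) := by group
    rw [e, hwe]
    exact mul_mem ((hXmem _).1 (hUX ((mem_UG H).2 ⟨a, b, rfl⟩))).2 (hKM _)
  have hg0 : tG H 1 0 * wG H ∈ M' := by
    rw [hM'mem]
    have e : wG H * (tG H 1 0 * wG H) * (wG H)⁻¹ = wG H * tG H 1 0 := by group
    rw [e]; exact hbM
  have hg0B : tG H 1 0 * wG H ∉ BG F s := by
    intro h
    have h1 : (tS s (1 : F) 0 * wS F) • inf F = inf F := h
    rw [mul_smul, wS_smul_inf H, tS_smul_P00 H] at h1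
    exact P_ne_inf s 1 0 h1
  have hM'top : M' = ⊤ := by
    have hco := BG_coatom H
    exact hco.2 M' (lt_of_le_of_ne hBM' (fun h => hg0B (h ▸ hg0)))
  rw [eq_top_iff]
  intro g _
  have h1 : (wG H)⁻¹ * g * wG H ∈ M' := by rw [hM'top]; exact Subgroup.mem_top _
  rw [hM'mem] at h1
  have e : wG H * ((wG H)⁻¹ * g * wG H) * (wG H)⁻¹ = g := by group
  rwa [e] at h1

end Cfsg.Agent.Lib.helper25.SzOut
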