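import Mathlib
import Cfsg.Agent.Lib.helper25.SzMax2
import Cfsg.Agent.Lib.helper25.SzIso3
import Cfsg.Agent.Lib.helper2.Suzuki8

/-!
# Suzuki groups have no nilpotent minimal cover (library, seat helper25)
-/

set_option autoImplicit false
set_option linter.unusedSectionVars false
set_option linter.unusedSimpArgs false
set_option linter.style.haveILetI false

namespace Cfsg.Agent.Lib.helper25.SzCover

open Cfsg.Agent.Lib.helper2.Suzuki
open Cfsg.Agent.Lib.helper2.Ovoid (N)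
open Cfsg.Agent.Lib.helper25.SzOut

/-- abstract criterion: no cover is at the same time minimal and nilpotent -/
theorem no_nil_min_cover {G : Type*} [Group G] {Ω : Type*} [Fintype Ω] (B : Ω → Subgroup G)
    (x : Ω → G) (h : G) (hB : ∀ a, B a ≠ ⊤)
    (h1 : ∀ a (M : Subgroup G), Group.IsNilpotent M → x a ∈ M →
      M ≤ B a ∧ h ∉ M ∧ ∀ a', x a' ∈ M → a' = a)
    (h2 : ∀ M : Subgroup G, Group.IsNilpotent M → h ∈ M → ∃ a, M ≤ B a) :
    ¬ ∃ 𝓐 : Finset (Subgroup G), ((∀ A ∈ 𝓐, A ≠ ⊤) ∧ (∀ g : G, ∃ A ∈ 𝓐, g ∈ A)) ∧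
      (∀ 𝓑 : Finset (Subgroup G), (∀ A ∈ 𝓑, A ≠ ⊤) ∧ (∀ g : G, ∃ A ∈ 𝓑, g ∈ A) →
        𝓐.card ≤ 𝓑.card) ∧
      (∀ A ∈ 𝓐, Group.IsNilpotent ↥A) := by
  classical
  rintro ⟨𝓐, ⟨hprop, hcov⟩, hmin, hnil⟩
  choose M hM hxM using fun a => hcov (x a)
  obtain ⟨Mh, hMh, hhM⟩ := hcov h
  let S1 : Finset (Subgroup G) := 𝓐.filter (fun A => ∃ a, A ≤ B a)
  let S0 : Finset (Subgroup G) := 𝓐.filter (fun A => ¬ ∃ a, A ≤ B a)
  let 𝓑 : Finset (Subgroup G) := S0 ∪ Finset.univ.image B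
  have hB1 : ∀ A ∈ 𝓑, A ≠ ⊤ := by
    intro A hA
    rcases Finset.mem_union.1 hA with hA | hA
    · exact hprop A (Finset.mem_filter.1 hA).1
    · obtain ⟨a, -, rfl⟩ := Finset.mem_image.1 hA
      exact hB a
  have hB2 : ∀ g : G, ∃ A ∈ 𝓑, g ∈ A := by
    intro g
    obtain ⟨A, hA, hgA⟩ := hcov g
    by_cases hex : ∃ a, A ≤ B a
    · obtain ⟨a, ha⟩ := hex
      exact ⟨B a, Finset.mem_union.2 (Or.inr (Finset.mem_image.2 ⟨a, Finset.mem_univ _, rfl⟩)),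
        ha hgA⟩
    · exact ⟨A, Finset.mem_union.2 (Or.inl (Finset.mem_filter.2 ⟨hA, hex⟩)), hgA⟩
  have hle := hmin 𝓑 ⟨hB1, hB2⟩
  have hcard𝓑 : 𝓑.card ≤ S0.card + Fintype.card Ω := by
    refine le_trans (Finset.card_union_le _ _) ?_
    exact Nat.add_le_add_left Finset.card_image_le _
  have hsplit : S1.card + S0.card = 𝓐.card := Finset.card_filter_add_card_filter_not _
  let f : Option Ω → Subgroup G := fun o => match o with
    | none => Mh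
    | some a => M a
  have hf : ∀ o ∈ (Finset.univ : Finset (Option Ω)), f o ∈ S1 := by
    intro o _
    cases o with
    | none =>
      exact Finset.mem_filter.2 ⟨hMh, h2 Mh (hnil Mh hMh) hhM⟩
    | some a =>
      exact Finset.mem_filter.2 ⟨hM a, a, (h1 a (M a) (hnil _ (hM a)) (hxM a)).1⟩
  have hinj : Set.InjOn f (Finset.univ : Finset (Option Ω)) := by
    intro o _ o' _ hoo
    cases o with
    | none =>
      cases o' with
      | none => rfl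
      | some a' =>
        exfalso
        have e : Mh = M a' := hoo
        exact (h1 a' (M a') (hnil _ (hM a')) (hxM a')).2.1 (e ▸ hhM)
    | some a =>
      cases o' with
      | none =>
        exfalso
        have e : M a = Mh := hoo
        exact (h1 a (M a) (hnil _ (hM a)) (hxM a)).2.1 (e ▸ hhM)
      | some a' =>
        have e : M a = M a' := hoo
        have := (h1 a' (M a') (hnil _ (hM a')) (hxM a')).2.2 a (e ▸ hxM a)
        rw [this]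
  have hS1 := Finset.card_le_card_of_injOn f hf hinj
  rw [Finset.card_univ, Fintype.card_option] at hS1
  omega

/-- covers by proper subgroups are transported by isomorphisms -/
theorem cover_map {X Y : Type*} [Group X] [Group Y] [DecidableEq (Subgroup Y)] (φ : X ≃* Y)
    (𝓒 : Finset (Subgroup X))
    (h1 : ∀ A ∈ 𝓒, A ≠ ⊤) (h2 : ∀ g : X, ∃ A ∈ 𝓒, g ∈ A) :
    (∀ A ∈ 𝓒.image (Subgroup.map φ.toMonoidHom), A ≠ ⊤) ∧
      (∀ g : Y, ∃ A ∈ 𝓒.image (Subgroup.map φ.toMonoidHom), g ∈ A) := by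
  constructor
  · intro A hA
    obtain ⟨A0, hA0, rfl⟩ := Finset.mem_image.1 hA
    intro htop
    apply h1 A0 hA0
    rw [eq_top_iff]
    intro g _
    have : φ g ∈ A0.map φ.toMonoidHom := by rw [htop]; trivial
    rw [Subgroup.mem_map_equiv] at this
    simpa using this
  · intro g
    obtain ⟨A0, hA0, hg⟩ := h2 (φ.symm g)
    exact ⟨A0.map φ.toMonoidHom, Finset.mem_image.2 ⟨A0, hA0, rfl⟩,
      Subgroup.mem_map_equiv.2 hg⟩

/-- transport along an isomorphism -/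
theorem transport {G G' : Type*} [Group G] [Group G'] (e : G ≃* G')
    (hG : ¬ ∃ 𝓐 : Finset (Subgroup G), ((∀ A ∈ 𝓐, A ≠ ⊤) ∧ (∀ g : G, ∃ A ∈ 𝓐, g ∈ A)) ∧
      (∀ 𝓑 : Finset (Subgroup G), (∀ A ∈ 𝓑, A ≠ ⊤) ∧ (∀ g : G, ∃ A ∈ 𝓑, g ∈ A) →
        𝓐.card ≤ 𝓑.card) ∧
      (∀ A ∈ 𝓐, Group.IsNilpotent ↥A)) :
    ¬ ∃ 𝓐 : Finset (Subgroup G'), ((∀ A ∈ 𝓐, A ≠ ⊤) ∧ (∀ g : G', ∃ A ∈ 𝓐, g ∈ A)) ∧
      (∀ 𝓑 : Finset (Subgroup G'), (∀ A ∈ 𝓑, A ≠ ⊤) ∧ (∀ g : G', ∃ A ∈ 𝓑, g ∈ A) →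
        𝓐.card ≤ 𝓑.card) ∧
      (∀ A ∈ 𝓐, Group.IsNilpotent ↥A) := by
  classical
  rintro ⟨𝓐', ⟨hp, hc⟩, hmin, hnil⟩
  apply hG
  obtain ⟨k1, k2⟩ := cover_map e.symm 𝓐' hp hc
  refine ⟨𝓐'.image (Subgroup.map e.symm.toMonoidHom), ⟨k1, k2⟩, ?_, ?_⟩
  · rintro 𝓑 ⟨hb1, hb2⟩
    obtain ⟨j1, j2⟩ := cover_map e 𝓑 hb1 hb2
    have := hmin _ ⟨j1, j2⟩
    exact le_trans Finset.card_image_le (le_trans this Finset.card_image_le)
  · intro A hA
    obtain ⟨A0, hA0, rfl⟩ := Finset.mem_image.1 hA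
    have := hnil A0 hA0
    exact Group.nilpotent_of_mulEquiv (e.symm.subgroupMap A0)

end Cfsg.Agent.Lib.helper25.SzCover
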