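import Mathlib
import Cfsg.Agent.Lib.helper25.SzCover

/-!
# Suzuki groups have no nilpotent minimal cover: the concrete part (library, seat helper25)
-/

set_option autoImplicit false
set_option linter.unusedSectionVars false
set_option linter.unusedSimpArgs false
set_option linter.style.haveILetI false

namespace Cfsg.Agent.Lib.helper25.SzCover

open Cfsg.Agent.Lib.helper2.Suzuki
open Cfsg.Agent.Lib.helper2.Ovoid (N)
open Cfsg.Agent.Lib.helper25.SzOut

variable {F : Type*} [Field F] [Fintype F] {s : ℕ} (H : Hyp F s)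

theorem centG_t {a b : F} (hab : ¬ (a = 0 ∧ b = 0)) {c : ↥(Gs F s)}
    (hc : c * tG H a b = tG H a b * c) : ∃ a' b', c = tG H a' b' := by
  obtain ⟨a', b', h⟩ := cent_tS H hab c.2 (congrArg Subtype.val hc)
  exact ⟨a', b', Subtype.ext h⟩

theorem centG_e {l : Fˣ} (hl : l ≠ 1) {c : ↥(Gs F s)}
    (hc : c * eG H l = eG H l * c) : ∃ l', c = eG H l' := by
  obtain ⟨l', h⟩ := cent_eS H hl c.2 (congrArg Subtype.val hc)
  exact ⟨l', Subtype.ext h⟩

theorem tG_ne_one {a b : F} (hab : ¬ (a = 0 ∧ b = 0)) : tG H a b ≠ 1 := by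
  intro h
  rw [← tG_zero H] at h
  exact hab (tG_inj H h)

theorem eG_ne_one {l : Fˣ} (hl : l ≠ 1) : eG H l ≠ 1 := by
  intro h
  rw [← eG_one H] at h
  exact hl (eG_inj H h)

/-- a nilpotent subgroup containing a nontrivial 2-element lies in one Sylow 2-subgroup -/
theorem nil_sub_t {M : Subgroup ↥(Gs F s)} (hM : Group.IsNilpotent M) {k : ↥(Gs F s)} {a b : F}
    (hab : ¬ (a = 0 ∧ b = 0)) (hx : k * tG H a b * k⁻¹ ∈ M) :
    ∀ m ∈ M, ∃ a' b', k⁻¹ * m * k = tG H a' b' := by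
  have hne : k * tG H a b * k⁻¹ ≠ 1 := by
    intro h
    apply tG_ne_one H hab
    have : tG H a b = k⁻¹ * (k * tG H a b * k⁻¹) * k := by group
    rw [this, h]; group
  haveI : Nontrivial ↥M := ⟨⟨⟨_, hx⟩, 1, fun h => hne (congrArg Subtype.val h)⟩⟩
  have hc := Group.IsNilpotent.center_ne_bot (G := ↥M)
  obtain ⟨z, hz⟩ := (Subgroup.ne_bot_iff_exists_ne_one).1 hc
  have hzc : ∀ m : ↥M, m * z.1 = z.1 * m := Subgroup.mem_center_iff.1 z.2
  have hz1 : (z.1.1 : ↥(Gs F s)) ≠ 1 := by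
    intro h
    apply hz
    apply Subtype.ext
    apply Subtype.ext
    exact h
  have hcomm : ∀ m ∈ M, m * z.1.1 = z.1.1 * m := by
    intro m hm
    exact congrArg Subtype.val (hzc ⟨m, hm⟩)
  have h1 : (k⁻¹ * z.1.1 * k) * tG H a b = tG H a b * (k⁻¹ * z.1.1 * k) := by
    have h2 := hcomm _ hx
    calc (k⁻¹ * z.1.1 * k) * tG H a b = k⁻¹ * (z.1.1 * (k * tG H a b * k⁻¹)) * k := by group
      _ = k⁻¹ * ((k * tG H a b * k⁻¹) * z.1.1) * k := by rw [h2]
      _ = tG H a b * (k⁻¹ * z.1.1 * k) := by group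
  obtain ⟨a1, b1, hζ⟩ := centG_t H hab h1
  have hab1 : ¬ (a1 = 0 ∧ b1 = 0) := by
    rintro ⟨rfl, rfl⟩
    rw [tG_zero H] at hζ
    apply hz1
    have : (z.1.1 : ↥(Gs F s)) = k * (k⁻¹ * z.1.1 * k) * k⁻¹ := by group
    rw [this, hζ]; group
  intro m hm
  have h3 : (k⁻¹ * m * k) * tG H a1 b1 = tG H a1 b1 * (k⁻¹ * m * k) := by
    rw [← hζ]
    have h2 := hcomm m hm
    calc (k⁻¹ * m * k) * (k⁻¹ * z.1.1 * k) = k⁻¹ * (m * z.1.1) * k := by group
      _ = k⁻¹ * (z.1.1 * m) * k := by rw [h2]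
      _ = (k⁻¹ * z.1.1 * k) * (k⁻¹ * m * k) := by group
  exact centG_t H hab1 h3

/-- a nilpotent subgroup containing a nontrivial torus element lies in the torus -/
theorem nil_sub_e {M : Subgroup ↥(Gs F s)} (hM : Group.IsNilpotent M) {l : Fˣ} (hl : l ≠ 1)
    (hx : eG H l ∈ M) : ∀ m ∈ M, ∃ l', m = eG H l' := by
  haveI : Nontrivial ↥M := ⟨⟨⟨_, hx⟩, 1, fun h => eG_ne_one H hl (congrArg Subtype.val h)⟩⟩
  have hc := Group.IsNilpotent.center_ne_bot (G := ↥M)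
  obtain ⟨z, hz⟩ := (Subgroup.ne_bot_iff_exists_ne_one).1 hc
  have hzc : ∀ m : ↥M, m * z.1 = z.1 * m := Subgroup.mem_center_iff.1 z.2
  have hz1 : (z.1.1 : ↥(Gs F s)) ≠ 1 := by
    intro h
    apply hz
    apply Subtype.ext
    apply Subtype.ext
    exact h
  have hcomm : ∀ m ∈ M, m * z.1.1 = z.1.1 * m := by
    intro m hm
    exact congrArg Subtype.val (hzc ⟨m, hm⟩)
  obtain ⟨l1, hζ⟩ := centG_e H hl (hcomm _ hx).symm
  have hl1 : l1 ≠ 1 := by
    rintro rfl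
    rw [eG_one H] at hζ
    exact hz1 hζ
  intro m hm
  have h2 := hcomm m hm
  rw [hζ] at h2
  exact centG_e H hl1 h2

theorem eG_pow (l : Fˣ) (n : ℕ) : (eG H l) ^ n = eG H (l ^ n) :=
  (map_pow (epsHom H) l n).symm

theorem tG_pow_four (a b : F) : (tG H a b) ^ 4 = 1 := Subtype.ext (tS_pow_four H a b)

include H in
/-- the main statement for the ovoid stabiliser -/
theorem no_cover_Gs :
    ¬ ∃ 𝓐 : Finset (Subgroup ↥(Gs F s)), ((∀ A ∈ 𝓐, A ≠ ⊤) ∧ (∀ g : ↥(Gs F s), ∃ A ∈ 𝓐, g ∈ A)) ∧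
      (∀ 𝓑 : Finset (Subgroup ↥(Gs F s)), (∀ A ∈ 𝓑, A ≠ ⊤) ∧ (∀ g : ↥(Gs F s), ∃ A ∈ 𝓑, g ∈ A) →
        𝓐.card ≤ 𝓑.card) ∧
      (∀ A ∈ 𝓐, Group.IsNilpotent ↥A) := by
  classical
  have hs := s_ne_zero H
  haveI : Finite ↥(ov F s) := by
    apply Nat.finite_of_card_ne_zero
    rw [card_ov (s := s)]
    positivity
  haveI : Fintype ↥(ov F s) := Fintype.ofFinite _
  choose k hk1 hk2 using fun a : ↥(ov F s) => exists_smul_inf H a.2
  obtain ⟨t, ht0, ht1⟩ := exists_ne01 H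
  have hl : Units.mk0 t ht0 ≠ 1 := by
    intro h
    apply ht1
    have := congrArg Units.val h
    simpa using this
  have h01 : ¬ ((0 : F) = 0 ∧ (1 : F) = 0) := fun h => one_ne_zero h.2
  apply no_nil_min_cover
    (fun a : ↥(ov F s) => MulAction.stabilizer ↥(Gs F s) (a : Projectivization F (Fin 4 → F)))
    (fun a => (⟨k a, hk1 a⟩ : ↥(Gs F s)) * tG H 0 1 * (⟨k a, hk1 a⟩ : ↥(Gs F s))⁻¹)
    (eG H (Units.mk0 t ht0))
  · intro a htop
    have hmem : (⟨k a, hk1 a⟩ : ↥(Gs F s)) * wG H * (⟨k a, hk1 a⟩ : ↥(Gs F s))⁻¹ ∈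
        MulAction.stabilizer ↥(Gs F s) (a : Projectivization F (Fin 4 → F)) := by
      rw [htop]; trivial
    rw [MulAction.mem_stabilizer_iff] at hmem
    have e : (k a * wS F * (k a)⁻¹) • (a : Projectivization F (Fin 4 → F)) = a := hmem
    rw [← hk2 a, mul_smul, mul_smul, inv_smul_smul, wS_smul_inf H] at e
    have := smul_left_cancel _ e
    exact P_ne_inf s 0 0 this
  · intro a M hM hx
    have hall := nil_sub_t H hM h01 hx
    have hMB : M ≤ MulAction.stabilizer ↥(Gs F s) (a : Projectivization F (Fin 4 → F)) := by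
      intro m hm
      obtain ⟨a', b', hab⟩ := hall m hm
      rw [MulAction.mem_stabilizer_iff]
      have e1 : m = (⟨k a, hk1 a⟩ : ↥(Gs F s)) * tG H a' b' * (⟨k a, hk1 a⟩ : ↥(Gs F s))⁻¹ := by
        rw [← hab]; group
      have e2 : m • (a : Projectivization F (Fin 4 → F))
          = (k a * tS s a' b' * (k a)⁻¹) • (a : Projectivization F (Fin 4 → F)) := by
        rw [e1]; rfl
      rw [e2]
      conv_lhs => rw [← hk2 a]
      rw [mul_smul, mul_smul, inv_smul_smul, tS_smul_inf, hk2 a]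
    refine ⟨hMB, ?_, ?_⟩
    · intro hh
      obtain ⟨a', b', hab⟩ := hall _ hh
      have e1 : eG H (Units.mk0 t ht0)
          = (⟨k a, hk1 a⟩ : ↥(Gs F s)) * tG H a' b' * (⟨k a, hk1 a⟩ : ↥(Gs F s))⁻¹ := by
        rw [← hab]; group
      have e2 : (eG H (Units.mk0 t ht0)) ^ 4 = 1 := by
        rw [e1, conj_pow, tG_pow_four H]; group
      rw [eG_pow, ← eG_one H] at e2
      have e3 := eG_inj H e2
      have e4 : t ^ 4 = 1 := by
        have := congrArg Units.val e3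
        simpa using this
      exact ht1 (fourth_root H e4)
    · intro a' ha'
      have hfix := hMB ha'
      rw [MulAction.mem_stabilizer_iff] at hfix
      have e : (k a' * tS s 0 1 * (k a')⁻¹) • (a : Projectivization F (Fin 4 → F)) = a := hfix
      rw [mul_smul, mul_smul] at e
      have e' : tS s (0 : F) 1 • ((k a')⁻¹ • (a : Projectivization F (Fin 4 → F)))
          = (k a')⁻¹ • (a : Projectivization F (Fin 4 → F)) := by
        have := congrArg (fun p => (k a')⁻¹ • p) e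
        simpa only [inv_smul_smul] using this
      have hp : (k a')⁻¹ • (a : Projectivization F (Fin 4 → F)) ∈ ov F s :=
        mem_Gs_iff.1 (inv_mem (hk1 a')) _ a.2
      rcases (mem_ov s).1 hp with h | ⟨x, y, h⟩
      · apply Subtype.ext
        rw [← hk2 a', ← h, smul_inv_smul]
      · exfalso
        rw [h, tS_smul_P H] at e'
        obtain ⟨-, e2⟩ := P_inj s e'
        rw [zero_pow hs, zero_mul, add_zero] at e2
        have : (1 : F) = 0 := by linear_combination e2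
        exact one_ne_zero this
  · intro M hM hx
    have hall := nil_sub_e H hM hl hx
    refine ⟨⟨inf F, inf_mem s⟩, ?_⟩
    intro m hm
    obtain ⟨l', rfl⟩ := hall m hm
    rw [MulAction.mem_stabilizer_iff]
    exact eS_smul_inf s l'

include H in
/-- the statement for the Suzuki group of `Def_Sz` -/
theorem no_cover_Sz :
    ¬ ∃ 𝓐 : Finset (Subgroup ↥(Cfsg.Lie.Sz F s)),
      ((∀ A ∈ 𝓐, A ≠ ⊤) ∧ (∀ g : ↥(Cfsg.Lie.Sz F s), ∃ A ∈ 𝓐, g ∈ A)) ∧
      (∀ 𝓑 : Finset (Subgroup ↥(Cfsg.Lie.Sz F s)),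
        (∀ A ∈ 𝓑, A ≠ ⊤) ∧ (∀ g : ↥(Cfsg.Lie.Sz F s), ∃ A ∈ 𝓑, g ∈ A) → 𝓐.card ≤ 𝓑.card) ∧
      (∀ A ∈ 𝓐, Group.IsNilpotent ↥A) :=
  transport (Cfsg.Agent.Lib.helper25.SzIso.szEquiv H) (no_cover_Gs H)

end Cfsg.Agent.Lib.helper25.SzCover
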