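import Mathlib

/-!
# Counting the conjugates of a TI-subgroup (library, seat helper25)
-/

set_option autoImplicit false
set_option linter.unusedSectionVars false
set_option linter.unusedSimpArgs false
set_option linter.style.haveILetI false

namespace Cfsg.Agent.Lib.helper25.SzPart

theorem card_filter_mem {G : Type*} [Group G] [Fintype G] [DecidableEq G] (N : Subgroup G)
    [DecidablePred (· ∈ N)] :
    (Finset.univ.filter (fun n : G => n ∈ N)).card = Nat.card N := by
  rw [Nat.card_eq_fintype_card]
  exact (Fintype.card_of_subtype _ (by simp)).symm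

/-- counting the union of the conjugates of a TI-subgroup -/
theorem ti_count {G : Type*} [Group G] [Finite G] (K N : Subgroup G)
    (hTI : ∀ g : G, ∀ x ∈ K, x ≠ 1 → g * x * g⁻¹ ∈ K → g ∈ N)
    (hN : ∀ n ∈ N, ∀ x ∈ K, n * x * n⁻¹ ∈ K) :
    Nat.card {x : G // x ≠ 1 ∧ ∃ g : G, g * x * g⁻¹ ∈ K} * Nat.card N
      = Nat.card G * (Nat.card K - 1) := by
  classical
  haveI : Fintype G := Fintype.ofFinite G
  have key : ∑ g : G, (Finset.univ.filter (fun x : G => x ≠ 1 ∧ g * x * g⁻¹ ∈ K)).card
      = ∑ x : G, (Finset.univ.filter (fun g : G => x ≠ 1 ∧ g * x * g⁻¹ ∈ K)).card := by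
    simp only [Finset.card_filter]
    exact Finset.sum_comm
  have hL : ∀ g : G, (Finset.univ.filter (fun x : G => x ≠ 1 ∧ g * x * g⁻¹ ∈ K)).card
      = Nat.card K - 1 := by
    intro g
    have e1 : (Finset.univ.filter (fun x : G => x ≠ 1 ∧ g * x * g⁻¹ ∈ K)).card
        = ((Finset.univ.filter (fun z : G => z ∈ K)).erase 1).card := by
      apply Finset.card_bij (fun x _ => g * x * g⁻¹)
      · intro x hx
        simp only [Finset.mem_filter, Finset.mem_univ, true_and] at hx
        simp only [Finset.mem_erase, Finset.mem_filter, Finset.mem_univ, true_and]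
        refine ⟨fun h => hx.1 ?_, hx.2⟩
        have : x = g⁻¹ * (g * x * g⁻¹) * g := by group
        rw [this, h]; group
      · intro x _ x' _ h
        exact mul_left_cancel (mul_right_cancel h)
      · intro z hz
        simp only [Finset.mem_erase, Finset.mem_filter, Finset.mem_univ, true_and] at hz
        refine ⟨g⁻¹ * z * g, ?_, by group⟩
        simp only [Finset.mem_filter, Finset.mem_univ, true_and]
        refine ⟨fun h => hz.1 ?_, ?_⟩
        · have : z = g * (g⁻¹ * z * g) * g⁻¹ := by group
          rw [this, h]; group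
        · have : g * (g⁻¹ * z * g) * g⁻¹ = z := by group
          rw [this]; exact hz.2
    rw [e1, Finset.card_erase_of_mem (by simp [K.one_mem]), card_filter_mem]
  have hR : ∀ x : G, (Finset.univ.filter (fun g : G => x ≠ 1 ∧ g * x * g⁻¹ ∈ K)).card
      = if (x ≠ 1 ∧ ∃ g : G, g * x * g⁻¹ ∈ K) then Nat.card N else 0 := by
    intro x
    split_ifs with hx
    · obtain ⟨hx1, g0, hg0⟩ := hx
      have hne : g0 * x * g0⁻¹ ≠ 1 := by
        intro h
        apply hx1
        have : x = g0⁻¹ * (g0 * x * g0⁻¹) * g0 := by group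
        rw [this, h]; group
      have e1 : (Finset.univ.filter (fun g : G => x ≠ 1 ∧ g * x * g⁻¹ ∈ K)).card
          = (Finset.univ.filter (fun n : G => n ∈ N)).card := by
        apply Finset.card_bij (fun g _ => g * g0⁻¹)
        · intro g hg
          simp only [Finset.mem_filter, Finset.mem_univ, true_and] at hg ⊢
          apply hTI (g * g0⁻¹) (g0 * x * g0⁻¹) hg0 hne
          have : g * g0⁻¹ * (g0 * x * g0⁻¹) * (g * g0⁻¹)⁻¹ = g * x * g⁻¹ := by group
          rw [this]; exact hg.2
        · intro g _ g' _ h
          exact mul_right_cancel h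
        · intro n hn
          simp only [Finset.mem_filter, Finset.mem_univ, true_and] at hn
          refine ⟨n * g0, ?_, by group⟩
          simp only [Finset.mem_filter, Finset.mem_univ, true_and]
          refine ⟨hx1, ?_⟩
          have : n * g0 * x * (n * g0)⁻¹ = n * (g0 * x * g0⁻¹) * n⁻¹ := by group
          rw [this]
          exact hN n hn _ hg0
      rw [e1, card_filter_mem]
    · rw [Finset.card_eq_zero, Finset.filter_eq_empty_iff]
      intro g _ hg
      exact hx ⟨hg.1, g, hg.2⟩
  have hX : Nat.card {x : G // x ≠ 1 ∧ ∃ g : G, g * x * g⁻¹ ∈ K}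
      = (Finset.univ.filter (fun x : G => x ≠ 1 ∧ ∃ g : G, g * x * g⁻¹ ∈ K)).card := by
    rw [Nat.card_eq_fintype_card]
    exact Fintype.card_of_subtype _ (by simp)
  simp only [hL, hR] at key
  rw [Finset.sum_const, Finset.card_univ, smul_eq_mul, Finset.sum_ite, Finset.sum_const,
    Finset.sum_const_zero, add_zero, smul_eq_mul, ← Nat.card_eq_fintype_card] at key
  rw [hX, ← key]

end Cfsg.Agent.Lib.helper25.SzPart
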