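import Mathlib
import Cfsg.Agent.Lib.helper25.SzPart1

/-!
# The exceptional tori of a Suzuki-like group: arithmetic (library, seat helper25)
-/

set_option autoImplicit false
set_option linter.unusedSectionVars false
set_option linter.unusedSimpArgs false
set_option linter.style.haveILetI false

namespace Cfsg.Agent.Lib.helper25.SzPart

theorem lowbound {X k a g : ℕ} (ha : 5 ≤ a) (h : X * (k * a) = g * (a - 1)) (hk : k ≤ 4) :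
    g ≤ 5 * X := by
  have h5 : 4 * a ≤ 5 * (a - 1) := by omega
  have h1 : 4 * (g * a) ≤ 20 * (X * a) := by
    calc 4 * (g * a) = g * (4 * a) := by ring
      _ ≤ g * (5 * (a - 1)) := Nat.mul_le_mul_left _ h5
      _ = 5 * (g * (a - 1)) := by ring
      _ = 5 * (X * (k * a)) := by rw [h]
      _ = 5 * k * (X * a) := by ring
      _ ≤ 5 * 4 * (X * a) := Nat.mul_le_mul_right _ (Nat.mul_le_mul_left _ hk)
      _ = 20 * (X * a) := by ring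
  have h2 : g * a ≤ 5 * X * a := by linarith
  exact Nat.le_of_mul_le_mul_right h2 (by omega)

theorem lowbound2 {X k a g : ℕ} (ha : 5 ≤ a) (h : X * (k * a) = g * (a - 1)) (hk : k ≤ 2) :
    2 * g ≤ 5 * X := by
  have h5 : 4 * a ≤ 5 * (a - 1) := by omega
  have h1 : 4 * (g * a) ≤ 10 * (X * a) := by
    calc 4 * (g * a) = g * (4 * a) := by ring
      _ ≤ g * (5 * (a - 1)) := Nat.mul_le_mul_left _ h5
      _ = 5 * (g * (a - 1)) := by ring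
      _ = 5 * (X * (k * a)) := by rw [h]
      _ = 5 * k * (X * a) := by ring
      _ ≤ 5 * 2 * (X * a) := Nat.mul_le_mul_right _ (Nat.mul_le_mul_left _ hk)
      _ = 10 * (X * a) := by ring
  have h2 : 2 * g * a ≤ 5 * X * a := by linarith
  exact Nat.le_of_mul_le_mul_right h2 (by omega)

theorem absurd3 {q X g : ℕ} (hq : 8 ≤ q) (hg : g = q ^ 2 * (q ^ 2 + 1) * (q - 1))
    (hX : 2 * X = q ^ 3 * (q - 1) ^ 2) (h : 3 * g ≤ 5 * X) : False := by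
  obtain ⟨q1, rfl⟩ : ∃ q1, q = q1 + 1 := ⟨q - 1, by omega⟩
  simp only [Nat.add_sub_cancel] at hg hX
  subst hg
  have e : 6 * ((q1 + 1) ^ 2 * ((q1 + 1) ^ 2 + 1) * q1)
      = 5 * ((q1 + 1) ^ 3 * q1 ^ 2) + (q1 + 1) ^ 2 * q1 * (q1 ^ 2 + 7 * q1 + 12) := by ring
  have hq1 : 0 < q1 := by omega
  have pos : 0 < (q1 + 1) ^ 2 * q1 * (q1 ^ 2 + 7 * q1 + 12) := by positivity
  linarith

theorem absurd1 {q a k X : ℕ} (hq : 8 ≤ q) (ha : 5 ≤ a) (hk : k = 1 ∨ k = 2 ∨ k = 4)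
    (hX : 2 * X = q ^ 3 * (q - 1) ^ 2)
    (h : X * (k * a) = q ^ 2 * (q ^ 2 + 1) * (q - 1) * (a - 1)) : False := by
  obtain ⟨q1, rfl⟩ : ∃ q1, q = q1 + 1 := ⟨q - 1, by omega⟩
  obtain ⟨a1, rfl⟩ : ∃ a1, a = a1 + 1 := ⟨a - 1, by omega⟩
  simp only [Nat.add_sub_cancel] at h hX
  have hq1 : (7 : ℤ) ≤ q1 := by exact_mod_cast (by omega : 7 ≤ q1)
  have ha1 : (4 : ℤ) ≤ a1 := by exact_mod_cast (by omega : 4 ≤ a1)
  have h1 : (2 : ℤ) * X = (q1 + 1) ^ 3 * q1 ^ 2 := by exact_mod_cast hX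
  have h2 : (X : ℤ) * (k * (a1 + 1)) = (q1 + 1) ^ 2 * ((q1 + 1) ^ 2 + 1) * q1 * a1 := by
    exact_mod_cast h
  have hne : ((q1 : ℤ) + 1) ^ 2 * q1 ≠ 0 := by positivity
  have key : ((q1 : ℤ) + 1) * q1 * k * (a1 + 1) = 2 * ((q1 + 1) ^ 2 + 1) * a1 := by
    apply mul_left_cancel₀ hne
    linear_combination (-((k : ℤ) * (a1 + 1))) * h1 + 2 * h2
  rcases hk with rfl | rfl | rfl
  · have := mul_nonneg (by linarith : (0 : ℤ) ≤ a1 - 4)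
      (by positivity : (0 : ℤ) ≤ ((q1 : ℤ) + 1) ^ 2 + (q1 + 1) + 2)
    push_cast at key
    nlinarith [sq_nonneg (q1 : ℤ)]
  · push_cast at key
    rcases le_or_gt (q1 : ℤ) a1 with hle | hlt
    · have := mul_nonneg (by linarith : (0 : ℤ) ≤ a1 - q1) (by linarith : (0 : ℤ) ≤ q1 + 2)
      nlinarith
    · have := mul_nonneg (by linarith : (0 : ℤ) ≤ q1 - a1 - 1) (by linarith : (0 : ℤ) ≤ q1 + 2)
      nlinarith
  · have hpos : (0 : ℤ) ≤ 2 * q1 ^ 2 - 4 := by nlinarith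
    have := mul_nonneg (by linarith : (0 : ℤ) ≤ a1) hpos
    push_cast at key
    nlinarith

theorem solve {q r2 a1 a2 X1 X2 X g : ℕ} (hq : 8 ≤ q) (hr : r2 ^ 2 = 2 * q)
    (hg : g = q ^ 2 * (q ^ 2 + 1) * (q - 1)) (hX : 2 * X = q ^ 3 * (q - 1) ^ 2)
    (hsum : X1 + X2 = X) (h1 : X1 * (4 * a1) = g * (a1 - 1)) (h2 : X2 * (4 * a2) = g * (a2 - 1))
    (hP : a1 * a2 = q ^ 2 + 1) (h5 : 5 ≤ a1) (h5' : 5 ≤ a2) :
    (a1 = q + r2 + 1 ∧ a2 + r2 = q + 1) ∨ (a2 = q + r2 + 1 ∧ a1 + r2 = q + 1) := by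
  obtain ⟨q1, rfl⟩ : ∃ q1, q = q1 + 1 := ⟨q - 1, by omega⟩
  obtain ⟨b1, rfl⟩ : ∃ b1, a1 = b1 + 1 := ⟨a1 - 1, by omega⟩
  obtain ⟨b2, rfl⟩ : ∃ b2, a2 = b2 + 1 := ⟨a2 - 1, by omega⟩
  simp only [Nat.add_sub_cancel] at h1 h2 hX hg
  subst hg
  have hq1 : (7 : ℤ) ≤ q1 := by exact_mod_cast (by omega : 7 ≤ q1)
  have EX : (2 : ℤ) * X = (q1 + 1) ^ 3 * q1 ^ 2 := by exact_mod_cast hX
  have Es : (X1 : ℤ) + X2 = X := by exact_mod_cast hsum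
  have E1 : (X1 : ℤ) * (4 * (b1 + 1)) = (q1 + 1) ^ 2 * ((q1 + 1) ^ 2 + 1) * q1 * b1 := by
    exact_mod_cast h1
  have E2 : (X2 : ℤ) * (4 * (b2 + 1)) = (q1 + 1) ^ 2 * ((q1 + 1) ^ 2 + 1) * q1 * b2 := by
    exact_mod_cast h2
  have EP : ((b1 : ℤ) + 1) * (b2 + 1) = (q1 + 1) ^ 2 + 1 := by exact_mod_cast hP
  have Er : (r2 : ℤ) ^ 2 = 2 * (q1 + 1) := by exact_mod_cast hr
  have hne : (2 : ℤ) * ((q1 + 1) ^ 2 * ((q1 + 1) ^ 2 + 1) * q1) ≠ 0 := by positivity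
  have s : ((b1 : ℤ) + 1) + (b2 + 1) = 2 * (q1 + 1) + 2 := by
    apply mul_left_cancel₀ hne
    linear_combination (2 * ((b2 : ℤ) + 1)) * E1 + (2 * ((b1 : ℤ) + 1)) * E2
      - (8 * ((b1 : ℤ) + 1) * (b2 + 1)) * Es - (4 * ((b1 : ℤ) + 1) * (b2 + 1)) * EX
      + (4 * ((q1 + 1) ^ 2 * ((q1 + 1) ^ 2 + 1) * q1) - 4 * (q1 + 1) ^ 3 * q1 ^ 2) * EP
  have d : (((b1 : ℤ) + 1) - (b2 + 1)) ^ 2 = (2 * r2) ^ 2 := by
    linear_combination (((b1 : ℤ) + 1) + (b2 + 1) + 2 * (q1 + 1) + 2) * s - 4 * EP - 4 * Er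
  rcases sq_eq_sq_iff_eq_or_eq_neg.1 d with d | d
  · left
    constructor <;> omega
  · right
    constructor <;> omega

end Cfsg.Agent.Lib.helper25.SzPart
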