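import Mathlib
import Cfsg.Agent.Lib.helper25.SzPart2

/-!
# The exceptional tori of a Suzuki-like group: the counting argument (library, seat helper25)
-/

set_option autoImplicit false
set_option linter.unusedSectionVars false
set_option linter.unusedSimpArgs false
set_option linter.style.haveILetI false

namespace Cfsg.Agent.Lib.helper25.SzPart

open Subgroup

/-- hypotheses on a finite group of order `q²(q²+1)(q-1)` used in the counting argument -/
structure ToriHyp (G : Type*) [Group G] (q : ℕ) : Prop where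
  q8 : 8 ≤ q
  qeven : 2 ∣ q
  q3 : q % 3 = 2
  card : Nat.card G = q ^ 2 * (q ^ 2 + 1) * (q - 1)
  cardX : 2 * Nat.card {g : G // g ≠ 1 ∧ g ^ (q ^ 2 + 1) = 1} = q ^ 3 * (q - 1) ^ 2
  cyc : ∀ y : G, y ≠ 1 → y ^ (q ^ 2 + 1) = 1 → IsCyclic (centralizer ({y} : Set G))
  cent : ∀ y z : G, y ≠ 1 → y ^ (q ^ 2 + 1) = 1 → z ≠ 1 → z ∈ centralizer ({y} : Set G) →
    z ^ (q ^ 2 + 1) = 1
  norm : ∀ y : G, y ≠ 1 → y ^ (q ^ 2 + 1) = 1 →
    Nat.card (normalizer ((centralizer ({y} : Set G)) : Set G))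
      ≤ 4 * Nat.card (centralizer ({y} : Set G))

variable {G : Type*} [Group G] [Finite G] {q : ℕ} (H : ToriHyp G q)
include H

theorem N0_facts : (∃ u, q ^ 2 + 1 = 2 * u + 1) ∧ (∃ w, q ^ 2 + 1 = 3 * w + 2) := by
  obtain ⟨t, ht⟩ := H.qeven
  have hq3 := H.q3
  constructor
  · exact ⟨2 * t ^ 2, by rw [ht]; ring⟩
  · obtain ⟨v, hv⟩ : ∃ v, q = 3 * v + 2 := ⟨q / 3, by omega⟩
    exact ⟨3 * v ^ 2 + 4 * v + 1, by rw [hv]; ring⟩

theorem not_three_dvd : ¬ 3 ∣ Nat.card G := by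
  rw [H.card]
  intro h
  have hq3 := H.q3
  have hq8 := H.q8
  obtain ⟨-, w, hw⟩ := N0_facts H
  rcases (Nat.Prime.dvd_mul Nat.prime_three).1 h with h | h
  · rcases (Nat.Prime.dvd_mul Nat.prime_three).1 h with h | h
    · have := Nat.Prime.dvd_of_dvd_pow Nat.prime_three h
      omega
    · rw [hw] at h
      omega
  · omega

theorem comm_of {y : G} (hy1 : y ≠ 1) (hy : y ^ (q ^ 2 + 1) = 1) {c d : G}
    (hc : c ∈ centralizer ({y} : Set G)) (hd : d ∈ centralizer ({y} : Set G)) : c * d = d * c := by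
  haveI := H.cyc y hy1 hy
  letI := IsCyclic.commGroup (α := ↥(centralizer ({y} : Set G)))
  have := mul_comm (⟨c, hc⟩ : ↥(centralizer ({y} : Set G))) ⟨d, hd⟩
  exact congrArg Subtype.val this

theorem cent_eq {y z : G} (hy1 : y ≠ 1) (hy : y ^ (q ^ 2 + 1) = 1) (hz1 : z ≠ 1)
    (hz : z ∈ centralizer ({y} : Set G)) :
    centralizer ({z} : Set G) = centralizer ({y} : Set G) := by
  have hzN := H.cent y z hy1 hy hz1 hz
  have hyz : y ∈ centralizer ({z} : Set G) := by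
    rw [mem_centralizer_singleton_iff] at hz ⊢
    exact hz.symm
  ext c
  constructor
  · intro hc
    rw [mem_centralizer_singleton_iff]
    exact comm_of H hz1 hzN hc hyz
  · intro hc
    rw [mem_centralizer_singleton_iff]
    exact comm_of H hy1 hy hc hz

theorem card_dvd {y : G} (hy1 : y ≠ 1) (hy : y ^ (q ^ 2 + 1) = 1) :
    Nat.card (centralizer ({y} : Set G)) ∣ q ^ 2 + 1 := by
  haveI := H.cyc y hy1 hy
  obtain ⟨g0, hg0⟩ := IsCyclic.exists_generator (α := ↥(centralizer ({y} : Set G)))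
  rw [← orderOf_eq_card_of_forall_mem_zpowers hg0]
  apply orderOf_dvd_of_pow_eq_one
  apply Subtype.ext
  rw [Subgroup.coe_pow]
  by_cases h1 : (g0 : G) = 1
  · rw [h1, one_pow]; rfl
  · exact H.cent y g0 hy1 hy h1 g0.2

theorem card_ge {y : G} (hy1 : y ≠ 1) (hy : y ^ (q ^ 2 + 1) = 1) :
    5 ≤ Nat.card (centralizer ({y} : Set G)) := by
  have hd := card_dvd H hy1 hy
  have h1 : 1 < Nat.card (centralizer ({y} : Set G)) := by
    rw [Subgroup.one_lt_card_iff_ne_bot]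
    intro h
    have : y ∈ centralizer ({y} : Set G) := mem_centralizer_singleton_iff.2 rfl
    rw [h, mem_bot] at this
    exact hy1 this
  obtain ⟨⟨u, hu⟩, w, hw⟩ := N0_facts H
  by_contra hlt
  push Not at hlt
  generalize Nat.card (centralizer ({y} : Set G)) = a at hd h1 hlt
  interval_cases a
  · rw [hu] at hd; omega
  · rw [hw] at hd; omega
  · rw [hu] at hd; omega

theorem ti_of {y : G} (hy1 : y ≠ 1) (hy : y ^ (q ^ 2 + 1) = 1) (g x : G)
    (hx : x ∈ centralizer ({y} : Set G)) (hx1 : x ≠ 1)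
    (hgx : g * x * g⁻¹ ∈ centralizer ({y} : Set G)) :
    g ∈ normalizer ((centralizer ({y} : Set G)) : Set G) := by
  have hne : g * x * g⁻¹ ≠ 1 := by
    intro h
    exact hx1 (conj_eq_one_iff.1 h)
  have e1 := cent_eq H hy1 hy hx1 hx
  have e2 := cent_eq H hy1 hy hne hgx
  rw [mem_normalizer_iff]
  intro h
  constructor
  · intro hh
    rw [← e1, mem_centralizer_singleton_iff] at hh
    rw [← e2, mem_centralizer_singleton_iff]
    calc g * h * g⁻¹ * (g * x * g⁻¹) = g * (h * x) * g⁻¹ := by group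
      _ = g * (x * h) * g⁻¹ := by rw [hh]
      _ = g * x * g⁻¹ * (g * h * g⁻¹) := by group
  · intro hh
    rw [← e2, mem_centralizer_singleton_iff] at hh
    rw [← e1, mem_centralizer_singleton_iff]
    have e3 : h * x = g⁻¹ * (g * h * g⁻¹ * (g * x * g⁻¹)) * g := by group
    rw [e3, hh]; group

theorem count_of {y : G} (hy1 : y ≠ 1) (hy : y ^ (q ^ 2 + 1) = 1) :
    Nat.card {x : G // x ≠ 1 ∧ ∃ g : G, g * x * g⁻¹ ∈ centralizer ({y} : Set G)}
      * Nat.card (normalizer ((centralizer ({y} : Set G)) : Set G))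
      = Nat.card G * (Nat.card (centralizer ({y} : Set G)) - 1) :=
  ti_count _ _ (fun g x hx hx1 hgx => ti_of H hy1 hy g x hx hx1 hgx)
    (fun n hn x hx => (mem_normalizer_iff.1 hn x).1 hx)

theorem n124 {y : G} (hy1 : y ≠ 1) (hy : y ^ (q ^ 2 + 1) = 1) :
    ∃ k, (k = 1 ∨ k = 2 ∨ k = 4) ∧
      Nat.card (normalizer ((centralizer ({y} : Set G)) : Set G))
        = k * Nat.card (centralizer ({y} : Set G)) := by
  have hle : centralizer ({y} : Set G) ≤ normalizer ((centralizer ({y} : Set G)) : Set G) :=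
    le_normalizer
  obtain ⟨k, hk⟩ := Subgroup.card_dvd_of_le hle
  have hn := H.norm y hy1 hy
  have hpos : 0 < Nat.card (centralizer ({y} : Set G)) := Nat.card_pos
  have hNpos : 0 < Nat.card (normalizer ((centralizer ({y} : Set G)) : Set G)) := Nat.card_pos
  have hNG : Nat.card (normalizer ((centralizer ({y} : Set G)) : Set G)) ∣ Nat.card G :=
    Subgroup.card_subgroup_dvd_card _
  have h3 := not_three_dvd H
  have hk4 : k ≤ 4 := by
    by_contra hc
    push Not at hc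
    have : Nat.card (centralizer ({y} : Set G)) * 5 ≤ Nat.card (centralizer ({y} : Set G)) * k :=
      Nat.mul_le_mul_left _ hc
    linarith
  refine ⟨k, ?_, by rw [hk, mul_comm]⟩
  interval_cases k
  · simp at hk; omega
  · left; rfl
  · right; left; rfl
  · exfalso
    apply h3
    exact dvd_trans ⟨Nat.card (centralizer ({y} : Set G)), by rw [hk]; ring⟩ hNG
  · right; right; rfl

theorem disj_of {y y' : G} (hy1 : y ≠ 1) (hy : y ^ (q ^ 2 + 1) = 1)
    (hnot : ¬ ∃ g : G, g * y' * g⁻¹ ∈ centralizer ({y} : Set G)) {x : G} (hx1 : x ≠ 1)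
    (h1 : ∃ g : G, g * x * g⁻¹ ∈ centralizer ({y} : Set G))
    (h2 : ∃ g : G, g * x * g⁻¹ ∈ centralizer ({y'} : Set G)) : False := by
  obtain ⟨g1, hg1⟩ := h1
  obtain ⟨g2, hg2⟩ := h2
  apply hnot
  refine ⟨g1 * g2⁻¹, ?_⟩
  have hne1 : g1 * x * g1⁻¹ ≠ 1 := fun h => hx1 (conj_eq_one_iff.1 h)
  rw [← cent_eq H hy1 hy hne1 hg1, mem_centralizer_singleton_iff]
  rw [mem_centralizer_singleton_iff] at hg2
  have e : g1 * x * g1⁻¹ = (g1 * g2⁻¹) * (g2 * x * g2⁻¹) * (g1 * g2⁻¹)⁻¹ := by group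
  rw [e]
  calc g1 * g2⁻¹ * y' * (g1 * g2⁻¹)⁻¹ * (g1 * g2⁻¹ * (g2 * x * g2⁻¹) * (g1 * g2⁻¹)⁻¹)
      = (g1 * g2⁻¹) * (y' * (g2 * x * g2⁻¹)) * (g1 * g2⁻¹)⁻¹ := by group
    _ = (g1 * g2⁻¹) * ((g2 * x * g2⁻¹) * y') * (g1 * g2⁻¹)⁻¹ := by rw [hg2]
    _ = g1 * g2⁻¹ * (g2 * x * g2⁻¹) * (g1 * g2⁻¹)⁻¹ * (g1 * g2⁻¹ * y' * (g1 * g2⁻¹)⁻¹) := by
        group

theorem sub_of {y : G} (hy1 : y ≠ 1) (hy : y ^ (q ^ 2 + 1) = 1) {x : G} (hx1 : x ≠ 1)
    (h1 : ∃ g : G, g * x * g⁻¹ ∈ centralizer ({y} : Set G)) : x ^ (q ^ 2 + 1) = 1 := by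
  obtain ⟨g, hg⟩ := h1
  have hne : g * x * g⁻¹ ≠ 1 := fun h => hx1 (conj_eq_one_iff.1 h)
  have := H.cent y _ hy1 hy hne hg
  rw [conj_pow] at this
  exact conj_eq_one_iff.1 this

theorem sylow_in {y : G} (hy1 : y ≠ 1) (hy : y ^ (q ^ 2 + 1) = 1) {p : ℕ} [Fact p.Prime]
    (hp : p ∣ Nat.card (centralizer ({y} : Set G))) (P : Sylow p G) :
    ∃ g : G, ∀ u ∈ P, g * u * g⁻¹ ∈ centralizer ({y} : Set G) := by
  have hpp : p.Prime := Fact.out
  obtain ⟨z1, hz1⟩ := exists_prime_orderOf_dvd_card' p hp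
  have hz1ne : (z1 : G) ≠ 1 := by
    intro h
    have : z1 = 1 := Subtype.ext h
    rw [this, orderOf_one] at hz1
    exact hpp.ne_one hz1.symm
  have hR : IsPGroup p (zpowers (z1 : G)) :=
    IsPGroup.of_card (n := 1) (by rw [Nat.card_zpowers, Subgroup.orderOf_coe, hz1, pow_one])
  obtain ⟨P1, hP1⟩ := hR.exists_le_sylow
  haveI : Nontrivial ↥(P1 : Subgroup G) :=
    ⟨⟨⟨(z1 : G), hP1 (mem_zpowers _)⟩, 1, fun h => hz1ne (congrArg Subtype.val h)⟩⟩
  haveI := IsPGroup.center_nontrivial (P1.isPGroup')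
  obtain ⟨z, hz⟩ := exists_ne (1 : ↥(center ↥(P1 : Subgroup G)))
  have hzc : ∀ u : ↥(P1 : Subgroup G), u * z.1 = z.1 * u := mem_center_iff.1 z.2
  have hzG1 : (z.1.1 : G) ≠ 1 := by
    intro h
    apply hz
    apply Subtype.ext
    apply Subtype.ext
    exact h
  have h1 : (z.1.1 : G) ∈ centralizer ({(z1 : G)} : Set G) := by
    rw [mem_centralizer_singleton_iff]
    exact (congrArg Subtype.val (hzc ⟨(z1 : G), hP1 (mem_zpowers _)⟩)).symm
  rw [cent_eq H hy1 hy hz1ne z1.2] at h1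
  have e := cent_eq H hy1 hy hzG1 h1
  have hP1C : ∀ u ∈ (P1 : Subgroup G), u ∈ centralizer ({y} : Set G) := by
    intro u hu
    rw [← e, mem_centralizer_singleton_iff]
    exact congrArg Subtype.val (hzc ⟨u, hu⟩)
  obtain ⟨k, hk⟩ := MulAction.exists_smul_eq G P1 P
  refine ⟨k⁻¹, ?_⟩
  intro u hu
  have hu' : u ∈ ((k • P1 : Sylow p G) : Subgroup G) := by rw [hk]; exact hu
  rw [Sylow.coe_subgroup_smul, mem_pointwise_smul_iff_inv_smul_mem] at hu'
  have h2 := hP1C _ hu'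
  simpa [MulAut.smul_def, MulAut.conj_inv_apply] using h2

end Cfsg.Agent.Lib.helper25.SzPart
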