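import Mathlib
import Cfsg.Agent.Lib.helper25.SzPart3

/-!
# The exceptional tori of a Suzuki-like group: the main abstract theorem (library, seat helper25)
-/

set_option autoImplicit false
set_option linter.unusedSectionVars false
set_option linter.unusedSimpArgs false
set_option linter.style.haveILetI false
set_option maxHeartbeats 1000000

namespace Cfsg.Agent.Lib.helper25.SzPart

open Subgroup

variable {G : Type*} [Group G] [Finite G] {q : ℕ} (H : ToriHyp G q)
include H

theorem not_dvd_rest {p : ℕ} (hp : p.Prime) (hpN : p ∣ q ^ 2 + 1) : ¬ p ∣ q ^ 2 * (q - 1) := by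
  have hq8 := H.q8
  obtain ⟨⟨u, hu⟩, -⟩ := N0_facts H
  intro h
  rcases (Nat.Prime.dvd_mul hp).1 h with h | h
  · have h1 : p ∣ 1 := by
      have := Nat.dvd_sub hpN h
      simpa using this
    exact hp.one_lt.ne' (Nat.dvd_one.1 h1)
  · have h2 : p ∣ (q - 1) * (q + 1) := dvd_mul_of_dvd_left h _
    have e : (q - 1) * (q + 1) + 2 = q ^ 2 + 1 := by
      obtain ⟨q1, rfl⟩ : ∃ q1, q = q1 + 1 := ⟨q - 1, by omega⟩
      simp only [Nat.add_sub_cancel]
      ring
    have h3 : p ∣ 2 := by
      have := Nat.dvd_sub hpN h2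
      rw [← e] at this
      simpa using this
    have h4 : p = 2 := (Nat.prime_dvd_prime_iff_eq hp Nat.prime_two).1 h3
    rw [h4, hu] at hpN
    omega

theorem tori_exist (r2 : ℕ) (hr : r2 ^ 2 = 2 * q) :
    ∃ y1 y2 : G, (y1 ≠ 1 ∧ y1 ^ (q ^ 2 + 1) = 1) ∧ (y2 ≠ 1 ∧ y2 ^ (q ^ 2 + 1) = 1) ∧
      Nat.card (centralizer ({y1} : Set G)) = q + r2 + 1 ∧
      Nat.card (centralizer ({y2} : Set G)) + r2 = q + 1 ∧
      Nat.card (normalizer ((centralizer ({y1} : Set G)) : Set G))
        = 4 * Nat.card (centralizer ({y1} : Set G)) ∧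
      Nat.card (normalizer ((centralizer ({y2} : Set G)) : Set G))
        = 4 * Nat.card (centralizer ({y2} : Set G)) ∧
      (∀ z : G, z ≠ 1 → z ^ (q ^ 2 + 1) = 1 →
        (∃ g : G, g * z * g⁻¹ ∈ centralizer ({y1} : Set G)) ∨
        (∃ g : G, g * z * g⁻¹ ∈ centralizer ({y2} : Set G))) ∧
      Nat.Coprime (Nat.card (centralizer ({y1} : Set G))) (Nat.card (centralizer ({y2} : Set G))) := by
  classical
  haveI : Fintype G := Fintype.ofFinite G
  let S : G → Finset G := fun y =>
    Finset.univ.filter (fun x => x ≠ 1 ∧ ∃ g : G, g * x * g⁻¹ ∈ centralizer ({y} : Set G))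
  let SX : Finset G := Finset.univ.filter (fun x => x ≠ 1 ∧ x ^ (q ^ 2 + 1) = 1)
  have memS : ∀ y x, x ∈ S y ↔ (x ≠ 1 ∧ ∃ g : G, g * x * g⁻¹ ∈ centralizer ({y} : Set G)) :=
    fun y x => by simp [S]
  have memSX : ∀ x, x ∈ SX ↔ (x ≠ 1 ∧ x ^ (q ^ 2 + 1) = 1) := fun x => by simp [SX]
  have hSX : 2 * SX.card = q ^ 3 * (q - 1) ^ 2 := by
    rw [← H.cardX, Nat.card_eq_fintype_card, Fintype.card_of_subtype SX (fun x => memSX x)]
  have hScard : ∀ y, Nat.card {x : G // x ≠ 1 ∧ ∃ g : G, g * x * g⁻¹ ∈ centralizer ({y} : Set G)}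
      = (S y).card := by
    intro y
    rw [Nat.card_eq_fintype_card]
    exact Fintype.card_of_subtype _ (fun x => memS y x)
  have hSsub : ∀ y, y ≠ 1 → y ^ (q ^ 2 + 1) = 1 → S y ⊆ SX := by
    intro y hy1 hy x hx
    rw [memS] at hx
    rw [memSX]
    exact ⟨hx.1, sub_of H hy1 hy hx.1 hx.2⟩
  have hEq : ∀ y, y ≠ 1 → y ^ (q ^ 2 + 1) = 1 → ∃ k, (k = 1 ∨ k = 2 ∨ k = 4) ∧
      Nat.card (normalizer ((centralizer ({y} : Set G)) : Set G))
        = k * Nat.card (centralizer ({y} : Set G)) ∧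
      (S y).card * (k * Nat.card (centralizer ({y} : Set G)))
        = Nat.card G * (Nat.card (centralizer ({y} : Set G)) - 1) := by
    intro y hy1 hy
    obtain ⟨k, hk, hkN⟩ := n124 H hy1 hy
    refine ⟨k, hk, hkN, ?_⟩
    rw [← hkN, ← hScard]
    exact count_of H hy1 hy
  have hgdef := H.card
  have hq8 := H.q8
  have hne : SX.Nonempty := by
    rw [Finset.nonempty_iff_ne_empty]
    intro h
    rw [h, Finset.card_empty] at hSX
    have h0 : 0 < q - 1 := by omega
    have : 0 < q ^ 3 * (q - 1) ^ 2 := by positivity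
    omega
  obtain ⟨y1, hy1mem⟩ := hne
  obtain ⟨hy11, hy1N⟩ := (memSX y1).1 hy1mem
  obtain ⟨k1, hk1, hkN1, hE1⟩ := hEq y1 hy11 hy1N
  have ha1 := card_ge H hy11 hy1N
  have hex2 : ∃ y2 ∈ SX, y2 ∉ S y1 := by
    by_contra hcon
    push Not at hcon
    have e : S y1 = SX := Finset.Subset.antisymm (hSsub y1 hy11 hy1N) hcon
    rw [e, hgdef] at hE1
    exact absurd1 hq8 ha1 hk1 hSX hE1
  obtain ⟨y2, hy2mem, hy2not⟩ := hex2
  obtain ⟨hy21, hy2N⟩ := (memSX y2).1 hy2mem
  have hnot2 : ¬ ∃ g : G, g * y2 * g⁻¹ ∈ centralizer ({y1} : Set G) := by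
    intro h
    apply hy2not
    rw [memS]
    exact ⟨hy21, h⟩
  obtain ⟨k2, hk2, hkN2, hE2⟩ := hEq y2 hy21 hy2N
  have ha2 := card_ge H hy21 hy2N
  have hdisj12 : Disjoint (S y1) (S y2) := by
    rw [Finset.disjoint_left]
    intro x hx1 hx2
    rw [memS] at hx1 hx2
    exact disj_of H hy11 hy1N hnot2 hx1.1 hx1.2 hx2.2
  have hle12 : (S y1).card + (S y2).card ≤ SX.card := by
    rw [← Finset.card_union_of_disjoint hdisj12]
    exact Finset.card_le_card (Finset.union_subset (hSsub y1 hy11 hy1N) (hSsub y2 hy21 hy2N))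
  have hk1le : k1 ≤ 4 := by rcases hk1 with rfl | rfl | rfl <;> norm_num
  have hk2le : k2 ≤ 4 := by rcases hk2 with rfl | rfl | rfl <;> norm_num
  have hb1 := lowbound ha1 hE1 hk1le
  have hb2 := lowbound ha2 hE2 hk2le
  have hk1' : k1 = 4 := by
    rcases hk1 with rfl | rfl | rfl
    · exfalso
      have := lowbound2 ha1 hE1 (by norm_num)
      exact absurd3 hq8 hgdef hSX (by omega)
    · exfalso
      have := lowbound2 ha1 hE1 (by norm_num)
      exact absurd3 hq8 hgdef hSX (by omega)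
    · rfl
  have hk2' : k2 = 4 := by
    rcases hk2 with rfl | rfl | rfl
    · exfalso
      have := lowbound2 ha2 hE2 (by norm_num)
      exact absurd3 hq8 hgdef hSX (by omega)
    · exfalso
      have := lowbound2 ha2 hE2 (by norm_num)
      exact absurd3 hq8 hgdef hSX (by omega)
    · rfl
  subst hk1' hk2'
  have hcover : ∀ z ∈ SX, z ∈ S y1 ∨ z ∈ S y2 := by
    intro z hz
    by_contra hcon
    push Not at hcon
    obtain ⟨hz1, hzN⟩ := (memSX z).1 hz
    obtain ⟨k3, hk3, hkN3, hE3⟩ := hEq z hz1 hzN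
    have ha3 := card_ge H hz1 hzN
    have hnot31 : ¬ ∃ g : G, g * z * g⁻¹ ∈ centralizer ({y1} : Set G) :=
      fun h => hcon.1 ((memS y1 z).2 ⟨hz1, h⟩)
    have hnot32 : ¬ ∃ g : G, g * z * g⁻¹ ∈ centralizer ({y2} : Set G) :=
      fun h => hcon.2 ((memS y2 z).2 ⟨hz1, h⟩)
    have hd13 : Disjoint (S y1) (S z) := by
      rw [Finset.disjoint_left]
      intro x hx1 hx2
      rw [memS] at hx1 hx2
      exact disj_of H hy11 hy1N hnot31 hx1.1 hx1.2 hx2.2
    have hd23 : Disjoint (S y2) (S z) := by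
      rw [Finset.disjoint_left]
      intro x hx1 hx2
      rw [memS] at hx1 hx2
      exact disj_of H hy21 hy2N hnot32 hx1.1 hx1.2 hx2.2
    have hle : (S y1).card + (S y2).card + (S z).card ≤ SX.card := by
      rw [← Finset.card_union_of_disjoint hdisj12,
        ← Finset.card_union_of_disjoint (Finset.disjoint_union_left.2 ⟨hd13, hd23⟩)]
      exact Finset.card_le_card (Finset.union_subset
        (Finset.union_subset (hSsub y1 hy11 hy1N) (hSsub y2 hy21 hy2N)) (hSsub z hz1 hzN))
    have hk3le : k3 ≤ 4 := by rcases hk3 with rfl | rfl | rfl <;> norm_num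
    have hb3 := lowbound ha3 hE3 hk3le
    exact absurd3 hq8 hgdef hSX (by omega)
  have hsum : (S y1).card + (S y2).card = SX.card := by
    rw [← Finset.card_union_of_disjoint hdisj12]
    congr 1
    apply Finset.Subset.antisymm
      (Finset.union_subset (hSsub y1 hy11 hy1N) (hSsub y2 hy21 hy2N))
    intro z hz
    rcases hcover z hz with h | h
    · exact Finset.mem_union_left _ h
    · exact Finset.mem_union_right _ h
  have hGpos : 0 < Nat.card G := Nat.card_pos
  have hcop : Nat.Coprime (Nat.card (centralizer ({y1} : Set G)))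
      (Nat.card (centralizer ({y2} : Set G))) := by
    apply Nat.coprime_of_dvd
    intro p hp hp1 hp2
    haveI := Fact.mk hp
    have P : Sylow p G := default
    obtain ⟨g1, hg1⟩ := sylow_in H hy11 hy1N hp1 P
    obtain ⟨g2, hg2⟩ := sylow_in H hy21 hy2N hp2 P
    have hPne : (P : Subgroup G) ≠ ⊥ := by
      intro h
      have hc := P.card_eq_multiplicity
      rw [h, Subgroup.card_bot] at hc
      have hpG : p ∣ Nat.card G := dvd_trans hp1 (Subgroup.card_subgroup_dvd_card _)
      have h0 := Nat.Prime.factorization_pos_of_dvd hp hGpos.ne' hpG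
      have h1 : 1 < p ^ (Nat.card G).factorization p := Nat.one_lt_pow h0.ne' hp.one_lt
      omega
    obtain ⟨u, hu1⟩ := (Subgroup.ne_bot_iff_exists_ne_one).1 hPne
    have huG1 : (u : G) ≠ 1 := fun h => hu1 (Subtype.ext h)
    exact disj_of H hy11 hy1N hnot2 huG1 ⟨g1, hg1 u u.2⟩ ⟨g2, hg2 u u.2⟩
  have hsyl : ∀ p, p.Prime → p ∣ q ^ 2 + 1 →
      p ^ ((q ^ 2 + 1).factorization p) ∣ Nat.card (centralizer ({y1} : Set G)) ∨
      p ^ ((q ^ 2 + 1).factorization p) ∣ Nat.card (centralizer ({y2} : Set G)) := by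
    intro p hp hpN
    haveI := Fact.mk hp
    have P : Sylow p G := default
    have hq1pos : 0 < q - 1 := by omega
    have hfac : (Nat.card G).factorization p = (q ^ 2 + 1).factorization p := by
      have e : Nat.card G = (q ^ 2 + 1) * (q ^ 2 * (q - 1)) := by rw [hgdef]; ring
      rw [e, Nat.factorization_mul (by positivity) (by positivity), Finsupp.add_apply,
        Nat.factorization_eq_zero_of_not_dvd (not_dvd_rest H hp hpN), add_zero]
    have hPc : Nat.card (P : Subgroup G) = p ^ ((q ^ 2 + 1).factorization p) := by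
      rw [P.card_eq_multiplicity, hfac]
    have hpos : 0 < (q ^ 2 + 1).factorization p :=
      Nat.Prime.factorization_pos_of_dvd hp (by positivity) hpN
    have hPne : (P : Subgroup G) ≠ ⊥ := by
      intro h
      rw [h, Subgroup.card_bot] at hPc
      have := Nat.one_lt_pow hpos.ne' hp.one_lt
      omega
    obtain ⟨u, hu1⟩ := (Subgroup.ne_bot_iff_exists_ne_one).1 hPne
    have huG1 : (u : G) ≠ 1 := fun h => hu1 (Subtype.ext h)
    have h2 : (u : G) ^ (p ^ ((q ^ 2 + 1).factorization p)) = 1 := by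
      have h1 : u ^ Nat.card (P : Subgroup G) = 1 := pow_card_eq_one'
      rw [← hPc]
      exact_mod_cast congrArg Subtype.val h1
    have huN : (u : G) ^ (q ^ 2 + 1) = 1 := by
      obtain ⟨c, hc⟩ := Nat.ordProj_dvd (q ^ 2 + 1) p
      rw [hc, pow_mul, h2, one_pow]
    have humem : (u : G) ∈ SX := (memSX _).2 ⟨huG1, huN⟩
    have key : ∀ y, y ≠ 1 → y ^ (q ^ 2 + 1) = 1 → (u : G) ∈ S y →
        p ^ ((q ^ 2 + 1).factorization p) ∣ Nat.card (centralizer ({y} : Set G)) := by
      intro y hy1 hy hmem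
      rw [memS] at hmem
      obtain ⟨-, g, hg⟩ := hmem
      have hpd : p ∣ Nat.card (centralizer ({y} : Set G)) := by
        have hne : g * (u : G) * g⁻¹ ≠ 1 := fun h => huG1 (conj_eq_one_iff.1 h)
        have hw1 : (⟨g * u * g⁻¹, hg⟩ : ↥(centralizer ({y} : Set G))) ≠ 1 :=
          fun h => hne (congrArg Subtype.val h)
        have hwp : (⟨g * u * g⁻¹, hg⟩ : ↥(centralizer ({y} : Set G)))
            ^ (p ^ ((q ^ 2 + 1).factorization p)) = 1 := by
          apply Subtype.ext
          rw [Subgroup.coe_pow]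
          show (g * (u : G) * g⁻¹) ^ _ = 1
          rw [conj_pow, h2]
          group
        have hdv := orderOf_dvd_of_pow_eq_one hwp
        obtain ⟨j, hj, hjeq⟩ := (Nat.dvd_prime_pow hp).1 hdv
        have hj0 : j ≠ 0 := by
          rintro rfl
          rw [pow_zero, orderOf_eq_one_iff] at hjeq
          exact hw1 hjeq
        have h3 : p ∣ orderOf (⟨g * u * g⁻¹, hg⟩ : ↥(centralizer ({y} : Set G))) := by
          rw [hjeq]; exact dvd_pow_self p hj0
        exact dvd_trans h3 (orderOf_dvd_natCard _)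
      obtain ⟨g', hg'⟩ := sylow_in H hy1 hy hpd P
      rw [← hPc]
      let f : ↥(P : Subgroup G) →* ↥(centralizer ({y} : Set G)) :=
        { toFun := fun v => ⟨g' * v * g'⁻¹, hg' v v.2⟩
          map_one' := by apply Subtype.ext; simp
          map_mul' := by intro a b; apply Subtype.ext; simp }
      have hf : Function.Injective f := by
        intro a b hab
        have h4 : g' * (a : G) * g'⁻¹ = g' * b * g'⁻¹ := congrArg Subtype.val hab
        exact Subtype.ext (mul_left_cancel (mul_right_cancel h4))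
      exact Subgroup.card_dvd_of_injective f hf
    rcases hcover _ humem with h | h
    · left; exact key y1 hy11 hy1N h
    · right; exact key y2 hy21 hy2N h
  have hprod : Nat.card (centralizer ({y1} : Set G)) * Nat.card (centralizer ({y2} : Set G))
      = q ^ 2 + 1 := by
    have hpos1 : 0 < Nat.card (centralizer ({y1} : Set G)) := Nat.card_pos
    have hpos2 : 0 < Nat.card (centralizer ({y2} : Set G)) := Nat.card_pos
    apply Nat.dvd_antisymm
    · exact Nat.Coprime.mul_dvd_of_dvd_of_dvd hcop (card_dvd H hy11 hy1N) (card_dvd H hy21 hy2N)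
    · rw [← Nat.factorization_le_iff_dvd (by positivity) (by positivity)]
      intro p
      by_cases hp : p.Prime
      · by_cases hpN : p ∣ q ^ 2 + 1
        · rcases hsyl p hp hpN with h | h
          · exact (Nat.Prime.pow_dvd_iff_le_factorization hp (by positivity)).1
              (dvd_trans h (dvd_mul_right _ _))
          · exact (Nat.Prime.pow_dvd_iff_le_factorization hp (by positivity)).1
              (dvd_trans h (dvd_mul_left _ _))
        · rw [Nat.factorization_eq_zero_of_not_dvd hpN]; exact Nat.zero_le _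
      · rw [Nat.factorization_eq_zero_of_not_prime _ hp]; exact Nat.zero_le _
  have hcov' : ∀ z : G, z ≠ 1 → z ^ (q ^ 2 + 1) = 1 →
      (∃ g : G, g * z * g⁻¹ ∈ centralizer ({y1} : Set G)) ∨
      (∃ g : G, g * z * g⁻¹ ∈ centralizer ({y2} : Set G)) := by
    intro z hz1 hzN
    rcases hcover z ((memSX z).2 ⟨hz1, hzN⟩) with h | h
    · left; exact ((memS y1 z).1 h).2
    · right; exact ((memS y2 z).1 h).2
  rcases solve hq8 hr hgdef hSX hsum hE1 hE2 hprod ha1 ha2 with ⟨e1, e2⟩ | ⟨e1, e2⟩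
  · exact ⟨y1, y2, ⟨hy11, hy1N⟩, ⟨hy21, hy2N⟩, e1, e2, hkN1, hkN2, hcov', hcop⟩
  · exact ⟨y2, y1, ⟨hy21, hy2N⟩, ⟨hy11, hy1N⟩, e1, e2, hkN2, hkN1,
      fun z hz1 hzN => (hcov' z hz1 hzN).symm, hcop.symm⟩

end Cfsg.Agent.Lib.helper25.SzPart
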