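import Mathlib
import Cfsg.Agent.Lib.helper25.SzPart4
import Cfsg.Agent.Lib.helper25.SzCover2

/-!
# Suzuki groups: classification of elements by fixed points (library, seat helper25)
-/

set_option autoImplicit false
set_option linter.unusedSectionVars false
set_option linter.unusedSimpArgs false
set_option linter.style.haveILetI false

namespace Cfsg.Agent.Lib.helper25.SzPart

open Cfsg.Agent.Lib.helper2.Suzuki
open Cfsg.Agent.Lib.helper2
open Cfsg.Agent.Lib.helper25.SzOut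
open Cfsg.Agent.Lib.helper25.SzCover

theorem eq_one_of_pows {M : Type*} [Monoid M] {y : M} {a b : ℕ} (hab : Nat.Coprime a b)
    (ha : y ^ a = 1) (hb : y ^ b = 1) : y = 1 := by
  have := pow_gcd_eq_one.2 ⟨ha, hb⟩
  rw [Nat.Coprime] at hab
  rw [hab, pow_one] at this
  exact this

/-- arithmetic of `q = 2^(2m+1)` -/
theorem q_facts (m : ℕ) (hm : 1 ≤ m) :
    8 ≤ 2 ^ (2 * m + 1) ∧ 2 ∣ 2 ^ (2 * m + 1) ∧ 2 ^ (2 * m + 1) % 3 = 2 ∧
      4 ∣ (2 ^ (2 * m + 1)) ^ 2 := by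
  refine ⟨?_, ?_, ?_, ?_⟩
  · calc 8 = 2 ^ 3 := by norm_num
      _ ≤ 2 ^ (2 * m + 1) := Nat.pow_le_pow_right (by norm_num) (by omega)
  · exact dvd_pow_self 2 (by omega)
  · have e : 2 ^ (2 * m + 1) = 2 * 4 ^ m := by
      rw [pow_succ, pow_mul]; norm_num; ring
    rw [e, Nat.mul_mod, Nat.pow_mod]
    norm_num
  · have e : (2 ^ (2 * m + 1)) ^ 2 = 4 * (2 ^ (2 * m)) ^ 2 := by
      rw [pow_succ]; ring
    rw [e]
    exact dvd_mul_right _ _

theorem not_dvd_rest' {q p : ℕ} (hq8 : 8 ≤ q) (hqe : 2 ∣ q) (hp : p.Prime)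
    (hpN : p ∣ q ^ 2 + 1) : ¬ p ∣ q ^ 2 * (q - 1) := by
  obtain ⟨t, ht⟩ := hqe
  have hu : q ^ 2 + 1 = 2 * (2 * t ^ 2) + 1 := by rw [ht]; ring
  intro h
  rcases (Nat.Prime.dvd_mul hp).1 h with h | h
  · have h1 : p ∣ 1 := by
      have := Nat.dvd_sub hpN h
      simpa using this
    exact hp.one_lt.ne' (Nat.dvd_one.1 h1)
  · have h2 : p ∣ (q - 1) * (q + 1) := dvd_mul_of_dvd_left h _
    have e : (q - 1) * (q + 1) + 2 = q ^ 2 + 1 := by
      obtain ⟨q1, rfl⟩ : ∃ q1, q = q1 + 1 := ⟨q - 1, by omega⟩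
      simp only [Nat.add_sub_cancel]
      ring
    have h3 : p ∣ 2 := by
      have := Nat.dvd_sub hpN h2
      rw [← e] at this
      simpa using this
    have h4 : p = 2 := (Nat.prime_dvd_prime_iff_eq hp Nat.prime_two).1 h3
    rw [h4, hu] at hpN
    omega

theorem coprime_rest {q : ℕ} (hq8 : 8 ≤ q) (hqe : 2 ∣ q) :
    Nat.Coprime (q ^ 2 + 1) (q ^ 2 * (q - 1)) :=
  Nat.coprime_of_dvd (fun _ hp h1 => not_dvd_rest' hq8 hqe hp h1)

section geom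

variable {F : Type*} [Field F] [Fintype F] {m : ℕ} (hm : 1 ≤ m)
  (hF : Fintype.card F = 2 ^ (2 * m + 1)) (H : Hyp F (2 ^ (m + 1)))
include hm hF H

theorem card_G : Nat.card ↥(Gs F (2 ^ (m + 1)))
    = (2 ^ (2 * m + 1)) ^ 2 * ((2 ^ (2 * m + 1)) ^ 2 + 1) * (2 ^ (2 * m + 1) - 1) := by
  rw [card_Gs H, hF]

/-- an element whose order does not divide `q² + 1` has a power conjugate into `U` or `H` -/
theorem fp_lemma (x : ↥(Gs F (2 ^ (m + 1)))) (hxN : x ^ ((2 ^ (2 * m + 1)) ^ 2 + 1) ≠ 1) :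
    ∃ (k : ↥(Gs F (2 ^ (m + 1)))) (j : ℕ),
      (∃ a b, ¬ (a = 0 ∧ b = 0) ∧ k * x ^ j * k⁻¹ = tG H a b) ∨
      (∃ l, l ≠ 1 ∧ k * x ^ j * k⁻¹ = eG H l) := by
  haveI : Finite ↥(Gs F (2 ^ (m + 1))) := Finite.of_injective _ Subtype.val_injective
  obtain ⟨hq8, hqe, -, -⟩ := q_facts m hm
  have hn : orderOf x ∣ ((2 ^ (2 * m + 1)) ^ 2 + 1) * ((2 ^ (2 * m + 1)) ^ 2 * (2 ^ (2 * m + 1) - 1)) := by
    have := orderOf_dvd_natCard x
    rw [card_G hm hF H] at this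
    convert this using 1
    ring
  have hnc : ¬ Nat.Coprime (orderOf x) ((2 ^ (2 * m + 1)) ^ 2 * (2 ^ (2 * m + 1) - 1)) := by
    intro hc
    apply hxN
    exact orderOf_dvd_iff_pow_eq_one.1 (hc.dvd_of_dvd_mul_right hn)
  obtain ⟨p, hp, hpn, hpq⟩ := Nat.Prime.not_coprime_iff_dvd.1 hnc
  haveI := Fact.mk hp
  have hx0 : orderOf x ≠ 0 := (orderOf_pos x).ne'
  have hv : orderOf (x ^ (orderOf x / p)) = p := orderOf_pow_orderOf_div hx0 hpn
  have hv1 : x ^ (orderOf x / p) ≠ 1 := by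
    intro h
    rw [h, orderOf_one] at hv
    exact hp.ne_one hv.symm
  have hR : IsPGroup p (Subgroup.zpowers (x ^ (orderOf x / p))) :=
    IsPGroup.of_card (n := 1) (by rw [Nat.card_zpowers, hv, pow_one])
  by_cases hp2 : p = 2
  · subst hp2
    obtain ⟨k, hk⟩ := Singer.conj_into _ (index_UK hm hF) _ hR
    have h1 := hk _ (Subgroup.mem_zpowers _)
    obtain ⟨a, b, hab⟩ := (mem_Us H).1 (Subgroup.mem_subgroupOf.1 h1)
    refine ⟨k, orderOf x / 2, Or.inl ⟨a, b, ?_, Subtype.ext hab⟩⟩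
    rintro ⟨rfl, rfl⟩
    have h2 : k * x ^ (orderOf x / 2) * k⁻¹ = 1 := by
      apply Subtype.ext
      rw [hab, tS_zero H]; rfl
    exact hv1 (conj_eq_one_iff.1 h2)
  · have hc1 : p ∣ 2 ^ (2 * m + 1) - 1 := by
      rcases (Nat.Prime.dvd_mul hp).1 hpq with h | h
      · exfalso
        have h2 := Nat.Prime.dvd_of_dvd_pow hp (Nat.Prime.dvd_of_dvd_pow hp h)
        exact hp2 ((Nat.prime_dvd_prime_iff_eq hp Nat.prime_two).1 h2)
      · exact h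
    obtain ⟨k, hk⟩ := Singer.conj_into _ (index_eps hm hF hp2 hc1) _ hR
    have h1 := hk _ (Subgroup.mem_zpowers _)
    obtain ⟨l, hl⟩ := h1
    refine ⟨k, orderOf x / p, Or.inr ⟨l, ?_, hl.symm⟩⟩
    rintro rfl
    have h2 : k * x ^ (orderOf x / p) * k⁻¹ = 1 := by
      rw [← hl]; exact map_one _
    exact hv1 (conj_eq_one_iff.1 h2)

/-- every nonidentity element has order dividing `q² + 1` or is conjugate into `U` or `H` -/
theorem classify (x : ↥(Gs F (2 ^ (m + 1)))) (hx1 : x ≠ 1) :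
    x ^ ((2 ^ (2 * m + 1)) ^ 2 + 1) = 1 ∨
      (∃ k a b, ¬ (a = 0 ∧ b = 0) ∧ k * x * k⁻¹ = tG H a b) ∨
      (∃ k l, l ≠ 1 ∧ k * x * k⁻¹ = eG H l) := by
  by_cases hxN : x ^ ((2 ^ (2 * m + 1)) ^ 2 + 1) = 1
  · exact Or.inl hxN
  · right
    obtain ⟨k, j, h⟩ := fp_lemma hm hF H x hxN
    have hcomm : (k * x * k⁻¹) * (k * x ^ j * k⁻¹) = (k * x ^ j * k⁻¹) * (k * x * k⁻¹) := by
      calc (k * x * k⁻¹) * (k * x ^ j * k⁻¹) = k * (x * x ^ j) * k⁻¹ := by group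
        _ = k * (x ^ j * x) * k⁻¹ := by rw [← pow_succ, ← pow_succ']
        _ = (k * x ^ j * k⁻¹) * (k * x * k⁻¹) := by group
    have hne : k * x * k⁻¹ ≠ 1 := fun h => hx1 (conj_eq_one_iff.1 h)
    rcases h with ⟨a, b, hab, he⟩ | ⟨l, hl, he⟩
    · left
      rw [he] at hcomm
      obtain ⟨a', b', h'⟩ := centG_t H hab hcomm
      refine ⟨k, a', b', ?_, h'⟩
      rintro ⟨rfl, rfl⟩
      rw [tG_zero H] at h'
      exact hne h'
    · right
      rw [he] at hcomm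
      obtain ⟨l', h'⟩ := centG_e H hl hcomm
      refine ⟨k, l', ?_, h'⟩
      rintro rfl
      rw [eG_one H] at h'
      exact hne h'

theorem pow_rest_t {y k : ↥(Gs F (2 ^ (m + 1)))} {a b : F} (h : k * y * k⁻¹ = tG H a b) :
    y ^ 4 = 1 := by
  have := tG_pow_four H a b
  rw [← h, conj_pow] at this
  exact conj_eq_one_iff.1 this

theorem pow_rest_e {y k : ↥(Gs F (2 ^ (m + 1)))} {l : Fˣ} (h : k * y * k⁻¹ = eG H l) :
    y ^ (2 ^ (2 * m + 1) - 1) = 1 := by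
  have h1 : (eG H l) ^ (2 ^ (2 * m + 1) - 1) = 1 := by
    rw [eG_pow, ← eG_one H]
    congr 1
    have := pow_card_eq_one' (x := l)
    rw [Nat.card_units, Nat.card_eq_fintype_card, hF] at this
    exact this
  rw [← h, conj_pow] at h1
  exact conj_eq_one_iff.1 h1

theorem pow_rest {y : ↥(Gs F (2 ^ (m + 1)))}
    (h : (∃ k a b, k * y * k⁻¹ = tG H a b) ∨ (∃ k l, k * y * k⁻¹ = eG H l)) :
    y ^ ((2 ^ (2 * m + 1)) ^ 2 * (2 ^ (2 * m + 1) - 1)) = 1 := by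
  obtain ⟨-, -, -, c, hc⟩ := q_facts m hm
  rcases h with ⟨k, a, b, h⟩ | ⟨k, l, h⟩
  · rw [hc, mul_assoc, pow_mul, pow_rest_t hm hF H h, one_pow]
  · rw [mul_comm, pow_mul, pow_rest_e hm hF H h, one_pow]

/-- centralizers of elements of order dividing `q² + 1` consist of such elements -/
theorem cent_G (y z : ↥(Gs F (2 ^ (m + 1)))) (hy1 : y ≠ 1)
    (hy : y ^ ((2 ^ (2 * m + 1)) ^ 2 + 1) = 1) (hz : z ∈ Subgroup.centralizer ({y} : Set _)) :
    z ^ ((2 ^ (2 * m + 1)) ^ 2 + 1) = 1 := by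
  obtain ⟨hq8, hqe, -, -⟩ := q_facts m hm
  by_contra hzN
  obtain ⟨k, j, h⟩ := fp_lemma hm hF H z hzN
  rw [Subgroup.mem_centralizer_singleton_iff] at hz
  have hyz : y * z ^ j = z ^ j * y := by
    have : Commute (z ^ j) y := Commute.pow_left hz j
    exact this.eq.symm
  have hcomm : (k * y * k⁻¹) * (k * z ^ j * k⁻¹) = (k * z ^ j * k⁻¹) * (k * y * k⁻¹) := by
    calc (k * y * k⁻¹) * (k * z ^ j * k⁻¹) = k * (y * z ^ j) * k⁻¹ := by group
      _ = k * (z ^ j * y) * k⁻¹ := by rw [hyz]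
      _ = (k * z ^ j * k⁻¹) * (k * y * k⁻¹) := by group
  have hrest : y ^ ((2 ^ (2 * m + 1)) ^ 2 * (2 ^ (2 * m + 1) - 1)) = 1 := by
    apply pow_rest hm hF H
    rcases h with ⟨a, b, hab, he⟩ | ⟨l, hl, he⟩
    · left
      rw [he] at hcomm
      obtain ⟨a', b', h'⟩ := centG_t H hab hcomm
      exact ⟨k, a', b', h'⟩
    · right
      rw [he] at hcomm
      obtain ⟨l', h'⟩ := centG_e H hl hcomm
      exact ⟨k, l', h'⟩
  exact hy1 (eq_one_of_pows (coprime_rest hq8 hqe) hy hrest)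

end geom

end Cfsg.Agent.Lib.helper25.SzPart
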