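import Mathlib
import Cfsg.Agent.Lib.helper25.SzPart5

/-!
# Suzuki groups: counting the elements of order dividing `q² + 1` (library, seat helper25)
-/

set_option autoImplicit false
set_option linter.unusedSectionVars false
set_option linter.unusedSimpArgs false
set_option linter.style.haveILetI false

namespace Cfsg.Agent.Lib.helper25.SzPart

open Cfsg.Agent.Lib.helper2.Suzuki
open Cfsg.Agent.Lib.helper2
open Cfsg.Agent.Lib.helper25.SzOut
open Cfsg.Agent.Lib.helper25.SzCover

theorem cardX_arith {q U Hc X g : ℕ} (hq : 8 ≤ q) (hg : g = q ^ 2 * (q ^ 2 + 1) * (q - 1))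
    (hU : U * (q ^ 2 * (q - 1)) = g * (q ^ 2 - 1)) (hH : Hc * (2 * (q - 1)) = g * (q - 1 - 1))
    (hsum : g - 1 = U + Hc + X) : 2 * X = q ^ 3 * (q - 1) ^ 2 := by
  obtain ⟨t, rfl⟩ : ∃ t, q = t + 2 := ⟨q - 2, by omega⟩
  have e1 : t + 2 - 1 = t + 1 := by omega
  have e2 : t + 1 - 1 = t := by omega
  have e3 : (t + 2) ^ 2 - 1 = t ^ 2 + 4 * t + 3 := by
    have : (t + 2) ^ 2 = t ^ 2 + 4 * t + 3 + 1 := by ring
    omega
  rw [e1] at hg hU hH ⊢
  rw [e2] at hH
  rw [e3] at hU
  subst hg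
  have hgpos : 0 < (t + 2) ^ 2 * ((t + 2) ^ 2 + 1) * (t + 1) := by positivity
  have hs : (t + 2) ^ 2 * ((t + 2) ^ 2 + 1) * (t + 1) = U + Hc + X + 1 := by omega
  have hU' : (U : ℤ) = ((t + 2) ^ 2 + 1) * (t ^ 2 + 4 * t + 3) := by
    have h : (U : ℤ) * ((t + 2) ^ 2 * (t + 1))
        = (t + 2) ^ 2 * ((t + 2) ^ 2 + 1) * (t + 1) * (t ^ 2 + 4 * t + 3) := by exact_mod_cast hU
    have hne : ((t : ℤ) + 2) ^ 2 * (t + 1) ≠ 0 := by positivity
    apply mul_right_cancel₀ hne
    linear_combination h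
  have hH' : (2 : ℤ) * Hc = (t + 2) ^ 2 * ((t + 2) ^ 2 + 1) * t := by
    have h : (Hc : ℤ) * (2 * (t + 1)) = (t + 2) ^ 2 * ((t + 2) ^ 2 + 1) * (t + 1) * t := by
      exact_mod_cast hH
    have hne : ((t : ℤ) + 1) ≠ 0 := by positivity
    apply mul_right_cancel₀ hne
    linear_combination h
  have hs' : ((t : ℤ) + 2) ^ 2 * ((t + 2) ^ 2 + 1) * (t + 1) = U + Hc + X + 1 := by
    exact_mod_cast hs
  have : (2 : ℤ) * X = (t + 2) ^ 3 * (t + 1) ^ 2 := by
    linear_combination (-2 : ℤ) * hs' - 2 * hU' - hH'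
  exact_mod_cast this

section cnt

variable {F : Type*} [Field F] [Fintype F] {s : ℕ} (H : Hyp F s)
include H

theorem fixed_eS {l : Fˣ} (hl : l ≠ 1) {p : Projectivization F (Fin 4 → F)} (hp : p ∈ ov F s)
    (hfix : eS s l • p = p) : p = inf F ∨ p = P s (0 : F) 0 := by
  have hl2 : (l : F) ^ 2 ≠ 1 := fun h => hl (unit_sq_eq_one H h)
  have hl3 : (l : F) ^ (2 * s + 2) ≠ 1 := fun h => hl (unit_pow_eq_one H h)
  rcases (mem_ov s).1 hp with h | ⟨x, y, h⟩
  · left; exact h
  · right
    rw [h, eS_smul_P H] at hfix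
    obtain ⟨e1, e2⟩ := P_inj s hfix
    have hx : x = 0 := by
      have h4 : ((l : F) ^ 2 - 1) * x = 0 := by linear_combination e1
      rcases mul_eq_zero.1 h4 with h | h
      · exact absurd (by linear_combination h) hl2
      · exact h
    have hy : y = 0 := by
      have h4 : ((l : F) ^ (2 * s + 2) - 1) * y = 0 := by linear_combination e2
      rcases mul_eq_zero.1 h4 with h | h
      · exact absurd (by linear_combination h) hl3
      · exact h
    rw [h, hx, hy]

/-- elements conjugating a nontrivial torus element into the torus -/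
theorem norm_torus {g : ↥(Gs F s)} {l0 l1 : Fˣ} (hl0 : l0 ≠ 1)
    (hg : g * eG H l0 * g⁻¹ = eG H l1) : ∃ l, g = eG H l ∨ g = wG H * eG H l := by
  have hl1 : l1 ≠ 1 := by
    rintro rfl
    rw [eG_one H] at hg
    exact eG_ne_one H hl0 (conj_eq_one_iff.1 hg)
  have hval : g.1 * eS s l0 * g.1⁻¹ = eS s l1 := congrArg Subtype.val hg
  have hmove : ∀ p : Projectivization F (Fin 4 → F), eS s l0 • p = p →
      eS s l1 • (g.1 • p) = g.1 • p := by
    intro p hp
    rw [← hval, mul_smul, mul_smul, inv_smul_smul, hp]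
  have h1 := fixed_eS H hl1 (mem_Gs_iff.1 g.2 _ (inf_mem s)) (hmove _ (eS_smul_inf s l0))
  have h0 := fixed_eS H hl1 (mem_Gs_iff.1 g.2 _ (P_mem s 0 0)) (hmove _ (eS_smul_P00 H l0))
  have hne : g.1 • inf F ≠ g.1 • P s (0 : F) 0 := fun h =>
    P_ne_inf s 0 0 (MulAction.injective g.1 h).symm
  rcases h1 with h1 | h1
  · have h0' : g.1 • P s (0 : F) 0 = P s 0 0 := by
      rcases h0 with h0 | h0
      · exact absurd (h1.trans h0.symm) hne
      · exact h0
    obtain ⟨l, hl⟩ := fixG H h1 h0'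
    exact ⟨l, Or.inl hl⟩
  · have h0' : g.1 • P s (0 : F) 0 = inf F := by
      rcases h0 with h0 | h0
      · exact h0
      · exact absurd (h1.trans h0.symm) hne
    have e1 : (wG H * g).1 • inf F = inf F := by
      show (wS F * g.1) • inf F = inf F
      rw [mul_smul, h1, wS_smul_P00 H]
    have e0 : (wG H * g).1 • P s (0 : F) 0 = P s 0 0 := by
      show (wS F * g.1) • P s (0 : F) 0 = P s 0 0
      rw [mul_smul, h0', wS_smul_inf H]
    obtain ⟨l, hl⟩ := fixG H e1 e0
    refine ⟨l, Or.inr ?_⟩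
    rw [← hl, ← mul_assoc, wG_sq H, one_mul]

/-- the diagonal torus -/
def HG : Subgroup ↥(Gs F s) := (epsHom H).range

theorem mem_HG {g : ↥(Gs F s)} : g ∈ HG H ↔ ∃ l, g = eG H l := by
  constructor
  · rintro ⟨l, rfl⟩
    exact ⟨l, rfl⟩
  · rintro ⟨l, rfl⟩
    exact ⟨l, rfl⟩

theorem wG_mem_norm : wG H ∈ Subgroup.normalizer ((HG H : Subgroup ↥(Gs F s)) : Set ↥(Gs F s)) := by
  rw [Subgroup.mem_normalizer_iff]
  intro h
  constructor
  · intro hh
    obtain ⟨l, rfl⟩ := (mem_HG H).1 hh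
    rw [wG_inv H, wG_eG H]
    exact (mem_HG H).2 ⟨_, rfl⟩
  · intro hh
    obtain ⟨l, hl⟩ := (mem_HG H).1 hh
    have e : h = (wG H)⁻¹ * (wG H * h * (wG H)⁻¹) * wG H := by group
    rw [e, hl, wG_inv H, wG_eG H]
    exact (mem_HG H).2 ⟨_, rfl⟩

theorem card_NHG :
    Nat.card (Subgroup.normalizer ((HG H : Subgroup ↥(Gs F s)) : Set ↥(Gs F s)))
      = 2 * (Fintype.card F - 1) := by
  classical
  have hHN : HG H ≤ Subgroup.normalizer ((HG H : Subgroup ↥(Gs F s)) : Set ↥(Gs F s)) :=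
    Subgroup.le_normalizer
  have hw := wG_mem_norm H
  let φ : Fˣ × Bool → ↥(Subgroup.normalizer ((HG H : Subgroup ↥(Gs F s)) : Set ↥(Gs F s))) :=
    fun x => if x.2 then ⟨wG H * eG H x.1, mul_mem hw (hHN ((mem_HG H).2 ⟨x.1, rfl⟩))⟩
      else ⟨eG H x.1, hHN ((mem_HG H).2 ⟨x.1, rfl⟩)⟩
  have hbij : Function.Bijective φ := by
    constructor
    · rintro ⟨l, b⟩ ⟨l', b'⟩ h
      cases b <;> cases b'
      · simp only [φ, Bool.false_eq_true, if_false] at h
        have h' : eG H l = eG H l' := congrArg Subtype.val h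
        rw [eG_inj H h']
      · exfalso
        simp only [φ, Bool.false_eq_true, if_false, if_true] at h
        have h' : eG H l = wG H * eG H l' := congrArg Subtype.val h
        apply wG_not_mem_BG H
        have e : wG H = eG H l * (eG H l')⁻¹ := by rw [h']; group
        rw [e]
        exact mul_mem (eG_mem_BG H l) (inv_mem (eG_mem_BG H l'))
      · exfalso
        simp only [φ, Bool.false_eq_true, if_false, if_true] at h
        have h' : wG H * eG H l = eG H l' := congrArg Subtype.val h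
        apply wG_not_mem_BG H
        have e : wG H = eG H l' * (eG H l)⁻¹ := by rw [← h']; group
        rw [e]
        exact mul_mem (eG_mem_BG H l') (inv_mem (eG_mem_BG H l))
      · simp only [φ, if_true] at h
        have h' : wG H * eG H l = wG H * eG H l' := congrArg Subtype.val h
        rw [eG_inj H (mul_left_cancel h')]
    · rintro ⟨n, hn⟩
      obtain ⟨t, ht0, ht1⟩ := exists_ne01 H
      have hl0 : Units.mk0 t ht0 ≠ 1 := by
        intro h
        apply ht1
        have := congrArg Units.val h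
        simpa using this
      have h1 := (Subgroup.mem_normalizer_iff.1 hn (eG H (Units.mk0 t ht0))).1
        ((mem_HG H).2 ⟨_, rfl⟩)
      obtain ⟨l1, hl1⟩ := (mem_HG H).1 h1
      obtain ⟨l, hl | hl⟩ := norm_torus H hl0 hl1
      · refine ⟨(l, false), ?_⟩
        apply Subtype.ext
        simp only [φ, Bool.false_eq_true, if_false]
        exact hl.symm
      · refine ⟨(l, true), ?_⟩
        apply Subtype.ext
        simp only [φ, if_true]
        exact hl.symm
  rw [← Nat.card_eq_of_bijective φ hbij, Nat.card_prod, Nat.card_units,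
    Nat.card_eq_fintype_card (α := F), Nat.card_eq_fintype_card (α := Bool), Fintype.card_bool]
  ring

theorem card_UG : Nat.card (UG H) = Fintype.card F ^ 2 := by
  rw [← card_U H]
  exact Nat.card_congr (Subgroup.subgroupOfEquivOfLe (Us_le_Gs H)).toEquiv

theorem card_BG : Nat.card (BG F s) = Fintype.card F ^ 2 * (Fintype.card F - 1) := by
  have e : BG F s = MulAction.stabilizer ↥(Gs F s) (inf F) := by
    ext g
    rfl
  rw [e, card_stab_inf H]

theorem card_HG : Nat.card (HG H) = Fintype.card F - 1 := by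
  show Nat.card ↥(epsHom H).range = _
  rw [← Nat.card_congr (MonoidHom.ofInjective (epsHom_injective H)).toEquiv, Nat.card_units,
    Nat.card_eq_fintype_card]

theorem count_U :
    Nat.card {x : ↥(Gs F s) // x ≠ 1 ∧ ∃ g : ↥(Gs F s), g * x * g⁻¹ ∈ UG H}
      * (Fintype.card F ^ 2 * (Fintype.card F - 1))
      = Nat.card ↥(Gs F s) * (Fintype.card F ^ 2 - 1) := by
  haveI : Finite ↥(Gs F s) := Finite.of_injective _ Subtype.val_injective
  have := ti_count (UG H) (BG F s) (fun g x hx hx1 hgx => by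
    obtain ⟨a, b, rfl⟩ := (mem_UG H).1 hx
    obtain ⟨a', b', h'⟩ := (mem_UG H).1 hgx
    have hab : ¬ (a = 0 ∧ b = 0) := by
      rintro ⟨rfl, rfl⟩
      exact hx1 (tG_zero H)
    exact fix_inf_of_norm' H h' hab) (fun n hn x hx => BG_conj H hn hx)
  rw [card_BG H, card_UG H] at this
  exact this

theorem count_H :
    Nat.card {x : ↥(Gs F s) // x ≠ 1 ∧ ∃ g : ↥(Gs F s), g * x * g⁻¹ ∈ HG H}
      * (2 * (Fintype.card F - 1))
      = Nat.card ↥(Gs F s) * (Fintype.card F - 1 - 1) := by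
  haveI : Finite ↥(Gs F s) := Finite.of_injective _ Subtype.val_injective
  have := ti_count (HG H) (Subgroup.normalizer ((HG H : Subgroup ↥(Gs F s)) : Set ↥(Gs F s)))
    (fun g x hx hx1 hgx => by
      obtain ⟨l, rfl⟩ := (mem_HG H).1 hx
      obtain ⟨l1, h1⟩ := (mem_HG H).1 hgx
      have hl : l ≠ 1 := by
        rintro rfl
        exact hx1 (eG_one H)
      obtain ⟨l', h' | h'⟩ := norm_torus H hl h1
      · rw [h']
        exact Subgroup.le_normalizer ((mem_HG H).2 ⟨_, rfl⟩)
      · rw [h']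
        exact mul_mem (wG_mem_norm H) (Subgroup.le_normalizer ((mem_HG H).2 ⟨_, rfl⟩)))
    (fun n hn x hx => (Subgroup.mem_normalizer_iff.1 hn x).1 hx)
  rw [card_NHG H, card_HG H] at this
  exact this

end cnt

end Cfsg.Agent.Lib.helper25.SzPart
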