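import Mathlib
import Cfsg.Agent.Lib.helper25.SzPart6

/-!
# Suzuki groups: the number of elements of order dividing `q² + 1` (library, seat helper25)
-/

set_option autoImplicit false
set_option linter.unusedSectionVars false
set_option linter.unusedSimpArgs false
set_option linter.style.haveILetI false

namespace Cfsg.Agent.Lib.helper25.SzPart

open Cfsg.Agent.Lib.helper2.Suzuki
open Cfsg.Agent.Lib.helper2
open Cfsg.Agent.Lib.helper25.SzOut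
open Cfsg.Agent.Lib.helper25.SzCover

variable {F : Type*} [Field F] [Fintype F] {m : ℕ} (hm : 1 ≤ m)
  (hF : Fintype.card F = 2 ^ (2 * m + 1)) (H : Hyp F (2 ^ (m + 1)))
include hm hF H

theorem cardX :
    2 * Nat.card {g : ↥(Gs F (2 ^ (m + 1))) // g ≠ 1 ∧ g ^ ((2 ^ (2 * m + 1)) ^ 2 + 1) = 1}
      = (2 ^ (2 * m + 1)) ^ 3 * (2 ^ (2 * m + 1) - 1) ^ 2 := by
  classical
  haveI : Finite ↥(Gs F (2 ^ (m + 1))) := Finite.of_injective _ Subtype.val_injective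
  haveI : Fintype ↥(Gs F (2 ^ (m + 1))) := Fintype.ofFinite _
  obtain ⟨hq8, hqe, -, -⟩ := q_facts m hm
  have cU := count_U H
  have cH := count_H H
  rw [hF] at cU cH
  have hodd1 : Odd (2 ^ (2 * m + 1) - 1) := by
    obtain ⟨t, ht⟩ := hqe
    rw [ht]
    exact ⟨t - 1, by omega⟩
  have hodd2 : Odd ((2 ^ (2 * m + 1)) ^ 2 + 1) := by
    obtain ⟨t, ht⟩ := hqe
    rw [ht]
    exact ⟨2 * t ^ 2, by ring⟩
  have hc1 : Nat.Coprime 4 (2 ^ (2 * m + 1) - 1) := by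
    have : Nat.Coprime (2 ^ 2) (2 ^ (2 * m + 1) - 1) :=
      Nat.Coprime.pow_left 2 (Nat.coprime_two_left.2 hodd1)
    simpa using this
  have hc2 : Nat.Coprime 4 ((2 ^ (2 * m + 1)) ^ 2 + 1) := by
    have : Nat.Coprime (2 ^ 2) ((2 ^ (2 * m + 1)) ^ 2 + 1) :=
      Nat.Coprime.pow_left 2 (Nat.coprime_two_left.2 hodd2)
    simpa using this
  have hc3 : Nat.Coprime (2 ^ (2 * m + 1) - 1) ((2 ^ (2 * m + 1)) ^ 2 + 1) :=
    (Nat.Coprime.coprime_mul_left_right (coprime_rest hq8 hqe)).symm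
  have hU4 : ∀ x : ↥(Gs F (2 ^ (m + 1))),
      (x ≠ 1 ∧ ∃ g : ↥(Gs F (2 ^ (m + 1))), g * x * g⁻¹ ∈ UG H) → x ^ 4 = 1 := by
    rintro x ⟨-, g, hg⟩
    obtain ⟨a, b, h⟩ := (mem_UG H).1 hg
    exact pow_rest_t hm hF H h
  have hHq : ∀ x : ↥(Gs F (2 ^ (m + 1))),
      (x ≠ 1 ∧ ∃ g : ↥(Gs F (2 ^ (m + 1))), g * x * g⁻¹ ∈ HG H) → x ^ (2 ^ (2 * m + 1) - 1) = 1 := by
    rintro x ⟨-, g, hg⟩
    obtain ⟨l, h⟩ := (mem_HG H).1 hg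
    exact pow_rest_e hm hF H h
  have hcU : Nat.card {x : ↥(Gs F (2 ^ (m + 1))) //
        x ≠ 1 ∧ ∃ g : ↥(Gs F (2 ^ (m + 1))), g * x * g⁻¹ ∈ UG H}
      = (Finset.univ.filter (fun x : ↥(Gs F (2 ^ (m + 1))) =>
        x ≠ 1 ∧ ∃ g : ↥(Gs F (2 ^ (m + 1))), g * x * g⁻¹ ∈ UG H)).card := by
    rw [Nat.card_eq_fintype_card]
    exact Fintype.card_of_subtype _ (by simp)
  have hcH : Nat.card {x : ↥(Gs F (2 ^ (m + 1))) //
        x ≠ 1 ∧ ∃ g : ↥(Gs F (2 ^ (m + 1))), g * x * g⁻¹ ∈ HG H}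
      = (Finset.univ.filter (fun x : ↥(Gs F (2 ^ (m + 1))) =>
        x ≠ 1 ∧ ∃ g : ↥(Gs F (2 ^ (m + 1))), g * x * g⁻¹ ∈ HG H)).card := by
    rw [Nat.card_eq_fintype_card]
    exact Fintype.card_of_subtype _ (by simp)
  have hcX : Nat.card {g : ↥(Gs F (2 ^ (m + 1))) // g ≠ 1 ∧ g ^ ((2 ^ (2 * m + 1)) ^ 2 + 1) = 1}
      = (Finset.univ.filter (fun x : ↥(Gs F (2 ^ (m + 1))) =>
        x ≠ 1 ∧ x ^ ((2 ^ (2 * m + 1)) ^ 2 + 1) = 1)).card := by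
    rw [Nat.card_eq_fintype_card]
    exact Fintype.card_of_subtype _ (by simp)
  have hne1 : (Finset.univ.filter (fun x : ↥(Gs F (2 ^ (m + 1))) => x ≠ 1)).card
      = Nat.card ↥(Gs F (2 ^ (m + 1))) - 1 := by
    rw [Finset.filter_ne', Finset.card_erase_of_mem (Finset.mem_univ _), Finset.card_univ,
      Nat.card_eq_fintype_card]
  have hpart : (Finset.univ.filter (fun x : ↥(Gs F (2 ^ (m + 1))) => x ≠ 1)).card
      = (Finset.univ.filter (fun x : ↥(Gs F (2 ^ (m + 1))) =>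
          x ≠ 1 ∧ ∃ g : ↥(Gs F (2 ^ (m + 1))), g * x * g⁻¹ ∈ UG H)).card
        + (Finset.univ.filter (fun x : ↥(Gs F (2 ^ (m + 1))) =>
          x ≠ 1 ∧ ∃ g : ↥(Gs F (2 ^ (m + 1))), g * x * g⁻¹ ∈ HG H)).card
        + (Finset.univ.filter (fun x : ↥(Gs F (2 ^ (m + 1))) =>
          x ≠ 1 ∧ x ^ ((2 ^ (2 * m + 1)) ^ 2 + 1) = 1)).card := by
    simp only [Finset.card_filter]
    rw [← Finset.sum_add_distrib, ← Finset.sum_add_distrib]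
    apply Finset.sum_congr rfl
    intro x _
    by_cases hx1 : x = 1
    · have n1 : ¬ (x ≠ 1) := fun h => h hx1
      have n2 : ¬ (x ≠ 1 ∧ ∃ g : ↥(Gs F (2 ^ (m + 1))), g * x * g⁻¹ ∈ UG H) := fun h => h.1 hx1
      have n3 : ¬ (x ≠ 1 ∧ ∃ g : ↥(Gs F (2 ^ (m + 1))), g * x * g⁻¹ ∈ HG H) := fun h => h.1 hx1
      have n4 : ¬ (x ≠ 1 ∧ x ^ ((2 ^ (2 * m + 1)) ^ 2 + 1) = 1) := fun h => h.1 hx1
      rw [if_neg n1, if_neg n2, if_neg n3, if_neg n4]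
    · rcases classify hm hF H x hx1 with h | ⟨k, a, b, -, h⟩ | ⟨k, l, -, h⟩
      · have p4 : x ≠ 1 ∧ x ^ ((2 ^ (2 * m + 1)) ^ 2 + 1) = 1 := ⟨hx1, h⟩
        have n2 : ¬ (x ≠ 1 ∧ ∃ g : ↥(Gs F (2 ^ (m + 1))), g * x * g⁻¹ ∈ UG H) :=
          fun h' => hx1 (eq_one_of_pows hc2 (hU4 x h') h)
        have n3 : ¬ (x ≠ 1 ∧ ∃ g : ↥(Gs F (2 ^ (m + 1))), g * x * g⁻¹ ∈ HG H) :=
          fun h' => hx1 (eq_one_of_pows hc3 (hHq x h') h)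
        rw [if_pos hx1, if_neg n2, if_neg n3, if_pos p4]
      · have p2 : x ≠ 1 ∧ ∃ g : ↥(Gs F (2 ^ (m + 1))), g * x * g⁻¹ ∈ UG H :=
          ⟨hx1, k, (mem_UG H).2 ⟨a, b, h⟩⟩
        have n3 : ¬ (x ≠ 1 ∧ ∃ g : ↥(Gs F (2 ^ (m + 1))), g * x * g⁻¹ ∈ HG H) :=
          fun h' => hx1 (eq_one_of_pows hc1 (hU4 x p2) (hHq x h'))
        have n4 : ¬ (x ≠ 1 ∧ x ^ ((2 ^ (2 * m + 1)) ^ 2 + 1) = 1) :=
          fun h' => hx1 (eq_one_of_pows hc2 (hU4 x p2) h'.2)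
        rw [if_pos hx1, if_pos p2, if_neg n3, if_neg n4]
      · have p3 : x ≠ 1 ∧ ∃ g : ↥(Gs F (2 ^ (m + 1))), g * x * g⁻¹ ∈ HG H :=
          ⟨hx1, k, (mem_HG H).2 ⟨l, h⟩⟩
        have n2 : ¬ (x ≠ 1 ∧ ∃ g : ↥(Gs F (2 ^ (m + 1))), g * x * g⁻¹ ∈ UG H) :=
          fun h' => hx1 (eq_one_of_pows hc1 (hU4 x h') (hHq x p3))
        have n4 : ¬ (x ≠ 1 ∧ x ^ ((2 ^ (2 * m + 1)) ^ 2 + 1) = 1) :=
          fun h' => hx1 (eq_one_of_pows hc3 (hHq x p3) h'.2)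
        rw [if_pos hx1, if_neg n2, if_pos p3, if_neg n4]
  rw [hcU] at cU
  rw [hcH] at cH
  rw [hcX]
  exact cardX_arith hq8 (card_G hm hF H) cU cH (by rw [← hne1, hpart])

end Cfsg.Agent.Lib.helper25.SzPart
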