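import Mathlib
import Cfsg.Agent.Lib.helper2.Singer
import Cfsg.Agent.Lib.helper25.SzPart1

/-!
# Centralizers and normalizers of Singer-type elements in subgroups of `GL₄(F)` (library, seat helper25)
-/

set_option autoImplicit false
set_option linter.unusedSectionVars false
set_option linter.unusedSimpArgs false
set_option linter.style.haveILetI false

namespace Cfsg.Agent.Lib.helper25.SzPart

open Cfsg.Agent.Lib.helper2
open Polynomial

variable {F : Type*} [Field F] [Fintype F]

/-- conjugation by an invertible matrix as an algebra homomorphism -/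
noncomputable def conjAlg (P : GL (Fin 4) F) :
    Matrix (Fin 4) (Fin 4) F →ₐ[F] Matrix (Fin 4) (Fin 4) F where
  toFun M := P.val * M * (P⁻¹).val
  map_one' := by
    rw [mul_one, ← Units.val_mul, mul_inv_cancel, Units.val_one]
  map_mul' A B := by
    have h : (P⁻¹).val * P.val = 1 := by rw [← Units.val_mul, inv_mul_cancel, Units.val_one]
    calc P.val * (A * B) * (P⁻¹).val = P.val * A * (1 : Matrix (Fin 4) (Fin 4) F) * B * (P⁻¹).val := by
          rw [mul_one]; simp only [mul_assoc]
      _ = P.val * A * (P⁻¹).val * (P.val * B * (P⁻¹).val) := by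
          rw [← h]; simp only [mul_assoc]
  map_zero' := by simp
  map_add' A B := by simp [mul_add, add_mul]
  commutes' r := by
    have h := Algebra.commutes r P.val
    rw [← h, mul_assoc, ← Units.val_mul, mul_inv_cancel, Units.val_one, mul_one]

theorem conjAlg_apply (P : GL (Fin 4) F) (M : Matrix (Fin 4) (Fin 4) F) :
    conjAlg P M = P.val * M * (P⁻¹).val := rfl

/-- the Singer package of an element of suitable prime order -/
theorem gl4_pack {p : ℕ} [Fact p.Prime] (h0 : ¬ p ∣ Fintype.card F)
    (h1 : ¬ p ∣ Fintype.card F - 1) (h2 : ¬ p ∣ Fintype.card F ^ 2 - 1)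
    (h3 : ¬ p ∣ Fintype.card F ^ 3 - 1) (y : GL (Fin 4) F) (hy : orderOf y = p) :
    ∃ (K : Type) (_ : Field K) (_ : Algebra F K) (_ : Finite K)
      (b : Module.Basis (Fin 4) F K) (g : GL (Fin 4) F) (ζ : Kˣ),
      Module.finrank F K = 4 ∧ Singer.sing b ζ = g * y * g⁻¹ ∧
      (∀ A : GL (Fin 4) F, A * y = y * A → g * A * g⁻¹ ∈ (Singer.sing b).range) := by
  obtain ⟨K, _, _, _, b, hK, hidx⟩ := Singer.gl4_key h0 h1 h2 h3
  have hR : IsPGroup p (Subgroup.zpowers y) :=
    IsPGroup.of_card (n := 1) (by rw [Nat.card_zpowers, hy, pow_one])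
  obtain ⟨g, hg⟩ := Singer.conj_into _ hidx _ hR
  obtain ⟨ζ, hζ⟩ := hg y (Subgroup.mem_zpowers y)
  have hord : orderOf ζ = p := by
    rw [← orderOf_injective (Singer.sing b) (Singer.sing_injective b) ζ, hζ, ← hy]
    exact orderOf_injective (MulAut.conj g).toMonoidHom (MulAut.conj g).injective y
  have hadj := Singer.adjoin_eq_top hK ζ hord h1 h2
  refine ⟨K, _, _, ‹_›, b, g, ζ, hK, hζ, ?_⟩
  intro A hA
  apply Singer.mem_range_of_commute b (ζ : K) hadj
  have h4 : g * A * g⁻¹ * Singer.sing b ζ = Singer.sing b ζ * (g * A * g⁻¹) := by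
    rw [hζ]
    calc g * A * g⁻¹ * (g * y * g⁻¹) = g * (A * y) * g⁻¹ := by group
      _ = g * (y * A) * g⁻¹ := by rw [hA]
      _ = g * y * g⁻¹ * (g * A * g⁻¹) := by group
  exact congrArg Units.val h4

section sub

variable {G : Type*} [Group G] [Finite G] (ι : G →* GL (Fin 4) F) (hι : Function.Injective ι)
include hι

/-- cyclic centralizers -/
theorem cyc_of_singer {p : ℕ} [Fact p.Prime] (h0 : ¬ p ∣ Fintype.card F)
    (h1 : ¬ p ∣ Fintype.card F - 1) (h2 : ¬ p ∣ Fintype.card F ^ 2 - 1)
    (h3 : ¬ p ∣ Fintype.card F ^ 3 - 1) (y : G) (hy : orderOf y = p) :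
    IsCyclic (Subgroup.centralizer ({y} : Set G)) := by
  have hY : orderOf (ι y) = p := by rw [orderOf_injective ι hι, hy]
  obtain ⟨K, _, _, _, b, g, ζ, hK, hζ, hrange⟩ := gl4_pack h0 h1 h2 h3 (ι y) hY
  haveI : IsCyclic (Singer.sing b).range :=
    isCyclic_of_surjective (Singer.sing b).rangeRestrict (MonoidHom.rangeRestrict_surjective _)
  have hR : ∀ r ∈ (Subgroup.centralizer ({y} : Set G)).map ι, g * r * g⁻¹ ∈ (Singer.sing b).range := by
    rintro r ⟨c, hc, rfl⟩
    apply hrange
    have hc' : c * y = y * c := Subgroup.mem_centralizer_singleton_iff.1 hc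
    rw [← map_mul, ← map_mul, hc']
  haveI := Singer.cyclic_of_conj_into (Singer.sing b).range
    ((Subgroup.centralizer ({y} : Set G)).map ι) g hR
  exact isCyclic_of_injective
    ((Subgroup.centralizer ({y} : Set G)).equivMapOfInjective ι hι).toMonoidHom
    (MulEquiv.injective _)

/-- the normalizer of the centralizer has index at most four -/
theorem norm_of_singer {p : ℕ} [Fact p.Prime] (h0 : ¬ p ∣ Fintype.card F)
    (h1 : ¬ p ∣ Fintype.card F - 1) (h2 : ¬ p ∣ Fintype.card F ^ 2 - 1)
    (h3 : ¬ p ∣ Fintype.card F ^ 3 - 1) (y : G) (hy : orderOf y = p) :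
    Nat.card (Subgroup.normalizer ((Subgroup.centralizer ({y} : Set G)) : Set G))
      ≤ 4 * Nat.card (Subgroup.centralizer ({y} : Set G)) := by
  classical
  haveI : Fintype G := Fintype.ofFinite G
  have hY : orderOf (ι y) = p := by rw [orderOf_injective ι hι, hy]
  obtain ⟨K, _, _, _, b, g, ζ, hK, hζ, hrange⟩ := gl4_pack h0 h1 h2 h3 (ι y) hY
  haveI : Module.Finite F K := Module.finite_of_finrank_pos (by rw [hK]; norm_num)
  have hint : IsIntegral F (ζ : K) := IsIntegral.of_finite F _
  have hmon := minpoly.monic hint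
  have hmap0 : (minpoly F (ζ : K)).map (algebraMap F K) ≠ 0 := Polynomial.map_monic_ne_zero hmon
  have hRcard : ((minpoly F (ζ : K)).map (algebraMap F K)).roots.toFinset.card ≤ 4 := by
    refine le_trans (Multiset.toFinset_card_le _) (le_trans (Polynomial.card_roots' _) ?_)
    refine le_trans Polynomial.natDegree_map_le ?_
    have := minpoly.natDegree_le (A := F) (ζ : K)
    rw [hK] at this
    exact this
  have hymem : y ∈ Subgroup.centralizer ({y} : Set G) :=
    Subgroup.mem_centralizer_singleton_iff.2 rfl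
  -- the map from the normalizer to matrices
  let Θ : G → Matrix (Fin 4) (Fin 4) F := fun n => (g * ι (n * y * n⁻¹) * g⁻¹).val
  let SN : Finset G := Finset.univ.filter
    (fun n => n ∈ Subgroup.normalizer ((Subgroup.centralizer ({y} : Set G)) : Set G))
  let SA : Finset G := Finset.univ.filter (fun n => n ∈ Subgroup.centralizer ({y} : Set G))
  have hSN : SN.card = Nat.card (Subgroup.normalizer ((Subgroup.centralizer ({y} : Set G)) : Set G)) :=
    card_filter_mem _
  have hSA : SA.card = Nat.card (Subgroup.centralizer ({y} : Set G)) := card_filter_mem _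
  have himg : SN.image Θ ⊆
      ((minpoly F (ζ : K)).map (algebraMap F K)).roots.toFinset.image (Algebra.leftMulMatrix b) := by
    intro M hM
    obtain ⟨n, hn, rfl⟩ := Finset.mem_image.1 hM
    have hnN : n ∈ Subgroup.normalizer ((Subgroup.centralizer ({y} : Set G)) : Set G) :=
      (Finset.mem_filter.1 hn).2
    have hc : n * y * n⁻¹ ∈ Subgroup.centralizer ({y} : Set G) :=
      (Subgroup.mem_normalizer_iff.1 hnN y).1 hymem
    have hc' : (n * y * n⁻¹) * y = y * (n * y * n⁻¹) := Subgroup.mem_centralizer_singleton_iff.1 hc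
    have hr := hrange (ι (n * y * n⁻¹)) (by rw [← map_mul, ← map_mul, hc'])
    obtain ⟨κ, hκ⟩ := hr
    have hΘ : Θ n = Algebra.leftMulMatrix b (κ : K) := by
      show (g * ι (n * y * n⁻¹) * g⁻¹).val = _
      rw [← hκ]; rfl
    have hconj : Algebra.leftMulMatrix b (κ : K)
        = conjAlg (g * ι n * g⁻¹) (Algebra.leftMulMatrix b (ζ : K)) := by
      rw [conjAlg_apply, ← Singer.sing_val, ← Singer.sing_val, hκ, hζ, ← Units.val_mul,
        ← Units.val_mul]
      congr 1
      rw [map_mul, map_mul, map_inv]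
      group
    have hroot : aeval (κ : K) (minpoly F (ζ : K)) = 0 := by
      apply Algebra.leftMulMatrix_injective b
      rw [map_zero, ← Polynomial.aeval_algHom_apply, hconj, Polynomial.aeval_algHom_apply,
        Polynomial.aeval_algHom_apply, minpoly.aeval, map_zero, map_zero]
    rw [Finset.mem_image]
    refine ⟨(κ : K), ?_, hΘ.symm⟩
    rw [Multiset.mem_toFinset, Polynomial.mem_roots hmap0, Polynomial.IsRoot,
      Polynomial.eval_map_algebraMap]
    exact hroot
  have hfib : ∀ M ∈ SN.image Θ, (SN.filter (fun n => Θ n = M)).card ≤ SA.card := by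
    intro M hM
    obtain ⟨n0, hn0, rfl⟩ := Finset.mem_image.1 hM
    apply Finset.card_le_card_of_injOn (fun n => n0⁻¹ * n)
    · intro n hn
      have hn' := (Finset.mem_filter.1 (Finset.mem_coe.1 hn)).2
      have e1 : g * ι (n * y * n⁻¹) * g⁻¹ = g * ι (n0 * y * n0⁻¹) * g⁻¹ := Units.ext hn'
      have e2 : n * y * n⁻¹ = n0 * y * n0⁻¹ := hι (mul_left_cancel (mul_right_cancel e1))
      simp only [SA, Finset.coe_filter, Finset.mem_univ, true_and, Set.mem_setOf_eq]
      rw [Subgroup.mem_centralizer_singleton_iff]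
      calc n0⁻¹ * n * y = n0⁻¹ * (n * y * n⁻¹) * n := by group
        _ = n0⁻¹ * (n0 * y * n0⁻¹) * n := by rw [e2]
        _ = y * (n0⁻¹ * n) := by group
    · intro n _ n' _ h
      exact mul_left_cancel h
  have h1 := Finset.card_le_mul_card_image SN SA.card hfib
  have h2 : (SN.image Θ).card ≤ 4 :=
    le_trans (Finset.card_le_card himg) (le_trans Finset.card_image_le hRcard)
  rw [← hSN, ← hSA]
  calc SN.card ≤ SA.card * (SN.image Θ).card := h1
    _ ≤ SA.card * 4 := Nat.mul_le_mul_left _ h2
    _ = 4 * SA.card := mul_comm _ _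

end sub

end Cfsg.Agent.Lib.helper25.SzPart
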