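import Mathlib
import Cfsg.Agent.Lib.helper25.SzPart7
import Cfsg.Agent.Lib.helper25.SzPart8

/-!
# Suzuki groups: the exceptional cyclic tori (library, seat helper25)
-/

set_option autoImplicit false
set_option linter.unusedSectionVars false
set_option linter.unusedSimpArgs false
set_option linter.style.haveILetI false

namespace Cfsg.Agent.Lib.helper25.SzPart

open Cfsg.Agent.Lib.helper2.Suzuki
open Cfsg.Agent.Lib.helper2
open Cfsg.Agent.Lib.helper25.SzOut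
open Cfsg.Agent.Lib.helper25.SzCover
open Subgroup

/-- conjugation between centralizers -/
def centConj {G : Type*} [Group G] (k g : G) :
    ↥(centralizer ({g} : Set G)) ≃* ↥(centralizer ({k * g * k⁻¹} : Set G)) where
  toFun c := ⟨k * c * k⁻¹, by
    have hc : (c : G) * g = g * c := mem_centralizer_singleton_iff.1 c.2
    rw [mem_centralizer_singleton_iff]
    calc k * c * k⁻¹ * (k * g * k⁻¹) = k * (c * g) * k⁻¹ := by group
      _ = k * (g * c) * k⁻¹ := by rw [hc]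
      _ = k * g * k⁻¹ * (k * c * k⁻¹) := by group⟩
  invFun d := ⟨k⁻¹ * d * k, by
    have hd : (d : G) * (k * g * k⁻¹) = k * g * k⁻¹ * d := mem_centralizer_singleton_iff.1 d.2
    rw [mem_centralizer_singleton_iff]
    calc k⁻¹ * d * k * g = k⁻¹ * (d * (k * g * k⁻¹)) * k := by group
      _ = k⁻¹ * (k * g * k⁻¹ * d) * k := by rw [hd]
      _ = g * (k⁻¹ * d * k) := by group⟩
  left_inv c := by
    apply Subtype.ext
    show k⁻¹ * (k * c * k⁻¹) * k = c
    group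
  right_inv d := by
    apply Subtype.ext
    show k * (k⁻¹ * d * k) * k⁻¹ = d
    group
  map_mul' c d := by
    apply Subtype.ext
    show k * (c * d) * k⁻¹ = k * c * k⁻¹ * (k * d * k⁻¹)
    group

variable {F : Type*} [Field F] [Fintype F] {m : ℕ} (hm : 1 ≤ m)
  (hF : Fintype.card F = 2 ^ (2 * m + 1)) (H : Hyp F (2 ^ (m + 1)))
include hm hF H

theorem prime_pack (y : ↥(Gs F (2 ^ (m + 1)))) (hy1 : y ≠ 1)
    (hy : y ^ ((2 ^ (2 * m + 1)) ^ 2 + 1) = 1) :
    ∃ (p : ℕ) (_ : Fact p.Prime) (j : ℕ), orderOf (y ^ j) = p ∧ ¬ p ∣ Fintype.card F ∧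
      ¬ p ∣ Fintype.card F - 1 ∧ ¬ p ∣ Fintype.card F ^ 2 - 1 ∧ ¬ p ∣ Fintype.card F ^ 3 - 1 := by
  haveI : Finite ↥(Gs F (2 ^ (m + 1))) := Finite.of_injective _ Subtype.val_injective
  have hord : orderOf y ≠ 1 := fun h => hy1 (orderOf_eq_one_iff.1 h)
  obtain ⟨p, hpp, hpd⟩ := Nat.exists_prime_and_dvd hord
  haveI : Fact p.Prime := ⟨hpp⟩
  have hpN : p ∣ (2 ^ (2 * m + 1)) ^ 2 + 1 := dvd_trans hpd (orderOf_dvd_of_pow_eq_one hy)
  have hp2 : p ≠ 2 := by
    rintro rfl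
    obtain ⟨-, ⟨t, ht⟩, -, -⟩ := q_facts m hm
    rw [ht] at hpN
    have e : (2 * t) ^ 2 + 1 = 2 * (2 * t ^ 2) + 1 := by ring
    rw [e] at hpN
    omega
  obtain ⟨n1, n2, n3⟩ := nt_aux hp2 Nat.one_le_two_pow hpN
  refine ⟨p, inferInstance, orderOf y / p,
    orderOf_pow_orderOf_div (orderOf_pos y).ne' hpd, ?_, ?_, ?_, ?_⟩
  · rw [hF]; exact not_dvd_q hp2 _
  · rw [hF]; exact n1
  · rw [hF]; exact n2
  · rw [hF]; exact n3

theorem iota_inj : Function.Injective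
    ((Matrix.SpecialLinearGroup.toGL : Matrix.SpecialLinearGroup (Fin 4) F →* GL (Fin 4) F).comp
      (Subgroup.subtype (Gs F (2 ^ (m + 1))))) :=
  Matrix.SpecialLinearGroup.toGL_injective.comp (Subgroup.subtype_injective _)

theorem cyc_G (y : ↥(Gs F (2 ^ (m + 1)))) (hy1 : y ≠ 1)
    (hy : y ^ ((2 ^ (2 * m + 1)) ^ 2 + 1) = 1) :
    IsCyclic (centralizer ({y} : Set ↥(Gs F (2 ^ (m + 1))))) := by
  haveI : Finite ↥(Gs F (2 ^ (m + 1))) := Finite.of_injective _ Subtype.val_injective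
  obtain ⟨p, _, j, hj, h0, h1, h2, h3⟩ := prime_pack hm hF H y hy1 hy
  haveI := cyc_of_singer _ (iota_inj hm hF H) h0 h1 h2 h3 (y ^ j) hj
  have hle : centralizer ({y} : Set ↥(Gs F (2 ^ (m + 1)))) ≤ centralizer ({y ^ j} : Set _) := by
    intro c hc
    rw [mem_centralizer_singleton_iff] at hc ⊢
    have : Commute c (y ^ j) := Commute.pow_right hc j
    exact this.eq
  exact isCyclic_of_injective (Subgroup.inclusion hle) (Subgroup.inclusion_injective hle)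

theorem comm_G {y : ↥(Gs F (2 ^ (m + 1)))} (hy1 : y ≠ 1)
    (hy : y ^ ((2 ^ (2 * m + 1)) ^ 2 + 1) = 1) {c d : ↥(Gs F (2 ^ (m + 1)))}
    (hc : c ∈ centralizer ({y} : Set ↥(Gs F (2 ^ (m + 1)))))
    (hd : d ∈ centralizer ({y} : Set ↥(Gs F (2 ^ (m + 1))))) : c * d = d * c := by
  haveI := cyc_G hm hF H y hy1 hy
  letI := IsCyclic.commGroup (α := ↥(centralizer ({y} : Set ↥(Gs F (2 ^ (m + 1))))))
  exact congrArg Subtype.val
    (mul_comm (⟨c, hc⟩ : ↥(centralizer ({y} : Set ↥(Gs F (2 ^ (m + 1)))))) ⟨d, hd⟩)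

theorem cent_eq_G {y z : ↥(Gs F (2 ^ (m + 1)))} (hy1 : y ≠ 1)
    (hy : y ^ ((2 ^ (2 * m + 1)) ^ 2 + 1) = 1) (hz1 : z ≠ 1)
    (hz : z ∈ centralizer ({y} : Set ↥(Gs F (2 ^ (m + 1))))) :
    centralizer ({z} : Set ↥(Gs F (2 ^ (m + 1)))) = centralizer ({y} : Set _) := by
  have hzN := cent_G hm hF H y z hy1 hy hz
  have hyz : y ∈ centralizer ({z} : Set ↥(Gs F (2 ^ (m + 1)))) := by
    rw [mem_centralizer_singleton_iff] at hz ⊢
    exact hz.symm
  ext c
  constructor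
  · intro hc
    rw [mem_centralizer_singleton_iff]
    exact comm_G hm hF H hz1 hzN hc hyz
  · intro hc
    rw [mem_centralizer_singleton_iff]
    exact comm_G hm hF H hy1 hy hc hz

theorem norm_G (y : ↥(Gs F (2 ^ (m + 1)))) (hy1 : y ≠ 1)
    (hy : y ^ ((2 ^ (2 * m + 1)) ^ 2 + 1) = 1) :
    Nat.card (normalizer ((centralizer ({y} : Set ↥(Gs F (2 ^ (m + 1)))) :
        Subgroup ↥(Gs F (2 ^ (m + 1)))) : Set ↥(Gs F (2 ^ (m + 1)))))
      ≤ 4 * Nat.card (centralizer ({y} : Set ↥(Gs F (2 ^ (m + 1))))) := by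
  haveI : Finite ↥(Gs F (2 ^ (m + 1))) := Finite.of_injective _ Subtype.val_injective
  obtain ⟨p, hp, j, hj, h0, h1, h2, h3⟩ := prime_pack hm hF H y hy1 hy
  have hyj1 : y ^ j ≠ 1 := by
    intro h
    rw [h, orderOf_one] at hj
    exact hp.out.ne_one hj.symm
  have hmem : y ^ j ∈ centralizer ({y} : Set ↥(Gs F (2 ^ (m + 1)))) := by
    rw [mem_centralizer_singleton_iff]
    exact (pow_succ y j).symm.trans (pow_succ' y j)
  have e := cent_eq_G hm hF H hy1 hy hyj1 hmem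
  have := norm_of_singer _ (iota_inj hm hF H) h0 h1 h2 h3 (y ^ j) hj
  rw [e] at this
  exact this

theorem toriHyp : ToriHyp ↥(Gs F (2 ^ (m + 1))) (2 ^ (2 * m + 1)) where
  q8 := (q_facts m hm).1
  qeven := (q_facts m hm).2.1
  q3 := (q_facts m hm).2.2.1
  card := card_G hm hF H
  cardX := cardX hm hF H
  cyc := fun y hy1 hy => cyc_G hm hF H y hy1 hy
  cent := fun y z hy1 hy _ hz => cent_G hm hF H y z hy1 hy hz
  norm := fun y hy1 hy => norm_G hm hF H y hy1 hy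

end Cfsg.Agent.Lib.helper25.SzPart
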