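import Mathlib
import Cfsg.Agent.Lib.helper25.SzPart9
import Cfsg.Agent.Lib.helper25.SzMax2

/-!
# Suzuki groups: the partition (library, seat helper25)
-/

set_option autoImplicit false
set_option linter.unusedSectionVars false
set_option linter.unusedSimpArgs false
set_option linter.style.haveILetI false

namespace Cfsg.Agent.Lib.helper25.SzPart

open Cfsg.Agent.Lib.helper2.Suzuki
open Cfsg.Agent.Lib.helper2
open Cfsg.Agent.Lib.helper25.SzOut
open Cfsg.Agent.Lib.helper25.SzCover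
open Subgroup

theorem cyc_le_cent {G : Type*} [Group G] (U : Subgroup G) (hU : IsCyclic U) {g : G}
    (hg : g ∈ U) : U ≤ centralizer ({g} : Set G) := by
  intro u hu
  letI := IsCyclic.commGroup (α := ↥U)
  rw [mem_centralizer_singleton_iff]
  exact congrArg Subtype.val (mul_comm (⟨u, hu⟩ : ↥U) ⟨g, hg⟩)

theorem pow_card_of_mem {G : Type*} [Group G] (U : Subgroup G) {g : G} (hg : g ∈ U) :
    g ^ Nat.card U = 1 := by
  have := pow_card_eq_one' (x := (⟨g, hg⟩ : ↥U))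
  exact congrArg Subtype.val this

theorem odd_four {M : Type*} [Monoid M] {y : M} {c : ℕ} (hc : ¬ 2 ∣ c) (h4 : y ^ 4 = 1)
    (hy : y ^ c = 1) : y = 1 := by
  obtain ⟨j, rfl⟩ : ∃ j, c = 2 * j + 1 := ⟨c / 2, by omega⟩
  have h2 : y ^ 2 = 1 := by
    have : y ^ (2 * (2 * j + 1)) = 1 := by rw [mul_comm, pow_mul, hy, one_pow]
    have e : 2 * (2 * j + 1) = 4 * j + 2 := by ring
    rw [e, pow_add, pow_mul, h4, one_pow, one_mul] at this
    exact this
  rw [pow_succ, pow_mul, h2, one_pow, one_mul] at hy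
  exact hy

section geom

variable {F : Type*} [Field F] [Fintype F] {m : ℕ} (hm : 1 ≤ m)
  (hF : Fintype.card F = 2 ^ (2 * m + 1)) (H : Hyp F (2 ^ (m + 1)))
include hm hF H

theorem syl_elt (P : Sylow 2 ↥(Gs F (2 ^ (m + 1)))) {g : ↥(Gs F (2 ^ (m + 1)))} (hg : g ∈ P) :
    ∃ k a b, k * g * k⁻¹ = tG H a b := by
  obtain ⟨k, hk⟩ := sylow_conj H (2 * m + 1) (by omega) hF P
  have hg' : g ∈ (P : Subgroup ↥(Gs F (2 ^ (m + 1)))) := hg
  rw [hk] at hg'
  obtain ⟨u, hu, rfl⟩ := hg'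
  obtain ⟨a, b, rfl⟩ := (mem_UG H).1 hu
  refine ⟨k⁻¹, a, b, ?_⟩
  show k⁻¹ * (k * tG H a b * k⁻¹) * k⁻¹⁻¹ = tG H a b
  group

theorem syl_unique (P P' : Sylow 2 ↥(Gs F (2 ^ (m + 1)))) {g : ↥(Gs F (2 ^ (m + 1)))}
    (hg1 : g ≠ 1) (hg : g ∈ P) (hg' : g ∈ P') :
    (P : Subgroup ↥(Gs F (2 ^ (m + 1)))) = P' := by
  obtain ⟨k1, hk1⟩ := sylow_conj H (2 * m + 1) (by omega) hF P
  obtain ⟨k2, hk2⟩ := sylow_conj H (2 * m + 1) (by omega) hF P'
  have h1 : g ∈ (P : Subgroup ↥(Gs F (2 ^ (m + 1)))) := hg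
  have h2 : g ∈ (P' : Subgroup ↥(Gs F (2 ^ (m + 1)))) := hg'
  rw [hk1] at h1
  rw [hk2] at h2
  obtain ⟨u1, hu1, e1⟩ := h1
  obtain ⟨u2, hu2, e2⟩ := h2
  have e1' : k1 * u1 * k1⁻¹ = g := e1
  have e2' : k2 * u2 * k2⁻¹ = g := e2
  obtain ⟨a, b, rfl⟩ := (mem_UG H).1 hu1
  obtain ⟨a', b', rfl⟩ := (mem_UG H).1 hu2
  have hab : ¬ (a = 0 ∧ b = 0) := by
    rintro ⟨rfl, rfl⟩
    rw [tG_zero H] at e1'
    apply hg1
    rw [← e1']; group
  have hn : (k2⁻¹ * k1) * tG H a b * (k2⁻¹ * k1)⁻¹ = tG H a' b' := by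
    have : tG H a' b' = k2⁻¹ * g * k2 := by rw [← e2']; group
    rw [this, ← e1']; group
  have hB : k2⁻¹ * k1 ∈ BG F (2 ^ (m + 1)) := fix_inf_of_norm' H hn hab
  have hB' : (k2⁻¹ * k1)⁻¹ ∈ BG F (2 ^ (m + 1)) := inv_mem hB
  rw [hk1, hk2]
  ext x
  constructor
  · rintro ⟨u, hu, rfl⟩
    refine ⟨(k2⁻¹ * k1) * u * (k2⁻¹ * k1)⁻¹, BG_conj H hB hu, ?_⟩
    show k2 * ((k2⁻¹ * k1) * u * (k2⁻¹ * k1)⁻¹) * k2⁻¹ = k1 * u * k1⁻¹
    group
  · rintro ⟨u, hu, rfl⟩
    refine ⟨(k2⁻¹ * k1)⁻¹ * u * (k2⁻¹ * k1)⁻¹⁻¹, BG_conj H hB' hu, ?_⟩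
    show k1 * ((k2⁻¹ * k1)⁻¹ * u * (k2⁻¹ * k1)⁻¹⁻¹) * k1⁻¹ = k2 * u * k2⁻¹
    group

theorem syl_exists {g k : ↥(Gs F (2 ^ (m + 1)))} {a b : F} (h : k * g * k⁻¹ = tG H a b) :
    ∃ P : Sylow 2 ↥(Gs F (2 ^ (m + 1))), g ∈ P := by
  haveI : Fact (Nat.Prime 2) := ⟨Nat.prime_two⟩
  haveI : Finite ↥(Gs F (2 ^ (m + 1))) := Finite.of_injective _ Subtype.val_injective
  have h4 : g ^ 4 = 1 := pow_rest_t hm hF H h
  have hp : IsPGroup 2 (zpowers g) := by
    intro x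
    refine ⟨2, ?_⟩
    obtain ⟨x, hx⟩ := x
    obtain ⟨i, rfl⟩ := mem_zpowers_iff.1 hx
    apply Subtype.ext
    show (g ^ i) ^ (2 ^ 2) = 1
    rw [← zpow_natCast, ← zpow_mul, mul_comm, zpow_mul, zpow_natCast]
    have e : g ^ (2 ^ 2) = 1 := h4
    rw [e, one_zpow]
  obtain ⟨P, hP⟩ := hp.exists_le_sylow
  exact ⟨P, hP (mem_zpowers g)⟩

theorem partition (g : ↥(Gs F (2 ^ (m + 1)))) (hg : g ≠ 1) :
    ∃! U : Subgroup ↥(Gs F (2 ^ (m + 1))),
      ((∃ P : Sylow 2 ↥(Gs F (2 ^ (m + 1))), U = (P : Subgroup ↥(Gs F (2 ^ (m + 1))))) ∨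
      (IsCyclic ↥U ∧ Nat.card ↥U ∈ ({2 ^ (2 * m + 1) - 1, 2 ^ (2 * m + 1) + 2 ^ (m + 1) + 1,
        2 ^ (2 * m + 1) - 2 ^ (m + 1) + 1} : Set ℕ))) ∧ g ∈ U := by
  classical
  haveI : Finite ↥(Gs F (2 ^ (m + 1))) := Finite.of_injective _ Subtype.val_injective
  have T := toriHyp hm hF H
  obtain ⟨hq8, hqe, -, -⟩ := q_facts m hm
  have hr : (2 ^ (m + 1)) ^ 2 = 2 * 2 ^ (2 * m + 1) := by
    rw [← pow_mul, ← pow_succ']
    congr 1
    ring
  have hre : 2 ∣ 2 ^ (m + 1) := dvd_pow_self 2 (by omega)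
  obtain ⟨y1, y2, ⟨h11, h1N⟩, ⟨h21, h2N⟩, e1, e2, -, -, cov, cop⟩ :=
    tori_exist T (2 ^ (m + 1)) hr
  have hge2 := card_ge T h21 h2N
  have e2' : Nat.card (centralizer ({y2} : Set ↥(Gs F (2 ^ (m + 1)))))
      = 2 ^ (2 * m + 1) - 2 ^ (m + 1) + 1 := by omega
  have d1 := card_dvd T h11 h1N
  have d2 := card_dvd T h21 h2N
  have hcop := coprime_rest hq8 hqe
  have key : ∀ x : ↥(Gs F (2 ^ (m + 1))), x ^ ((2 ^ (2 * m + 1)) ^ 2 + 1) = 1 →
      x ^ ((2 ^ (2 * m + 1)) ^ 2 * (2 ^ (2 * m + 1) - 1)) = 1 → x = 1 :=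
    fun x h1 h2 => eq_one_of_pows hcop h1 h2
  rcases classify hm hF H g hg with hgN | ⟨k, a, b, hab, hk⟩ | ⟨k, l, hl, hk⟩
  · -- elements of order dividing `q² + 1`
    have hcyc := T.cyc g hg hgN
    have hcard : Nat.card (centralizer ({g} : Set ↥(Gs F (2 ^ (m + 1)))))
          = 2 ^ (2 * m + 1) + 2 ^ (m + 1) + 1 ∨
        Nat.card (centralizer ({g} : Set ↥(Gs F (2 ^ (m + 1)))))
          = 2 ^ (2 * m + 1) - 2 ^ (m + 1) + 1 := by
      rcases cov g hg hgN with ⟨k, hk⟩ | ⟨k, hk⟩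
      · left
        have hne : k * g * k⁻¹ ≠ 1 := fun h => hg (conj_eq_one_iff.1 h)
        rw [Nat.card_congr (centConj k g).toEquiv, cent_eq T h11 h1N hne hk, e1]
      · right
        have hne : k * g * k⁻¹ ≠ 1 := fun h => hg (conj_eq_one_iff.1 h)
        rw [Nat.card_congr (centConj k g).toEquiv, cent_eq T h21 h2N hne hk, e2']
    have hgU : g ∈ centralizer ({g} : Set ↥(Gs F (2 ^ (m + 1)))) :=
      mem_centralizer_singleton_iff.2 rfl
    refine ⟨centralizer ({g} : Set _), ⟨Or.inr ⟨hcyc, ?_⟩, hgU⟩, ?_⟩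
    · rcases hcard with h | h
      · rw [h]
        exact Set.mem_insert_of_mem _ (Set.mem_insert _ _)
      · rw [h]
        exact Set.mem_insert_of_mem _ (Set.mem_insert_of_mem _ rfl)
    · rintro U' ⟨hU' | ⟨hU'c, hU'card⟩, hgU'⟩
      · exfalso
        obtain ⟨P, rfl⟩ := hU'
        obtain ⟨k, a, b, hk⟩ := syl_elt hm hF H P hgU'
        exact hg (key g hgN (pow_rest hm hF H (Or.inl ⟨k, a, b, hk⟩)))
      · have hle := cyc_le_cent U' hU'c hgU'
        have hpow := pow_card_of_mem U' hgU'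
        have hpow2 := pow_card_of_mem (centralizer ({g} : Set ↥(Gs F (2 ^ (m + 1))))) hgU
        simp only [Set.mem_insert_iff, Set.mem_singleton_iff] at hU'card
        rcases hU'card with h | h | h
        · exfalso
          rw [h] at hpow
          apply hg (key g hgN _)
          rw [mul_comm, pow_mul, hpow, one_pow]
        · rcases hcard with h' | h'
          · exact Subgroup.eq_of_le_of_card_ge hle (by rw [h, h'])
          · exfalso
            rw [h'] at hpow2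
            rw [h] at hpow
            rw [← e1] at hpow
            rw [← e2'] at hpow2
            exact hg (eq_one_of_pows cop hpow hpow2)
        · rcases hcard with h' | h'
          · exfalso
            rw [h'] at hpow2
            rw [h] at hpow
            rw [← e2'] at hpow
            rw [← e1] at hpow2
            exact hg (eq_one_of_pows cop hpow2 hpow)
          · exact Subgroup.eq_of_le_of_card_ge hle (by rw [h, h'])
  · -- 2-elements
    obtain ⟨P, hP⟩ := syl_exists hm hF H hk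
    have h4 := pow_rest_t hm hF H hk
    refine ⟨P, ⟨Or.inl ⟨P, rfl⟩, hP⟩, ?_⟩
    rintro U' ⟨hU' | ⟨hU'c, hU'card⟩, hgU'⟩
    · obtain ⟨P', rfl⟩ := hU'
      exact syl_unique hm hF H P' P hg hgU' hP
    · exfalso
      have hpow := pow_card_of_mem U' hgU'
      have hodd : ¬ 2 ∣ Nat.card U' := by
        simp only [Set.mem_insert_iff, Set.mem_singleton_iff] at hU'card
        rcases hU'card with h | h | h <;> rw [h] <;> omega
      exact hg (odd_four hodd h4 hpow)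
  · -- elements of the split torus
    let φ : Fˣ →* ↥(Gs F (2 ^ (m + 1))) := (MulAut.conj k⁻¹).toMonoidHom.comp (epsHom H)
    have hφ : Function.Injective φ := (MulAut.conj k⁻¹).injective.comp (epsHom_injective H)
    have hφl : ∀ l', φ l' = k⁻¹ * eG H l' * k := fun l' => by
      show k⁻¹ * eG H l' * k⁻¹⁻¹ = _
      rw [inv_inv]
    have hgφ : g = φ l := by
      rw [hφl, ← hk]; group
    have hcycU : IsCyclic ↥φ.range :=
      isCyclic_of_surjective φ.rangeRestrict φ.rangeRestrict_surjective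
    have hcardU : Nat.card ↥φ.range = 2 ^ (2 * m + 1) - 1 := by
      rw [← Nat.card_congr (MonoidHom.ofInjective hφ).toEquiv, Nat.card_units,
        Nat.card_eq_fintype_card, hF]
    have hcent : centralizer ({g} : Set ↥(Gs F (2 ^ (m + 1)))) ≤ φ.range := by
      intro c hc
      rw [mem_centralizer_singleton_iff] at hc
      have hcomm : (k * c * k⁻¹) * eG H l = eG H l * (k * c * k⁻¹) := by
        rw [← hk]
        calc k * c * k⁻¹ * (k * g * k⁻¹) = k * (c * g) * k⁻¹ := by group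
          _ = k * (g * c) * k⁻¹ := by rw [hc]
          _ = k * g * k⁻¹ * (k * c * k⁻¹) := by group
      obtain ⟨l', hl'⟩ := centG_e H hl hcomm
      refine ⟨l', ?_⟩
      rw [hφl, ← hl']; group
    have hpe := pow_rest_e hm hF H hk
    refine ⟨φ.range, ⟨Or.inr ⟨hcycU, ?_⟩, ⟨l, hgφ.symm⟩⟩, ?_⟩
    · rw [hcardU]
      exact Set.mem_insert _ _
    · rintro U' ⟨hU' | ⟨hU'c, hU'card⟩, hgU'⟩
      · exfalso
        obtain ⟨P, rfl⟩ := hU'
        obtain ⟨k', a, b, hk'⟩ := syl_elt hm hF H P hgU'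
        have h4 := pow_rest_t hm hF H hk'
        exact hg (odd_four (by omega) h4 hpe)
      · have hle := (cyc_le_cent U' hU'c hgU').trans hcent
        have hpow := pow_card_of_mem U' hgU'
        have hrest : g ^ ((2 ^ (2 * m + 1)) ^ 2 * (2 ^ (2 * m + 1) - 1)) = 1 := by
          rw [mul_comm, pow_mul, hpe, one_pow]
        simp only [Set.mem_insert_iff, Set.mem_singleton_iff] at hU'card
        rcases hU'card with h | h | h
        · exact Subgroup.eq_of_le_of_card_ge hle (by rw [h, hcardU])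
        · exfalso
          rw [h, ← e1] at hpow
          obtain ⟨d, hd⟩ := d1
          apply hg (key g _ hrest)
          rw [hd, pow_mul, hpow, one_pow]
        · exfalso
          rw [h, ← e2'] at hpow
          obtain ⟨d, hd⟩ := d2
          apply hg (key g _ hrest)
          rw [hd, pow_mul, hpow, one_pow]

end geom

end Cfsg.Agent.Lib.helper25.SzPart
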