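import Mathlib
import Cfsg.Agent.Lib.helper25.SzPart10

/-!
# Fixity-two actions of Suzuki groups: the Borel case (library, seat helper25)
-/

set_option autoImplicit false
set_option linter.unusedSectionVars false
set_option linter.unusedSimpArgs false
set_option linter.style.haveILetI false

namespace Cfsg.Agent.Lib.helper25.SzFix

open Cfsg.Agent.Lib.helper2.Suzuki
open Cfsg.Agent.Lib.helper2
open Cfsg.Agent.Lib.helper25.SzOut
open Cfsg.Agent.Lib.helper25.SzCover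
open Cfsg.Agent.Lib.helper25.SzPart

section core

variable {G : Type*} [Group G] {Ω : Type*} [Fintype Ω] [MulAction G Ω]
  (hfix : ∀ g : G, g ≠ 1 → Nat.card (MulAction.fixedBy Ω g) ≤ 2)
include hfix

theorem three_pts (α : Ω) {x : G} (hx : x ≠ 1) (n0 n1 n2 : G)
    (h0 : (n0⁻¹ * x * n0) • α = α) (h1 : (n1⁻¹ * x * n1) • α = α)
    (h2 : (n2⁻¹ * x * n2) • α = α) :
    (n0⁻¹ * n1) • α = α ∨ (n0⁻¹ * n2) • α = α ∨ (n1⁻¹ * n2) • α = α := by
  classical
  have key : ∀ n : G, (n⁻¹ * x * n) • α = α → n • α ∈ MulAction.fixedBy Ω x := by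
    intro n hn
    rw [MulAction.mem_fixedBy]
    have e : x • n • α = n • (n⁻¹ * x * n) • α := by
      rw [← mul_smul, ← mul_smul]
      congr 1
      group
    rw [e, hn]
  have hc := hfix x hx
  by_contra hcon
  push Not at hcon
  obtain ⟨c0, c1, c2⟩ := hcon
  have d01 : n0 • α ≠ n1 • α := fun h => c0 (by rw [mul_smul, ← h, inv_smul_smul])
  have d02 : n0 • α ≠ n2 • α := fun h => c1 (by rw [mul_smul, ← h, inv_smul_smul])
  have d12 : n1 • α ≠ n2 • α := fun h => c2 (by rw [mul_smul, ← h, inv_smul_smul])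
  haveI : Fintype ↥(MulAction.fixedBy Ω x) := Fintype.ofFinite _
  have h3 : 2 < Nat.card ↥(MulAction.fixedBy Ω x) := by
    rw [Nat.card_eq_fintype_card, Fintype.two_lt_card_iff]
    refine ⟨⟨_, key n0 h0⟩, ⟨_, key n1 h1⟩, ⟨_, key n2 h2⟩, ?_, ?_, ?_⟩
    · intro h
      exact d01 (congrArg Subtype.val h)
    · intro h
      exact d02 (congrArg Subtype.val h)
    · intro h
      exact d12 (congrArg Subtype.val h)
  omega

theorem sq_fix (α : Ω) {x : G} (hx : x ≠ 1) (hxα : x • α = α) (n : G)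
    (h1 : (n⁻¹ * x * n) • α = α) (h2 : ((n * n)⁻¹ * x * (n * n)) • α = α) :
    (n * n) • α = α := by
  have h0 : ((1 : G)⁻¹ * x * 1) • α = α := by
    rw [inv_one, one_mul, mul_one]
    exact hxα
  rcases three_pts hfix α hx 1 n (n * n) h0 h1 h2 with h | h | h
  · rw [inv_one, one_mul] at h
    rw [mul_smul, h, h]
  · rw [inv_one, one_mul] at h
    exact h
  · have e : n⁻¹ * (n * n) = n := by group
    rw [e] at h
    rw [mul_smul, h, h]

theorem sq_comm (α : Ω) {x : G} (hx : x ≠ 1) (hxα : x • α = α) (n : G) (hn : n * x = x * n) :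
    (n * n) • α = α := by
  have e1 : n⁻¹ * x * n = x := by
    rw [mul_assoc, ← hn, ← mul_assoc, inv_mul_cancel, one_mul]
  have hn2 : (n * n) * x = x * (n * n) := by
    rw [mul_assoc, hn, ← mul_assoc, hn, mul_assoc]
  have e2 : (n * n)⁻¹ * x * (n * n) = x := by
    rw [mul_assoc, ← hn2, ← mul_assoc, inv_mul_cancel, one_mul]
  exact sq_fix hfix α hx hxα n (by rw [e1]; exact hxα) (by rw [e2]; exact hxα)

end core

section alg

variable {F : Type*} [Field F] [Fintype F] {s : ℕ} (H : Hyp F s)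
include H

theorem tG_comm_center (a b c : F) : tG H a b * tG H 0 c = tG H 0 c * tG H a b := by
  rw [tG_mul, tG_mul]
  have hs := s_ne_zero H
  congr 1
  · ring
  · rw [zero_pow hs]
    ring

theorem tG_sq (a b : F) : tG H a b * tG H a b = tG H 0 (a ^ (s + 1)) := by
  rw [tG_mul]
  have h2 := H.h2
  congr 1
  · linear_combination a * h2
  · linear_combination b * h2

theorem conj_center {g : ↥(Gs F s)} (hg : g ∈ BG F s) (c : F) :
    ∃ c', g * tG H 0 c * g⁻¹ = tG H 0 c' := by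
  obtain ⟨a, b, l, rfl⟩ := stabG H hg
  refine ⟨(l : F) ^ (2 * s + 2) * c, ?_⟩
  have e : tG H a b * eG H l * tG H 0 c * (tG H a b * eG H l)⁻¹
      = tG H a b * (eG H l * tG H 0 c * (eG H l)⁻¹) * (tG H a b)⁻¹ := by group
  rw [e, eG_conj, mul_zero, tG_comm_center, mul_assoc, mul_inv_cancel, mul_one]

end alg

section caseA

variable {F : Type*} [Field F] [Fintype F] {s : ℕ} (H : Hyp F s)
  {Ω : Type*} [Fintype Ω] [MulAction ↥(Gs F s) Ω]
  (hfix : ∀ g : ↥(Gs F s), g ≠ 1 → Nat.card (MulAction.fixedBy Ω g) ≤ 2)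
include H hfix

theorem center_sub (α : Ω) {b : F} (hb : b ≠ 0) (hbα : tG H 0 b • α = α) (c : F) :
    tG H 0 c • α = α := by
  obtain ⟨a, ha⟩ := pow_s1_surj H c
  have hx : tG H 0 b ≠ 1 := tG_ne_one H (by rintro ⟨-, h⟩; exact hb h)
  have h := sq_comm hfix α hx hbα (tG H a 0) (tG_comm_center H a 0 b)
  rw [tG_sq, ha] at h
  exact h

theorem borel_sq (α : Ω) (hZ : ∀ c, tG H 0 c • α = α) {g : ↥(Gs F s)} (hg : g ∈ BG F s) :
    (g * g) • α = α := by
  have hx : tG H 0 (1 : F) ≠ 1 := tG_ne_one H (by rintro ⟨-, h⟩; exact one_ne_zero h)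
  have hc : ∀ n : ↥(Gs F s), n ∈ BG F s → (n⁻¹ * tG H 0 1 * n) • α = α := by
    intro n hn
    obtain ⟨c', hc'⟩ := conj_center H (inv_mem hn) 1
    rw [inv_inv] at hc'
    rw [hc']
    exact hZ c'
  exact sq_fix hfix α hx (hZ 1) g (hc g hg) (hc (g * g) (mul_mem hg hg))

theorem borel_sub (α : Ω) (hZ : ∀ c, tG H 0 c • α = α) {g : ↥(Gs F s)} (hg : g ∈ BG F s) :
    g • α = α := by
  have hsq := fun (g : ↥(Gs F s)) (hg : g ∈ BG F s) => borel_sq H hfix α hZ hg
  have he : ∀ l : Fˣ, eG H l • α = α := by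
    intro l
    obtain ⟨l', hl'⟩ := exists_sqrt_unit H l
    have h := hsq (eG H l') (eG_mem_BG H l')
    rw [eG_mul, ← pow_two, hl'] at h
    exact h
  obtain ⟨t, ht0, ht1⟩ := exists_ne01 H
  have hlam : (1 : F) + t ^ 2 ≠ 0 := by
    intro h
    apply ht1
    apply sq_inj H
    linear_combination h - H.h2
  have ht : ∀ a : F, ∃ b0, tG H a b0 • α = α := by
    intro a
    have h1 := hsq (tG H (a / (1 + t ^ 2)) 0 * eG H (Units.mk0 t ht0))
      (mul_mem (tG_mem_BG H _ 0) (eG_mem_BG H _))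
    have e : tG H (a / (1 + t ^ 2)) 0 * eG H (Units.mk0 t ht0)
          * (tG H (a / (1 + t ^ 2)) 0 * eG H (Units.mk0 t ht0))
        = tG H (a / (1 + t ^ 2)) 0
          * (eG H (Units.mk0 t ht0) * tG H (a / (1 + t ^ 2)) 0 * (eG H (Units.mk0 t ht0))⁻¹)
          * (eG H (Units.mk0 t ht0) * eG H (Units.mk0 t ht0)) := by group
    rw [e, eG_conj, tG_mul, eG_mul, mul_smul, he] at h1
    have ea : a / (1 + t ^ 2) + ((Units.mk0 t ht0 : Fˣ) : F) ^ 2 * (a / (1 + t ^ 2)) = a := by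
      rw [Units.val_mk0]
      field_simp
    rw [ea] at h1
    exact ⟨_, h1⟩
  obtain ⟨a, b, l, rfl⟩ := stabG H hg
  obtain ⟨b0, hb0⟩ := ht a
  have e : tG H a b = tG H a b0 * tG H 0 (b - b0) := by
    rw [tG_mul]
    congr 1
    · ring
    · ring
  rw [mul_smul, he, e, mul_smul, hZ, hb0]

theorem borel_max (α : Ω) (hB : ∀ g ∈ BG F s, g • α = α)
    (hne : ∃ g : ↥(Gs F s), g • α ≠ α) (g : ↥(Gs F s)) : g • α = α ↔ g ∈ BG F s := by
  constructor
  · intro hg
    by_contra hgB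
    rcases decompG H g with ⟨a, b, l, rfl⟩ | ⟨a, b, a', b', l, rfl⟩
    · exact hgB (mul_mem (tG_mem_BG H a b) (eG_mem_BG H l))
    · have h1 := hB _ (tG_mem_BG H a b)
      have h2 := hB _ (mul_mem (tG_mem_BG H a' b') (eG_mem_BG H l))
      have hw : wG H • α = α := by
        rw [mul_smul, mul_smul, h2] at hg
        have h3 := congrArg (fun ω => (tG H a b)⁻¹ • ω) hg
        simp only [inv_smul_smul] at h3
        rw [h3, inv_smul_eq_iff, h1]
      obtain ⟨g', hg'⟩ := hne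
      apply hg'
      rcases decompG H g' with ⟨a, b, l, rfl⟩ | ⟨a, b, a', b', l, rfl⟩
      · exact hB _ (mul_mem (tG_mem_BG H a b) (eG_mem_BG H l))
      · rw [mul_smul, mul_smul, hB _ (mul_mem (tG_mem_BG H a' b') (eG_mem_BG H l)), hw,
          hB _ (tG_mem_BG H a b)]
  · exact hB g

theorem two_trans [MulAction.IsPretransitive ↥(Gs F s) Ω] (α : Ω)
    (hL : ∀ g : ↥(Gs F s), g • α = α ↔ g ∈ BG F s) (a b c d : Ω) (hab : a ≠ b) (hcd : c ≠ d) :
    ∃ g : ↥(Gs F s), g • a = c ∧ g • b = d := by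
  have key : ∀ ω : Ω, ω ≠ α → ∃ a' b', ω = (tG H a' b' * wG H) • α := by
    intro ω hω
    obtain ⟨n, rfl⟩ := MulAction.exists_smul_eq ↥(Gs F s) α ω
    rcases decompG H n with ⟨a, b, l, rfl⟩ | ⟨a, b, a', b', l, rfl⟩
    · exact absurd ((hL _).2 (mul_mem (tG_mem_BG H a b) (eG_mem_BG H l))) hω
    · refine ⟨a, b, ?_⟩
      rw [mul_smul _ (tG H a' b' * eG H l),
        (hL _).2 (mul_mem (tG_mem_BG H a' b') (eG_mem_BG H l))]
  obtain ⟨g1, rfl⟩ := MulAction.exists_smul_eq ↥(Gs F s) α a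
  obtain ⟨g2, rfl⟩ := MulAction.exists_smul_eq ↥(Gs F s) α c
  have hb' : g1⁻¹ • b ≠ α := by
    intro h
    apply hab
    rw [← h, smul_inv_smul]
  have hd' : g2⁻¹ • d ≠ α := by
    intro h
    apply hcd
    rw [← h, smul_inv_smul]
  obtain ⟨a1, b1, h1⟩ := key _ hb'
  obtain ⟨a2, b2, h2⟩ := key _ hd'
  refine ⟨g2 * (tG H a2 b2 * (tG H a1 b1)⁻¹) * g1⁻¹, ?_, ?_⟩
  · rw [mul_smul, inv_smul_smul, mul_smul,
      (hL _).2 (mul_mem (tG_mem_BG H a2 b2) (inv_mem (tG_mem_BG H a1 b1)))]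
  · rw [mul_smul, h1, mul_smul, ← mul_smul _ (tG H a1 b1 * wG H) α]
    have e : tG H a2 b2 * (tG H a1 b1)⁻¹ * (tG H a1 b1 * wG H) = tG H a2 b2 * wG H := by group
    rw [e, ← h2, smul_inv_smul]

theorem card_A [MulAction.IsPretransitive ↥(Gs F s) Ω] (α : Ω)
    (hL : ∀ g : ↥(Gs F s), g • α = α ↔ g ∈ BG F s) :
    Fintype.card Ω = Fintype.card F ^ 2 + 1 := by
  haveI : Finite ↥(Gs F s) := Finite.of_injective _ Subtype.val_injective
  have hst : MulAction.stabilizer ↥(Gs F s) α = BG F s := by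
    ext g
    rw [MulAction.mem_stabilizer_iff]
    exact hL g
  have h1 := MulAction.index_stabilizer_of_transitive (G := ↥(Gs F s)) (x := α)
  have h2 := Subgroup.index_mul_card (MulAction.stabilizer ↥(Gs F s) α)
  rw [h1, hst, card_BG H, card_Gs H, Nat.card_eq_fintype_card] at h2
  have hq : 1 < Fintype.card F := Fintype.one_lt_card
  have hpos : 0 < Fintype.card F ^ 2 * (Fintype.card F - 1) :=
    Nat.mul_pos (by positivity) (by omega)
  apply Nat.eq_of_mul_eq_mul_right hpos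
  rw [h2]
  ring

end caseA

end Cfsg.Agent.Lib.helper25.SzFix
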