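import Mathlib
import Cfsg.Prelude.Def_Sz
import Cfsg.Agent.Lib.helper2.Suzuki3

set_option autoImplicit false

namespace Cfsg.Agent.Lib.helper25.SzIso

open Cfsg.Agent.Lib.helper2.Suzuki
open Cfsg.Agent.Lib.helper2.Ovoid (N)
open Matrix

variable {F : Type*} [Field F]

/-- row relation of a matrix w.r.t. the antidiagonal form -/
def rowrel (g : Matrix (Fin 4) (Fin 4) F) (k l : Fin 4) : F :=
  g k 0 * g l 3 + g k 1 * g l 2 + g k 2 * g l 1 + g k 3 * g l 0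

/-- column relation of a matrix w.r.t. the antidiagonal form -/
def colrel (g : Matrix (Fin 4) (Fin 4) F) (i j : Fin 4) : F :=
  g 0 i * g 3 j + g 1 i * g 2 j + g 2 i * g 1 j + g 3 i * g 0 j

theorem minor_mul (g h : Matrix (Fin 4) (Fin 4) F) (k l i j : Fin 4) :
    (g * h) k i * (g * h) l j - (g * h) l i * (g * h) k j
      = (g k 0 * g l 1 - g l 0 * g k 1) * (h 0 i * h 1 j - h 1 i * h 0 j)
      + (g k 0 * g l 2 - g l 0 * g k 2) * (h 0 i * h 2 j - h 2 i * h 0 j)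
      + (g k 1 * g l 3 - g l 1 * g k 3) * (h 1 i * h 3 j - h 3 i * h 1 j)
      + (g k 2 * g l 3 - g l 2 * g k 3) * (h 2 i * h 3 j - h 3 i * h 2 j)
      + (g k 0 * g l 3 - g l 0 * g k 3) * (h 0 i * h 3 j - h 3 i * h 0 j)
      + (g k 1 * g l 2 - g l 1 * g k 2) * (h 1 i * h 2 j - h 2 i * h 1 j) := by
  simp only [Matrix.mul_apply, Fin.sum_univ_four]
  ring

theorem minor_mul' (h2 : (2 : F) = 0) (g h : Matrix (Fin 4) (Fin 4) F) (k l i j : Fin 4)
    (hR : rowrel g k l = 0) (hC : colrel h i j = 0) :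
    (g * h) k i * (g * h) l j - (g * h) l i * (g * h) k j
      = ∑ t : Fin 4, (g k (Cfsg.Lie.pairOf t).1 * g l (Cfsg.Lie.pairOf t).2
            - g l (Cfsg.Lie.pairOf t).1 * g k (Cfsg.Lie.pairOf t).2)
          * (h (Cfsg.Lie.pairOf t).1 i * h (Cfsg.Lie.pairOf t).2 j
            - h (Cfsg.Lie.pairOf t).2 i * h (Cfsg.Lie.pairOf t).1 j) := by
  rw [minor_mul, Fin.sum_univ_four]
  have e0 : Cfsg.Lie.pairOf 0 = (0, 1) := rfl
  have e1 : Cfsg.Lie.pairOf 1 = (0, 2) := rfl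
  have e2 : Cfsg.Lie.pairOf 2 = (1, 3) := rfl
  have e3 : Cfsg.Lie.pairOf 3 = (2, 3) := rfl
  rw [e0, e1, e2, e3]
  simp only [rowrel, colrel] at hR hC
  linear_combination (h 0 i * h 3 j - h 3 i * h 0 j) * hR + (g k 1 * g l 2 - g l 1 * g k 2) * hC
    - ((h 0 i * h 3 j - h 3 i * h 0 j) * (g k 1 * g l 2 - g l 1 * g k 2)
      + (g l 0 * g k 3 + g l 1 * g k 2) * (h 0 i * h 3 j - h 3 i * h 0 j)
      + (h 3 i * h 0 j + h 2 i * h 1 j) * (g k 1 * g l 2 - g l 1 * g k 2)) * h2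

theorem star4_mul (h2 : (2 : F) = 0) (g h : Matrix (Fin 4) (Fin 4) F)
    (hg : ∀ p : Fin 4, rowrel g (Cfsg.Lie.pairOf p).1 (Cfsg.Lie.pairOf p).2 = 0)
    (hh : ∀ r : Fin 4, colrel h (Cfsg.Lie.pairOf r).1 (Cfsg.Lie.pairOf r).2 = 0) :
    Cfsg.Lie.star4 (g * h) = Cfsg.Lie.star4 g * Cfsg.Lie.star4 h := by
  ext p r
  rw [Matrix.mul_apply]
  exact minor_mul' h2 g h _ _ _ _ (hg p) (hh r)

/-- the antidiagonal form matrix -/
abbrev Jm (F : Type*) [Field F] : Matrix (Fin 4) (Fin 4) F := Cfsg.suzukiForm F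

theorem Jm_sq : Jm F * Jm F = 1 := by
  ext i j
  fin_cases i <;> fin_cases j <;>
    simp [Cfsg.suzukiForm, Matrix.mul_apply, Fin.sum_univ_four, Matrix.one_apply]

theorem colrel_eq (g : Matrix (Fin 4) (Fin 4) F) (i j : Fin 4) :
    colrel g i j = (gᵀ * Jm F * g) i j := by
  simp [colrel, Cfsg.suzukiForm, Matrix.mul_apply, Fin.sum_univ_four]
  ring

theorem rowrel_eq (g : Matrix (Fin 4) (Fin 4) F) (k l : Fin 4) :
    rowrel g k l = (g * Jm F * gᵀ) k l := by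
  simp [rowrel, Cfsg.suzukiForm, Matrix.mul_apply, Fin.sum_univ_four]
  ring

theorem form_symm {g : Matrix (Fin 4) (Fin 4) F} (hg : gᵀ * Jm F * g = Jm F) :
    g * Jm F * gᵀ = Jm F := by
  have h1 : (Jm F * gᵀ * Jm F) * g = 1 := by
    rw [Matrix.mul_assoc, Matrix.mul_assoc, ← Matrix.mul_assoc gᵀ, hg, Jm_sq]
  have h2 : g * (Jm F * gᵀ * Jm F) = 1 := mul_eq_one_comm.1 h1
  calc g * Jm F * gᵀ = g * (Jm F * gᵀ * Jm F) * Jm F := by
        simp only [Matrix.mul_assoc]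
        rw [Jm_sq, Matrix.mul_one]
    _ = Jm F := by rw [h2, Matrix.one_mul]

theorem Jm_pair (p : Fin 4) : Jm F (Cfsg.Lie.pairOf p).1 (Cfsg.Lie.pairOf p).2 = 0 := by
  fin_cases p <;> simp [Cfsg.suzukiForm, Cfsg.Lie.pairOf]

/-- the defining matrix property of the Suzuki group -/
def IsSzM (s : ℕ) (g : Matrix (Fin 4) (Fin 4) F) : Prop :=
  gᵀ * Jm F * g = Jm F ∧ Cfsg.Lie.star4 g = g.map (fun x => x ^ s)

theorem IsSzM.mul {s : ℕ} (h2 : (2 : F) = 0) (hadd : ∀ x y : F, (x + y) ^ s = x ^ s + y ^ s)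
    (hs : s ≠ 0) {g h : Matrix (Fin 4) (Fin 4) F} (hg : IsSzM s g) (hh : IsSzM s h) :
    IsSzM s (g * h) := by
  refine ⟨pres_mul hg.1 hh.1, ?_⟩
  rw [star4_mul h2 g h, hg.2, hh.2]
  · let φ : F →+* F :=
      { toFun := fun x => x ^ s
        map_one' := one_pow s
        map_mul' := fun x y => mul_pow x y s
        map_zero' := zero_pow hs
        map_add' := hadd }
    exact (Matrix.map_mul (f := φ)).symm
  · intro p
    rw [rowrel_eq, form_symm hg.1, Jm_pair]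
  · intro r
    rw [colrel_eq, hh.1, Jm_pair]

end Cfsg.Agent.Lib.helper25.SzIso
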