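import Cfsg.Agent.Lib.helper25.SzIso1

set_option autoImplicit false

namespace Cfsg.Agent.Lib.helper25.SzIso

open Cfsg.Agent.Lib.helper2.Suzuki
open Cfsg.Agent.Lib.helper2.Ovoid (N)
open Matrix

section gens

variable {F : Type*} [Field F] [Fintype F] {s : ℕ} (H : Hyp F s)
include H

theorem star_tm (a b : F) : Cfsg.Lie.star4 (tm s a b) = (tm s a b).map (fun x => x ^ s) := by
  have hs := s_ne_zero H
  have e1 : (a ^ (s + 1)) ^ s = a ^ 2 * a ^ s := by
    rw [← pow_mul, add_mul, one_mul, pow_add, pow_mul, H.hs2]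
  have e2 := Cfsg.Agent.Lib.helper2.Ovoid.N_pow H.h2 H.hs2 H.hadd a b
  simp only [N] at e2
  ext p r
  fin_cases p <;> fin_cases r <;>
    simp [Cfsg.Lie.star4, Cfsg.Lie.pairOf, tm, N, hs]
  · rw [H.hadd, e1]
    linear_combination (-(a ^ (s + 2)) - b ^ s) * H.h2
  · rw [e2]
    linear_combination (-(a ^ s * b ^ s) - (a ^ s) ^ 2 * a ^ 2) * H.h2
  · rw [H.hs2]; ring
  · linear_combination (-b ^ s) * H.h2

theorem star_em (l : Fˣ) : Cfsg.Lie.star4 (Cfsg.Agent.Lib.helper2.Suzuki.em s l)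
    = (Cfsg.Agent.Lib.helper2.Suzuki.em s l).map (fun x => x ^ s) := by
  have hs := s_ne_zero H
  have e1 : ((l : F) ^ (s + 2)) ^ s = (l : F) ^ 2 * ((l : F) ^ s) ^ 2 := by
    rw [← pow_mul, add_mul, pow_add, pow_mul, H.hs2, mul_comm 2 s, pow_mul]
  have hl : (l : F) ≠ 0 := l.ne_zero
  have hls : (l : F) ^ s ≠ 0 := pow_ne_zero _ hl
  ext p r
  fin_cases p <;> fin_cases r <;>
    simp [Cfsg.Lie.star4, Cfsg.Lie.pairOf, Cfsg.Agent.Lib.helper2.Suzuki.em, hs]
  · rw [e1]; ring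
  · rw [H.hs2]; field_simp; ring
  · rw [H.hs2]; field_simp; ring
  · rw [e1]; field_simp; ring

theorem star_wm : Cfsg.Lie.star4 (wm F) = (wm F).map (fun x => x ^ s) := by
  have hs := s_ne_zero H
  ext p r
  fin_cases p <;> fin_cases r <;>
    simp [Cfsg.Lie.star4, Cfsg.Lie.pairOf, wm, hs]
  all_goals linear_combination (-1 : F) * H.h2

theorem isSzM_of_mem {h : Matrix.SpecialLinearGroup (Fin 4) F} (hh : h ∈ Gs F s) :
    IsSzM s h.val := by
  have hs := s_ne_zero H
  have ht : ∀ a b : F, IsSzM s (tS s a b).val := fun a b => ⟨form_tm H a b, star_tm H a b⟩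
  have he : ∀ l : Fˣ, IsSzM s (eS s l).val := fun l => ⟨form_em l, star_em H l⟩
  have hw : IsSzM s (wS F).val := ⟨form_wm, star_wm H⟩
  have hm := fun {g h : Matrix (Fin 4) (Fin 4) F} (hg : IsSzM s g) (hh : IsSzM s h) =>
    IsSzM.mul H.h2 H.hadd hs hg hh
  rcases decomp H hh with ⟨a, b, l, rfl⟩ | ⟨a, b, a', b', l, rfl⟩
  · rw [Matrix.SpecialLinearGroup.coe_mul]
    exact hm (ht a b) (he l)
  · simp only [Matrix.SpecialLinearGroup.coe_mul]
    exact hm (hm (ht a b) hw) (hm (ht a' b') (he l))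

theorem first_col {g : Matrix (Fin 4) (Fin 4) F} (hg : IsSzM s g) :
    (∃ c : F, g *ᵥ e0 F = c • e0 F) ∨ ∃ (c x y : F), g *ᵥ e0 F = c • aff s x y := by
  have hs := s_ne_zero H
  have h2 := H.h2
  obtain ⟨hJ, hst⟩ := hg
  have S1 : g 0 0 * g 2 1 - g 2 0 * g 0 1 = (g 1 0) ^ s := by
    have := congrFun (congrFun hst 1) 0
    simpa [Cfsg.Lie.star4, Cfsg.Lie.pairOf] using this
  have S2 : g 1 0 * g 3 1 - g 3 0 * g 1 1 = (g 2 0) ^ s := by
    have := congrFun (congrFun hst 2) 0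
    simpa [Cfsg.Lie.star4, Cfsg.Lie.pairOf] using this
  have S3 : g 2 0 * g 3 1 - g 3 0 * g 2 1 = (g 3 0) ^ s := by
    have := congrFun (congrFun hst 3) 0
    simpa [Cfsg.Lie.star4, Cfsg.Lie.pairOf] using this
  have C : g 0 0 * g 3 1 + g 1 0 * g 2 1 + g 2 0 * g 1 1 + g 3 0 * g 0 1 = 0 := by
    have := colrel_eq g 0 1
    rw [hJ] at this
    simpa [colrel, Cfsg.suzukiForm] using this
  have hcol : ∀ i, (g *ᵥ e0 F) i = g i 0 := by
    intro i
    simp [e0, Matrix.mulVec, dotProduct, Fin.sum_univ_four]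
  by_cases h3 : g 3 0 = 0
  · left
    rw [h3] at S2 S3 C
    rw [zero_pow hs] at S3
    have hc2 : g 2 0 = 0 := by
      by_cases hd : g 3 1 = 0
      · rw [hd] at S2
        have : (g 2 0) ^ s = 0 := by rw [← S2]; ring
        exact pow_eq_zero_iff hs |>.1 this
      · have : g 2 0 * g 3 1 = 0 := by linear_combination S3
        rcases mul_eq_zero.1 this with h | h
        · exact h
        · exact absurd h hd
    rw [hc2] at S1 S2 C
    rw [zero_pow hs] at S2
    have hc1 : g 1 0 = 0 := by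
      by_contra hne
      have hd3 : g 3 1 = 0 := by
        have : g 1 0 * g 3 1 = 0 := by linear_combination S2
        rcases mul_eq_zero.1 this with h | h
        · exact absurd h hne
        · exact h
      rw [hd3] at C
      have hd2 : g 2 1 = 0 := by
        have : g 1 0 * g 2 1 = 0 := by linear_combination C
        rcases mul_eq_zero.1 this with h | h
        · exact absurd h hne
        · exact h
      rw [hd2] at S1
      have : (g 1 0) ^ s = 0 := by rw [← S1]; ring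
      exact hne (pow_eq_zero_iff hs |>.1 this)
    refine ⟨g 0 0, ?_⟩
    ext i
    rw [hcol]
    fin_cases i <;> simp [e0, hc1, hc2, h3]
  · right
    refine ⟨g 3 0, g 2 0 / g 3 0, g 1 0 / g 3 0, ?_⟩
    have T : g 0 0 * g 3 0 * (g 3 0) ^ s - g 1 0 * g 2 0 * (g 3 0) ^ s
        - (g 2 0) ^ 2 * (g 2 0) ^ s - (g 3 0) ^ 2 * (g 1 0) ^ s = 0 := by
      linear_combination (g 3 0) ^ 2 * S1 + (g 2 0) ^ 2 * S2
        + (g 1 0 * g 2 0 - g 0 0 * g 3 0) * S3 + (g 2 0 * g 3 0) * C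
        - (g 1 0 * (g 2 0) ^ 2 * g 3 1 + g 0 0 * (g 3 0) ^ 2 * g 2 1) * h2
    ext i
    rw [hcol]
    fin_cases i
    · simp only [aff, N, Pi.smul_apply, smul_eq_mul]
      simp
      rw [div_pow, div_pow]
      have h3s : (g 3 0) ^ s ≠ 0 := pow_ne_zero _ h3
      field_simp
      linear_combination ((g 3 0) ^ 2 * (g 3 0) ^ s) * T
    · simp [aff]; field_simp
    · simp [aff]; field_simp
    · simp [aff]

theorem mem_of_isSzM {g : Matrix.SpecialLinearGroup (Fin 4) F} (hg : IsSzM s g.val) :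
    g ∈ Gs F s := by
  have hs := s_ne_zero H
  rw [mem_Gs_iff]
  intro p hp
  obtain ⟨h, hh, rfl⟩ := exists_smul_inf H hp
  rw [← mul_smul]
  have h1 : IsSzM s (g * h).val := by
    rw [Matrix.SpecialLinearGroup.coe_mul]
    exact IsSzM.mul H.h2 H.hadd hs hg (isSzM_of_mem H hh)
  rcases first_col H h1 with ⟨c, hc⟩ | ⟨c, x, y, hc⟩
  · have : (g * h) • inf F = inf F := smul_mk_eq e0_ne_zero e0_ne_zero hc
    rw [this]
    exact inf_mem s
  · have : (g * h) • inf F = P s x y := smul_mk_eq e0_ne_zero (aff_ne_zero s x y) hc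
    rw [this]
    exact P_mem s x y

end gens

end Cfsg.Agent.Lib.helper25.SzIso
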