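import Mathlib

/-!
# Solvable two-generator subgroups: generic lemmas (library, seat helper25)
-/

set_option autoImplicit false
set_option linter.unusedSectionVars false
set_option linter.unusedSimpArgs false
set_option linter.style.haveILetI false

namespace Cfsg.Agent.Lib.helper25.SzSol

open Subgroup

theorem sol_of_le {G : Type*} [Group G] {x y : G} {M : Subgroup G} (hM : Group.IsSolvable M)
    (hx : x ∈ M) (hy : y ∈ M) : Group.IsSolvable (closure ({x, y} : Set G)) := by
  have hle : closure ({x, y} : Set G) ≤ M := by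
    rw [closure_le]
    intro z hz
    rcases hz with rfl | rfl
    · exact hx
    · exact hy
  exact Group.isSolvable_of_isSolvable_injective (Subgroup.inclusion_injective hle)

theorem exists_abelian_normal {K : Type*} [Group K] [hK : Group.IsSolvable K] [Nontrivial K] :
    ∃ a : K, a ≠ 1 ∧ ∀ k : K, (k * a * k⁻¹) * a = a * (k * a * k⁻¹) := by
  obtain ⟨n, hn⟩ := hK.solvable
  have hstep : ∃ j, derivedSeries K j ≠ ⊥ ∧ derivedSeries K (j + 1) = ⊥ := by
    induction n with
    | zero =>
      exfalso
      rw [derivedSeries_zero] at hn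
      obtain ⟨a, b, hab⟩ := exists_pair_ne K
      have ha : a ∈ (⊥ : Subgroup K) := hn ▸ mem_top a
      have hb : b ∈ (⊥ : Subgroup K) := hn ▸ mem_top b
      rw [mem_bot] at ha hb
      exact hab (ha.trans hb.symm)
    | succ n ih =>
      by_cases h : derivedSeries K n = ⊥
      · exact ih h
      · exact ⟨n, h, hn⟩
  obtain ⟨j, hj1, hj2⟩ := hstep
  obtain ⟨⟨a, ha⟩, ha1⟩ := (Subgroup.ne_bot_iff_exists_ne_one).1 hj1
  refine ⟨a, fun h => ha1 (Subtype.ext h), ?_⟩
  intro k
  have h1 : k * a * k⁻¹ ∈ derivedSeries K j := (derivedSeries_normal K j).conj_mem a ha k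
  have h2 := Subgroup.commutator_mem_commutator h1 ha
  rw [← derivedSeries_succ, hj2, mem_bot] at h2
  exact commutatorElement_eq_one_iff_mul_comm.1 h2

theorem comm_of_card {Q : Type*} [Group Q] [Finite Q]
    (h : Nat.card Q = 1 ∨ Nat.card Q = 2 ∨ Nat.card Q = 4) : ∀ u v : Q, u * v = v * u := by
  rcases h with h | h | h
  · intro u v
    haveI : Subsingleton Q := (Nat.card_eq_one_iff_unique.1 h).1
    exact Subsingleton.elim _ _
  · haveI : Fact (Nat.Prime 2) := ⟨Nat.prime_two⟩
    haveI := isCyclic_of_prime_card (p := 2) h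
    letI := IsCyclic.commGroup (α := Q)
    exact fun u v => mul_comm u v
  · haveI : Fact (Nat.Prime 2) := ⟨Nat.prime_two⟩
    exact IsPGroup.commutative_of_card_eq_prime_sq (p := 2) (by rw [h]; norm_num)

theorem solvable_normalizer {G : Type*} [Group G] [Finite G] (A : Subgroup G)
    (hA : ∀ c ∈ A, ∀ d ∈ A, c * d = d * c)
    (hcard : ∃ k, (k = 1 ∨ k = 2 ∨ k = 4) ∧
      Nat.card (normalizer (A : Set G)) = k * Nat.card A) :
    Group.IsSolvable ↥(normalizer (A : Set G)) := by
  obtain ⟨k, hk, hc⟩ := hcard
  haveI : (A.subgroupOf (normalizer (A : Set G))).Normal := Subgroup.normal_in_normalizer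
  have hle : A ≤ normalizer (A : Set G) := le_normalizer
  have hcardA' : Nat.card (A.subgroupOf (normalizer (A : Set G))) = Nat.card A :=
    Nat.card_congr (Subgroup.subgroupOfEquivOfLe hle).toEquiv
  have hidx : Nat.card (↥(normalizer (A : Set G)) ⧸ A.subgroupOf (normalizer (A : Set G))) = k := by
    have h1 := Subgroup.card_mul_index (A.subgroupOf (normalizer (A : Set G)))
    rw [hcardA', hc] at h1
    have hpos : 0 < Nat.card A := Nat.card_pos
    have h2 : (A.subgroupOf (normalizer (A : Set G))).index = k := by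
      apply Nat.eq_of_mul_eq_mul_left hpos
      rw [h1, mul_comm]
    rw [← h2]
    rfl
  haveI : Group.IsSolvable ↥(A.subgroupOf (normalizer (A : Set G))) :=
    Group.isSolvable_of_comm (fun a b => by
      apply Subtype.ext
      apply Subtype.ext
      exact hA _ a.2 _ b.2)
  haveI : Group.IsSolvable (↥(normalizer (A : Set G)) ⧸ A.subgroupOf (normalizer (A : Set G))) :=
    Group.isSolvable_of_comm (comm_of_card (by rw [hidx]; exact hk))
  exact Group.isSolvable_of_ker_le_range (A.subgroupOf (normalizer (A : Set G))).subtype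
    (QuotientGroup.mk' (A.subgroupOf (normalizer (A : Set G)))) (by simp)

theorem sol_equiv {G G' : Type*} [Group G] [Group G'] (e : G ≃* G') (x y : G) :
    Group.IsSolvable (closure ({e x, e y} : Set G')) ↔
      Group.IsSolvable (closure ({x, y} : Set G)) := by
  have himg : closure ({e x, e y} : Set G') = (closure ({x, y} : Set G)).map e.toMonoidHom := by
    rw [MonoidHom.map_closure, Set.image_pair]
    rfl
  rw [himg]
  have hinj : Function.Injective e.toMonoidHom := e.injective
  let φ := (closure ({x, y} : Set G)).equivMapOfInjective e.toMonoidHom hinj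
  constructor
  · intro h
    exact Group.isSolvable_of_isSolvable_injective (f := φ.toMonoidHom) φ.injective
  · intro h
    exact Group.isSolvable_of_isSolvable_injective (f := φ.symm.toMonoidHom) φ.symm.injective

theorem sol_card_equiv {G G' : Type*} [Group G] [Group G'] (e : G ≃* G') (x : G) :
    Nat.card {y : G' // Group.IsSolvable (closure ({e x, y} : Set G'))}
      = Nat.card {y : G // Group.IsSolvable (closure ({x, y} : Set G))} := by
  apply Nat.card_congr
  exact (e.symm.toEquiv.subtypeEquiv (fun y => by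
    have h := sol_equiv e x (e.symm y)
    rw [e.apply_symm_apply] at h
    exact h))

theorem sol_card_conj {G : Type*} [Group G] (g x : G) :
    Nat.card {y : G // Group.IsSolvable (closure ({g * x * g⁻¹, y} : Set G))}
      = Nat.card {y : G // Group.IsSolvable (closure ({x, y} : Set G))} :=
  sol_card_equiv (MulAut.conj g) x

theorem sol_conj {G : Type*} [Group G] (g x y : G) :
    Group.IsSolvable (closure ({g * x * g⁻¹, g * y * g⁻¹} : Set G)) ↔
      Group.IsSolvable (closure ({x, y} : Set G)) :=
  sol_equiv (MulAut.conj g) x y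

theorem mem_cent_conj {G : Type*} [Group G] (k g c : G) :
    c ∈ centralizer ({g} : Set G) ↔ k * c * k⁻¹ ∈ centralizer ({k * g * k⁻¹} : Set G) := by
  rw [mem_centralizer_singleton_iff, mem_centralizer_singleton_iff]
  constructor
  · intro h
    calc k * c * k⁻¹ * (k * g * k⁻¹) = k * (c * g) * k⁻¹ := by group
      _ = k * (g * c) * k⁻¹ := by rw [h]
      _ = k * g * k⁻¹ * (k * c * k⁻¹) := by group
  · intro h
    calc c * g = k⁻¹ * (k * c * k⁻¹ * (k * g * k⁻¹)) * k := by group
      _ = k⁻¹ * (k * g * k⁻¹ * (k * c * k⁻¹)) * k := by rw [h]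
      _ = g * c := by group

theorem mem_norm_cent_conj {G : Type*} [Group G] (k g n : G) :
    n ∈ normalizer ((centralizer ({g} : Set G) : Subgroup G) : Set G) ↔
      k * n * k⁻¹ ∈ normalizer ((centralizer ({k * g * k⁻¹} : Set G) : Subgroup G) : Set G) := by
  rw [mem_normalizer_iff, mem_normalizer_iff]
  constructor
  · intro h c
    have e1 : c = k * (k⁻¹ * c * k) * k⁻¹ := by group
    have e2 : k * n * k⁻¹ * c * (k * n * k⁻¹)⁻¹ = k * (n * (k⁻¹ * c * k) * n⁻¹) * k⁻¹ := by group
    rw [e2, ← mem_cent_conj, ← h]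
    conv_lhs => rw [e1]
    rw [← mem_cent_conj]
  · intro h c
    have h' := h (k * c * k⁻¹)
    have e2 : k * n * k⁻¹ * (k * c * k⁻¹) * (k * n * k⁻¹)⁻¹ = k * (n * c * n⁻¹) * k⁻¹ := by group
    rw [e2, ← mem_cent_conj, ← mem_cent_conj] at h'
    exact h'

theorem card_norm_cent_conj {G : Type*} [Group G] (k g : G) :
    Nat.card (normalizer ((centralizer ({k * g * k⁻¹} : Set G) : Subgroup G) : Set G))
      = Nat.card (normalizer ((centralizer ({g} : Set G) : Subgroup G) : Set G)) := by
  apply Nat.card_congr
  exact ((MulAut.conj k).symm.toEquiv.subtypeEquiv (fun n => by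
    have h := mem_norm_cent_conj k g (k⁻¹ * n * k)
    have e : k * (k⁻¹ * n * k) * k⁻¹ = n := by group
    rw [e] at h
    exact h.symm))

theorem card_cent_conj {G : Type*} [Group G] (k g : G) :
    Nat.card (centralizer ({k * g * k⁻¹} : Set G)) = Nat.card (centralizer ({g} : Set G)) := by
  apply Nat.card_congr
  exact ((MulAut.conj k).symm.toEquiv.subtypeEquiv (fun n => by
    have h := mem_cent_conj k g (k⁻¹ * n * k)
    have e : k * (k⁻¹ * n * k) * k⁻¹ = n := by group
    rw [e] at h
    exact h.symm))

end Cfsg.Agent.Lib.helper25.SzSol
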