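import Mathlib
import Cfsg.Agent.Lib.helper25.SzSol1
import Cfsg.Agent.Lib.helper25.SzPart10

/-!
# Suzuki groups: tori, local subgroups and solvable subgroups (library, seat helper25)
-/

set_option autoImplicit false
set_option linter.unusedSectionVars false
set_option linter.unusedSimpArgs false
set_option linter.style.haveILetI false

namespace Cfsg.Agent.Lib.helper25.SzSol

open Cfsg.Agent.Lib.helper2.Suzuki
open Cfsg.Agent.Lib.helper2
open Cfsg.Agent.Lib.helper25.SzOut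
open Cfsg.Agent.Lib.helper25.SzCover
open Cfsg.Agent.Lib.helper25.SzPart
open Subgroup

/-- abstract torus: abelian, self-centralizing, without `2`-elements, with `2`-elements outside -/
structure Tor {G : Type*} [Group G] (A : Subgroup G) : Prop where
  ne : ∃ a ∈ A, a ≠ 1
  comm : ∀ c ∈ A, ∀ d ∈ A, c * d = d * c
  cent : ∀ a ∈ A, a ≠ 1 → ∀ c, c * a = a * c → c ∈ A
  odd : ∀ a ∈ A, a ^ 4 = 1 → a = 1
  out : ∀ n ∈ normalizer (A : Set G), n ∉ A → n ^ 4 = 1

namespace Tor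

variable {G : Type*} [Group G] {A A' : Subgroup G}

theorem ti (h : Tor A) {a : G} (ha : a ∈ A) (ha1 : a ≠ 1) {g : G} (hg : g * a * g⁻¹ ∈ A) :
    g ∈ normalizer (A : Set G) := by
  rw [mem_normalizer_iff]
  have hne : g * a * g⁻¹ ≠ 1 := fun h' => ha1 (conj_eq_one_iff.1 h')
  intro c
  constructor
  · intro hc
    apply h.cent _ hg hne
    have h1 := h.comm c hc a ha
    calc g * c * g⁻¹ * (g * a * g⁻¹) = g * (c * a) * g⁻¹ := by group
      _ = g * (a * c) * g⁻¹ := by rw [h1]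
      _ = g * a * g⁻¹ * (g * c * g⁻¹) := by group
  · intro hc
    apply h.cent a ha ha1
    have h1 := h.comm _ hc _ hg
    have e1 : c * a = g⁻¹ * (g * c * g⁻¹ * (g * a * g⁻¹)) * g := by group
    have e2 : a * c = g⁻¹ * (g * a * g⁻¹ * (g * c * g⁻¹)) * g := by group
    rw [e1, e2, h1]

theorem norm_of_comm (h : Tor A) {a : G} (ha : a ∈ A) (ha1 : a ≠ 1) {k : G}
    (hk : (k * a * k⁻¹) * a = a * (k * a * k⁻¹)) : k ∈ normalizer (A : Set G) :=
  h.ti ha ha1 (h.cent a ha ha1 _ hk)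

theorem mem_of_odd (h : Tor A) {n : G} (hn : n ∈ normalizer (A : Set G)) {j : ℕ}
    (hj : ¬ 2 ∣ j) (hnj : n ^ j = 1) : n ∈ A := by
  by_contra hnA
  have h4 := h.out n hn hnA
  have h1 : n = 1 := odd_four hj h4 hnj
  exact hnA (h1 ▸ A.one_mem)

theorem eq_of_mem (h : Tor A) (h' : Tor A') {a : G} (ha : a ∈ A) (ha' : a ∈ A') (ha1 : a ≠ 1) :
    A = A' := by
  apply le_antisymm
  · intro c hc
    exact h'.cent a ha' ha1 c (h.comm c hc a ha)
  · intro c hc
    exact h.cent a ha ha1 c (h'.comm c hc a ha')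

theorem two_of_inter (h : Tor A) (h' : Tor A') (hne : A ≠ A') {z : G}
    (hz : z ∈ normalizer (A : Set G)) (hz' : z ∈ normalizer (A' : Set G)) : z ^ 4 = 1 := by
  by_cases hzA : z ∈ A
  · by_cases hz1 : z = 1
    · rw [hz1, one_pow]
    · by_cases hzA' : z ∈ A'
      · exact absurd (h.eq_of_mem h' hzA hzA' hz1) hne
      · exact h'.out z hz' hzA'
  · exact h.out z hz hzA

theorem cent_eq (h : Tor A) {a : G} (ha : a ∈ A) (ha1 : a ≠ 1) :
    centralizer ({a} : Set G) = A := by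
  ext c
  rw [mem_centralizer_singleton_iff]
  exact ⟨fun hc => h.cent a ha ha1 c hc, fun hc => h.comm c hc a ha⟩

end Tor

section geom

variable {F : Type*} [Field F] [Fintype F] {m : ℕ} (hm : 1 ≤ m)
  (hF : Fintype.card F = 2 ^ (2 * m + 1)) (H : Hyp F (2 ^ (m + 1)))
include hm hF H

theorem odd_N : ¬ 2 ∣ (2 ^ (2 * m + 1)) ^ 2 + 1 := by
  obtain ⟨-, hqe, -, -⟩ := q_facts m hm
  obtain ⟨u, hu⟩ := hqe
  rw [hu]
  have e : (2 * u) ^ 2 + 1 = 2 * (2 * u ^ 2) + 1 := by ring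
  rw [e]
  omega

theorem tor_N {t : ↥(Gs F (2 ^ (m + 1)))} (ht1 : t ≠ 1)
    (htN : t ^ ((2 ^ (2 * m + 1)) ^ 2 + 1) = 1) :
    Tor (centralizer ({t} : Set ↥(Gs F (2 ^ (m + 1))))) := by
  classical
  haveI : Finite ↥(Gs F (2 ^ (m + 1))) := Finite.of_injective _ Subtype.val_injective
  have T := toriHyp hm hF H
  obtain ⟨hq8, hqe, -, -⟩ := q_facts m hm
  have hodd := odd_N hm hF H
  have htmem : t ∈ centralizer ({t} : Set ↥(Gs F (2 ^ (m + 1)))) :=
    mem_centralizer_singleton_iff.2 rfl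
  refine ⟨⟨t, htmem, ht1⟩, fun c hc d hd => comm_of T ht1 htN hc hd, ?_, ?_, ?_⟩
  · intro a ha ha1 c hc
    rw [← SzPart.cent_eq T ht1 htN ha1 ha]
    exact mem_centralizer_singleton_iff.2 hc
  · intro a ha h4
    by_contra ha1
    exact ha1 (odd_four hodd h4 (T.cent t a ht1 htN ha1 ha))
  · intro n hn hnA
    have hn1 : n ≠ 1 := fun h => hnA (h ▸ one_mem _)
    have h4mem : n ^ 4 ∈ centralizer ({t} : Set ↥(Gs F (2 ^ (m + 1)))) := by
      haveI : ((centralizer ({t} : Set ↥(Gs F (2 ^ (m + 1))))).subgroupOf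
          (normalizer ((centralizer ({t} : Set ↥(Gs F (2 ^ (m + 1)))) :
            Subgroup ↥(Gs F (2 ^ (m + 1)))) : Set ↥(Gs F (2 ^ (m + 1)))))).Normal :=
        Subgroup.normal_in_normalizer
      have hpim := Subgroup.pow_index_mem
        ((centralizer ({t} : Set ↥(Gs F (2 ^ (m + 1))))).subgroupOf
          (normalizer ((centralizer ({t} : Set ↥(Gs F (2 ^ (m + 1)))) :
            Subgroup ↥(Gs F (2 ^ (m + 1)))) : Set ↥(Gs F (2 ^ (m + 1)))))) ⟨n, hn⟩
      obtain ⟨k, hk, hc⟩ := n124 T ht1 htN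
      have hle : centralizer ({t} : Set ↥(Gs F (2 ^ (m + 1))))
          ≤ normalizer ((centralizer ({t} : Set ↥(Gs F (2 ^ (m + 1)))) :
            Subgroup ↥(Gs F (2 ^ (m + 1)))) : Set ↥(Gs F (2 ^ (m + 1)))) := le_normalizer
      have hidx : ((centralizer ({t} : Set ↥(Gs F (2 ^ (m + 1))))).subgroupOf
          (normalizer ((centralizer ({t} : Set ↥(Gs F (2 ^ (m + 1)))) :
            Subgroup ↥(Gs F (2 ^ (m + 1)))) : Set ↥(Gs F (2 ^ (m + 1)))))).index = k := by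
        have h1 := Subgroup.card_mul_index
          ((centralizer ({t} : Set ↥(Gs F (2 ^ (m + 1))))).subgroupOf
            (normalizer ((centralizer ({t} : Set ↥(Gs F (2 ^ (m + 1)))) :
              Subgroup ↥(Gs F (2 ^ (m + 1)))) : Set ↥(Gs F (2 ^ (m + 1))))))
        rw [Nat.card_congr (Subgroup.subgroupOfEquivOfLe hle).toEquiv, hc] at h1
        have hpos : 0 < Nat.card (centralizer ({t} : Set ↥(Gs F (2 ^ (m + 1))))) := Nat.card_pos
        apply Nat.eq_of_mul_eq_mul_left hpos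
        rw [h1, mul_comm]
      rw [hidx] at hpim
      have hk4 : k ∣ 4 := by
        rcases hk with rfl | rfl | rfl <;> norm_num
      obtain ⟨d, hd⟩ := hk4
      have hmem : n ^ k ∈ centralizer ({t} : Set ↥(Gs F (2 ^ (m + 1)))) := hpim
      have e4 : n ^ 4 = (n ^ k) ^ d := by rw [← pow_mul, ← hd]
      rw [e4]
      exact pow_mem hmem d
    rcases classify hm hF H n hn1 with hnN | ⟨k, a, b, hab, hk⟩ | ⟨k, l, hl, hk⟩
    · exfalso
      apply hnA
      obtain ⟨u, hu⟩ := hqe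
      have e : n = (n ^ 4) ^ (3 * u ^ 2 + 1) := by
        rw [← pow_mul]
        have e2 : 4 * (3 * u ^ 2 + 1) = 3 * ((2 ^ (2 * m + 1)) ^ 2 + 1) + 1 := by
          rw [hu]
          ring
        rw [e2, pow_succ n (3 * ((2 ^ (2 * m + 1)) ^ 2 + 1)), pow_mul' n 3, hnN, one_pow, one_mul]
      rw [e]
      exact pow_mem h4mem _
    · exact pow_rest_t hm hF H hk
    · have hpe := pow_rest_e hm hF H hk
      by_contra h4
      have hw := T.cent t (n ^ 4) ht1 htN h4 h4mem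
      apply h4
      apply eq_one_of_pows (coprime_rest hq8 hqe) hw
      rw [← pow_mul]
      have e3 : 4 * ((2 ^ (2 * m + 1)) ^ 2 * (2 ^ (2 * m + 1) - 1))
          = (2 ^ (2 * m + 1) - 1) * ((2 ^ (2 * m + 1)) ^ 2 * 4) := by ring
      rw [e3, pow_mul, hpe, one_pow]

theorem tor_E {t k : ↥(Gs F (2 ^ (m + 1)))} {l : Fˣ} (hl : l ≠ 1) (hk : k * t * k⁻¹ = eG H l) :
    Tor (centralizer ({t} : Set ↥(Gs F (2 ^ (m + 1))))) := by
  have ht1 : t ≠ 1 := by
    rintro rfl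
    apply eG_ne_one H hl
    rw [← hk]
    group
  have htmem : t ∈ centralizer ({t} : Set ↥(Gs F (2 ^ (m + 1)))) :=
    mem_centralizer_singleton_iff.2 rfl
  have key : ∀ c, c ∈ centralizer ({t} : Set ↥(Gs F (2 ^ (m + 1)))) →
      ∃ l', k * c * k⁻¹ = eG H l' := by
    intro c hc
    have h1 := (mem_cent_conj k t c).1 hc
    rw [hk, mem_centralizer_singleton_iff] at h1
    exact centG_e H hl h1
  have back : ∀ c l', k * c * k⁻¹ = eG H l' →
      c ∈ centralizer ({t} : Set ↥(Gs F (2 ^ (m + 1)))) := by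
    intro c l' h
    rw [mem_cent_conj k t c, hk, h, mem_centralizer_singleton_iff, eG_mul, eG_mul, mul_comm]
  refine ⟨⟨t, htmem, ht1⟩, ?_, ?_, ?_, ?_⟩
  · intro c hc d hd
    obtain ⟨l1, h1⟩ := key c hc
    obtain ⟨l2, h2⟩ := key d hd
    have e : k * (c * d) * k⁻¹ = k * (d * c) * k⁻¹ := by
      have e1 : k * (c * d) * k⁻¹ = (k * c * k⁻¹) * (k * d * k⁻¹) := by group
      have e2 : k * (d * c) * k⁻¹ = (k * d * k⁻¹) * (k * c * k⁻¹) := by group
      rw [e1, e2, h1, h2, eG_mul, eG_mul, mul_comm]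
    exact mul_left_cancel (mul_right_cancel e)
  · intro a ha ha1 c hc
    obtain ⟨l1, h1⟩ := key a ha
    have hl1 : l1 ≠ 1 := by
      rintro rfl
      rw [eG_one] at h1
      exact ha1 (conj_eq_one_iff.1 h1)
    have h2 : (k * c * k⁻¹) * eG H l1 = eG H l1 * (k * c * k⁻¹) := by
      rw [← h1]
      calc k * c * k⁻¹ * (k * a * k⁻¹) = k * (c * a) * k⁻¹ := by group
        _ = k * (a * c) * k⁻¹ := by rw [hc]
        _ = k * a * k⁻¹ * (k * c * k⁻¹) := by group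
    obtain ⟨l2, h3⟩ := centG_e H hl1 h2
    exact back c l2 h3
  · intro a ha h4
    obtain ⟨l1, h1⟩ := key a ha
    have h5 : (eG H l1) ^ 4 = 1 := by
      rw [← h1, conj_pow, h4]
      group
    rw [eG_pow, ← eG_one H] at h5
    have h6 := eG_inj H h5
    have h7 : l1 = 1 := by
      ext
      apply fourth_root H
      have h8 := congrArg Units.val h6
      simpa using h8
    rw [h7, eG_one] at h1
    exact conj_eq_one_iff.1 h1
  · intro n hn hnA
    have h1 := (mem_normalizer_iff.1 hn t).1 htmem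
    obtain ⟨l1, h2⟩ := key _ h1
    have h3 : (k * n * k⁻¹) * eG H l * (k * n * k⁻¹)⁻¹ = eG H l1 := by
      rw [← hk, ← h2]
      group
    obtain ⟨l2, h4 | h4⟩ := norm_torus H hl h3
    · exact absurd (back n l2 h4) hnA
    · have h5 : (k * n * k⁻¹) * (k * n * k⁻¹) = 1 := by
        rw [h4]
        have e : wG H * eG H l2 * (wG H * eG H l2) = (wG H * eG H l2 * wG H) * eG H l2 := by
          group
        rw [e, wG_eG, eG_mul, inv_mul_cancel, eG_one]
      have h6 : n * n = 1 := by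
        have e : k * (n * n) * k⁻¹ = 1 := by
          have e1 : k * (n * n) * k⁻¹ = (k * n * k⁻¹) * (k * n * k⁻¹) := by group
          rw [e1, h5]
        exact conj_eq_one_iff.1 e
      have e4 : n ^ 4 = (n ^ 2) ^ 2 := pow_mul n 2 2
      rw [e4, pow_two n, h6, one_pow]

/-- solvable two-generator subgroups are local -/
theorem sol_local {x y : ↥(Gs F (2 ^ (m + 1)))} (hx : x ≠ 1)
    (hs : Group.IsSolvable (closure ({x, y} : Set ↥(Gs F (2 ^ (m + 1)))))) :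
    (∃ t : ↥(Gs F (2 ^ (m + 1))), t ≠ 1 ∧ t ^ ((2 ^ (2 * m + 1)) ^ 2 + 1) = 1 ∧
      x ∈ normalizer ((centralizer ({t} : Set ↥(Gs F (2 ^ (m + 1)))) :
        Subgroup ↥(Gs F (2 ^ (m + 1)))) : Set ↥(Gs F (2 ^ (m + 1)))) ∧
      y ∈ normalizer ((centralizer ({t} : Set ↥(Gs F (2 ^ (m + 1)))) :
        Subgroup ↥(Gs F (2 ^ (m + 1)))) : Set ↥(Gs F (2 ^ (m + 1))))) ∨
    (∃ (t k : ↥(Gs F (2 ^ (m + 1)))) (l : Fˣ), l ≠ 1 ∧ k * t * k⁻¹ = eG H l ∧
      x ∈ normalizer ((centralizer ({t} : Set ↥(Gs F (2 ^ (m + 1)))) :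
        Subgroup ↥(Gs F (2 ^ (m + 1)))) : Set ↥(Gs F (2 ^ (m + 1)))) ∧
      y ∈ normalizer ((centralizer ({t} : Set ↥(Gs F (2 ^ (m + 1)))) :
        Subgroup ↥(Gs F (2 ^ (m + 1)))) : Set ↥(Gs F (2 ^ (m + 1))))) ∨
    (∃ g : ↥(Gs F (2 ^ (m + 1))), g * x * g⁻¹ ∈ BG F (2 ^ (m + 1)) ∧
      g * y * g⁻¹ ∈ BG F (2 ^ (m + 1))) := by
  have hxK : x ∈ closure ({x, y} : Set ↥(Gs F (2 ^ (m + 1)))) :=
    subset_closure (Set.mem_insert _ _)
  have hyK : y ∈ closure ({x, y} : Set ↥(Gs F (2 ^ (m + 1)))) :=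
    subset_closure (Set.mem_insert_of_mem _ rfl)
  haveI : Nontrivial ↥(closure ({x, y} : Set ↥(Gs F (2 ^ (m + 1))))) :=
    ⟨⟨⟨x, hxK⟩, 1, fun h => hx (congrArg Subtype.val h)⟩⟩
  obtain ⟨a, ha1, hcomm⟩ :=
    exists_abelian_normal (K := ↥(closure ({x, y} : Set ↥(Gs F (2 ^ (m + 1))))))
  have ha1' : (a : ↥(Gs F (2 ^ (m + 1)))) ≠ 1 := fun h => ha1 (Subtype.ext h)
  have hc : ∀ z ∈ closure ({x, y} : Set ↥(Gs F (2 ^ (m + 1)))),
      (z * (a : ↥(Gs F (2 ^ (m + 1)))) * z⁻¹) * (a : ↥(Gs F (2 ^ (m + 1))))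
        = (a : ↥(Gs F (2 ^ (m + 1)))) * (z * (a : ↥(Gs F (2 ^ (m + 1)))) * z⁻¹) := by
    intro z hz
    exact congrArg Subtype.val (hcomm ⟨z, hz⟩)
  have hamem : (a : ↥(Gs F (2 ^ (m + 1))))
      ∈ centralizer ({(a : ↥(Gs F (2 ^ (m + 1))))} : Set ↥(Gs F (2 ^ (m + 1)))) :=
    mem_centralizer_singleton_iff.2 rfl
  rcases classify hm hF H (a : ↥(Gs F (2 ^ (m + 1)))) ha1' with
    haN | ⟨k, a0, b0, hab, hk⟩ | ⟨k, l, hl, hk⟩
  · left
    have ht := tor_N hm hF H ha1' haN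
    exact ⟨a, ha1', haN, ht.norm_of_comm hamem ha1' (hc x hxK),
      ht.norm_of_comm hamem ha1' (hc y hyK)⟩
  · right
    right
    have hB : ∀ z ∈ closure ({x, y} : Set ↥(Gs F (2 ^ (m + 1)))),
        k * z * k⁻¹ ∈ BG F (2 ^ (m + 1)) := by
      intro z hz
      have h1 := hc z hz
      have h2 : ((k * z * k⁻¹) * tG H a0 b0 * (k * z * k⁻¹)⁻¹) * tG H a0 b0
          = tG H a0 b0 * ((k * z * k⁻¹) * tG H a0 b0 * (k * z * k⁻¹)⁻¹) := by
        rw [← hk]
        calc k * z * k⁻¹ * (k * (a : ↥(Gs F (2 ^ (m + 1)))) * k⁻¹) * (k * z * k⁻¹)⁻¹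
              * (k * (a : ↥(Gs F (2 ^ (m + 1)))) * k⁻¹)
            = k * ((z * (a : ↥(Gs F (2 ^ (m + 1)))) * z⁻¹) * (a : ↥(Gs F (2 ^ (m + 1))))) * k⁻¹ := by
              group
          _ = k * ((a : ↥(Gs F (2 ^ (m + 1)))) * (z * (a : ↥(Gs F (2 ^ (m + 1)))) * z⁻¹)) * k⁻¹ := by
              rw [h1]
          _ = _ := by group
      obtain ⟨a', b', h3⟩ := centG_t H hab h2
      exact fix_inf_of_norm' H h3 hab
    exact ⟨k, hB x hxK, hB y hyK⟩
  · right
    left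
    have ht := tor_E hm hF H hl hk
    exact ⟨a, k, l, hl, hk, ht.norm_of_comm hamem ha1' (hc x hxK),
      ht.norm_of_comm hamem ha1' (hc y hyK)⟩

theorem sol_N {t : ↥(Gs F (2 ^ (m + 1)))} (ht1 : t ≠ 1)
    (htN : t ^ ((2 ^ (2 * m + 1)) ^ 2 + 1) = 1) :
    Group.IsSolvable ↥(normalizer ((centralizer ({t} : Set ↥(Gs F (2 ^ (m + 1)))) :
        Subgroup ↥(Gs F (2 ^ (m + 1)))) : Set ↥(Gs F (2 ^ (m + 1))))) := by
  haveI : Finite ↥(Gs F (2 ^ (m + 1))) := Finite.of_injective _ Subtype.val_injective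
  have T := toriHyp hm hF H
  exact solvable_normalizer _ (fun c hc d hd => comm_of T ht1 htN hc hd) (n124 T ht1 htN)

theorem cent_eG {l : Fˣ} (hl : l ≠ 1) :
    centralizer ({eG H l} : Set ↥(Gs F (2 ^ (m + 1)))) = HG H := by
  ext c
  rw [mem_centralizer_singleton_iff, mem_HG]
  constructor
  · intro h
    exact centG_e H hl h
  · rintro ⟨l', rfl⟩
    rw [eG_mul, eG_mul, mul_comm]

theorem card_E {t k : ↥(Gs F (2 ^ (m + 1)))} {l : Fˣ} (hl : l ≠ 1) (hk : k * t * k⁻¹ = eG H l) :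
    Nat.card (centralizer ({t} : Set ↥(Gs F (2 ^ (m + 1))))) = Fintype.card F - 1 ∧
    Nat.card (normalizer ((centralizer ({t} : Set ↥(Gs F (2 ^ (m + 1)))) :
        Subgroup ↥(Gs F (2 ^ (m + 1)))) : Set ↥(Gs F (2 ^ (m + 1)))))
      = 2 * (Fintype.card F - 1) := by
  constructor
  · rw [← card_cent_conj k t, hk, cent_eG hm hF H hl, card_HG H]
  · rw [← card_norm_cent_conj k t, hk, cent_eG hm hF H hl, card_NHG H]

theorem sol_E {t k : ↥(Gs F (2 ^ (m + 1)))} {l : Fˣ} (hl : l ≠ 1) (hk : k * t * k⁻¹ = eG H l) :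
    Group.IsSolvable ↥(normalizer ((centralizer ({t} : Set ↥(Gs F (2 ^ (m + 1)))) :
        Subgroup ↥(Gs F (2 ^ (m + 1)))) : Set ↥(Gs F (2 ^ (m + 1))))) := by
  haveI : Finite ↥(Gs F (2 ^ (m + 1))) := Finite.of_injective _ Subtype.val_injective
  have hc := card_E hm hF H hl hk
  exact solvable_normalizer _ (tor_E hm hF H hl hk).comm
    ⟨2, Or.inr (Or.inl rfl), by rw [hc.2, hc.1]⟩

theorem sol_BG : Group.IsSolvable ↥(BG F (2 ^ (m + 1))) := by
  haveI : Finite ↥(Gs F (2 ^ (m + 1))) := Finite.of_injective _ Subtype.val_injective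
  haveI : Fact (Nat.Prime 2) := ⟨Nat.prime_two⟩
  haveI hnorm : ((UG H).subgroupOf (BG F (2 ^ (m + 1)))).Normal := by
    constructor
    intro n hn g
    exact BG_conj H g.2 hn
  have hp : IsPGroup 2 ↥((UG H).subgroupOf (BG F (2 ^ (m + 1)))) := by
    intro x
    refine ⟨2, ?_⟩
    obtain ⟨⟨x, hxB⟩, hxU⟩ := x
    obtain ⟨a, b, hab⟩ := (mem_UG H).1 hxU
    apply Subtype.ext
    apply Subtype.ext
    show x ^ (2 ^ 2) = 1
    have hab' : x = tG H a b := hab
    rw [hab']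
    exact tG_pow_four H a b
  haveI : Group.IsSolvable ↥((UG H).subgroupOf (BG F (2 ^ (m + 1)))) := by
    haveI := hp.isNilpotent
    infer_instance
  haveI : Group.IsSolvable (↥(BG F (2 ^ (m + 1))) ⧸ (UG H).subgroupOf (BG F (2 ^ (m + 1)))) := by
    apply Group.isSolvable_of_comm
    intro u v
    induction u using QuotientGroup.induction_on with
    | _ b1 =>
      induction v using QuotientGroup.induction_on with
      | _ b2 =>
        rw [← QuotientGroup.mk_mul, ← QuotientGroup.mk_mul, QuotientGroup.eq]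
        obtain ⟨a1, c1, l1, h1⟩ := stabG H b1.2
        obtain ⟨a2, c2, l2, h2⟩ := stabG H b2.2
        show (b1.1 * b2.1)⁻¹ * (b2.1 * b1.1) ∈ UG H
        have e21 : b2.1 * b1.1 = (tG H a2 c2 * (eG H l2 * tG H a1 c1 * (eG H l2)⁻¹))
            * (eG H l2 * eG H l1) := by
          rw [h1, h2]
          group
        have e12 : b1.1 * b2.1 = (tG H a1 c1 * (eG H l1 * tG H a2 c2 * (eG H l1)⁻¹))
            * (eG H l2 * eG H l1) := by
          rw [h1, h2, eG_mul H l2 l1, mul_comm l2 l1, ← eG_mul]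
          group
        rw [e12, e21, eG_conj, eG_conj, tG_mul, tG_mul]
        have e : ∀ u1 u2 E : ↥(Gs F (2 ^ (m + 1))),
            (u1 * E)⁻¹ * (u2 * E) = E⁻¹ * (u1⁻¹ * u2) * E⁻¹⁻¹ := by
          intro u1 u2 E
          group
        rw [e]
        apply BG_conj H (inv_mem (mul_mem (eG_mem_BG H l2) (eG_mem_BG H l1)))
        exact mul_mem (inv_mem ((mem_UG H).2 ⟨_, _, rfl⟩)) ((mem_UG H).2 ⟨_, _, rfl⟩)
  exact Group.isSolvable_of_ker_le_range ((UG H).subgroupOf (BG F (2 ^ (m + 1)))).subtype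
    (QuotientGroup.mk' ((UG H).subgroupOf (BG F (2 ^ (m + 1))))) (by simp)

end geom

end Cfsg.Agent.Lib.helper25.SzSol
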