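import Mathlib
import Cfsg.Agent.Lib.helper25.SzSol2

/-!
# Suzuki groups: solubilizers of elements of odd order (library, seat helper25)
-/

set_option autoImplicit false
set_option linter.unusedSectionVars false
set_option linter.unusedSimpArgs false
set_option linter.style.haveILetI false

namespace Cfsg.Agent.Lib.helper25.SzSol

open Cfsg.Agent.Lib.helper2.Suzuki
open Cfsg.Agent.Lib.helper2
open Cfsg.Agent.Lib.helper25.SzOut
open Cfsg.Agent.Lib.helper25.SzCover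
open Cfsg.Agent.Lib.helper25.SzPart
open Subgroup

theorem arith_prod {q r : ℕ} (hr : r ^ 2 = 2 * q) (hle : r ≤ q) :
    (q + r + 1) * (q - r + 1) = q ^ 2 + 1 := by
  obtain ⟨d, rfl⟩ := Nat.exists_eq_add_of_le hle
  rw [Nat.add_sub_cancel_left]
  have e : (r + d) ^ 2 + 1 = r ^ 2 + (2 * r * d + d ^ 2 + 1) := by ring
  rw [e, hr]
  ring

theorem r_facts (m : ℕ) : (2 ^ (m + 1)) ^ 2 = 2 * 2 ^ (2 * m + 1) ∧
    2 ^ (m + 1) ≤ 2 ^ (2 * m + 1) := by
  constructor
  · rw [← pow_mul, ← pow_succ']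
    congr 1
    ring
  · exact Nat.pow_le_pow_right (by norm_num) (by omega)

section geom

variable {F : Type*} [Field F] [Fintype F] {m : ℕ} (hm : 1 ≤ m)
  (hF : Fintype.card F = 2 ^ (2 * m + 1)) (H : Hyp F (2 ^ (m + 1)))
include hm hF H

theorem odd_q1 : ¬ 2 ∣ 2 ^ (2 * m + 1) - 1 := by
  obtain ⟨hq8, hqe, -, -⟩ := q_facts m hm
  obtain ⟨u, hu⟩ := hqe
  rw [hu] at hq8 ⊢
  omega

theorem solN_iff {x : ↥(Gs F (2 ^ (m + 1)))} (hx : x ≠ 1)
    (hxN : x ^ ((2 ^ (2 * m + 1)) ^ 2 + 1) = 1) (y : ↥(Gs F (2 ^ (m + 1)))) :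
    Group.IsSolvable (closure ({x, y} : Set ↥(Gs F (2 ^ (m + 1))))) ↔
      y ∈ normalizer ((centralizer ({x} : Set ↥(Gs F (2 ^ (m + 1)))) :
        Subgroup ↥(Gs F (2 ^ (m + 1)))) : Set ↥(Gs F (2 ^ (m + 1)))) := by
  obtain ⟨hq8, hqe, -, -⟩ := q_facts m hm
  have hodd := odd_N hm hF H
  have hxmem : x ∈ centralizer ({x} : Set ↥(Gs F (2 ^ (m + 1)))) :=
    mem_centralizer_singleton_iff.2 rfl
  constructor
  · intro hs
    rcases sol_local hm hF H hx hs with
      ⟨t, ht1, htN, hxt, hyt⟩ | ⟨t, k, l, hl, hk, hxt, hyt⟩ | ⟨g, hgx, hgy⟩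
    · have ht := tor_N hm hF H ht1 htN
      have hxA := ht.mem_of_odd hxt hodd hxN
      rw [ht.cent_eq hxA hx]
      exact hyt
    · exfalso
      have ht := tor_E hm hF H hl hk
      have hxA := ht.mem_of_odd hxt hodd hxN
      have ht1 : t ≠ 1 := by
        rintro rfl
        apply eG_ne_one H hl
        rw [← hk]
        group
      have htx : t ∈ centralizer ({x} : Set ↥(Gs F (2 ^ (m + 1)))) := by
        rw [mem_centralizer_singleton_iff] at hxA ⊢
        exact hxA.symm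
      have h1 := cent_G hm hF H x t hx hxN htx
      have h2 := pow_rest hm hF H (y := t) (Or.inr ⟨k, l, hk⟩)
      exact ht1 (eq_one_of_pows (coprime_rest hq8 hqe) h1 h2)
    · exfalso
      have h1 : (g * x * g⁻¹) ^ ((2 ^ (2 * m + 1)) ^ 2 + 1) = 1 := by
        rw [conj_pow, hxN]
        group
      have h2 : (g * x * g⁻¹) ^ ((2 ^ (2 * m + 1)) ^ 2 * (2 ^ (2 * m + 1) - 1)) = 1 := by
        have := pow_card_of_mem (BG F (2 ^ (m + 1))) hgx
        rw [card_BG H, hF] at this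
        exact this
      exact hx (conj_eq_one_iff.1 (eq_one_of_pows (coprime_rest hq8 hqe) h1 h2))
  · intro hy
    exact sol_of_le (sol_N hm hF H hx hxN) (le_normalizer hxmem) hy

theorem solN_card {x : ↥(Gs F (2 ^ (m + 1)))} (hx : x ≠ 1)
    (hxN : x ^ ((2 ^ (2 * m + 1)) ^ 2 + 1) = 1) :
    Nat.card {y : ↥(Gs F (2 ^ (m + 1))) //
        Group.IsSolvable (closure ({x, y} : Set ↥(Gs F (2 ^ (m + 1)))))}
      = Nat.card (normalizer ((centralizer ({x} : Set ↥(Gs F (2 ^ (m + 1)))) :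
        Subgroup ↥(Gs F (2 ^ (m + 1)))) : Set ↥(Gs F (2 ^ (m + 1))))) := by
  apply Nat.card_congr
  exact Equiv.subtypeEquivRight (fun y => solN_iff hm hF H hx hxN y)

theorem sol_card_N (x : ↥(Gs F (2 ^ (m + 1)))) (hx : x ≠ 1) :
    (orderOf x ∣ 2 ^ (2 * m + 1) + 2 ^ (m + 1) + 1 →
      Nat.card {y : ↥(Gs F (2 ^ (m + 1))) //
        Group.IsSolvable (closure ({x, y} : Set ↥(Gs F (2 ^ (m + 1)))))}
        = 4 * (2 ^ (2 * m + 1) + 2 ^ (m + 1) + 1)) ∧
    (orderOf x ∣ 2 ^ (2 * m + 1) - 2 ^ (m + 1) + 1 →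
      Nat.card {y : ↥(Gs F (2 ^ (m + 1))) //
        Group.IsSolvable (closure ({x, y} : Set ↥(Gs F (2 ^ (m + 1)))))}
        = 4 * (2 ^ (2 * m + 1) - 2 ^ (m + 1) + 1)) := by
  haveI : Finite ↥(Gs F (2 ^ (m + 1))) := Finite.of_injective _ Subtype.val_injective
  have T := toriHyp hm hF H
  obtain ⟨hr, hle⟩ := r_facts m
  obtain ⟨y1, y2, ⟨hy1, hy1N⟩, ⟨hy2, hy2N⟩, e1, e2, n1, n2, cov, cop⟩ :=
    tori_exist T (2 ^ (m + 1)) hr
  have hprod := arith_prod hr hle
  have key : ∀ (y : ↥(Gs F (2 ^ (m + 1)))), y ≠ 1 → y ^ ((2 ^ (2 * m + 1)) ^ 2 + 1) = 1 →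
      x ^ ((2 ^ (2 * m + 1)) ^ 2 + 1) = 1 →
      ∀ g : ↥(Gs F (2 ^ (m + 1))),
        g * x * g⁻¹ ∈ centralizer ({y} : Set ↥(Gs F (2 ^ (m + 1)))) →
      Nat.card {y' : ↥(Gs F (2 ^ (m + 1))) //
        Group.IsSolvable (closure ({x, y'} : Set ↥(Gs F (2 ^ (m + 1)))))}
        = Nat.card (normalizer ((centralizer ({y} : Set ↥(Gs F (2 ^ (m + 1)))) :
          Subgroup ↥(Gs F (2 ^ (m + 1)))) : Set ↥(Gs F (2 ^ (m + 1))))) := by
    intro y hy1' hyN hxN g hg
    have hne : g * x * g⁻¹ ≠ 1 := fun h => hx (conj_eq_one_iff.1 h)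
    have hgN : (g * x * g⁻¹) ^ ((2 ^ (2 * m + 1)) ^ 2 + 1) = 1 := by
      rw [conj_pow, hxN]
      group
    rw [← sol_card_conj g x, solN_card hm hF H hne hgN, SzPart.cent_eq T hy1' hyN hne hg]
  have hc2 : Nat.card (centralizer ({y2} : Set ↥(Gs F (2 ^ (m + 1)))))
      = 2 ^ (2 * m + 1) - 2 ^ (m + 1) + 1 := by
    omega
  constructor
  · intro hord
    have hxa : x ^ (2 ^ (2 * m + 1) + 2 ^ (m + 1) + 1) = 1 := orderOf_dvd_iff_pow_eq_one.1 hord
    have hxN : x ^ ((2 ^ (2 * m + 1)) ^ 2 + 1) = 1 := by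
      rw [← hprod, pow_mul, hxa, one_pow]
    rcases cov x hx hxN with ⟨g, hg⟩ | ⟨g, hg⟩
    · rw [key y1 hy1 hy1N hxN g hg, n1, e1]
    · exfalso
      have h1 := pow_card_of_mem _ hg
      have h2 : (g * x * g⁻¹) ^ (2 ^ (2 * m + 1) + 2 ^ (m + 1) + 1) = 1 := by
        rw [conj_pow, hxa]
        group
      rw [e1] at cop
      exact hx (conj_eq_one_iff.1 (eq_one_of_pows cop h2 h1))
  · intro hord
    have hxa : x ^ (2 ^ (2 * m + 1) - 2 ^ (m + 1) + 1) = 1 := orderOf_dvd_iff_pow_eq_one.1 hord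
    have hxN : x ^ ((2 ^ (2 * m + 1)) ^ 2 + 1) = 1 := by
      rw [← hprod, mul_comm, pow_mul, hxa, one_pow]
    rcases cov x hx hxN with ⟨g, hg⟩ | ⟨g, hg⟩
    · exfalso
      have h1 := pow_card_of_mem _ hg
      have h2 : (g * x * g⁻¹) ^ (2 ^ (2 * m + 1) - 2 ^ (m + 1) + 1) = 1 := by
        rw [conj_pow, hxa]
        group
      rw [hc2] at cop
      exact hx (conj_eq_one_iff.1 (eq_one_of_pows cop h1 h2))
    · rw [key y2 hy2 hy2N hxN g hg, n2, hc2]

theorem solE_iff {l : Fˣ} (hl : l ≠ 1) (y : ↥(Gs F (2 ^ (m + 1)))) :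
    Group.IsSolvable (closure ({eG H l, y} : Set ↥(Gs F (2 ^ (m + 1))))) ↔
      (y ∈ BG F (2 ^ (m + 1)) ∨ wG H * y * wG H ∈ BG F (2 ^ (m + 1)) ∨
        y ∈ normalizer ((HG H : Subgroup ↥(Gs F (2 ^ (m + 1)))) :
          Set ↥(Gs F (2 ^ (m + 1))))) := by
  obtain ⟨hq8, hqe, -, -⟩ := q_facts m hm
  have hodd := odd_q1 hm hF H
  have hx : eG H l ≠ 1 := eG_ne_one H hl
  have hxq : (eG H l) ^ (2 ^ (2 * m + 1) - 1) = 1 :=
    pow_rest_e hm hF H (k := 1) (l := l) (by group)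
  have hxmem : eG H l ∈ centralizer ({eG H l} : Set ↥(Gs F (2 ^ (m + 1)))) :=
    mem_centralizer_singleton_iff.2 rfl
  constructor
  · intro hs
    rcases sol_local hm hF H hx hs with
      ⟨t, ht1, htN, hxt, hyt⟩ | ⟨t, k, l', hl', hk, hxt, hyt⟩ | ⟨g, hgx, hgy⟩
    · exfalso
      have ht := tor_N hm hF H ht1 htN
      have hxA := ht.mem_of_odd hxt hodd hxq
      have h1 := cent_G hm hF H t (eG H l) ht1 htN hxA
      have h2 := pow_rest hm hF H (y := eG H l) (Or.inr ⟨1, l, by group⟩)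
      exact hx (eq_one_of_pows (coprime_rest hq8 hqe) h1 h2)
    · right
      right
      have ht := tor_E hm hF H hl' hk
      have hxA := ht.mem_of_odd hxt hodd hxq
      rw [← cent_eG hm hF H hl, ht.cent_eq hxA hx]
      exact hyt
    · have h1 : (g * eG H l * g⁻¹).1 • inf F = inf F := hgx
      have h2 : (eS (2 ^ (m + 1)) l) • (g.1⁻¹ • inf F) = g.1⁻¹ • inf F := by
        have e : (g * eG H l * g⁻¹).1 = g.1 * eS (2 ^ (m + 1)) l * g.1⁻¹ := rfl
        rw [e, mul_smul, mul_smul] at h1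
        have h5 := congrArg (fun p => g.1⁻¹ • p) h1
        simp only [inv_smul_smul] at h5
        exact h5
      have h3 : g.1⁻¹ • inf F ∈ ov F (2 ^ (m + 1)) :=
        mem_Gs_iff.1 (inv_mem g.2) _ (inf_mem (2 ^ (m + 1)))
      rcases fixed_eS H hl h3 h2 with h4 | h4
      · left
        have hg : g ∈ BG F (2 ^ (m + 1)) := (inv_smul_eq_iff.1 h4).symm
        have e : y = g⁻¹ * (g * y * g⁻¹) * g := by group
        rw [e]
        exact mul_mem (mul_mem (inv_mem hg) hgy) hg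
      · right
        left
        have hg : g * wG H ∈ BG F (2 ^ (m + 1)) := by
          show (g.1 * wS F) • inf F = inf F
          rw [mul_smul, wS_smul_inf H]
          exact (inv_smul_eq_iff.1 h4).symm
        have e : wG H * y * wG H = (g * wG H)⁻¹ * (g * y * g⁻¹) * (g * wG H) := by
          have e1 : (g * wG H)⁻¹ * (g * y * g⁻¹) * (g * wG H) = (wG H)⁻¹ * y * wG H := by group
          rw [e1, wG_inv]
        rw [e]
        exact mul_mem (mul_mem (inv_mem hg) hgy) hg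
  · rintro (hy | hy | hy)
    · exact sol_of_le (sol_BG hm hF H) (eG_mem_BG H l) hy
    · apply (sol_conj (wG H) (eG H l) y).1
      apply sol_of_le (sol_BG hm hF H)
      · rw [wG_inv, wG_eG]
        exact eG_mem_BG H _
      · rw [wG_inv]
        exact hy
    · have hsol := sol_E hm hF H hl (t := eG H l) (k := 1) (by group)
      apply sol_of_le hsol (le_normalizer hxmem)
      rw [cent_eG hm hF H hl]
      exact hy

theorem solE_card {l : Fˣ} (hl : l ≠ 1) :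
    Nat.card {y : ↥(Gs F (2 ^ (m + 1))) //
        Group.IsSolvable (closure ({eG H l, y} : Set ↥(Gs F (2 ^ (m + 1)))))}
      = 2 * (2 ^ (2 * m + 1)) ^ 2 * (2 ^ (2 * m + 1) - 1) := by
  classical
  haveI : Finite ↥(Gs F (2 ^ (m + 1))) := Finite.of_injective _ Subtype.val_injective
  haveI : Fintype ↥(Gs F (2 ^ (m + 1))) := Fintype.ofFinite _
  let SB : Finset ↥(Gs F (2 ^ (m + 1))) :=
    Finset.univ.filter (fun y => y ∈ BG F (2 ^ (m + 1)))
  let SW : Finset ↥(Gs F (2 ^ (m + 1))) :=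
    Finset.univ.filter (fun y => wG H * y * wG H ∈ BG F (2 ^ (m + 1)))
  let SN : Finset ↥(Gs F (2 ^ (m + 1))) :=
    Finset.univ.filter (fun y => y ∈ normalizer ((HG H : Subgroup ↥(Gs F (2 ^ (m + 1)))) :
          Set ↥(Gs F (2 ^ (m + 1)))))
  let SH : Finset ↥(Gs F (2 ^ (m + 1))) := Finset.univ.filter (fun y => y ∈ HG H)
  let SS : Finset ↥(Gs F (2 ^ (m + 1))) := Finset.univ.filter (fun y =>
    Group.IsSolvable (closure ({eG H l, y} : Set ↥(Gs F (2 ^ (m + 1))))))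
  have mB : ∀ y, y ∈ SB ↔ y ∈ BG F (2 ^ (m + 1)) := fun y => by simp [SB]
  have mW : ∀ y, y ∈ SW ↔ wG H * y * wG H ∈ BG F (2 ^ (m + 1)) := fun y => by simp [SW]
  have mN : ∀ y, y ∈ SN ↔ y ∈ normalizer ((HG H : Subgroup ↥(Gs F (2 ^ (m + 1)))) :
          Set ↥(Gs F (2 ^ (m + 1)))) := fun y => by simp [SN]
  have mH : ∀ y, y ∈ SH ↔ y ∈ HG H := fun y => by simp [SH]
  have mS : ∀ y, y ∈ SS ↔ Group.IsSolvable (closure ({eG H l, y} : Set ↥(Gs F (2 ^ (m + 1))))) :=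
    fun y => by simp [SS]
  have cB : SB.card = (2 ^ (2 * m + 1)) ^ 2 * (2 ^ (2 * m + 1) - 1) := by
    rw [card_filter_mem (BG F (2 ^ (m + 1))), card_BG H, hF]
  have hww : ∀ z : ↥(Gs F (2 ^ (m + 1))), wG H * (wG H * z * wG H) * wG H = z := by
    intro z
    calc wG H * (wG H * z * wG H) * wG H = (wG H * wG H) * z * (wG H * wG H) := by group
      _ = z := by rw [wG_sq, one_mul, mul_one]
  have cW : SW.card = SB.card := by
    apply Finset.card_bij (fun y _ => wG H * y * wG H)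
    · intro y hy
      rw [mB]
      exact (mW y).1 hy
    · intro y1 _ y2 _ h
      exact mul_left_cancel (mul_right_cancel h)
    · intro z hz
      refine ⟨wG H * z * wG H, ?_, hww z⟩
      rw [mW, hww]
      exact (mB z).1 hz
  have cN : SN.card = 2 * (2 ^ (2 * m + 1) - 1) := by
    rw [card_filter_mem (normalizer ((HG H : Subgroup ↥(Gs F (2 ^ (m + 1)))) :
          Set ↥(Gs F (2 ^ (m + 1))))), card_NHG H, hF]
  have cH : SH.card = 2 ^ (2 * m + 1) - 1 := by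
    rw [card_filter_mem (HG H), card_HG H, hF]
  have hHB : ∀ y, y ∈ HG H → y ∈ BG F (2 ^ (m + 1)) := by
    intro y hy
    obtain ⟨l', rfl⟩ := (mem_HG H).1 hy
    exact eG_mem_BG H l'
  have hHW : ∀ y, y ∈ HG H → wG H * y * wG H ∈ BG F (2 ^ (m + 1)) := by
    intro y hy
    obtain ⟨l', rfl⟩ := (mem_HG H).1 hy
    rw [wG_eG]
    exact eG_mem_BG H _
  have hNcase : ∀ y, y ∈ normalizer ((HG H : Subgroup ↥(Gs F (2 ^ (m + 1)))) :
          Set ↥(Gs F (2 ^ (m + 1)))) → ∃ l', y = eG H l' ∨ y = wG H * eG H l' := by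
    intro y hy
    have h1 := (mem_normalizer_iff.1 hy (eG H l)).1 ((mem_HG H).2 ⟨l, rfl⟩)
    obtain ⟨l1, h2⟩ := (mem_HG H).1 h1
    exact norm_torus H hl h2
  have iBW : SB ∩ SW = SH := by
    ext y
    rw [Finset.mem_inter, mB, mW, mH]
    constructor
    · rintro ⟨h1, h2⟩
      have h1' : y.1 • inf F = inf F := h1
      have h2' : (wS F * y.1 * wS F) • inf F = inf F := h2
      rw [mul_smul, mul_smul, wS_smul_inf H] at h2'
      have h3 : y.1 • P (2 ^ (m + 1)) (0 : F) 0 = P (2 ^ (m + 1)) 0 0 := by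
        have h4 : wS F • (wS F • (y.1 • P (2 ^ (m + 1)) (0 : F) 0)) = wS F • inf F :=
          congrArg (fun p => wS F • p) h2'
        rw [← mul_smul, wS_mul_self, one_smul, wS_smul_inf H] at h4
        exact h4
      obtain ⟨l', hl'⟩ := fixG H h1' h3
      exact (mem_HG H).2 ⟨l', hl'⟩
    · intro hy
      exact ⟨hHB y hy, hHW y hy⟩
  have iBN : SB ∩ SN = SH := by
    ext y
    rw [Finset.mem_inter, mB, mN, mH]
    constructor
    · rintro ⟨h1, h2⟩
      obtain ⟨l', h3 | h3⟩ := hNcase y h2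
      · exact (mem_HG H).2 ⟨l', h3⟩
      · exfalso
        apply wG_not_mem_BG H
        have e : wG H = y * (eG H l')⁻¹ := by
          rw [h3]
          group
        rw [e]
        exact mul_mem h1 (inv_mem (eG_mem_BG H l'))
    · intro hy
      exact ⟨hHB y hy, le_normalizer hy⟩
  have iWN : SW ∩ SN = SH := by
    ext y
    rw [Finset.mem_inter, mW, mN, mH]
    constructor
    · rintro ⟨h1, h2⟩
      obtain ⟨l', h3 | h3⟩ := hNcase y h2
      · exact (mem_HG H).2 ⟨l', h3⟩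
      · exfalso
        apply wG_not_mem_BG H
        have e : wG H = (eG H l')⁻¹ * (wG H * y * wG H) := by
          rw [h3]
          calc wG H = (eG H l')⁻¹ * ((wG H * wG H) * eG H l' * wG H) := by
                rw [wG_sq]
                group
            _ = (eG H l')⁻¹ * (wG H * (wG H * eG H l') * wG H) := by group
        rw [e]
        exact mul_mem (inv_mem (eG_mem_BG H l')) h1
    · intro hy
      exact ⟨hHW y hy, le_normalizer hy⟩
  have hSS : SS = (SB ∪ SW) ∪ SN := by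
    ext y
    rw [mS, Finset.mem_union, Finset.mem_union, mB, mW, mN, solE_iff hm hF H hl y, or_assoc]
  have hcard : Nat.card {y : ↥(Gs F (2 ^ (m + 1))) //
        Group.IsSolvable (closure ({eG H l, y} : Set ↥(Gs F (2 ^ (m + 1)))))} = SS.card := by
    rw [Nat.card_eq_fintype_card]
    exact Fintype.card_of_subtype _ (fun y => mS y)
  have h1 := Finset.card_union_add_card_inter SB SW
  have h2 := Finset.card_union_add_card_inter (SB ∪ SW) SN
  have h3 : (SB ∪ SW) ∩ SN = SH := by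
    rw [Finset.union_inter_distrib_right, iBN, iWN, Finset.union_self]
  rw [hcard, hSS]
  rw [iBW, cW, cB, cH] at h1
  rw [h3, cN, cH] at h2
  rw [mul_assoc]
  generalize (2 ^ (2 * m + 1)) ^ 2 * (2 ^ (2 * m + 1) - 1) = B at h1 h2 ⊢
  omega

theorem sol_card_E (x : ↥(Gs F (2 ^ (m + 1)))) (hx : x ≠ 1)
    (hord : orderOf x ∣ 2 ^ (2 * m + 1) - 1) :
    Nat.card {y : ↥(Gs F (2 ^ (m + 1))) //
        Group.IsSolvable (closure ({x, y} : Set ↥(Gs F (2 ^ (m + 1)))))}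
      = 2 * (2 ^ (2 * m + 1)) ^ 2 * (2 ^ (2 * m + 1) - 1) := by
  obtain ⟨hq8, hqe, -, -⟩ := q_facts m hm
  have hxq : x ^ (2 ^ (2 * m + 1) - 1) = 1 := orderOf_dvd_iff_pow_eq_one.1 hord
  have hodd := odd_q1 hm hF H
  rcases classify hm hF H x hx with hxN | ⟨k, a, b, hab, hk⟩ | ⟨k, l, hl, hk⟩
  · exfalso
    apply hx
    apply eq_one_of_pows (coprime_rest hq8 hqe) hxN
    rw [mul_comm, pow_mul, hxq, one_pow]
  · exfalso
    exact hx (odd_four hodd (pow_rest_t hm hF H hk) hxq)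
  · rw [← sol_card_conj k x, hk]
    exact solE_card hm hF H hl

end geom

end Cfsg.Agent.Lib.helper25.SzSol
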