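import Mathlib
import Cfsg.Agent.Lib.helper25.SzSol3

/-!
# Abstract tori: involutions and elements of order four in the normalizer (library, seat helper25)
-/

set_option autoImplicit false
set_option linter.unusedSectionVars false
set_option linter.unusedSimpArgs false
set_option linter.style.haveILetI false

namespace Cfsg.Agent.Lib.helper25.SzSol

open Cfsg.Agent.Lib.helper25.SzPart
open Subgroup

namespace Tor

variable {G : Type*} [Group G] {A : Subgroup G}

theorem invol_triv (h : Tor A) {z : G} (hz : z ∈ A) (hz2 : z * z = 1) : z = 1 := by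
  apply h.odd z hz
  have e4 : z ^ 4 = (z ^ 2) ^ 2 := pow_mul z 2 2
  rw [e4, pow_two z, hz2, one_pow]

/-- an involution normalizing a torus from outside inverts it -/
theorem inverts (h : Tor A) {z : G} (hz : z ∈ normalizer (A : Set G)) (hzA : z ∉ A)
    (hz2 : z * z = 1) {a : G} (ha : a ∈ A) : z * a * z⁻¹ = a⁻¹ := by
  have hza : z * a * z⁻¹ ∈ A := (mem_normalizer_iff.1 hz a).1 ha
  have hzinv : z⁻¹ = z := inv_eq_of_mul_eq_one_right hz2
  by_contra hne
  have hc1 : a * (z * a * z⁻¹) ≠ 1 := by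
    intro h1
    apply hne
    exact (inv_eq_of_mul_eq_one_right h1).symm
  have hcA : a * (z * a * z⁻¹) ∈ A := mul_mem ha hza
  have hcomm : z * (a * (z * a * z⁻¹)) = (a * (z * a * z⁻¹)) * z := by
    have h1 := h.comm a ha _ hza
    calc z * (a * (z * a * z⁻¹)) = z * ((z * a * z⁻¹) * a) := by rw [h1]
      _ = (z * z) * a * z⁻¹ * a := by group
      _ = a * z * a := by rw [hz2, one_mul, hzinv]
      _ = (a * (z * a * z⁻¹)) * z := by group
  exact hzA (h.cent _ hcA hc1 z hcomm)

/-- two involutions outside a torus normalizing it differ by an element of the torus -/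
theorem invol_coset (h : Tor A) {z0 z : G} (hz0 : z0 ∈ normalizer (A : Set G)) (hz0A : z0 ∉ A)
    (hz02 : z0 * z0 = 1) (hz : z ∈ normalizer (A : Set G)) (hzA : z ∉ A) (hz2 : z * z = 1) :
    z0⁻¹ * z ∈ A := by
  obtain ⟨a, ha, ha1⟩ := h.ne
  apply h.cent a ha ha1
  have h1 := h.inverts hz hzA hz2 ha
  have h2 := h.inverts hz0 hz0A hz02 (inv_mem ha)
  have hz0inv : z0⁻¹ = z0 := inv_eq_of_mul_eq_one_right hz02
  have h3 : z0 * a⁻¹ = a * z0 := by
    have e : z0 * a⁻¹ = (z0 * a⁻¹ * z0⁻¹) * z0 := by group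
    rw [e, h2, inv_inv]
  calc z0⁻¹ * z * a = z0⁻¹ * (z * a * z⁻¹) * z := by group
    _ = z0 * a⁻¹ * z := by rw [h1, hz0inv]
    _ = a * z0 * z := by rw [h3]
    _ = a * (z0⁻¹ * z) := by rw [hz0inv, mul_assoc]

theorem invol_mul (h : Tor A) {z0 : G} (hz0 : z0 ∈ normalizer (A : Set G)) (hz0A : z0 ∉ A)
    (hz02 : z0 * z0 = 1) {a : G} (ha : a ∈ A) : (z0 * a) * (z0 * a) = 1 := by
  have h1 := h.inverts hz0 hz0A hz02 ha
  have hz0inv : z0⁻¹ = z0 := inv_eq_of_mul_eq_one_right hz02
  rw [hz0inv] at h1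
  calc z0 * a * (z0 * a) = (z0 * a * z0) * a := by group
    _ = 1 := by rw [h1, inv_mul_cancel]

/-- the involutions in the normalizer of a torus form one coset of the torus -/
theorem card_invol [Finite G] (h : Tor A) (heven : 2 ∣ Nat.card (normalizer (A : Set G))) :
    Nat.card {z : G // z ∈ normalizer (A : Set G) ∧ z ≠ 1 ∧ z * z = 1} = Nat.card A := by
  haveI : Fact (Nat.Prime 2) := ⟨Nat.prime_two⟩
  obtain ⟨z0', hz0'⟩ := exists_prime_orderOf_dvd_card' 2 heven
  have hz0 : (z0' : G) ∈ normalizer (A : Set G) := z0'.2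
  have hz02 : (z0' : G) * z0' = 1 := by
    have h1 := pow_orderOf_eq_one z0'
    rw [hz0', pow_two] at h1
    exact congrArg Subtype.val h1
  have hz01 : (z0' : G) ≠ 1 := by
    intro h1
    have h2 : z0' = 1 := Subtype.ext h1
    rw [h2, orderOf_one] at hz0'
    omega
  have hz0A : (z0' : G) ∉ A := fun hA => hz01 (h.invol_triv hA hz02)
  apply Nat.card_congr
  refine ⟨fun z => ⟨(z0' : G)⁻¹ * z.1, ?_⟩, fun a => ⟨(z0' : G) * a.1, ?_, ?_, ?_⟩, ?_, ?_⟩
  · obtain ⟨z, hzN, hz1, hz2⟩ := z
    have hzA : z ∉ A := fun hA => hz1 (h.invol_triv hA hz2)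
    exact h.invol_coset hz0 hz0A hz02 hzN hzA hz2
  · exact mul_mem hz0 (le_normalizer a.2)
  · intro h1
    apply hz0A
    have h2 : (z0' : G) = a.1⁻¹ := eq_inv_of_mul_eq_one_left h1
    rw [h2]
    exact inv_mem a.2
  · exact h.invol_mul hz0 hz0A hz02 a.2
  · intro z
    apply Subtype.ext
    show (z0' : G) * ((z0' : G)⁻¹ * z.1) = z.1
    group
  · intro a
    apply Subtype.ext
    show (z0' : G)⁻¹ * ((z0' : G) * a.1) = a.1
    group

/-- the elements of order four in the normalizer of a torus -/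
theorem card_four [Finite G] (h : Tor A) {k : ℕ}
    (hk : Nat.card (normalizer (A : Set G)) = k * Nat.card A) (heven : 2 ∣ k) :
    Nat.card {z : G // z ∈ normalizer (A : Set G) ∧ z ^ 4 = 1 ∧ z * z ≠ 1} + 2 * Nat.card A
      = k * Nat.card A := by
  classical
  haveI : Fintype G := Fintype.ofFinite G
  have heven' : 2 ∣ Nat.card (normalizer (A : Set G)) := by
    rw [hk]
    exact dvd_mul_of_dvd_left heven _
  let N : Finset G := Finset.univ.filter (fun z => z ∈ normalizer (A : Set G))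
  have e1 := Finset.card_filter_add_card_filter_not (s := N) (fun z => z ∈ A)
  have e2 := Finset.card_filter_add_card_filter_not (s := N.filter (fun z => ¬ z ∈ A))
    (fun z => z * z = 1)
  have c1 : (N.filter (fun z => z ∈ A)).card = Nat.card A := by
    rw [← card_filter_mem A]
    congr 1
    ext z
    simp only [N, Finset.mem_filter, Finset.mem_univ, true_and]
    exact ⟨fun hh => hh.2, fun hh => ⟨le_normalizer hh, hh⟩⟩
  have c2 : ((N.filter (fun z => ¬ z ∈ A)).filter (fun z => z * z = 1)).card = Nat.card A := by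
    rw [← h.card_invol heven', Nat.card_eq_fintype_card]
    symm
    apply Fintype.card_of_subtype
    intro z
    simp only [N, Finset.mem_filter, Finset.mem_univ, true_and]
    constructor
    · rintro ⟨⟨hN, hA⟩, h2⟩
      exact ⟨hN, fun h1 => hA (h1 ▸ A.one_mem), h2⟩
    · rintro ⟨hN, h1, h2⟩
      exact ⟨⟨hN, fun hA => h1 (h.invol_triv hA h2)⟩, h2⟩
  have c3 : ((N.filter (fun z => ¬ z ∈ A)).filter (fun z => ¬ z * z = 1)).card
      = Nat.card {z : G // z ∈ normalizer (A : Set G) ∧ z ^ 4 = 1 ∧ z * z ≠ 1} := by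
    rw [Nat.card_eq_fintype_card]
    symm
    apply Fintype.card_of_subtype
    intro z
    simp only [N, Finset.mem_filter, Finset.mem_univ, true_and]
    constructor
    · rintro ⟨⟨hN, hA⟩, h2⟩
      exact ⟨hN, h.out z hN hA, h2⟩
    · rintro ⟨hN, h4, h2⟩
      refine ⟨⟨hN, fun hA => h2 ?_⟩, h2⟩
      rw [h.odd z hA h4, one_mul]
  have cN : N.card = k * Nat.card A := by
    rw [card_filter_mem (normalizer (A : Set G)), hk]
  rw [c1] at e1
  rw [c2, c3] at e2
  rw [cN] at e1
  omega

end Tor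

end Cfsg.Agent.Lib.helper25.SzSol
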