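import Mathlib
import Cfsg.Agent.Lib.helper25.SzSol4

/-!
# Suzuki groups: tori normalized by a `2`-element (library, seat helper25)
-/

set_option autoImplicit false
set_option linter.unusedSectionVars false
set_option linter.unusedSimpArgs false
set_option linter.style.haveILetI false

namespace Cfsg.Agent.Lib.helper25.SzSol

open Cfsg.Agent.Lib.helper2.Suzuki
open Cfsg.Agent.Lib.helper2
open Cfsg.Agent.Lib.helper25.SzOut
open Cfsg.Agent.Lib.helper25.SzCover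
open Cfsg.Agent.Lib.helper25.SzPart
open Subgroup

/-- a conjugacy-closed class of toral elements with tori of size `a` and normalizers of size
`k a` -/
structure Cls {F : Type*} [Field F] {m : ℕ} (X : Set ↥(Gs F (2 ^ (m + 1)))) (a k : ℕ) :
    Prop where
  ne1 : ∀ t ∈ X, t ≠ 1
  tor : ∀ t ∈ X, Tor (centralizer ({t} : Set ↥(Gs F (2 ^ (m + 1)))))
  conj : ∀ t ∈ X, ∀ g : ↥(Gs F (2 ^ (m + 1))), g * t * g⁻¹ ∈ X
  same : ∀ t ∈ X, ∀ t' ∈ centralizer ({t} : Set ↥(Gs F (2 ^ (m + 1)))), t' ≠ 1 → t' ∈ X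
  cardC : ∀ t ∈ X, Nat.card (centralizer ({t} : Set ↥(Gs F (2 ^ (m + 1))))) = a
  cardN : ∀ t ∈ X, Nat.card (normalizer ((centralizer ({t} : Set ↥(Gs F (2 ^ (m + 1)))) :
    Subgroup ↥(Gs F (2 ^ (m + 1)))) : Set ↥(Gs F (2 ^ (m + 1))))) = k * a
  k24 : k = 2 ∨ k = 4
  a2 : 2 ≤ a

section geom

variable {F : Type*} [Field F] [Fintype F] {m : ℕ} (hm : 1 ≤ m)
  (hF : Fintype.card F = 2 ^ (2 * m + 1)) (H : Hyp F (2 ^ (m + 1)))
include hm hF H

theorem fix_inf_of_BG {h : ↥(Gs F (2 ^ (m + 1)))} {a b : F}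
    (hn : h * tG H a b * h⁻¹ ∈ BG F (2 ^ (m + 1))) (hab : ¬ (a = 0 ∧ b = 0)) :
    h ∈ BG F (2 ^ (m + 1)) := by
  have hs := s_ne_zero H
  have h1 : (h * tG H a b * h⁻¹).1 • inf F = inf F := hn
  have h2 : (tS (2 ^ (m + 1)) a b) • (h.1⁻¹ • inf F) = h.1⁻¹ • inf F := by
    have e : (h * tG H a b * h⁻¹).1 = h.1 * tS (2 ^ (m + 1)) a b * h.1⁻¹ := rfl
    rw [e, mul_smul, mul_smul] at h1
    have h5 := congrArg (fun p => h.1⁻¹ • p) h1
    simp only [inv_smul_smul] at h5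
    exact h5
  have h3 : h.1⁻¹ • inf F ∈ ov F (2 ^ (m + 1)) :=
    mem_Gs_iff.1 (inv_mem h.2) _ (inf_mem (2 ^ (m + 1)))
  rcases (mem_ov (2 ^ (m + 1))).1 h3 with h4 | ⟨x, y, h4⟩
  · rw [inv_smul_eq_iff] at h4
    exact h4.symm
  · exfalso
    rw [h4, tS_smul_P H] at h2
    obtain ⟨e1, e2⟩ := P_inj (2 ^ (m + 1)) h2
    have ha : a = 0 := by linear_combination e1
    rw [ha, zero_pow hs, zero_mul] at e2
    have hb : b = 0 := by linear_combination e2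
    exact hab ⟨ha, hb⟩

theorem solT_iff {a0 b0 : F} (hab : ¬ (a0 = 0 ∧ b0 = 0)) (y : ↥(Gs F (2 ^ (m + 1)))) :
    Group.IsSolvable (closure ({tG H a0 b0, y} : Set ↥(Gs F (2 ^ (m + 1))))) ↔
      (y ∈ BG F (2 ^ (m + 1)) ∨
      (∃ t : ↥(Gs F (2 ^ (m + 1))), t ≠ 1 ∧ t ^ ((2 ^ (2 * m + 1)) ^ 2 + 1) = 1 ∧
        tG H a0 b0 ∈ normalizer ((centralizer ({t} : Set ↥(Gs F (2 ^ (m + 1)))) :
          Subgroup ↥(Gs F (2 ^ (m + 1)))) : Set ↥(Gs F (2 ^ (m + 1)))) ∧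
        y ∈ normalizer ((centralizer ({t} : Set ↥(Gs F (2 ^ (m + 1)))) :
          Subgroup ↥(Gs F (2 ^ (m + 1)))) : Set ↥(Gs F (2 ^ (m + 1))))) ∨
      (∃ (t k : ↥(Gs F (2 ^ (m + 1)))) (l : Fˣ), l ≠ 1 ∧ k * t * k⁻¹ = eG H l ∧
        tG H a0 b0 ∈ normalizer ((centralizer ({t} : Set ↥(Gs F (2 ^ (m + 1)))) :
          Subgroup ↥(Gs F (2 ^ (m + 1)))) : Set ↥(Gs F (2 ^ (m + 1)))) ∧
        y ∈ normalizer ((centralizer ({t} : Set ↥(Gs F (2 ^ (m + 1)))) :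
          Subgroup ↥(Gs F (2 ^ (m + 1)))) : Set ↥(Gs F (2 ^ (m + 1)))))) := by
  constructor
  · intro hs
    rcases sol_local hm hF H (tG_ne_one H hab) hs with
      ⟨t, ht1, htN, hxt, hyt⟩ | ⟨t, k, l, hl, hk, hxt, hyt⟩ | ⟨g, hgx, hgy⟩
    · exact Or.inr (Or.inl ⟨t, ht1, htN, hxt, hyt⟩)
    · exact Or.inr (Or.inr ⟨t, k, l, hl, hk, hxt, hyt⟩)
    · left
      have hg := fix_inf_of_BG hm hF H hgx hab
      have e : y = g⁻¹ * (g * y * g⁻¹) * g := by group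
      rw [e]
      exact mul_mem (mul_mem (inv_mem hg) hgy) hg
  · rintro (hy | ⟨t, ht1, htN, hxt, hyt⟩ | ⟨t, k, l, hl, hk, hxt, hyt⟩)
    · exact sol_of_le (sol_BG hm hF H) (tG_mem_BG H a0 b0) hy
    · exact sol_of_le (sol_N hm hF H ht1 htN) hxt hyt
    · exact sol_of_le (sol_E hm hF H hl hk) hxt hyt

/-- two distinct tori normalized by a common `2`-element: the common normalizing elements are
`2`-elements of the same Sylow subgroup -/
theorem inter_UG {A A' : Subgroup ↥(Gs F (2 ^ (m + 1)))} (hA : Tor A) (hA' : Tor A')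
    (hne : A ≠ A') {a0 b0 : F} (hab : ¬ (a0 = 0 ∧ b0 = 0))
    (hx : tG H a0 b0 ∈ normalizer (A : Set ↥(Gs F (2 ^ (m + 1)))))
    (hx' : tG H a0 b0 ∈ normalizer (A' : Set ↥(Gs F (2 ^ (m + 1)))))
    {y : ↥(Gs F (2 ^ (m + 1)))} (hy : y ∈ normalizer (A : Set ↥(Gs F (2 ^ (m + 1)))))
    (hy' : y ∈ normalizer (A' : Set ↥(Gs F (2 ^ (m + 1))))) : y ∈ UG H := by
  haveI : Finite ↥(Gs F (2 ^ (m + 1))) := Finite.of_injective _ Subtype.val_injective
  haveI : Fact (Nat.Prime 2) := ⟨Nat.prime_two⟩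
  let Q : Subgroup ↥(Gs F (2 ^ (m + 1))) :=
    normalizer (A : Set ↥(Gs F (2 ^ (m + 1)))) ⊓ normalizer (A' : Set ↥(Gs F (2 ^ (m + 1))))
  have hQ4 : ∀ z ∈ Q, z ^ 4 = 1 := fun z hz => hA.two_of_inter hA' hne hz.1 hz.2
  have hp : IsPGroup 2 ↥Q := by
    intro z
    refine ⟨2, ?_⟩
    apply Subtype.ext
    show (z.1) ^ (2 ^ 2) = 1
    exact hQ4 z.1 z.2
  have hnil : Group.IsNilpotent ↥Q := hp.isNilpotent
  have hxQ : (1 : ↥(Gs F (2 ^ (m + 1)))) * tG H a0 b0 * 1⁻¹ ∈ Q := by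
    rw [one_mul, inv_one, mul_one]
    exact ⟨hx, hx'⟩
  obtain ⟨a', b', h⟩ := nil_sub_t H hnil hab hxQ y ⟨hy, hy'⟩
  rw [inv_one, one_mul, mul_one] at h
  exact (mem_UG H).2 ⟨a', b', h⟩

theorem tor_inter_BG {A : Subgroup ↥(Gs F (2 ^ (m + 1)))} (hA : Tor A) {a0 b0 : F}
    (hab : ¬ (a0 = 0 ∧ b0 = 0))
    (hx : tG H a0 b0 ∈ normalizer (A : Set ↥(Gs F (2 ^ (m + 1)))))
    {z : ↥(Gs F (2 ^ (m + 1)))} (hz : z ∈ A) (hzB : z ∈ BG F (2 ^ (m + 1))) : z = 1 := by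
  by_contra hz1
  have hxU : tG H a0 b0 ∈ UG H := (mem_UG H).2 ⟨a0, b0, rfl⟩
  have hxz : tG H a0 b0 * z * (tG H a0 b0)⁻¹ ∈ A := (mem_normalizer_iff.1 hx z).1 hz
  have hcA : tG H a0 b0 * z * (tG H a0 b0)⁻¹ * z⁻¹ ∈ A := mul_mem hxz (inv_mem hz)
  have hcU : tG H a0 b0 * z * (tG H a0 b0)⁻¹ * z⁻¹ ∈ UG H := by
    have e : tG H a0 b0 * z * (tG H a0 b0)⁻¹ * z⁻¹
        = tG H a0 b0 * (z * (tG H a0 b0)⁻¹ * z⁻¹) := by group
    rw [e]
    exact mul_mem hxU (BG_conj H hzB (inv_mem hxU))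
  obtain ⟨a', b', hc⟩ := (mem_UG H).1 hcU
  have hc1 : tG H a0 b0 * z * (tG H a0 b0)⁻¹ * z⁻¹ = 1 := by
    apply hA.odd _ hcA
    rw [hc]
    exact tG_pow_four H a' b'
  have hcomm : tG H a0 b0 * z = z * tG H a0 b0 := by
    have e : tG H a0 b0 * z
        = (tG H a0 b0 * z * (tG H a0 b0)⁻¹ * z⁻¹) * (z * tG H a0 b0) := by group
    rw [e, hc1, one_mul]
  have hxA : tG H a0 b0 ∈ A := hA.cent z hz hz1 _ hcomm
  exact tG_ne_one H hab (hA.odd _ hxA (tG_pow_four H a0 b0))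

theorem card_norm_inter {A : Subgroup ↥(Gs F (2 ^ (m + 1)))} (hA : Tor A) {k : ℕ}
    (hk : k = 2 ∨ k = 4)
    (hc : Nat.card (normalizer (A : Set ↥(Gs F (2 ^ (m + 1))))) = k * Nat.card A)
    {a0 b0 : F} (hab : ¬ (a0 = 0 ∧ b0 = 0))
    (hx : tG H a0 b0 ∈ normalizer (A : Set ↥(Gs F (2 ^ (m + 1))))) :
    Nat.card {y : ↥(Gs F (2 ^ (m + 1))) //
        y ∈ normalizer (A : Set ↥(Gs F (2 ^ (m + 1)))) ∧ y ∉ BG F (2 ^ (m + 1))} + k
      = k * Nat.card A := by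
  classical
  haveI : Finite ↥(Gs F (2 ^ (m + 1))) := Finite.of_injective _ Subtype.val_injective
  haveI : Fintype ↥(Gs F (2 ^ (m + 1))) := Fintype.ofFinite _
  haveI : Fact (Nat.Prime 2) := ⟨Nat.prime_two⟩
  have hx1 : tG H a0 b0 ≠ 1 := tG_ne_one H hab
  have hx4 : (tG H a0 b0) ^ 4 = 1 := tG_pow_four H a0 b0
  let D : Subgroup ↥(Gs F (2 ^ (m + 1))) :=
    normalizer (A : Set ↥(Gs F (2 ^ (m + 1)))) ⊓ BG F (2 ^ (m + 1))
  have hle : Nat.card D ≤ k := by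
    have hinj : Function.Injective (fun p : ↥D × ↥A =>
        (⟨p.1.1 * p.2.1, mul_mem p.1.2.1 (le_normalizer p.2.2)⟩ :
          ↥(normalizer (A : Set ↥(Gs F (2 ^ (m + 1))))))) := by
      rintro ⟨d, a⟩ ⟨d', a'⟩ hp
      have hp' : d.1 * a.1 = d'.1 * a'.1 := congrArg Subtype.val hp
      have h1 : d'.1⁻¹ * d.1 = a'.1 * a.1⁻¹ := by
        have e : d'.1⁻¹ * d.1 = d'.1⁻¹ * (d.1 * a.1) * a.1⁻¹ := by group
        rw [e, hp']
        group
      have h2 : d'.1⁻¹ * d.1 = 1 := by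
        apply tor_inter_BG hm hF H hA hab hx
        · rw [h1]
          exact mul_mem a'.2 (inv_mem a.2)
        · exact mul_mem (inv_mem d'.2.2) d.2.2
      have hd : d = d' := by
        apply Subtype.ext
        exact (inv_mul_eq_one.1 h2).symm
      have ha : a = a' := by
        apply Subtype.ext
        rw [hd] at hp'
        exact mul_left_cancel hp'
      rw [hd, ha]
    have h3 := Nat.card_le_card_of_injective _ hinj
    rw [Nat.card_prod, hc] at h3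
    have hpos : 0 < Nat.card A := Nat.card_pos
    exact Nat.le_of_mul_le_mul_right h3 hpos
  have hx2 : k = 2 → tG H a0 b0 * tG H a0 b0 = 1 := by
    intro hk2
    by_contra hne
    have h4 := hA.card_four hc (by rw [hk2])
    rw [hk2] at h4
    have h0 : Nat.card {z : ↥(Gs F (2 ^ (m + 1))) //
        z ∈ normalizer (A : Set ↥(Gs F (2 ^ (m + 1)))) ∧ z ^ 4 = 1 ∧ z * z ≠ 1} = 0 := by
      omega
    have hne0 : Nat.card {z : ↥(Gs F (2 ^ (m + 1))) //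
        z ∈ normalizer (A : Set ↥(Gs F (2 ^ (m + 1)))) ∧ z ^ 4 = 1 ∧ z * z ≠ 1} ≠ 0 := by
      haveI : Nonempty {z : ↥(Gs F (2 ^ (m + 1))) //
        z ∈ normalizer (A : Set ↥(Gs F (2 ^ (m + 1)))) ∧ z ^ 4 = 1 ∧ z * z ≠ 1} :=
        ⟨⟨_, hx, hx4, hne⟩⟩
      exact Nat.card_pos.ne'
    exact hne0 h0
  have hge : k ≤ Nat.card D := by
    let x' : ↥(normalizer (A : Set ↥(Gs F (2 ^ (m + 1))))) := ⟨tG H a0 b0, hx⟩
    have main : ∀ e : ℕ, k = 2 ^ e → (∃ n, n ≤ e ∧ orderOf x' = 2 ^ n) → k ≤ Nat.card D := by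
      rintro e hke ⟨n, hn, hord⟩
      have hdvd : 2 ^ e ∣ Nat.card ↥(normalizer (A : Set ↥(Gs F (2 ^ (m + 1))))) := by
        rw [hc, ← hke]
        exact dvd_mul_right _ _
      have hZ : Nat.card (zpowers x') = 2 ^ n := by rw [Nat.card_zpowers, hord]
      obtain ⟨K, hK, hZK⟩ := Sylow.exists_subgroup_card_pow_prime_le 2 hdvd (zpowers x') hZ hn
      have hKc : ∀ u v : ↥K, u * v = v * u := by
        apply comm_of_card
        rw [hK, ← hke]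
        rcases hk with h | h
        · right; left; exact h
        · right; right; exact h
      have hxK : x' ∈ K := hZK (mem_zpowers x')
      have hKB : ∀ κ : ↥K, (κ.1.1 : ↥(Gs F (2 ^ (m + 1)))) ∈ BG F (2 ^ (m + 1)) := by
        intro κ
        have h1 := hKc κ ⟨x', hxK⟩
        have h2 : (κ.1.1 : ↥(Gs F (2 ^ (m + 1)))) * tG H a0 b0 = tG H a0 b0 * κ.1.1 :=
          congrArg (fun u : ↥K => (u.1.1 : ↥(Gs F (2 ^ (m + 1))))) h1
        obtain ⟨a', b', h3⟩ := centG_t H hab h2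
        rw [h3]
        exact tG_mem_BG H a' b'
      have hinj : Function.Injective (fun κ : ↥K => (⟨κ.1.1, ⟨κ.1.2, hKB κ⟩⟩ : ↥D)) := by
        intro κ κ' hh
        apply Subtype.ext
        apply Subtype.ext
        exact congrArg (fun d : ↥D => (d.1 : ↥(Gs F (2 ^ (m + 1))))) hh
      have h3 := Nat.card_le_card_of_injective _ hinj
      rw [hK, ← hke] at h3
      exact h3
    rcases hk with hk2 | hk4
    · apply main 1 (by rw [hk2]; norm_num)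
      have h2 : x' ^ 2 = 1 := by
        apply Subtype.ext
        show (tG H a0 b0) ^ 2 = 1
        rw [pow_two]
        exact hx2 hk2
      have hd : orderOf x' ∣ 2 ^ 1 := by
        rw [pow_one]
        exact orderOf_dvd_of_pow_eq_one h2
      exact (Nat.dvd_prime_pow Nat.prime_two).1 hd
    · apply main 2 (by rw [hk4]; norm_num)
      have h4 : x' ^ 4 = 1 := Subtype.ext hx4
      have hd : orderOf x' ∣ 2 ^ 2 := by
        have e : (2 : ℕ) ^ 2 = 4 := by norm_num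
        rw [e]
        exact orderOf_dvd_of_pow_eq_one h4
      exact (Nat.dvd_prime_pow Nat.prime_two).1 hd
  have hD : Nat.card D = k := le_antisymm hle hge
  let N : Finset ↥(Gs F (2 ^ (m + 1))) :=
    Finset.univ.filter (fun z => z ∈ normalizer (A : Set ↥(Gs F (2 ^ (m + 1)))))
  have e1 := Finset.card_filter_add_card_filter_not (s := N) (fun z => z ∈ BG F (2 ^ (m + 1)))
  have c1 : (N.filter (fun z => z ∈ BG F (2 ^ (m + 1)))).card = k := by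
    rw [← hD, ← card_filter_mem D]
    congr 1
    ext z
    simp only [N, Finset.mem_filter, Finset.mem_univ, true_and]
    exact ⟨fun hh => ⟨hh.1, hh.2⟩, fun hh => ⟨hh.1, hh.2⟩⟩
  have c2 : (N.filter (fun z => ¬ z ∈ BG F (2 ^ (m + 1)))).card
      = Nat.card {y : ↥(Gs F (2 ^ (m + 1))) //
        y ∈ normalizer (A : Set ↥(Gs F (2 ^ (m + 1)))) ∧ y ∉ BG F (2 ^ (m + 1))} := by
    rw [Nat.card_eq_fintype_card]
    symm
    apply Fintype.card_of_subtype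
    intro z
    simp only [N, Finset.mem_filter, Finset.mem_univ, true_and]
  have cN : N.card = k * Nat.card A := by
    rw [card_filter_mem (normalizer (A : Set ↥(Gs F (2 ^ (m + 1))))), hc]
  rw [c1, c2, cN] at e1
  omega

theorem card_T_conj {X : Set ↥(Gs F (2 ^ (m + 1)))} {a k : ℕ} (C : Cls X a k)
    (g x : ↥(Gs F (2 ^ (m + 1)))) :
    Nat.card {t : ↥(Gs F (2 ^ (m + 1))) // t ∈ X ∧
        g * x * g⁻¹ ∈ normalizer ((centralizer ({t} : Set ↥(Gs F (2 ^ (m + 1)))) :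
          Subgroup ↥(Gs F (2 ^ (m + 1)))) : Set ↥(Gs F (2 ^ (m + 1))))}
      = Nat.card {t : ↥(Gs F (2 ^ (m + 1))) // t ∈ X ∧
        x ∈ normalizer ((centralizer ({t} : Set ↥(Gs F (2 ^ (m + 1)))) :
          Subgroup ↥(Gs F (2 ^ (m + 1)))) : Set ↥(Gs F (2 ^ (m + 1))))} := by
  apply Nat.card_congr
  exact ((MulAut.conj g).symm.toEquiv.subtypeEquiv (fun t => by
    show (t ∈ X ∧ g * x * g⁻¹ ∈ normalizer ((centralizer ({t} : Set ↥(Gs F (2 ^ (m + 1)))) :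
          Subgroup ↥(Gs F (2 ^ (m + 1)))) : Set ↥(Gs F (2 ^ (m + 1))))) ↔
      (g⁻¹ * t * g ∈ X ∧ x ∈ normalizer ((centralizer ({g⁻¹ * t * g} :
          Set ↥(Gs F (2 ^ (m + 1)))) :
          Subgroup ↥(Gs F (2 ^ (m + 1)))) : Set ↥(Gs F (2 ^ (m + 1)))))
    have e1 : g⁻¹ * (g * x * g⁻¹) * g⁻¹⁻¹ = x := by group
    have e2 : g⁻¹ * t * g⁻¹⁻¹ = g⁻¹ * t * g := by rw [inv_inv]
    have h := mem_norm_cent_conj g⁻¹ t (g * x * g⁻¹)
    rw [e1, e2] at h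
    constructor
    · rintro ⟨htX, hx⟩
      refine ⟨?_, h.1 hx⟩
      have h3 := C.conj t htX g⁻¹
      rw [e2] at h3
      exact h3
    · rintro ⟨htX, hx⟩
      refine ⟨?_, h.2 hx⟩
      have h3 := C.conj _ htX g
      have e3 : g * (g⁻¹ * t * g) * g⁻¹ = t := by group
      rw [e3] at h3
      exact h3))

/-- the elements outside the Borel subgroup generating a solvable group with `x` through a
torus of a given class -/
theorem card_R {X : Set ↥(Gs F (2 ^ (m + 1)))} {a k : ℕ} (C : Cls X a k) {a0 b0 : F}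
    (hab : ¬ (a0 = 0 ∧ b0 = 0)) :
    Nat.card {y : ↥(Gs F (2 ^ (m + 1))) // y ∉ BG F (2 ^ (m + 1)) ∧ ∃ t ∈ X,
        tG H a0 b0 ∈ normalizer ((centralizer ({t} : Set ↥(Gs F (2 ^ (m + 1)))) :
          Subgroup ↥(Gs F (2 ^ (m + 1)))) : Set ↥(Gs F (2 ^ (m + 1)))) ∧
        y ∈ normalizer ((centralizer ({t} : Set ↥(Gs F (2 ^ (m + 1)))) :
          Subgroup ↥(Gs F (2 ^ (m + 1)))) : Set ↥(Gs F (2 ^ (m + 1))))}
      = k * Nat.card {t : ↥(Gs F (2 ^ (m + 1))) // t ∈ X ∧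
        tG H a0 b0 ∈ normalizer ((centralizer ({t} : Set ↥(Gs F (2 ^ (m + 1)))) :
          Subgroup ↥(Gs F (2 ^ (m + 1)))) : Set ↥(Gs F (2 ^ (m + 1))))} := by
  classical
  haveI : Finite ↥(Gs F (2 ^ (m + 1))) := Finite.of_injective _ Subtype.val_injective
  haveI : Fintype ↥(Gs F (2 ^ (m + 1))) := Fintype.ofFinite _
  let R : Finset ↥(Gs F (2 ^ (m + 1))) := Finset.univ.filter (fun y =>
    y ∉ BG F (2 ^ (m + 1)) ∧ ∃ t ∈ X,
        tG H a0 b0 ∈ normalizer ((centralizer ({t} : Set ↥(Gs F (2 ^ (m + 1)))) :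
          Subgroup ↥(Gs F (2 ^ (m + 1)))) : Set ↥(Gs F (2 ^ (m + 1)))) ∧
        y ∈ normalizer ((centralizer ({t} : Set ↥(Gs F (2 ^ (m + 1)))) :
          Subgroup ↥(Gs F (2 ^ (m + 1)))) : Set ↥(Gs F (2 ^ (m + 1)))))
  let T : Finset ↥(Gs F (2 ^ (m + 1))) := Finset.univ.filter (fun t => t ∈ X ∧
        tG H a0 b0 ∈ normalizer ((centralizer ({t} : Set ↥(Gs F (2 ^ (m + 1)))) :
          Subgroup ↥(Gs F (2 ^ (m + 1)))) : Set ↥(Gs F (2 ^ (m + 1)))))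
  have mR : ∀ y, y ∈ R ↔ (y ∉ BG F (2 ^ (m + 1)) ∧ ∃ t ∈ X,
        tG H a0 b0 ∈ normalizer ((centralizer ({t} : Set ↥(Gs F (2 ^ (m + 1)))) :
          Subgroup ↥(Gs F (2 ^ (m + 1)))) : Set ↥(Gs F (2 ^ (m + 1)))) ∧
        y ∈ normalizer ((centralizer ({t} : Set ↥(Gs F (2 ^ (m + 1)))) :
          Subgroup ↥(Gs F (2 ^ (m + 1)))) : Set ↥(Gs F (2 ^ (m + 1))))) := fun y => by
    simp only [R, Finset.mem_filter, Finset.mem_univ, true_and]
  have mT : ∀ t, t ∈ T ↔ (t ∈ X ∧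
        tG H a0 b0 ∈ normalizer ((centralizer ({t} : Set ↥(Gs F (2 ^ (m + 1)))) :
          Subgroup ↥(Gs F (2 ^ (m + 1)))) : Set ↥(Gs F (2 ^ (m + 1))))) := fun t => by
    simp only [T, Finset.mem_filter, Finset.mem_univ, true_and]
  have cR : Nat.card {y : ↥(Gs F (2 ^ (m + 1))) // y ∉ BG F (2 ^ (m + 1)) ∧ ∃ t ∈ X,
        tG H a0 b0 ∈ normalizer ((centralizer ({t} : Set ↥(Gs F (2 ^ (m + 1)))) :
          Subgroup ↥(Gs F (2 ^ (m + 1)))) : Set ↥(Gs F (2 ^ (m + 1)))) ∧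
        y ∈ normalizer ((centralizer ({t} : Set ↥(Gs F (2 ^ (m + 1)))) :
          Subgroup ↥(Gs F (2 ^ (m + 1)))) : Set ↥(Gs F (2 ^ (m + 1))))} = R.card := by
    rw [Nat.card_eq_fintype_card]
    exact Fintype.card_of_subtype _ mR
  have cT : Nat.card {t : ↥(Gs F (2 ^ (m + 1))) // t ∈ X ∧
        tG H a0 b0 ∈ normalizer ((centralizer ({t} : Set ↥(Gs F (2 ^ (m + 1)))) :
          Subgroup ↥(Gs F (2 ^ (m + 1)))) : Set ↥(Gs F (2 ^ (m + 1))))} = T.card := by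
    rw [Nat.card_eq_fintype_card]
    exact Fintype.card_of_subtype _ mT
  have hfa : ∀ y ∈ R, (T.bipartiteAbove (fun (y t : ↥(Gs F (2 ^ (m + 1)))) =>
      y ∈ normalizer ((centralizer ({t} : Set ↥(Gs F (2 ^ (m + 1)))) :
          Subgroup ↥(Gs F (2 ^ (m + 1)))) : Set ↥(Gs F (2 ^ (m + 1))))) y).card = a - 1 := by
    intro y hy
    obtain ⟨hyB, t0, ht0X, hxt0, hyt0⟩ := (mR y).1 hy
    have hT0 := C.tor t0 ht0X
    have hset : T.bipartiteAbove (fun (y t : ↥(Gs F (2 ^ (m + 1)))) =>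
        y ∈ normalizer ((centralizer ({t} : Set ↥(Gs F (2 ^ (m + 1)))) :
          Subgroup ↥(Gs F (2 ^ (m + 1)))) : Set ↥(Gs F (2 ^ (m + 1))))) y
        = (Finset.univ.filter (fun t => t ∈ centralizer ({t0} : Set ↥(Gs F (2 ^ (m + 1)))))).erase
          1 := by
      ext t
      rw [Finset.mem_bipartiteAbove, mT, Finset.mem_erase, Finset.mem_filter]
      simp only [Finset.mem_univ, true_and]
      constructor
      · rintro ⟨⟨htX, hxt⟩, hyt⟩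
        refine ⟨C.ne1 t htX, ?_⟩
        by_cases heq : centralizer ({t} : Set ↥(Gs F (2 ^ (m + 1))))
            = centralizer ({t0} : Set ↥(Gs F (2 ^ (m + 1))))
        · rw [← heq]
          exact mem_centralizer_singleton_iff.2 rfl
        · exfalso
          exact hyB (UG_le_BG H
            (inter_UG hm hF H (C.tor t htX) hT0 heq hab hxt hxt0 hyt hyt0))
      · rintro ⟨ht1, ht⟩
        have heq := hT0.cent_eq ht ht1
        refine ⟨⟨C.same t0 ht0X t ht ht1, ?_⟩, ?_⟩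
        · rw [heq]
          exact hxt0
        · rw [heq]
          exact hyt0
    have h1mem : (1 : ↥(Gs F (2 ^ (m + 1))))
        ∈ Finset.univ.filter (fun t => t ∈ centralizer ({t0} : Set ↥(Gs F (2 ^ (m + 1))))) := by
      rw [Finset.mem_filter]
      exact ⟨Finset.mem_univ _, one_mem _⟩
    rw [hset, Finset.card_erase_of_mem h1mem,
      card_filter_mem (centralizer ({t0} : Set ↥(Gs F (2 ^ (m + 1))))), C.cardC t0 ht0X]
  have hfb : ∀ t ∈ T, (R.bipartiteBelow (fun (y t : ↥(Gs F (2 ^ (m + 1)))) =>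
      y ∈ normalizer ((centralizer ({t} : Set ↥(Gs F (2 ^ (m + 1)))) :
          Subgroup ↥(Gs F (2 ^ (m + 1)))) : Set ↥(Gs F (2 ^ (m + 1))))) t).card
        = k * a - k := by
    intro t ht
    obtain ⟨htX, hxt⟩ := (mT t).1 ht
    have h1 := card_norm_inter hm hF H (C.tor t htX) C.k24
      (by rw [C.cardN t htX, C.cardC t htX]) hab hxt
    rw [C.cardC t htX] at h1
    have hset : (R.bipartiteBelow (fun (y t : ↥(Gs F (2 ^ (m + 1)))) =>
        y ∈ normalizer ((centralizer ({t} : Set ↥(Gs F (2 ^ (m + 1)))) :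
          Subgroup ↥(Gs F (2 ^ (m + 1)))) : Set ↥(Gs F (2 ^ (m + 1))))) t).card
        = Nat.card {y : ↥(Gs F (2 ^ (m + 1))) //
          y ∈ normalizer ((centralizer ({t} : Set ↥(Gs F (2 ^ (m + 1)))) :
            Subgroup ↥(Gs F (2 ^ (m + 1)))) : Set ↥(Gs F (2 ^ (m + 1)))) ∧
          y ∉ BG F (2 ^ (m + 1))} := by
      rw [Nat.card_eq_fintype_card]
      symm
      apply Fintype.card_of_subtype
      intro y
      rw [Finset.mem_bipartiteBelow, mR]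
      constructor
      · rintro ⟨⟨hyB, -⟩, hyt⟩
        exact ⟨hyt, hyB⟩
      · rintro ⟨hyt, hyB⟩
        exact ⟨⟨hyB, t, htX, hxt, hyt⟩, hyt⟩
    rw [hset]
    omega
  have key := Finset.card_mul_eq_card_mul _ hfa hfb
  rw [cR, cT]
  have ha2 := C.a2
  have e : T.card * (k * a - k) = (k * T.card) * (a - 1) := by
    rw [← Nat.mul_sub_one]
    ring
  rw [e] at key
  exact Nat.eq_of_mul_eq_mul_right (by omega) key

theorem R_disj {X X' : Set ↥(Gs F (2 ^ (m + 1)))} {a k a' k' : ℕ} (C : Cls X a k)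
    (C' : Cls X' a' k') (hXX : ∀ t, t ∈ X → t ∈ X' → False) {a0 b0 : F}
    (hab : ¬ (a0 = 0 ∧ b0 = 0)) {y : ↥(Gs F (2 ^ (m + 1)))} (hyB : y ∉ BG F (2 ^ (m + 1)))
    (h1 : ∃ t ∈ X, tG H a0 b0 ∈ normalizer ((centralizer ({t} : Set ↥(Gs F (2 ^ (m + 1)))) :
          Subgroup ↥(Gs F (2 ^ (m + 1)))) : Set ↥(Gs F (2 ^ (m + 1)))) ∧
        y ∈ normalizer ((centralizer ({t} : Set ↥(Gs F (2 ^ (m + 1)))) :
          Subgroup ↥(Gs F (2 ^ (m + 1)))) : Set ↥(Gs F (2 ^ (m + 1)))))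
    (h2 : ∃ t ∈ X', tG H a0 b0 ∈ normalizer ((centralizer ({t} : Set ↥(Gs F (2 ^ (m + 1)))) :
          Subgroup ↥(Gs F (2 ^ (m + 1)))) : Set ↥(Gs F (2 ^ (m + 1)))) ∧
        y ∈ normalizer ((centralizer ({t} : Set ↥(Gs F (2 ^ (m + 1)))) :
          Subgroup ↥(Gs F (2 ^ (m + 1)))) : Set ↥(Gs F (2 ^ (m + 1))))) : False := by
  obtain ⟨t, htX, hxt, hyt⟩ := h1
  obtain ⟨t', htX', hxt', hyt'⟩ := h2
  by_cases heq : centralizer ({t'} : Set ↥(Gs F (2 ^ (m + 1))))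
      = centralizer ({t} : Set ↥(Gs F (2 ^ (m + 1))))
  · have ht' : t' ∈ centralizer ({t} : Set ↥(Gs F (2 ^ (m + 1)))) := by
      rw [← heq]
      exact mem_centralizer_singleton_iff.2 rfl
    exact hXX t' (C.same t htX t' ht' (C'.ne1 t' htX')) htX'
  · exact hyB (UG_le_BG H
      (inter_UG hm hF H (C'.tor t' htX') (C.tor t htX) heq hab hxt' hxt hyt' hyt))

end geom

end Cfsg.Agent.Lib.helper25.SzSol
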