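import Mathlib
import Cfsg.Agent.Lib.helper25.SzSol5
import Cfsg.Agent.Lib.helper25.SzFix1

/-!
# Suzuki groups: conjugacy and number of `2`-elements (library, seat helper25)
-/

set_option autoImplicit false
set_option linter.unusedSectionVars false
set_option linter.unusedSimpArgs false
set_option linter.style.haveILetI false

namespace Cfsg.Agent.Lib.helper25.SzSol

open Cfsg.Agent.Lib.helper2.Suzuki
open Cfsg.Agent.Lib.helper2
open Cfsg.Agent.Lib.helper25.SzOut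
open Cfsg.Agent.Lib.helper25.SzCover
open Cfsg.Agent.Lib.helper25.SzPart
open Cfsg.Agent.Lib.helper25.SzFix
open Subgroup

section zg

variable {F : Type*} [Field F] [Fintype F] {m : ℕ} (H : Hyp F (2 ^ (m + 1)))

/-- the centre of the Sylow `2`-subgroup -/
def ZG : Subgroup ↥(Gs F (2 ^ (m + 1))) where
  carrier := {g | ∃ b, g = tG H 0 b}
  mul_mem' := by
    rintro _ _ ⟨b, rfl⟩ ⟨b', rfl⟩
    refine ⟨b + b' + 0 ^ (2 ^ (m + 1)) * 0, ?_⟩
    rw [tG_mul, add_zero]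
  one_mem' := ⟨0, (tG_zero H).symm⟩
  inv_mem' := by
    rintro _ ⟨b, rfl⟩
    exact ⟨b + 0 ^ (2 ^ (m + 1) + 1), tG_inv H 0 b⟩

theorem mem_ZG {g : ↥(Gs F (2 ^ (m + 1)))} : g ∈ ZG H ↔ ∃ b, g = tG H 0 b := Iff.rfl

theorem card_ZG : Nat.card (ZG H) = Fintype.card F := by
  rw [← Nat.card_eq_fintype_card]
  apply Nat.card_congr
  refine (Equiv.ofBijective (fun b : F => (⟨tG H 0 b, ⟨b, rfl⟩⟩ : ↥(ZG H))) ⟨?_, ?_⟩).symm
  · intro b b' h
    exact (tG_inj H (congrArg Subtype.val h)).2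
  · rintro ⟨_, b, rfl⟩
    exact ⟨b, rfl⟩

end zg

section geom

variable {F : Type*} [Field F] [Fintype F] {m : ℕ} (hm : 1 ≤ m)
  (hF : Fintype.card F = 2 ^ (2 * m + 1)) (H : Hyp F (2 ^ (m + 1)))
include hm hF H

theorem two_elt {z : ↥(Gs F (2 ^ (m + 1)))} (hz1 : z ≠ 1) (hz4 : z ^ 4 = 1) :
    ∃ k a b, ¬ (a = 0 ∧ b = 0) ∧ k * z * k⁻¹ = tG H a b := by
  rcases classify hm hF H z hz1 with hzN | ⟨k, a, b, hab, hk⟩ | ⟨k, l, hl, hk⟩
  · exact absurd (odd_four (odd_N hm hF H) hz4 hzN) hz1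
  · exact ⟨k, a, b, hab, hk⟩
  · exact absurd (odd_four (odd_q1 hm hF H) hz4 (pow_rest_e hm hF H hk)) hz1

theorem sq_four {G : Type*} [Group G] {z : G} (hz2 : z * z = 1) : z ^ 4 = 1 := by
  have e4 : z ^ 4 = (z ^ 2) ^ 2 := pow_mul z 2 2
  rw [e4, pow_two z, hz2, one_pow]

theorem tG0_sq (b : F) : tG H 0 b * tG H 0 b = 1 := by
  rw [tG_sq, zero_pow (Nat.succ_ne_zero _), tG_zero]

theorem invol_form {z : ↥(Gs F (2 ^ (m + 1)))} (hz1 : z ≠ 1) (hz2 : z * z = 1) :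
    ∃ k b, b ≠ 0 ∧ k * z * k⁻¹ = tG H 0 b := by
  obtain ⟨k, a, b, hab, hk⟩ := two_elt hm hF H hz1 (sq_four hm hF H hz2)
  have hsq : tG H a b * tG H a b = 1 := by
    rw [← hk]
    calc k * z * k⁻¹ * (k * z * k⁻¹) = k * (z * z) * k⁻¹ := by group
      _ = 1 := by
        rw [hz2]
        group
  rw [tG_sq, ← tG_zero H] at hsq
  have ha : a = 0 := (pow_eq_zero_iff (Nat.succ_ne_zero _)).1 (tG_inj H hsq).2
  subst ha
  refine ⟨k, b, ?_, hk⟩
  rintro rfl
  exact hab ⟨rfl, rfl⟩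

theorem four_form {z : ↥(Gs F (2 ^ (m + 1)))} (hz4 : z ^ 4 = 1) (hz2 : z * z ≠ 1) :
    ∃ k a b, a ≠ 0 ∧ k * z * k⁻¹ = tG H a b := by
  have hz1 : z ≠ 1 := by
    rintro rfl
    exact hz2 (one_mul 1)
  obtain ⟨k, a, b, hab, hk⟩ := two_elt hm hF H hz1 hz4
  refine ⟨k, a, b, ?_, hk⟩
  rintro rfl
  apply hz2
  have e : z * z = k⁻¹ * ((k * z * k⁻¹) * (k * z * k⁻¹)) * k := by group
  rw [e, hk, tG0_sq hm hF H]
  group

theorem invol_conj {b0 : F} (hb0 : b0 ≠ 0) {z : ↥(Gs F (2 ^ (m + 1)))} (hz1 : z ≠ 1)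
    (hz2 : z * z = 1) : ∃ g, z = g * tG H 0 b0 * g⁻¹ := by
  obtain ⟨k, b, hb, hk⟩ := invol_form hm hF H hz1 hz2
  obtain ⟨c, hc⟩ := pow_s1_surj H (b / b0)
  obtain ⟨d, hd⟩ := exists_sqrt H c
  have hc0 : c ≠ 0 := by
    rintro rfl
    rw [zero_pow (Nat.succ_ne_zero _)] at hc
    exact (div_ne_zero hb hb0) hc.symm
  have hd0 : d ≠ 0 := by
    rintro rfl
    apply hc0
    rw [← hd]
    simp
  let l : Fˣ := Units.mk0 d hd0
  have hl : ((l : F)) ^ (2 * 2 ^ (m + 1) + 2) * b0 = b := by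
    show d ^ (2 * 2 ^ (m + 1) + 2) * b0 = b
    have e : d ^ (2 * 2 ^ (m + 1) + 2) = (d ^ 2) ^ (2 ^ (m + 1) + 1) := by
      rw [← pow_mul, mul_add, mul_one]
    rw [e, hd, hc, div_mul_cancel₀ _ hb0]
  refine ⟨k⁻¹ * eG H l, ?_⟩
  have h1 : eG H l * tG H 0 b0 * (eG H l)⁻¹ = tG H 0 b := by
    rw [eG_conj, mul_zero, hl]
  have e : z = k⁻¹ * (k * z * k⁻¹) * k := by group
  rw [e, hk, ← h1]
  group

theorem card_invol_G : Nat.card {z : ↥(Gs F (2 ^ (m + 1))) // z ≠ 1 ∧ z * z = 1}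
    = ((2 ^ (2 * m + 1)) ^ 2 + 1) * (2 ^ (2 * m + 1) - 1) := by
  haveI : Finite ↥(Gs F (2 ^ (m + 1))) := Finite.of_injective _ Subtype.val_injective
  have h := ti_count (ZG H) (BG F (2 ^ (m + 1))) (fun g x hx hx1 hgx => by
      obtain ⟨b, rfl⟩ := (mem_ZG H).1 hx
      obtain ⟨b', h'⟩ := (mem_ZG H).1 hgx
      have hab : ¬ ((0 : F) = 0 ∧ b = 0) := by
        rintro ⟨-, rfl⟩
        exact hx1 (tG_zero H)
      exact fix_inf_of_norm' H h' hab)
    (fun n hn x hx => by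
      obtain ⟨b, rfl⟩ := (mem_ZG H).1 hx
      obtain ⟨c', hc'⟩ := conj_center H hn b
      exact (mem_ZG H).2 ⟨c', hc'⟩)
  have hcongr : Nat.card {x : ↥(Gs F (2 ^ (m + 1))) //
      x ≠ 1 ∧ ∃ g : ↥(Gs F (2 ^ (m + 1))), g * x * g⁻¹ ∈ ZG H}
      = Nat.card {z : ↥(Gs F (2 ^ (m + 1))) // z ≠ 1 ∧ z * z = 1} := by
    apply Nat.card_congr
    apply Equiv.subtypeEquivRight
    intro z
    constructor
    · rintro ⟨hz1, g, hg⟩
      obtain ⟨b, hg⟩ := (mem_ZG H).1 hg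
      refine ⟨hz1, ?_⟩
      have e : z * z = g⁻¹ * ((g * z * g⁻¹) * (g * z * g⁻¹)) * g := by group
      rw [e, hg, tG0_sq hm hF H]
      group
    · rintro ⟨hz1, hz2⟩
      obtain ⟨k, b, hb, hk⟩ := invol_form hm hF H hz1 hz2
      exact ⟨hz1, k, (mem_ZG H).2 ⟨b, hk⟩⟩
  rw [hcongr, card_BG H, card_G hm hF H, card_ZG, hF] at h
  obtain ⟨hq8, -, -, -⟩ := q_facts m hm
  have hpos : 0 < (2 ^ (2 * m + 1)) ^ 2 * (2 ^ (2 * m + 1) - 1) :=
    Nat.mul_pos (by positivity) (by omega)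
  apply Nat.eq_of_mul_eq_mul_right hpos
  rw [h]
  ring

/-- the image of `u ↦ u^s + u` and its translate by `1` cover the field -/
theorem artin (v : F) :
    ∃ u : F, u ^ (2 ^ (m + 1)) + u = v ∨ u ^ (2 ^ (m + 1)) + u = v + 1 := by
  classical
  have h2 := H.h2
  have hs0 := s_ne_zero H
  have hfix : ∀ w : F, w ^ (2 ^ (m + 1)) = w → w = 0 ∨ w = 1 := by
    intro w hw
    have h1 : w ^ 2 = w := by
      rw [← H.hs2 w, hw, hw]
    have h3 : w * (w - 1) = 0 := by linear_combination h1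
    rcases mul_eq_zero.1 h3 with h | h
    · left
      exact h
    · right
      linear_combination h
  let ψ : F → F := fun u => u ^ (2 ^ (m + 1)) + u
  have hψ : ∀ u u', ψ u = ψ u' → u' = u ∨ u' = u + 1 := by
    intro u u' h
    have hw : (u + u') ^ (2 ^ (m + 1)) = u + u' := by
      rw [H.hadd]
      have h' : u ^ (2 ^ (m + 1)) + u = u' ^ (2 ^ (m + 1)) + u' := h
      linear_combination h' + (u' ^ (2 ^ (m + 1)) - u) * h2
    rcases hfix _ hw with h | h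
    · left
      linear_combination h - u * h2
    · right
      linear_combination h - u * h2
  let I : Finset F := Finset.univ.image ψ
  have hfib : ∀ v ∈ I, (Finset.univ.filter (fun u => ψ u = v)).card = 2 := by
    intro v hv
    obtain ⟨u0, -, rfl⟩ := Finset.mem_image.1 hv
    have hne : u0 ≠ u0 + 1 := by
      intro h
      have h1 : (1 : F) = 0 := by linear_combination -h
      exact one_ne_zero h1
    have hset : Finset.univ.filter (fun u => ψ u = ψ u0) = {u0, u0 + 1} := by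
      ext u
      simp only [Finset.mem_filter, Finset.mem_univ, true_and, Finset.mem_insert,
        Finset.mem_singleton]
      constructor
      · intro h
        exact hψ u0 u h.symm
      · rintro (rfl | rfl)
        · rfl
        · show (u0 + 1) ^ (2 ^ (m + 1)) + (u0 + 1) = u0 ^ (2 ^ (m + 1)) + u0
          rw [H.hadd, one_pow]
          linear_combination h2
    rw [hset, Finset.card_pair hne]
  have hcard : Fintype.card F = 2 * I.card := by
    have h1 := Finset.card_eq_sum_card_image ψ (Finset.univ : Finset F)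
    rw [Finset.sum_congr rfl hfib, Finset.sum_const, smul_eq_mul, Finset.card_univ] at h1
    rw [h1, mul_comm]
  let J : Finset F := I.image (fun v => v + 1)
  have hJ : J.card = I.card := Finset.card_image_of_injective _ (add_left_injective 1)
  have hdisj : Disjoint I J := by
    rw [Finset.disjoint_left]
    intro v hvI hvJ
    obtain ⟨u, -, hu⟩ := Finset.mem_image.1 hvI
    obtain ⟨v', hv', hv'e⟩ := Finset.mem_image.1 hvJ
    obtain ⟨u', -, hu'⟩ := Finset.mem_image.1 hv'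
    have hw : (u + u') ^ (2 ^ (m + 1)) + (u + u') = 1 := by
      rw [H.hadd]
      have hu2 : u ^ (2 ^ (m + 1)) + u = v := hu
      have hu2' : u' ^ (2 ^ (m + 1)) + u' = v' := hu'
      have hv2 : v' + 1 = v := hv'e
      linear_combination hu2 + hu2' - hv2 + v' * h2
    generalize u + u' = w at hw
    have h3 : w ^ 2 + w ^ (2 ^ (m + 1)) = 1 := by
      have h4 : (w ^ (2 ^ (m + 1)) + w) ^ (2 ^ (m + 1)) = 1 := by rw [hw, one_pow]
      rw [H.hadd, H.hs2] at h4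
      exact h4
    have h5 : w * (w - 1) = 0 := by
      linear_combination h3 + hw + (1 - w - w ^ (2 ^ (m + 1))) * h2
    rcases mul_eq_zero.1 h5 with h | h
    · rw [h, zero_pow hs0, add_zero] at hw
      exact zero_ne_one hw
    · have hw1 : w = 1 := by linear_combination h
      rw [hw1, one_pow] at hw
      have h6 : (1 : F) = 0 := by linear_combination hw
      exact one_ne_zero h6
  have hIJ : I ∪ J = Finset.univ := by
    apply Finset.eq_univ_of_card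
    rw [Finset.card_union_of_disjoint hdisj, hJ, hcard]
    ring
  have hv : v ∈ I ∪ J := by
    rw [hIJ]
    exact Finset.mem_univ v
  rcases Finset.mem_union.1 hv with h | h
  · obtain ⟨u, -, hu⟩ := Finset.mem_image.1 h
    exact ⟨u, Or.inl hu⟩
  · obtain ⟨v', hv', hv'e⟩ := Finset.mem_image.1 h
    obtain ⟨u, -, hu⟩ := Finset.mem_image.1 hv'
    refine ⟨u, Or.inr ?_⟩
    have hu2 : u ^ (2 ^ (m + 1)) + u = v' := hu
    have hv2 : v' + 1 = v := hv'e
    linear_combination hu2 + hv2 - h2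

/-- an element of order four is conjugate to a given one or to its inverse -/
theorem four_conj {a0 b0 : F} (ha0 : a0 ≠ 0) {z : ↥(Gs F (2 ^ (m + 1)))} (hz4 : z ^ 4 = 1)
    (hz2 : z * z ≠ 1) :
    ∃ g, z = g * tG H a0 b0 * g⁻¹ ∨ z = g * (tG H a0 b0)⁻¹ * g⁻¹ := by
  have h2 := H.h2
  obtain ⟨k, a, b, ha, hk⟩ := four_form hm hF H hz4 hz2
  obtain ⟨d, hd⟩ := exists_sqrt H (a / a0)
  have hd0 : d ≠ 0 := by
    rintro rfl
    have h0 : a / a0 = 0 := by
      rw [← hd]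
      simp
    exact (div_ne_zero ha ha0) h0
  let l : Fˣ := Units.mk0 d hd0
  have hl : ((l : F)) ^ 2 * a0 = a := by
    show d ^ 2 * a0 = a
    rw [hd, div_mul_cancel₀ _ ha0]
  obtain ⟨b1, hb1⟩ : ∃ b1 : F, b1 = ((l : F)) ^ (2 * 2 ^ (m + 1) + 2) * b0 := ⟨_, rfl⟩
  have h1 : eG H l * tG H a0 b0 * (eG H l)⁻¹ = tG H a b1 := by
    rw [eG_conj, hl, hb1]
  have hap : a ^ (2 ^ (m + 1) + 1) ≠ 0 := pow_ne_zero _ ha
  obtain ⟨u, hu⟩ := artin hm hF H ((b + b1) / a ^ (2 ^ (m + 1) + 1))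
  have hconj : ∀ b' : F, tG H (a * u) 0 * tG H a b' * (tG H (a * u) 0)⁻¹
      = tG H a (b' + a ^ (2 ^ (m + 1) + 1) * (u ^ (2 ^ (m + 1)) + u)) := by
    intro b'
    have e : tG H (a * u) 0 * tG H a b'
        = tG H a (b' + a ^ (2 ^ (m + 1) + 1) * (u ^ (2 ^ (m + 1)) + u)) * tG H (a * u) 0 := by
      rw [tG_mul, tG_mul]
      congr 1
      · ring
      · linear_combination (-(a ^ (2 ^ (m + 1) + 1) * u)) * h2
    rw [e, mul_assoc, mul_inv_cancel, mul_one]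
  have hk' : z = k⁻¹ * tG H a b * k := by
    rw [← hk]
    group
  have hmul : a ^ (2 ^ (m + 1) + 1) * ((b + b1) / a ^ (2 ^ (m + 1) + 1)) = b + b1 := by
    field_simp
  rcases hu with hu | hu
  · have hval : b1 + a ^ (2 ^ (m + 1) + 1) * (u ^ (2 ^ (m + 1)) + u) = b := by
      rw [hu, hmul]
      linear_combination b1 * h2
    refine ⟨k⁻¹ * tG H (a * u) 0 * eG H l, Or.inl ?_⟩
    rw [hk', ← hval, ← hconj b1, ← h1]
    group
  · have hval : b1 + a ^ (2 ^ (m + 1) + 1) * (u ^ (2 ^ (m + 1)) + u)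
        = b + a ^ (2 ^ (m + 1) + 1) := by
      rw [hu, mul_add, hmul, mul_one]
      linear_combination b1 * h2
    refine ⟨k⁻¹ * tG H (a * u) 0 * eG H l, Or.inr ?_⟩
    have hinv : tG H a b = (tG H a (b + a ^ (2 ^ (m + 1) + 1)))⁻¹ := by
      rw [tG_inv]
      congr 1
      linear_combination (-(a ^ (2 ^ (m + 1) + 1))) * h2
    rw [hk', hinv, ← hval, ← hconj b1, ← h1]
    group

theorem card_four_G :
    Nat.card {z : ↥(Gs F (2 ^ (m + 1))) // z ^ 4 = 1 ∧ z * z ≠ 1}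
      + ((2 ^ (2 * m + 1)) ^ 2 + 1) * (2 ^ (2 * m + 1) - 1)
      = ((2 ^ (2 * m + 1)) ^ 2 + 1) * ((2 ^ (2 * m + 1)) ^ 2 - 1) := by
  classical
  haveI : Finite ↥(Gs F (2 ^ (m + 1))) := Finite.of_injective _ Subtype.val_injective
  haveI : Fintype ↥(Gs F (2 ^ (m + 1))) := Fintype.ofFinite _
  have hU := count_U H
  have hcongr : Nat.card {x : ↥(Gs F (2 ^ (m + 1))) //
      x ≠ 1 ∧ ∃ g : ↥(Gs F (2 ^ (m + 1))), g * x * g⁻¹ ∈ UG H}
      = Nat.card {z : ↥(Gs F (2 ^ (m + 1))) // z ≠ 1 ∧ z ^ 4 = 1} := by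
    apply Nat.card_congr
    apply Equiv.subtypeEquivRight
    intro z
    constructor
    · rintro ⟨hz1, g, hg⟩
      obtain ⟨a, b, hab⟩ := (mem_UG H).1 hg
      exact ⟨hz1, pow_rest_t hm hF H hab⟩
    · rintro ⟨hz1, hz4⟩
      obtain ⟨k, a, b, hab, hk⟩ := two_elt hm hF H hz1 hz4
      exact ⟨hz1, k, (mem_UG H).2 ⟨a, b, hk⟩⟩
  let P2 : Finset ↥(Gs F (2 ^ (m + 1))) := Finset.univ.filter (fun z => z ≠ 1 ∧ z ^ 4 = 1)
  have e1 := Finset.card_filter_add_card_filter_not (s := P2) (fun z => z * z = 1)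
  have c0 : Nat.card {z : ↥(Gs F (2 ^ (m + 1))) // z ≠ 1 ∧ z ^ 4 = 1} = P2.card := by
    rw [Nat.card_eq_fintype_card]
    exact Fintype.card_of_subtype _ (fun z => by simp [P2])
  have c1 : (P2.filter (fun z => z * z = 1)).card
      = Nat.card {z : ↥(Gs F (2 ^ (m + 1))) // z ≠ 1 ∧ z * z = 1} := by
    rw [Nat.card_eq_fintype_card]
    symm
    apply Fintype.card_of_subtype
    intro z
    simp only [P2, Finset.mem_filter, Finset.mem_univ, true_and]
    constructor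
    · rintro ⟨⟨h1, -⟩, h2⟩
      exact ⟨h1, h2⟩
    · rintro ⟨h1, h2⟩
      exact ⟨⟨h1, sq_four hm hF H h2⟩, h2⟩
  have c2 : (P2.filter (fun z => ¬ z * z = 1)).card
      = Nat.card {z : ↥(Gs F (2 ^ (m + 1))) // z ^ 4 = 1 ∧ z * z ≠ 1} := by
    rw [Nat.card_eq_fintype_card]
    symm
    apply Fintype.card_of_subtype
    intro z
    simp only [P2, Finset.mem_filter, Finset.mem_univ, true_and]
    constructor
    · rintro ⟨⟨-, h4⟩, h2⟩
      exact ⟨h4, h2⟩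
    · rintro ⟨h4, h2⟩
      refine ⟨⟨?_, h4⟩, h2⟩
      rintro rfl
      exact h2 (one_mul 1)
  rw [hcongr, c0, card_G hm hF H, hF] at hU
  rw [c1, c2, card_invol_G hm hF H] at e1
  obtain ⟨hq8, -, -, -⟩ := q_facts m hm
  have hpos : 0 < (2 ^ (2 * m + 1)) ^ 2 * (2 ^ (2 * m + 1) - 1) :=
    Nat.mul_pos (by positivity) (by omega)
  have hP2 : P2.card = ((2 ^ (2 * m + 1)) ^ 2 + 1) * ((2 ^ (2 * m + 1)) ^ 2 - 1) := by
    apply Nat.eq_of_mul_eq_mul_right hpos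
    rw [hU]
    ring
  rw [← hP2, ← e1, add_comm]

end geom

end Cfsg.Agent.Lib.helper25.SzSol
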