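import Mathlib
import Cfsg.Agent.Lib.helper25.SzSol6

/-!
# Suzuki groups: solubilizers of `2`-elements (library, seat helper25)
-/

set_option autoImplicit false
set_option linter.unusedSectionVars false
set_option linter.unusedSimpArgs false
set_option linter.style.haveILetI false

namespace Cfsg.Agent.Lib.helper25.SzSol

open Cfsg.Agent.Lib.helper2.Suzuki
open Cfsg.Agent.Lib.helper2
open Cfsg.Agent.Lib.helper25.SzOut
open Cfsg.Agent.Lib.helper25.SzCover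
open Cfsg.Agent.Lib.helper25.SzPart
open Cfsg.Agent.Lib.helper25.SzFix
open Subgroup

theorem arith_inv {I T R Xc a k g qq : ℕ} (hI : 0 < I) (hR : R = k * T)
    (hT : I * T = Xc * a) (hX : Xc * (k * a) = g * (a - 1)) (hg : g = qq * I) :
    R = qq * (a - 1) := by
  apply Nat.eq_of_mul_eq_mul_left hI
  calc I * R = k * (I * T) := by
        rw [hR]
        ring
    _ = Xc * (k * a) := by
        rw [hT]
        ring
    _ = I * (qq * (a - 1)) := by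
        rw [hX, hg]
        ring

theorem arith_four {O T R Xc a g q N0 p : ℕ} (hO : O = N0 * (q * p)) (hOpos : 0 < O)
    (hR : R = 4 * T) (hT : O * T + Xc * (2 * a) = Xc * (4 * a))
    (hX : Xc * (4 * a) = g * (a - 1)) (hg : g = q ^ 2 * N0 * p) : R = 2 * q * (a - 1) := by
  have hOT : O * T = Xc * (2 * a) := by
    have e : Xc * (4 * a) = Xc * (2 * a) + Xc * (2 * a) := by ring
    rw [e] at hT
    exact Nat.add_right_cancel hT
  apply Nat.eq_of_mul_eq_mul_left hOpos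
  calc O * R = 4 * (O * T) := by
        rw [hR]
        ring
    _ = 2 * (Xc * (4 * a)) := by
        rw [hOT]
        ring
    _ = O * (2 * q * (a - 1)) := by
        rw [hX, hg, hO]
        ring

theorem arith_total_inv {q r : ℕ} (hq : 8 ≤ q) (hr : r ≤ q) :
    q ^ 2 * (q - 1) + q ^ 2 * (q + r + 1 - 1) + q ^ 2 * (q - r + 1 - 1) + q ^ 2 * (q - 1 - 1)
      = q ^ 2 * (4 * q - 3) := by
  have e : (q - 1) + (q + r + 1 - 1) + (q - r + 1 - 1) + (q - 1 - 1) = 4 * q - 3 := by omega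
  rw [← e]
  ring

theorem arith_total_four {q r : ℕ} (hq : 8 ≤ q) (hr : r ≤ q) :
    q ^ 2 * (q - 1) + 2 * q * (q + r + 1 - 1) + 2 * q * (q - r + 1 - 1) + 0
      = q ^ 2 * (q + 3) := by
  have hs : (q + r + 1 - 1) + (q - r + 1 - 1) = 2 * q := by omega
  have hq3 : q - 1 + 4 = q + 3 := by omega
  calc q ^ 2 * (q - 1) + 2 * q * (q + r + 1 - 1) + 2 * q * (q - r + 1 - 1) + 0
      = q ^ 2 * (q - 1) + 2 * q * ((q + r + 1 - 1) + (q - r + 1 - 1)) := by ring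
    _ = q ^ 2 * (q - 1 + 4) := by
        rw [hs]
        ring
    _ = q ^ 2 * (q + 3) := by rw [hq3]

theorem arith_O4 {O q : ℕ} (hq : 1 ≤ q)
    (h : O + (q ^ 2 + 1) * (q - 1) = (q ^ 2 + 1) * (q ^ 2 - 1)) :
    O = (q ^ 2 + 1) * (q * (q - 1)) := by
  obtain ⟨p, rfl⟩ := Nat.exists_eq_add_of_le hq
  have e1 : 1 + p - 1 = p := by omega
  have e2 : (1 + p) ^ 2 - 1 = p ^ 2 + 2 * p := by
    have e3 : (1 + p) ^ 2 = p ^ 2 + 2 * p + 1 := by ring
    rw [e3, Nat.add_sub_cancel]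
  rw [e1, e2] at h
  rw [e1]
  have e4 : ((1 + p) ^ 2 + 1) * (p ^ 2 + 2 * p)
      = ((1 + p) ^ 2 + 1) * ((1 + p) * p) + ((1 + p) ^ 2 + 1) * p := by ring
  rw [e4] at h
  exact Nat.add_right_cancel h

section geom

variable {F : Type*} [Field F] [Fintype F] {m : ℕ} (hm : 1 ≤ m)
  (hF : Fintype.card F = 2 ^ (2 * m + 1)) (H : Hyp F (2 ^ (m + 1)))
include hm hF H

theorem cls_N {y : ↥(Gs F (2 ^ (m + 1)))} (hy1 : y ≠ 1)
    (hyN : y ^ ((2 ^ (2 * m + 1)) ^ 2 + 1) = 1) {a : ℕ}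
    (ha : Nat.card (centralizer ({y} : Set ↥(Gs F (2 ^ (m + 1))))) = a)
    (hn : Nat.card (normalizer ((centralizer ({y} : Set ↥(Gs F (2 ^ (m + 1)))) :
        Subgroup ↥(Gs F (2 ^ (m + 1)))) : Set ↥(Gs F (2 ^ (m + 1)))))
      = 4 * Nat.card (centralizer ({y} : Set ↥(Gs F (2 ^ (m + 1)))))) :
    Cls {t : ↥(Gs F (2 ^ (m + 1))) | t ≠ 1 ∧ ∃ g : ↥(Gs F (2 ^ (m + 1))),
      g * t * g⁻¹ ∈ centralizer ({y} : Set ↥(Gs F (2 ^ (m + 1))))} a 4 := by
  haveI : Finite ↥(Gs F (2 ^ (m + 1))) := Finite.of_injective _ Subtype.val_injective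
  have T := toriHyp hm hF H
  refine ⟨fun t ht => ht.1, ?_, ?_, ?_, ?_, ?_, Or.inr rfl, ?_⟩
  · intro t ht
    exact tor_N hm hF H ht.1 (sub_of T hy1 hyN ht.1 ht.2)
  · rintro t ⟨ht1, g, hg⟩ g'
    refine ⟨fun h => ht1 (conj_eq_one_iff.1 h), g * g'⁻¹, ?_⟩
    have e : g * g'⁻¹ * (g' * t * g'⁻¹) * (g * g'⁻¹)⁻¹ = g * t * g⁻¹ := by group
    rw [e]
    exact hg
  · rintro t ⟨ht1, g, hg⟩ t' ht' ht'1
    refine ⟨ht'1, g, ?_⟩
    have hne : g * t * g⁻¹ ≠ 1 := fun h => ht1 (conj_eq_one_iff.1 h)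
    rw [← SzPart.cent_eq T hy1 hyN hne hg]
    exact (mem_cent_conj g t t').1 ht'
  · rintro t ⟨ht1, g, hg⟩
    have hne : g * t * g⁻¹ ≠ 1 := fun h => ht1 (conj_eq_one_iff.1 h)
    rw [← card_cent_conj g t, SzPart.cent_eq T hy1 hyN hne hg, ha]
  · rintro t ⟨ht1, g, hg⟩
    have hne : g * t * g⁻¹ ≠ 1 := fun h => ht1 (conj_eq_one_iff.1 h)
    rw [← card_norm_cent_conj g t, SzPart.cent_eq T hy1 hyN hne hg, hn, ha]
  · have h5 := card_ge T hy1 hyN
    omega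

theorem cls_E : Cls {t : ↥(Gs F (2 ^ (m + 1))) | ∃ (k : ↥(Gs F (2 ^ (m + 1)))) (l : Fˣ),
    l ≠ 1 ∧ k * t * k⁻¹ = eG H l} (2 ^ (2 * m + 1) - 1) 2 := by
  obtain ⟨hq8, -, -, -⟩ := q_facts m hm
  refine ⟨?_, ?_, ?_, ?_, ?_, ?_, Or.inl rfl, by omega⟩
  · rintro t ⟨k, l, hl, hk⟩ rfl
    apply eG_ne_one H hl
    rw [← hk]
    group
  · rintro t ⟨k, l, hl, hk⟩
    exact tor_E hm hF H hl hk
  · rintro t ⟨k, l, hl, hk⟩ g
    refine ⟨k * g⁻¹, l, hl, ?_⟩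
    rw [← hk]
    group
  · rintro t ⟨k, l, hl, hk⟩ t' ht' ht'1
    have h1 := (mem_cent_conj k t t').1 ht'
    rw [hk, mem_centralizer_singleton_iff] at h1
    obtain ⟨l', hl'⟩ := centG_e H hl h1
    refine ⟨k, l', ?_, hl'⟩
    rintro rfl
    rw [eG_one] at hl'
    exact ht'1 (conj_eq_one_iff.1 hl')
  · rintro t ⟨k, l, hl, hk⟩
    rw [(card_E hm hF H hl hk).1, hF]
  · rintro t ⟨k, l, hl, hk⟩
    rw [(card_E hm hF H hl hk).2, hF]

theorem card_XE : Nat.card {t : ↥(Gs F (2 ^ (m + 1))) //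
      t ∈ {t : ↥(Gs F (2 ^ (m + 1))) | ∃ (k : ↥(Gs F (2 ^ (m + 1)))) (l : Fˣ),
        l ≠ 1 ∧ k * t * k⁻¹ = eG H l}} * (2 * (2 ^ (2 * m + 1) - 1))
    = Nat.card ↥(Gs F (2 ^ (m + 1))) * (2 ^ (2 * m + 1) - 1 - 1) := by
  have h := count_H H
  rw [hF] at h
  rw [← h]
  congr 1
  apply Nat.card_congr
  apply Equiv.subtypeEquivRight
  intro t
  constructor
  · rintro ⟨k, l, hl, hk⟩
    refine ⟨?_, k, (mem_HG H).2 ⟨l, hk⟩⟩
    rintro rfl
    apply eG_ne_one H hl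
    rw [← hk]
    group
  · rintro ⟨ht1, k, hk⟩
    obtain ⟨l, hl⟩ := (mem_HG H).1 hk
    refine ⟨k, l, ?_, hl⟩
    rintro rfl
    rw [eG_one] at hl
    exact ht1 (conj_eq_one_iff.1 hl)

/-- the number of tori of a class normalized by a given involution -/
theorem count_T_inv {X : Set ↥(Gs F (2 ^ (m + 1)))} {a k : ℕ} (C : Cls X a k) {b0 : F}
    (hb0 : b0 ≠ 0) :
    Nat.card {z : ↥(Gs F (2 ^ (m + 1))) // z ≠ 1 ∧ z * z = 1}
      * Nat.card {t : ↥(Gs F (2 ^ (m + 1))) // t ∈ X ∧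
        tG H 0 b0 ∈ normalizer ((centralizer ({t} : Set ↥(Gs F (2 ^ (m + 1)))) :
          Subgroup ↥(Gs F (2 ^ (m + 1)))) : Set ↥(Gs F (2 ^ (m + 1))))}
      = Nat.card {t : ↥(Gs F (2 ^ (m + 1))) // t ∈ X} * a := by
  classical
  haveI : Finite ↥(Gs F (2 ^ (m + 1))) := Finite.of_injective _ Subtype.val_injective
  haveI : Fintype ↥(Gs F (2 ^ (m + 1))) := Fintype.ofFinite _
  let I : Finset ↥(Gs F (2 ^ (m + 1))) := Finset.univ.filter (fun z => z ≠ 1 ∧ z * z = 1)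
  let XF : Finset ↥(Gs F (2 ^ (m + 1))) := Finset.univ.filter (fun t => t ∈ X)
  have mI : ∀ z, z ∈ I ↔ (z ≠ 1 ∧ z * z = 1) := fun z => by
    simp only [I, Finset.mem_filter, Finset.mem_univ, true_and]
  have mX : ∀ t, t ∈ XF ↔ t ∈ X := fun t => by
    simp only [XF, Finset.mem_filter, Finset.mem_univ, true_and]
  have cI : Nat.card {z : ↥(Gs F (2 ^ (m + 1))) // z ≠ 1 ∧ z * z = 1} = I.card := by
    rw [Nat.card_eq_fintype_card]
    exact Fintype.card_of_subtype _ mI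
  have cX : Nat.card {t : ↥(Gs F (2 ^ (m + 1))) // t ∈ X} = XF.card := by
    rw [Nat.card_eq_fintype_card]
    exact Fintype.card_of_subtype _ mX
  have hfa : ∀ z ∈ I, (XF.bipartiteAbove (fun (z t : ↥(Gs F (2 ^ (m + 1)))) =>
      z ∈ normalizer ((centralizer ({t} : Set ↥(Gs F (2 ^ (m + 1)))) :
          Subgroup ↥(Gs F (2 ^ (m + 1)))) : Set ↥(Gs F (2 ^ (m + 1))))) z).card
      = Nat.card {t : ↥(Gs F (2 ^ (m + 1))) // t ∈ X ∧
        tG H 0 b0 ∈ normalizer ((centralizer ({t} : Set ↥(Gs F (2 ^ (m + 1)))) :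
          Subgroup ↥(Gs F (2 ^ (m + 1)))) : Set ↥(Gs F (2 ^ (m + 1))))} := by
    intro z hz
    obtain ⟨hz1, hz2⟩ := (mI z).1 hz
    obtain ⟨g, rfl⟩ := invol_conj hm hF H hb0 hz1 hz2
    rw [← card_T_conj hm hF H C g (tG H 0 b0), Nat.card_eq_fintype_card]
    symm
    apply Fintype.card_of_subtype
    intro t
    rw [Finset.mem_bipartiteAbove, mX]
  have hfb : ∀ t ∈ XF, (I.bipartiteBelow (fun (z t : ↥(Gs F (2 ^ (m + 1)))) =>
      z ∈ normalizer ((centralizer ({t} : Set ↥(Gs F (2 ^ (m + 1)))) :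
          Subgroup ↥(Gs F (2 ^ (m + 1)))) : Set ↥(Gs F (2 ^ (m + 1))))) t).card = a := by
    intro t ht
    have htX := (mX t).1 ht
    have hT := C.tor t htX
    have heven : 2 ∣ Nat.card (normalizer ((centralizer ({t} : Set ↥(Gs F (2 ^ (m + 1)))) :
          Subgroup ↥(Gs F (2 ^ (m + 1)))) : Set ↥(Gs F (2 ^ (m + 1))))) := by
      rw [C.cardN t htX]
      rcases C.k24 with h | h <;> rw [h] <;> exact dvd_mul_of_dvd_left (by norm_num) _
    have hset : (I.bipartiteBelow (fun (z t : ↥(Gs F (2 ^ (m + 1)))) =>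
        z ∈ normalizer ((centralizer ({t} : Set ↥(Gs F (2 ^ (m + 1)))) :
          Subgroup ↥(Gs F (2 ^ (m + 1)))) : Set ↥(Gs F (2 ^ (m + 1))))) t).card
        = Nat.card {z : ↥(Gs F (2 ^ (m + 1))) //
          z ∈ normalizer ((centralizer ({t} : Set ↥(Gs F (2 ^ (m + 1)))) :
            Subgroup ↥(Gs F (2 ^ (m + 1)))) : Set ↥(Gs F (2 ^ (m + 1)))) ∧
          z ≠ 1 ∧ z * z = 1} := by
      rw [Nat.card_eq_fintype_card]
      symm
      apply Fintype.card_of_subtype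
      intro z
      rw [Finset.mem_bipartiteBelow, mI]
      constructor
      · rintro ⟨⟨h1, h2⟩, h3⟩
        exact ⟨h3, h1, h2⟩
      · rintro ⟨h3, h1, h2⟩
        exact ⟨⟨h1, h2⟩, h3⟩
    rw [hset, hT.card_invol heven, C.cardC t htX]
  have key := Finset.card_mul_eq_card_mul _ hfa hfb
  rw [cI, cX]
  exact key

/-- the number of tori of a class normalized by a given element of order four -/
theorem count_T_four {X : Set ↥(Gs F (2 ^ (m + 1)))} {a k : ℕ} (C : Cls X a k) {a0 b0 : F}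
    (ha0 : a0 ≠ 0) :
    Nat.card {z : ↥(Gs F (2 ^ (m + 1))) // z ^ 4 = 1 ∧ z * z ≠ 1}
      * Nat.card {t : ↥(Gs F (2 ^ (m + 1))) // t ∈ X ∧
        tG H a0 b0 ∈ normalizer ((centralizer ({t} : Set ↥(Gs F (2 ^ (m + 1)))) :
          Subgroup ↥(Gs F (2 ^ (m + 1)))) : Set ↥(Gs F (2 ^ (m + 1))))}
      + Nat.card {t : ↥(Gs F (2 ^ (m + 1))) // t ∈ X} * (2 * a)
      = Nat.card {t : ↥(Gs F (2 ^ (m + 1))) // t ∈ X} * (k * a) := by
  classical
  haveI : Finite ↥(Gs F (2 ^ (m + 1))) := Finite.of_injective _ Subtype.val_injective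
  haveI : Fintype ↥(Gs F (2 ^ (m + 1))) := Fintype.ofFinite _
  let I : Finset ↥(Gs F (2 ^ (m + 1))) := Finset.univ.filter (fun z => z ^ 4 = 1 ∧ z * z ≠ 1)
  let XF : Finset ↥(Gs F (2 ^ (m + 1))) := Finset.univ.filter (fun t => t ∈ X)
  have mI : ∀ z, z ∈ I ↔ (z ^ 4 = 1 ∧ z * z ≠ 1) := fun z => by
    simp only [I, Finset.mem_filter, Finset.mem_univ, true_and]
  have mX : ∀ t, t ∈ XF ↔ t ∈ X := fun t => by
    simp only [XF, Finset.mem_filter, Finset.mem_univ, true_and]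
  have cI : Nat.card {z : ↥(Gs F (2 ^ (m + 1))) // z ^ 4 = 1 ∧ z * z ≠ 1} = I.card := by
    rw [Nat.card_eq_fintype_card]
    exact Fintype.card_of_subtype _ mI
  have cX : Nat.card {t : ↥(Gs F (2 ^ (m + 1))) // t ∈ X} = XF.card := by
    rw [Nat.card_eq_fintype_card]
    exact Fintype.card_of_subtype _ mX
  have hinv : Nat.card {t : ↥(Gs F (2 ^ (m + 1))) // t ∈ X ∧
        tG H a0 b0 ∈ normalizer ((centralizer ({t} : Set ↥(Gs F (2 ^ (m + 1)))) :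
          Subgroup ↥(Gs F (2 ^ (m + 1)))) : Set ↥(Gs F (2 ^ (m + 1))))}
      = Nat.card {t : ↥(Gs F (2 ^ (m + 1))) // t ∈ X ∧
        (tG H a0 b0)⁻¹ ∈ normalizer ((centralizer ({t} : Set ↥(Gs F (2 ^ (m + 1)))) :
          Subgroup ↥(Gs F (2 ^ (m + 1)))) : Set ↥(Gs F (2 ^ (m + 1))))} := by
    apply Nat.card_congr
    apply Equiv.subtypeEquivRight
    intro t
    rw [inv_mem_iff]
  have hfa : ∀ z ∈ I, (XF.bipartiteAbove (fun (z t : ↥(Gs F (2 ^ (m + 1)))) =>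
      z ∈ normalizer ((centralizer ({t} : Set ↥(Gs F (2 ^ (m + 1)))) :
          Subgroup ↥(Gs F (2 ^ (m + 1)))) : Set ↥(Gs F (2 ^ (m + 1))))) z).card
      = Nat.card {t : ↥(Gs F (2 ^ (m + 1))) // t ∈ X ∧
        tG H a0 b0 ∈ normalizer ((centralizer ({t} : Set ↥(Gs F (2 ^ (m + 1)))) :
          Subgroup ↥(Gs F (2 ^ (m + 1)))) : Set ↥(Gs F (2 ^ (m + 1))))} := by
    intro z hz
    obtain ⟨hz4, hz2⟩ := (mI z).1 hz
    obtain ⟨g, rfl | rfl⟩ := four_conj hm hF H (b0 := b0) ha0 hz4 hz2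
    · rw [← card_T_conj hm hF H C g (tG H a0 b0), Nat.card_eq_fintype_card]
      symm
      apply Fintype.card_of_subtype
      intro t
      rw [Finset.mem_bipartiteAbove, mX]
    · rw [hinv, ← card_T_conj hm hF H C g (tG H a0 b0)⁻¹, Nat.card_eq_fintype_card]
      symm
      apply Fintype.card_of_subtype
      intro t
      rw [Finset.mem_bipartiteAbove, mX]
  have hk2 : 2 * a ≤ k * a := by
    rcases C.k24 with h | h <;> rw [h] <;> omega
  have hfb : ∀ t ∈ XF, (I.bipartiteBelow (fun (z t : ↥(Gs F (2 ^ (m + 1)))) =>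
      z ∈ normalizer ((centralizer ({t} : Set ↥(Gs F (2 ^ (m + 1)))) :
          Subgroup ↥(Gs F (2 ^ (m + 1)))) : Set ↥(Gs F (2 ^ (m + 1))))) t).card
        = k * a - 2 * a := by
    intro t ht
    have htX := (mX t).1 ht
    have hT := C.tor t htX
    have hkeven : 2 ∣ k := by
      rcases C.k24 with h | h <;> rw [h] <;> norm_num
    have h4 := hT.card_four (k := k) (by rw [C.cardN t htX, C.cardC t htX]) hkeven
    rw [C.cardC t htX] at h4
    have hset : (I.bipartiteBelow (fun (z t : ↥(Gs F (2 ^ (m + 1)))) =>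
        z ∈ normalizer ((centralizer ({t} : Set ↥(Gs F (2 ^ (m + 1)))) :
          Subgroup ↥(Gs F (2 ^ (m + 1)))) : Set ↥(Gs F (2 ^ (m + 1))))) t).card
        = Nat.card {z : ↥(Gs F (2 ^ (m + 1))) //
          z ∈ normalizer ((centralizer ({t} : Set ↥(Gs F (2 ^ (m + 1)))) :
            Subgroup ↥(Gs F (2 ^ (m + 1)))) : Set ↥(Gs F (2 ^ (m + 1)))) ∧
          z ^ 4 = 1 ∧ z * z ≠ 1} := by
      rw [Nat.card_eq_fintype_card]
      symm
      apply Fintype.card_of_subtype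
      intro z
      rw [Finset.mem_bipartiteBelow, mI]
      constructor
      · rintro ⟨⟨h1, h2⟩, h3⟩
        exact ⟨h3, h1, h2⟩
      · rintro ⟨h3, h1, h2⟩
        exact ⟨⟨h1, h2⟩, h3⟩
    rw [hset]
    omega
  have key := Finset.card_mul_eq_card_mul _ hfa hfb
  rw [cI, cX, key, ← Nat.mul_add, Nat.sub_add_cancel hk2]

end geom

end Cfsg.Agent.Lib.helper25.SzSol
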