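import Mathlib
import Cfsg.Agent.Lib.helper25.SzSol7

/-!
# Suzuki groups: the size of the solubilizer of a `2`-element (library, seat helper25)
-/

set_option autoImplicit false
set_option linter.unusedSectionVars false
set_option linter.unusedSimpArgs false
set_option linter.style.haveILetI false

namespace Cfsg.Agent.Lib.helper25.SzSol

open Cfsg.Agent.Lib.helper2.Suzuki
open Cfsg.Agent.Lib.helper2
open Cfsg.Agent.Lib.helper25.SzOut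
open Cfsg.Agent.Lib.helper25.SzCover
open Cfsg.Agent.Lib.helper25.SzPart
open Cfsg.Agent.Lib.helper25.SzFix
open Subgroup

theorem arith_zero {O T w : ℕ} (hO : 0 < O) (h : O * T + w = w) : T = 0 := by
  have h0 : O * T = 0 := by omega
  rcases Nat.mul_eq_zero.1 h0 with h1 | h1
  · omega
  · exact h1

section geom

variable {F : Type*} [Field F] [Fintype F] {m : ℕ} (hm : 1 ≤ m)
  (hF : Fintype.card F = 2 ^ (2 * m + 1)) (H : Hyp F (2 ^ (m + 1)))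
include hm hF H

/-- the solubilizer of a `2`-element: the Borel subgroup and the normalizers of the tori it
normalizes, which meet pairwise inside the Borel subgroup -/
theorem sol_decomp {a0 b0 : F} (hab : ¬ (a0 = 0 ∧ b0 = 0))
    {X1 X2 XE : Set ↥(Gs F (2 ^ (m + 1)))} {a1 a2 aE : ℕ}
    (C1 : Cls X1 a1 4) (C2 : Cls X2 a2 4) (CE : Cls XE aE 2)
    (d12 : ∀ t, t ∈ X1 → t ∈ X2 → False) (d1E : ∀ t, t ∈ X1 → t ∈ XE → False)
    (d2E : ∀ t, t ∈ X2 → t ∈ XE → False)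
    (hN : ∀ t : ↥(Gs F (2 ^ (m + 1))),
      (t ≠ 1 ∧ t ^ ((2 ^ (2 * m + 1)) ^ 2 + 1) = 1) ↔ (t ∈ X1 ∨ t ∈ X2))
    (hE : ∀ t : ↥(Gs F (2 ^ (m + 1))),
      (∃ (k : ↥(Gs F (2 ^ (m + 1)))) (l : Fˣ), l ≠ 1 ∧ k * t * k⁻¹ = eG H l) ↔ t ∈ XE) :
    Nat.card {y : ↥(Gs F (2 ^ (m + 1))) //
        Group.IsSolvable (closure ({tG H a0 b0, y} : Set ↥(Gs F (2 ^ (m + 1)))))}
      = (2 ^ (2 * m + 1)) ^ 2 * (2 ^ (2 * m + 1) - 1)
        + 4 * Nat.card {t : ↥(Gs F (2 ^ (m + 1))) // t ∈ X1 ∧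
          tG H a0 b0 ∈ normalizer ((centralizer ({t} : Set ↥(Gs F (2 ^ (m + 1)))) :
            Subgroup ↥(Gs F (2 ^ (m + 1)))) : Set ↥(Gs F (2 ^ (m + 1))))}
        + 4 * Nat.card {t : ↥(Gs F (2 ^ (m + 1))) // t ∈ X2 ∧
          tG H a0 b0 ∈ normalizer ((centralizer ({t} : Set ↥(Gs F (2 ^ (m + 1)))) :
            Subgroup ↥(Gs F (2 ^ (m + 1)))) : Set ↥(Gs F (2 ^ (m + 1))))}
        + 2 * Nat.card {t : ↥(Gs F (2 ^ (m + 1))) // t ∈ XE ∧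
          tG H a0 b0 ∈ normalizer ((centralizer ({t} : Set ↥(Gs F (2 ^ (m + 1)))) :
            Subgroup ↥(Gs F (2 ^ (m + 1)))) : Set ↥(Gs F (2 ^ (m + 1))))} := by
  classical
  haveI : Finite ↥(Gs F (2 ^ (m + 1))) := Finite.of_injective _ Subtype.val_injective
  haveI : Fintype ↥(Gs F (2 ^ (m + 1))) := Fintype.ofFinite _
  let SS : Finset ↥(Gs F (2 ^ (m + 1))) := Finset.univ.filter (fun y =>
    Group.IsSolvable (closure ({tG H a0 b0, y} : Set ↥(Gs F (2 ^ (m + 1))))))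
  let SB : Finset ↥(Gs F (2 ^ (m + 1))) :=
    Finset.univ.filter (fun y => y ∈ BG F (2 ^ (m + 1)))
  let R1 : Finset ↥(Gs F (2 ^ (m + 1))) := Finset.univ.filter (fun y =>
    y ∉ BG F (2 ^ (m + 1)) ∧ ∃ t ∈ X1,
        tG H a0 b0 ∈ normalizer ((centralizer ({t} : Set ↥(Gs F (2 ^ (m + 1)))) :
          Subgroup ↥(Gs F (2 ^ (m + 1)))) : Set ↥(Gs F (2 ^ (m + 1)))) ∧
        y ∈ normalizer ((centralizer ({t} : Set ↥(Gs F (2 ^ (m + 1)))) :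
          Subgroup ↥(Gs F (2 ^ (m + 1)))) : Set ↥(Gs F (2 ^ (m + 1)))))
  let R2 : Finset ↥(Gs F (2 ^ (m + 1))) := Finset.univ.filter (fun y =>
    y ∉ BG F (2 ^ (m + 1)) ∧ ∃ t ∈ X2,
        tG H a0 b0 ∈ normalizer ((centralizer ({t} : Set ↥(Gs F (2 ^ (m + 1)))) :
          Subgroup ↥(Gs F (2 ^ (m + 1)))) : Set ↥(Gs F (2 ^ (m + 1)))) ∧
        y ∈ normalizer ((centralizer ({t} : Set ↥(Gs F (2 ^ (m + 1)))) :
          Subgroup ↥(Gs F (2 ^ (m + 1)))) : Set ↥(Gs F (2 ^ (m + 1)))))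
  let RE : Finset ↥(Gs F (2 ^ (m + 1))) := Finset.univ.filter (fun y =>
    y ∉ BG F (2 ^ (m + 1)) ∧ ∃ t ∈ XE,
        tG H a0 b0 ∈ normalizer ((centralizer ({t} : Set ↥(Gs F (2 ^ (m + 1)))) :
          Subgroup ↥(Gs F (2 ^ (m + 1)))) : Set ↥(Gs F (2 ^ (m + 1)))) ∧
        y ∈ normalizer ((centralizer ({t} : Set ↥(Gs F (2 ^ (m + 1)))) :
          Subgroup ↥(Gs F (2 ^ (m + 1)))) : Set ↥(Gs F (2 ^ (m + 1)))))
  have mS : ∀ y, y ∈ SS ↔
      Group.IsSolvable (closure ({tG H a0 b0, y} : Set ↥(Gs F (2 ^ (m + 1))))) := fun y => by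
    simp only [SS, Finset.mem_filter, Finset.mem_univ, true_and]
  have mB : ∀ y, y ∈ SB ↔ y ∈ BG F (2 ^ (m + 1)) := fun y => by
    simp only [SB, Finset.mem_filter, Finset.mem_univ, true_and]
  have mR1 : ∀ y, y ∈ R1 ↔ (y ∉ BG F (2 ^ (m + 1)) ∧ ∃ t ∈ X1,
        tG H a0 b0 ∈ normalizer ((centralizer ({t} : Set ↥(Gs F (2 ^ (m + 1)))) :
          Subgroup ↥(Gs F (2 ^ (m + 1)))) : Set ↥(Gs F (2 ^ (m + 1)))) ∧
        y ∈ normalizer ((centralizer ({t} : Set ↥(Gs F (2 ^ (m + 1)))) :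
          Subgroup ↥(Gs F (2 ^ (m + 1)))) : Set ↥(Gs F (2 ^ (m + 1))))) := fun y => by
    simp only [R1, Finset.mem_filter, Finset.mem_univ, true_and]
  have mR2 : ∀ y, y ∈ R2 ↔ (y ∉ BG F (2 ^ (m + 1)) ∧ ∃ t ∈ X2,
        tG H a0 b0 ∈ normalizer ((centralizer ({t} : Set ↥(Gs F (2 ^ (m + 1)))) :
          Subgroup ↥(Gs F (2 ^ (m + 1)))) : Set ↥(Gs F (2 ^ (m + 1)))) ∧
        y ∈ normalizer ((centralizer ({t} : Set ↥(Gs F (2 ^ (m + 1)))) :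
          Subgroup ↥(Gs F (2 ^ (m + 1)))) : Set ↥(Gs F (2 ^ (m + 1))))) := fun y => by
    simp only [R2, Finset.mem_filter, Finset.mem_univ, true_and]
  have mRE : ∀ y, y ∈ RE ↔ (y ∉ BG F (2 ^ (m + 1)) ∧ ∃ t ∈ XE,
        tG H a0 b0 ∈ normalizer ((centralizer ({t} : Set ↥(Gs F (2 ^ (m + 1)))) :
          Subgroup ↥(Gs F (2 ^ (m + 1)))) : Set ↥(Gs F (2 ^ (m + 1)))) ∧
        y ∈ normalizer ((centralizer ({t} : Set ↥(Gs F (2 ^ (m + 1)))) :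
          Subgroup ↥(Gs F (2 ^ (m + 1)))) : Set ↥(Gs F (2 ^ (m + 1))))) := fun y => by
    simp only [RE, Finset.mem_filter, Finset.mem_univ, true_and]
  have cS : Nat.card {y : ↥(Gs F (2 ^ (m + 1))) //
        Group.IsSolvable (closure ({tG H a0 b0, y} : Set ↥(Gs F (2 ^ (m + 1)))))} = SS.card := by
    rw [Nat.card_eq_fintype_card]
    exact Fintype.card_of_subtype _ mS
  have cB : SB.card = (2 ^ (2 * m + 1)) ^ 2 * (2 ^ (2 * m + 1) - 1) := by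
    rw [card_filter_mem (BG F (2 ^ (m + 1))), card_BG H, hF]
  have c1 : R1.card = 4 * Nat.card {t : ↥(Gs F (2 ^ (m + 1))) // t ∈ X1 ∧
          tG H a0 b0 ∈ normalizer ((centralizer ({t} : Set ↥(Gs F (2 ^ (m + 1)))) :
            Subgroup ↥(Gs F (2 ^ (m + 1)))) : Set ↥(Gs F (2 ^ (m + 1))))} := by
    rw [← card_R hm hF H C1 hab, Nat.card_eq_fintype_card]
    exact (Fintype.card_of_subtype _ mR1).symm
  have c2 : R2.card = 4 * Nat.card {t : ↥(Gs F (2 ^ (m + 1))) // t ∈ X2 ∧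
          tG H a0 b0 ∈ normalizer ((centralizer ({t} : Set ↥(Gs F (2 ^ (m + 1)))) :
            Subgroup ↥(Gs F (2 ^ (m + 1)))) : Set ↥(Gs F (2 ^ (m + 1))))} := by
    rw [← card_R hm hF H C2 hab, Nat.card_eq_fintype_card]
    exact (Fintype.card_of_subtype _ mR2).symm
  have cE : RE.card = 2 * Nat.card {t : ↥(Gs F (2 ^ (m + 1))) // t ∈ XE ∧
          tG H a0 b0 ∈ normalizer ((centralizer ({t} : Set ↥(Gs F (2 ^ (m + 1)))) :
            Subgroup ↥(Gs F (2 ^ (m + 1)))) : Set ↥(Gs F (2 ^ (m + 1))))} := by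
    rw [← card_R hm hF H CE hab, Nat.card_eq_fintype_card]
    exact (Fintype.card_of_subtype _ mRE).symm
  have hSS : SS = ((SB ∪ R1) ∪ R2) ∪ RE := by
    ext y
    rw [mS, Finset.mem_union, Finset.mem_union, Finset.mem_union, mB, mR1, mR2, mRE,
      solT_iff hm hF H hab y]
    constructor
    · rintro (hy | ⟨t, ht1, htN, hxt, hyt⟩ | ⟨t, k, l, hl, hk, hxt, hyt⟩)
      · exact Or.inl (Or.inl (Or.inl hy))
      · by_cases hyB : y ∈ BG F (2 ^ (m + 1))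
        · exact Or.inl (Or.inl (Or.inl hyB))
        · rcases (hN t).1 ⟨ht1, htN⟩ with h | h
          · exact Or.inl (Or.inl (Or.inr ⟨hyB, t, h, hxt, hyt⟩))
          · exact Or.inl (Or.inr ⟨hyB, t, h, hxt, hyt⟩)
      · by_cases hyB : y ∈ BG F (2 ^ (m + 1))
        · exact Or.inl (Or.inl (Or.inl hyB))
        · exact Or.inr ⟨hyB, t, (hE t).1 ⟨k, l, hl, hk⟩, hxt, hyt⟩
    · rintro (((hy | ⟨hyB, t, ht, hxt, hyt⟩) | ⟨hyB, t, ht, hxt, hyt⟩) | ⟨hyB, t, ht, hxt, hyt⟩)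
      · exact Or.inl hy
      · obtain ⟨ht1, htN⟩ := (hN t).2 (Or.inl ht)
        exact Or.inr (Or.inl ⟨t, ht1, htN, hxt, hyt⟩)
      · obtain ⟨ht1, htN⟩ := (hN t).2 (Or.inr ht)
        exact Or.inr (Or.inl ⟨t, ht1, htN, hxt, hyt⟩)
      · obtain ⟨k, l, hl, hk⟩ := (hE t).2 ht
        exact Or.inr (Or.inr ⟨t, k, l, hl, hk, hxt, hyt⟩)
  have dis1 : Disjoint SB R1 := by
    rw [Finset.disjoint_left]
    intro y hy hy'
    exact ((mR1 y).1 hy').1 ((mB y).1 hy)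
  have dis2 : Disjoint (SB ∪ R1) R2 := by
    rw [Finset.disjoint_left]
    intro y hy hy'
    obtain ⟨hyB, h2⟩ := (mR2 y).1 hy'
    rcases Finset.mem_union.1 hy with h | h
    · exact hyB ((mB y).1 h)
    · exact R_disj hm hF H C1 C2 d12 hab hyB ((mR1 y).1 h).2 h2
  have dis3 : Disjoint ((SB ∪ R1) ∪ R2) RE := by
    rw [Finset.disjoint_left]
    intro y hy hy'
    obtain ⟨hyB, h3⟩ := (mRE y).1 hy'
    rcases Finset.mem_union.1 hy with h | h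
    · rcases Finset.mem_union.1 h with h | h
      · exact hyB ((mB y).1 h)
      · exact R_disj hm hF H C1 CE d1E hab hyB ((mR1 y).1 h).2 h3
    · exact R_disj hm hF H C2 CE d2E hab hyB ((mR2 y).1 h).2 h3
  rw [cS, hSS, Finset.card_union_of_disjoint dis3, Finset.card_union_of_disjoint dis2,
    Finset.card_union_of_disjoint dis1, cB, c1, c2, cE]

theorem sol_card_T {a0 b0 : F} (hab : ¬ (a0 = 0 ∧ b0 = 0)) :
    (a0 = 0 → Nat.card {y : ↥(Gs F (2 ^ (m + 1))) //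
        Group.IsSolvable (closure ({tG H a0 b0, y} : Set ↥(Gs F (2 ^ (m + 1)))))}
        = (2 ^ (2 * m + 1)) ^ 2 * (4 * 2 ^ (2 * m + 1) - 3)) ∧
    (a0 ≠ 0 → Nat.card {y : ↥(Gs F (2 ^ (m + 1))) //
        Group.IsSolvable (closure ({tG H a0 b0, y} : Set ↥(Gs F (2 ^ (m + 1)))))}
        = (2 ^ (2 * m + 1)) ^ 2 * (2 ^ (2 * m + 1) + 3)) := by
  haveI : Finite ↥(Gs F (2 ^ (m + 1))) := Finite.of_injective _ Subtype.val_injective
  have T := toriHyp hm hF H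
  obtain ⟨hr, hle⟩ := r_facts m
  obtain ⟨hq8, hqe, -, -⟩ := q_facts m hm
  obtain ⟨y1, y2, ⟨hy1, hy1N⟩, ⟨hy2, hy2N⟩, e1, e2, n1, n2, cov, cop⟩ :=
    tori_exist T (2 ^ (m + 1)) hr
  have hc2 : Nat.card (centralizer ({y2} : Set ↥(Gs F (2 ^ (m + 1)))))
      = 2 ^ (2 * m + 1) - 2 ^ (m + 1) + 1 := by
    omega
  have C1 := cls_N hm hF H hy1 hy1N e1 n1
  have C2 := cls_N hm hF H hy2 hy2N hc2 n2
  have CE := cls_E hm hF H
  have s1 := count_of T hy1 hy1N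
  have s2 := count_of T hy2 hy2N
  have sE := card_XE hm hF H
  rw [n1, e1, card_G hm hF H] at s1
  rw [n2, hc2, card_G hm hF H] at s2
  rw [card_G hm hF H] at sE
  have d12 : ∀ t : ↥(Gs F (2 ^ (m + 1))),
      t ∈ {t : ↥(Gs F (2 ^ (m + 1))) | t ≠ 1 ∧ ∃ g : ↥(Gs F (2 ^ (m + 1))),
        g * t * g⁻¹ ∈ centralizer ({y1} : Set ↥(Gs F (2 ^ (m + 1))))} →
      t ∈ {t : ↥(Gs F (2 ^ (m + 1))) | t ≠ 1 ∧ ∃ g : ↥(Gs F (2 ^ (m + 1))),
        g * t * g⁻¹ ∈ centralizer ({y2} : Set ↥(Gs F (2 ^ (m + 1))))} → False := by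
    rintro t ⟨ht1, g, hg⟩ ⟨-, g', hg'⟩
    have h1 := pow_card_of_mem _ hg
    have h2 := pow_card_of_mem _ hg'
    rw [conj_pow] at h1 h2
    exact ht1 (eq_one_of_pows cop (conj_eq_one_iff.1 h1) (conj_eq_one_iff.1 h2))
  have dNE : ∀ t : ↥(Gs F (2 ^ (m + 1))), t ≠ 1 → t ^ ((2 ^ (2 * m + 1)) ^ 2 + 1) = 1 →
      t ∈ {t : ↥(Gs F (2 ^ (m + 1))) | ∃ (k : ↥(Gs F (2 ^ (m + 1)))) (l : Fˣ),
        l ≠ 1 ∧ k * t * k⁻¹ = eG H l} → False := by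
    rintro t ht1 htN ⟨k, l, hl, hk⟩
    exact ht1 (eq_one_of_pows (coprime_rest hq8 hqe) htN
      (pow_rest hm hF H (Or.inr ⟨k, l, hk⟩)))
  have d1E : ∀ t : ↥(Gs F (2 ^ (m + 1))),
      t ∈ {t : ↥(Gs F (2 ^ (m + 1))) | t ≠ 1 ∧ ∃ g : ↥(Gs F (2 ^ (m + 1))),
        g * t * g⁻¹ ∈ centralizer ({y1} : Set ↥(Gs F (2 ^ (m + 1))))} →
      t ∈ {t : ↥(Gs F (2 ^ (m + 1))) | ∃ (k : ↥(Gs F (2 ^ (m + 1)))) (l : Fˣ),
        l ≠ 1 ∧ k * t * k⁻¹ = eG H l} → False :=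
    fun t h1 hE => dNE t h1.1 (sub_of T hy1 hy1N h1.1 h1.2) hE
  have d2E : ∀ t : ↥(Gs F (2 ^ (m + 1))),
      t ∈ {t : ↥(Gs F (2 ^ (m + 1))) | t ≠ 1 ∧ ∃ g : ↥(Gs F (2 ^ (m + 1))),
        g * t * g⁻¹ ∈ centralizer ({y2} : Set ↥(Gs F (2 ^ (m + 1))))} →
      t ∈ {t : ↥(Gs F (2 ^ (m + 1))) | ∃ (k : ↥(Gs F (2 ^ (m + 1)))) (l : Fˣ),
        l ≠ 1 ∧ k * t * k⁻¹ = eG H l} → False :=
    fun t h1 hE => dNE t h1.1 (sub_of T hy2 hy2N h1.1 h1.2) hE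
  have hN : ∀ t : ↥(Gs F (2 ^ (m + 1))),
      (t ≠ 1 ∧ t ^ ((2 ^ (2 * m + 1)) ^ 2 + 1) = 1) ↔
      (t ∈ {t : ↥(Gs F (2 ^ (m + 1))) | t ≠ 1 ∧ ∃ g : ↥(Gs F (2 ^ (m + 1))),
        g * t * g⁻¹ ∈ centralizer ({y1} : Set ↥(Gs F (2 ^ (m + 1))))} ∨
       t ∈ {t : ↥(Gs F (2 ^ (m + 1))) | t ≠ 1 ∧ ∃ g : ↥(Gs F (2 ^ (m + 1))),
        g * t * g⁻¹ ∈ centralizer ({y2} : Set ↥(Gs F (2 ^ (m + 1))))}) := by
    intro t
    constructor
    · rintro ⟨ht1, htN⟩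
      rcases cov t ht1 htN with h | h
      · exact Or.inl ⟨ht1, h⟩
      · exact Or.inr ⟨ht1, h⟩
    · rintro (h | h)
      · exact ⟨h.1, sub_of T hy1 hy1N h.1 h.2⟩
      · exact ⟨h.1, sub_of T hy2 hy2N h.1 h.2⟩
  have hdec := sol_decomp hm hF H hab C1 C2 CE d12 d1E d2E hN (fun t => Iff.rfl)
  have hI := card_invol_G hm hF H
  have hIpos : 0 < ((2 ^ (2 * m + 1)) ^ 2 + 1) * (2 ^ (2 * m + 1) - 1) :=
    Nat.mul_pos (by positivity) (by omega)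
  have hg : (2 ^ (2 * m + 1)) ^ 2 * ((2 ^ (2 * m + 1)) ^ 2 + 1) * (2 ^ (2 * m + 1) - 1)
      = (2 ^ (2 * m + 1)) ^ 2 * (((2 ^ (2 * m + 1)) ^ 2 + 1) * (2 ^ (2 * m + 1) - 1)) := by
    ring
  constructor
  · intro ha0
    subst ha0
    have hb0 : b0 ≠ 0 := fun h => hab ⟨rfl, h⟩
    have i1 := count_T_inv hm hF H C1 hb0
    have i2 := count_T_inv hm hF H C2 hb0
    have iE := count_T_inv hm hF H CE hb0
    rw [hI] at i1 i2 iE
    have R1 := arith_inv hIpos rfl i1 s1 hg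
    have R2 := arith_inv hIpos rfl i2 s2 hg
    have RE := arith_inv hIpos rfl iE sE hg
    rw [hdec, R1, R2, RE]
    exact arith_total_inv hq8 hle
  · intro ha0
    have f1 := count_T_four hm hF H C1 (b0 := b0) ha0
    have f2 := count_T_four hm hF H C2 (b0 := b0) ha0
    have fE := count_T_four hm hF H CE (b0 := b0) ha0
    have hO := arith_O4 (by omega) (card_four_G hm hF H)
    have hOpos : 0 < Nat.card {z : ↥(Gs F (2 ^ (m + 1))) // z ^ 4 = 1 ∧ z * z ≠ 1} := by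
      rw [hO]
      exact Nat.mul_pos (by positivity) (Nat.mul_pos (by positivity) (by omega))
    have R1 := arith_four hO hOpos rfl f1 s1 rfl
    have R2 := arith_four hO hOpos rfl f2 s2 rfl
    have hTE := arith_zero hOpos fE
    rw [hdec, R1, R2, hTE]
    exact arith_total_four hq8 hle

theorem sol_card_two (x : ↥(Gs F (2 ^ (m + 1)))) :
    (orderOf x = 2 → Nat.card {y : ↥(Gs F (2 ^ (m + 1))) //
        Group.IsSolvable (closure ({x, y} : Set ↥(Gs F (2 ^ (m + 1)))))}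
        = (2 ^ (2 * m + 1)) ^ 2 * (4 * 2 ^ (2 * m + 1) - 3)) ∧
    (orderOf x = 4 → Nat.card {y : ↥(Gs F (2 ^ (m + 1))) //
        Group.IsSolvable (closure ({x, y} : Set ↥(Gs F (2 ^ (m + 1)))))}
        = (2 ^ (2 * m + 1)) ^ 2 * (2 ^ (2 * m + 1) + 3)) := by
  constructor
  · intro ho
    have hx2 : x * x = 1 := by
      have h := pow_orderOf_eq_one x
      rw [ho, pow_two x] at h
      exact h
    have hx1 : x ≠ 1 := by
      rintro rfl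
      rw [orderOf_one] at ho
      omega
    obtain ⟨k, b, hb, hk⟩ := invol_form hm hF H hx1 hx2
    rw [← sol_card_conj k x, hk]
    exact (sol_card_T hm hF H (a0 := 0) (b0 := b) (fun h => hb h.2)).1 rfl
  · intro ho
    have hx4 : x ^ 4 = 1 := by
      have h := pow_orderOf_eq_one x
      rw [ho] at h
      exact h
    have hx2 : x * x ≠ 1 := by
      intro h
      have h2 : x ^ 2 = 1 := by
        rw [pow_two x]
        exact h
      have h3 := orderOf_dvd_of_pow_eq_one h2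
      rw [ho] at h3
      omega
    obtain ⟨k, a, b, ha, hk⟩ := four_form hm hF H hx4 hx2
    rw [← sol_card_conj k x, hk]
    exact (sol_card_T hm hF H (a0 := a) (b0 := b) (fun h => ha h.1)).2 ha

end geom

end Cfsg.Agent.Lib.helper25.SzSol
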