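import Mathlib

set_option autoImplicit false

namespace Cfsg.Agent.Lib.helper25.TwoTransSyl

variable {G Ω : Type*} [Group G] [MulAction G Ω]

/-- quotient statements for the stabilizer, through the equivariant bijection with `Ω` -/
theorem quot_facts (a : Ω) (U : Subgroup G)
    (h2t : ∀ x y x' y' : Ω, x ≠ y → x' ≠ y' → ∃ g : G, g • x = x' ∧ g • y = y')
    (hex : ∀ x y : Ω, x ≠ a → y ≠ a → ∃ u ∈ U, u • x = y)
    (hfree : ∀ u ∈ U, ∀ x : Ω, x ≠ a → u • x = x → u = 1)
    (N V : Subgroup G) (hN : N = MulAction.stabilizer G a) (hV : V = U) :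
    MulAction.IsMultiplyPretransitive G (G ⧸ N) 2 ∧
      ∀ x y : G ⧸ N, x ≠ (QuotientGroup.mk 1) → y ≠ (QuotientGroup.mk 1) →
        ∃! s : ↥V, (s : G) • x = y := by
  subst hN
  subst hV
  have hinj := MulAction.injective_ofQuotientStabilizer G a
  have hsm := MulAction.ofQuotientStabilizer_smul G a
  have hone : MulAction.ofQuotientStabilizer G a (QuotientGroup.mk 1) = a := by
    rw [MulAction.ofQuotientStabilizer_mk, one_smul]
  constructor
  · rw [MulAction.is_two_pretransitive_iff]
    intro x y x' y' hxy hxy'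
    obtain ⟨g, h1, h2⟩ := h2t _ _ _ _ (fun h => hxy (hinj h)) (fun h => hxy' (hinj h))
    refine ⟨g, hinj ?_, hinj ?_⟩
    · rw [hsm, h1]
    · rw [hsm, h2]
  · intro x y hx hy
    have hx' : MulAction.ofQuotientStabilizer G a x ≠ a := fun h => hx (hinj (h.trans hone.symm))
    have hy' : MulAction.ofQuotientStabilizer G a y ≠ a := fun h => hy (hinj (h.trans hone.symm))
    obtain ⟨u, hu, h⟩ := hex _ _ hx' hy'
    refine ⟨⟨u, hu⟩, hinj ?_, ?_⟩
    · rw [hsm]; exact h
    · rintro ⟨v, hv⟩ hvy
      have h1 : v • MulAction.ofQuotientStabilizer G a x = MulAction.ofQuotientStabilizer G a y := by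
        rw [← hsm]; exact congrArg _ hvy
      have h2 : (u⁻¹ * v) • MulAction.ofQuotientStabilizer G a x
          = MulAction.ofQuotientStabilizer G a x := by
        rw [mul_smul, h1, ← h, inv_smul_smul]
      have h3 := hfree _ (mul_mem (inv_mem hu) hv) _ hx' h2
      apply Subtype.ext
      exact (inv_mul_eq_one.1 h3).symm

theorem main [Finite G] (a : Ω) (U : Subgroup G) (n k : ℕ) (hn : 1 ≤ n) (hk : Odd k)
    (h2t : ∀ x y x' y' : Ω, x ≠ y → x' ≠ y' → ∃ g : G, g • x = x' ∧ g • y = y')
    (hUfix : ∀ u ∈ U, u • a = a)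
    (hUn : ∀ g : G, g • a = a → ∀ u ∈ U, g * u * g⁻¹ ∈ U)
    (hex : ∀ x y : Ω, x ≠ a → y ≠ a → ∃ u ∈ U, u • x = y)
    (hfree : ∀ u ∈ U, ∀ x : Ω, x ≠ a → u • x = x → u = 1)
    (hU : Nat.card U = 2 ^ n) (hΩ : Nat.card Ω = 2 ^ n + 1)
    (hG : Nat.card G = 2 ^ n * k * (2 ^ n + 1)) :
    ∃ S : Sylow 2 G, (S : Subgroup G) = U ∧
      Nat.card (Subgroup.normalizer ((S : Subgroup G) : Set G)) = 2 ^ n * k ∧
      (Subgroup.normalizer ((S : Subgroup G) : Set G)).index = 2 ^ n + 1 ∧
      MulAction.IsMultiplyPretransitive G (G ⧸ Subgroup.normalizer ((S : Subgroup G) : Set G)) 2 ∧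
      ∀ x y : G ⧸ Subgroup.normalizer ((S : Subgroup G) : Set G),
        x ≠ (QuotientGroup.mk 1) → y ≠ (QuotientGroup.mk 1) →
          ∃! s : ↥(S : Subgroup G), (s : G) • x = y := by
  have : Fact (Nat.Prime 2) := ⟨Nat.prime_two⟩
  have hfin : Finite Ω := Nat.finite_of_card_ne_zero (by rw [hΩ]; omega)
  have h2n : 2 ≤ 2 ^ n := by
    calc 2 = 2 ^ 1 := by norm_num
      _ ≤ 2 ^ n := Nat.pow_le_pow_right (by norm_num) hn
  -- transitivity
  have htr : MulAction.IsPretransitive G Ω := by
    constructor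
    have key : ∀ x : Ω, ∃ g : G, g • a = x := by
      intro x
      by_cases hx : x = a
      · exact ⟨1, by rw [one_smul, hx]⟩
      · obtain ⟨g, h1, _⟩ := h2t a x x a (fun h => hx h.symm) hx
        exact ⟨g, h1⟩
    intro x y
    obtain ⟨g1, rfl⟩ := key x
    obtain ⟨g2, rfl⟩ := key y
    exact ⟨g2 * g1⁻¹, by rw [mul_smul, inv_smul_smul]⟩
  have hidxB : (MulAction.stabilizer G a).index = 2 ^ n + 1 := by
    rw [MulAction.index_stabilizer_of_transitive, hΩ]
  have hcardB : Nat.card (MulAction.stabilizer G a) = 2 ^ n * k := by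
    have h1 := Subgroup.card_mul_index (MulAction.stabilizer G a)
    rw [hidxB, hG] at h1
    exact Nat.eq_of_mul_eq_mul_right (by omega) h1
  -- Sylow
  have hp : IsPGroup 2 U := IsPGroup.of_card hU
  have hidx : ¬ 2 ∣ U.index := by
    have h1 := Subgroup.card_mul_index U
    rw [hU, hG, mul_assoc] at h1
    have h2 : U.index = k * (2 ^ n + 1) := Nat.eq_of_mul_eq_mul_left (by positivity) h1
    rw [h2]
    have hodd : Odd (k * (2 ^ n + 1)) := by
      apply Odd.mul hk
      exact Even.add_one (Even.pow_of_ne_zero even_two (by omega))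
    intro hd
    exact (Nat.not_even_iff_odd.2 hodd) (even_iff_two_dvd.2 hd)
  let S : Sylow 2 G := hp.toSylow hidx
  have hS : (S : Subgroup G) = U := rfl
  -- normalizer
  have hnorm : Subgroup.normalizer ((S : Subgroup G) : Set G) = MulAction.stabilizer G a := by
    rw [hS]
    ext g
    rw [MulAction.mem_stabilizer_iff]
    constructor
    · intro hg
      by_contra hne
      have hfix : ∀ u ∈ U, u • (g • a) = g • a := by
        intro u hu
        have h1 : g⁻¹ * u * g⁻¹⁻¹ ∈ U := by
          have := (Subgroup.mem_normalizer_iff.1 (inv_mem hg) u).1 hu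
          exact this
        rw [inv_inv] at h1
        have h2 := hUfix _ h1
        rw [mul_smul, mul_smul, inv_smul_eq_iff] at h2
        exact h2
      -- there is a third point
      have h3 : ∃ y : Ω, y ≠ a ∧ y ≠ g • a := by
        by_contra hno
        push Not at hno
        have hsub : (Set.univ : Set Ω) ⊆ {a, g • a} := by
          intro y _
          by_cases hy : y = a
          · left; exact hy
          · right; exact hno y hy
        have h4 : Nat.card Ω ≤ 2 := by
          rw [← Set.ncard_univ]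
          calc (Set.univ : Set Ω).ncard ≤ ({a, g • a} : Set Ω).ncard :=
                Set.ncard_le_ncard hsub (Set.toFinite _)
            _ ≤ 2 := (Set.ncard_insert_le a {g • a}).trans (by rw [Set.ncard_singleton])
        omega
      obtain ⟨y, hya, hyg⟩ := h3
      obtain ⟨u, hu, huy⟩ := hex (g • a) y hne hya
      rw [hfix u hu] at huy
      exact hyg huy.symm
    · intro hg
      rw [Subgroup.mem_normalizer_iff]
      intro u
      constructor
      · intro hu
        exact hUn g hg u hu
      · intro hu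
        have hg' : g⁻¹ • a = a := by rw [inv_smul_eq_iff, hg]
        have := hUn g⁻¹ hg' _ hu
        rw [inv_inv] at this
        have e : g⁻¹ * (g * u * g⁻¹) * g = u := by group
        rwa [e] at this
  refine ⟨S, hS, ?_, ?_, ?_⟩
  · rw [hnorm, hcardB]
  · rw [hnorm, hidxB]
  · exact quot_facts a U h2t hex hfree _ _ hnorm hS

end Cfsg.Agent.Lib.helper25.TwoTransSyl
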