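import Cfsg.Agent.Lib.helper25.SzIso3
import Cfsg.Agent.Lib.helper25.TwoTransSyl
import Cfsg.Agent.Lib.helper2.Suzuki6

set_option autoImplicit false

namespace Cfsg.Agent.Lib.helper25.SzIso

open Cfsg.Agent.Lib.helper2.Suzuki
open Cfsg.Agent.Lib.helper2.Ovoid (N)
open Matrix

variable {F : Type*} [Field F] [Fintype F] {s : ℕ} (H : Hyp F s)

/-- action of the matrix Suzuki group on the ovoid through the isomorphism -/
noncomputable def szAction : MulAction ↥(Cfsg.Lie.Sz F s) ↥(ov F s) :=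
  MulAction.compHom _ (szEquiv H).symm.toMonoidHom

/-- the image of the translation group -/
noncomputable def szU : Subgroup ↥(Cfsg.Lie.Sz F s) :=
  ((Us H).subgroupOf (Gs F s)).map (szEquiv H).toMonoidHom

include H in
theorem card_szU : Nat.card ↥(szU H) = Fintype.card F ^ 2 := by
  rw [szU, Subgroup.card_map_of_injective (szEquiv H).injective,
    Nat.card_congr (Subgroup.subgroupOfEquivOfLe (Us_le_Gs H)).toEquiv, card_U H]

include H in
theorem card_Sz :
    Nat.card ↥(Cfsg.Lie.Sz F s)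
      = Fintype.card F ^ 2 * (Fintype.card F ^ 2 + 1) * (Fintype.card F - 1) := by
  rw [← Nat.card_congr (szEquiv H).toEquiv, card_Gs H]

include H in
theorem sz_struct (r : ℕ) (hr : 1 ≤ r) (hq : Fintype.card F = 2 ^ r) :
    ∃ S : Sylow 2 ↥(Cfsg.Lie.Sz F s),
      (S : Subgroup ↥(Cfsg.Lie.Sz F s)) = szU H ∧
      Nat.card (Subgroup.normalizer ((S : Subgroup ↥(Cfsg.Lie.Sz F s)) : Set ↥(Cfsg.Lie.Sz F s)))
        = Fintype.card F ^ 2 * (Fintype.card F - 1) ∧
      (Subgroup.normalizer ((S : Subgroup ↥(Cfsg.Lie.Sz F s)) : Set ↥(Cfsg.Lie.Sz F s))).index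
        = Fintype.card F ^ 2 + 1 ∧
      MulAction.IsMultiplyPretransitive ↥(Cfsg.Lie.Sz F s) (↥(Cfsg.Lie.Sz F s) ⧸
        Subgroup.normalizer ((S : Subgroup ↥(Cfsg.Lie.Sz F s)) : Set ↥(Cfsg.Lie.Sz F s))) 2 ∧
      ∀ x y : ↥(Cfsg.Lie.Sz F s) ⧸
          Subgroup.normalizer ((S : Subgroup ↥(Cfsg.Lie.Sz F s)) : Set ↥(Cfsg.Lie.Sz F s)),
        x ≠ (QuotientGroup.mk 1) → y ≠ (QuotientGroup.mk 1) →
          ∃! t : ↥(S : Subgroup ↥(Cfsg.Lie.Sz F s)), (t : ↥(Cfsg.Lie.Sz F s)) • x = y := by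
  let _ := szAction H
  have hs := s_ne_zero H
  have hact : ∀ (g : ↥(Cfsg.Lie.Sz F s)) (x : ↥(ov F s)),
      g • x = ((szEquiv H).symm g) • x := fun _ _ => rfl
  have hval : ∀ (g : ↥(Gs F s)) (x : ↥(ov F s)),
      ((g • x : ↥(ov F s)) : Projectivization F (Fin 4 → F))
        = (g : Matrix.SpecialLinearGroup (Fin 4) F) • (x : Projectivization F (Fin 4 → F)) :=
    fun _ _ => rfl
  have hq2 : Fintype.card F ^ 2 = 2 ^ (2 * r) := by rw [hq, ← pow_mul, mul_comm]
  have hodd : Odd (Fintype.card F - 1) := by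
    rw [hq]
    exact Nat.Even.sub_odd (Nat.one_le_two_pow) (Even.pow_of_ne_zero even_two (by omega)) odd_one
  have hne : ∀ x : ↥(ov F s), x ≠ ⟨inf F, inf_mem s⟩ → ∃ x1 y1, x = ⟨P s x1 y1, P_mem s x1 y1⟩ := by
    rintro ⟨p, hp⟩ hx
    rcases (mem_ov s).1 hp with rfl | ⟨x1, y1, rfl⟩
    · exact absurd rfl hx
    · exact ⟨x1, y1, rfl⟩
  have hmain := TwoTransSyl.main (G := ↥(Cfsg.Lie.Sz F s)) (Ω := ↥(ov F s))
    (⟨inf F, inf_mem s⟩ : ↥(ov F s)) (szU H) (2 * r) (Fintype.card F - 1) (by omega) hodd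
    ?_ ?_ ?_ ?_ ?_ ?_ ?_ ?_
  · obtain ⟨S, h0, h1, h2, h3, h4⟩ := hmain
    refine ⟨S, h0, ?_, ?_, h3, h4⟩
    · rw [h1, hq2]
    · rw [h2, hq2]
  · -- 2-transitivity
    intro x y x' y' hxy hxy'
    have hz := (zassenhaus H).2.1
    rw [MulAction.is_two_pretransitive_iff] at hz
    obtain ⟨g, h1, h2⟩ := hz hxy hxy'
    refine ⟨szEquiv H g, ?_, ?_⟩
    · rw [hact, MulEquiv.symm_apply_apply]; exact h1
    · rw [hact, MulEquiv.symm_apply_apply]; exact h2
  · -- U fixes infinity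
    rintro _ ⟨u, hu, rfl⟩
    change szEquiv H u • _ = _
    rw [hact, MulEquiv.symm_apply_apply]
    apply Subtype.ext
    rw [hval]
    obtain ⟨a, b, hab⟩ := hu
    have hab' : u.1 = tS s a b := hab
    change u.1 • inf F = inf F
    rw [hab']
    exact tS_smul_inf s a b
  · -- U is normalized by the stabilizer
    rintro g' hg' _ ⟨u, hu, rfl⟩
    change g' * szEquiv H u * g'⁻¹ ∈ _
    have hg'' : ((szEquiv H).symm g' : Matrix.SpecialLinearGroup (Fin 4) F) • inf F = inf F := by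
      have := congrArg Subtype.val hg'
      rw [hact, hval] at this
      exact this
    obtain ⟨a, b, l, hg⟩ := stab_inf H ((szEquiv H).symm g').2 hg''
    obtain ⟨a', b', hab⟩ := hu
    refine ⟨(szEquiv H).symm g' * u * ((szEquiv H).symm g')⁻¹, ?_, ?_⟩
    · change ((szEquiv H).symm g' * u * ((szEquiv H).symm g')⁻¹).1 ∈ Us H
      have e1 : ((szEquiv H).symm g' * u * ((szEquiv H).symm g')⁻¹).1
          = tS s a b * tS s ((l : F) ^ 2 * a') ((l : F) ^ (2 * s + 2) * b') * (tS s a b)⁻¹ := by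
        change ((szEquiv H).symm g').1 * u.1 * (((szEquiv H).symm g').1)⁻¹ = _
        have hab' : u.1 = tS s a' b' := hab
        rw [hg, hab', _root_.mul_inv_rev, mul_assoc (tS s a b) (eS s l), eS_tS H]
        group
      rw [e1]
      exact mul_mem (mul_mem ⟨a, b, rfl⟩ ⟨_, _, rfl⟩) (inv_mem ⟨a, b, rfl⟩)
    · simp only [MulEquiv.coe_toMonoidHom, map_mul, map_inv, MulEquiv.apply_symm_apply]
  · -- existence
    intro x y hx hy
    obtain ⟨x1, y1, rfl⟩ := hne x hx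
    obtain ⟨x2, y2, rfl⟩ := hne y hy
    let u : ↥(Gs F s) := ⟨tS s (x2 - x1) (y2 - y1 - (x2 - x1) ^ s * x1), tS_mem H _ _⟩
    refine ⟨szEquiv H u, ⟨u, ⟨_, _, rfl⟩, rfl⟩, ?_⟩
    rw [hact, MulEquiv.symm_apply_apply]
    apply Subtype.ext
    rw [hval]
    change tS s (x2 - x1) (y2 - y1 - (x2 - x1) ^ s * x1) • P s x1 y1 = P s x2 y2
    rw [tS_smul_P H]
    congr 1 <;> ring
  · -- freeness
    rintro _ ⟨u, hu, rfl⟩ x hx hfix
    change szEquiv H u • x = x at hfix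
    change szEquiv H u = 1
    obtain ⟨x1, y1, rfl⟩ := hne x hx
    rw [hact, MulEquiv.symm_apply_apply] at hfix
    have h1 := congrArg Subtype.val hfix
    rw [hval] at h1
    obtain ⟨a, b, hab⟩ := hu
    have hab' : u.1 = tS s a b := hab
    rw [hab'] at h1
    change tS s a b • P s x1 y1 = P s x1 y1 at h1
    rw [tS_smul_P H] at h1
    obtain ⟨e1, e2⟩ := P_inj s h1
    have ha : a = 0 := by linear_combination e1
    rw [ha, zero_pow hs, zero_mul] at e2
    have hb : b = 0 := by linear_combination e2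
    have hu1 : u = 1 := by
      apply Subtype.ext
      rw [hab', ha, hb, tS_zero H]
      rfl
    rw [hu1, map_one]
  · rw [card_szU H, hq2]
  · rw [card_ov, hq2]
  · rw [card_Sz H, hq2]
    ring

end Cfsg.Agent.Lib.helper25.SzIso
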