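import Mathlib
import Cfsg.Agent.Lib.helper25.SzSol8

/-!
# Suzuki groups: the subfield embedding (library, seat helper25)
-/

set_option autoImplicit false
set_option linter.unusedSectionVars false
set_option linter.unusedSimpArgs false
set_option linter.style.haveILetI false

namespace Cfsg.Agent.Lib.helper25.SzSub

open Cfsg.Agent.Lib.helper2.Suzuki
open Cfsg.Agent.Lib.helper2
open Cfsg.Agent.Lib.helper2.Ovoid (N)
open Cfsg.Agent.Lib.helper25.SzOut
open Cfsg.Agent.Lib.helper25.SzCover
open Cfsg.Agent.Lib.helper25.SzPart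
open Subgroup

/-- the twisting exponents of a field and a subfield agree on the subfield -/
theorem sigma_compat {K F : Type*} [Field K] [Fintype K] [Field F] {m k : ℕ}
    (hK : Fintype.card K = 2 ^ (2 * k + 1)) (hdiv : 2 * k + 1 ∣ 2 * m + 1) (f : K →+* F)
    (a : K) : f a ^ (2 ^ (m + 1)) = f a ^ (2 ^ (k + 1)) := by
  obtain ⟨d, hd⟩ := hdiv
  have hpow : ∀ j : ℕ, a ^ ((2 ^ (2 * k + 1)) ^ j) = a := by
    intro j
    induction j with
    | zero => simp
    | succ j ih => rw [pow_succ (2 ^ (2 * k + 1)) j, pow_mul, ih, ← hK, FiniteField.pow_card]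
  obtain ⟨j, hj⟩ : ∃ j, m + 1 = (k + 1) + (2 * k + 1) * j := by
    rcases Nat.even_or_odd' d with ⟨j, rfl | rfl⟩
    · exfalso
      have e : (2 * k + 1) * (2 * j) = 2 * ((2 * k + 1) * j) := by ring
      rw [e] at hd
      omega
    · refine ⟨j, ?_⟩
      have e : (2 * k + 1) * (2 * j + 1) = 2 * ((2 * k + 1) * j) + (2 * k + 1) := by ring
      rw [e] at hd
      omega
  rw [← map_pow, ← map_pow]
  congr 1
  have e : 2 ^ (k + 1 + (2 * k + 1) * j) = (2 ^ (2 * k + 1)) ^ j * 2 ^ (k + 1) := by
    rw [pow_add, pow_mul, mul_comm]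
  rw [hj, e, pow_mul, hpow]

/-- the image of a finite field consists of all roots of `X^|K| - X` -/
theorem mem_range_of_pow {K F : Type*} [Field K] [Fintype K] [Field F] (f : K →+* F) {x : F}
    (hx : x ^ Fintype.card K = x) : x ∈ Set.range f := by
  classical
  have hK1 : 1 < Fintype.card K := Fintype.one_lt_card
  have hp0 : (Polynomial.X ^ Fintype.card K - Polynomial.X : Polynomial F) ≠ 0 :=
    FiniteField.X_pow_card_sub_X_ne_zero F hK1
  have hdeg : (Polynomial.X ^ Fintype.card K - Polynomial.X : Polynomial F).natDegree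
      = Fintype.card K := FiniteField.X_pow_card_sub_X_natDegree_eq F hK1
  have hroot : ∀ y : F,
      y ∈ (Polynomial.X ^ Fintype.card K - Polynomial.X : Polynomial F).roots.toFinset ↔
        y ^ Fintype.card K = y := by
    intro y
    rw [Multiset.mem_toFinset, Polynomial.mem_roots hp0, Polynomial.IsRoot.def]
    simp [sub_eq_zero]
  have hsub : Finset.univ.image f
      ⊆ (Polynomial.X ^ Fintype.card K - Polynomial.X : Polynomial F).roots.toFinset := by
    intro y hy
    obtain ⟨a, -, rfl⟩ := Finset.mem_image.1 hy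
    rw [hroot, ← map_pow, FiniteField.pow_card]
  have hcard : (Polynomial.X ^ Fintype.card K - Polynomial.X : Polynomial F).roots.toFinset.card
      ≤ (Finset.univ.image f).card := by
    rw [Finset.card_image_of_injective _ f.injective, Finset.card_univ]
    calc (Polynomial.X ^ Fintype.card K - Polynomial.X : Polynomial F).roots.toFinset.card
        ≤ Multiset.card (Polynomial.X ^ Fintype.card K - Polynomial.X : Polynomial F).roots :=
          Multiset.toFinset_card_le _
      _ ≤ (Polynomial.X ^ Fintype.card K - Polynomial.X : Polynomial F).natDegree :=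
          Polynomial.card_roots' _
      _ = Fintype.card K := hdeg
  have heq := Finset.eq_of_subset_of_card_le hsub hcard
  have hxm : x ∈ Finset.univ.image f := by
    rw [heq, hroot]
    exact hx
  obtain ⟨a, -, rfl⟩ := Finset.mem_image.1 hxm
  exact ⟨a, rfl⟩

section rg

variable {K F : Type*} [Field K] [Field F] (f : K →+* F)

theorem rg_zero : (0 : F) ∈ Set.range f := ⟨0, map_zero f⟩

theorem rg_one : (1 : F) ∈ Set.range f := ⟨1, map_one f⟩

theorem rg_add {x y : F} (hx : x ∈ Set.range f) (hy : y ∈ Set.range f) :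
    x + y ∈ Set.range f := by
  obtain ⟨a, rfl⟩ := hx
  obtain ⟨b, rfl⟩ := hy
  exact ⟨a + b, map_add f a b⟩

theorem rg_mul {x y : F} (hx : x ∈ Set.range f) (hy : y ∈ Set.range f) :
    x * y ∈ Set.range f := by
  obtain ⟨a, rfl⟩ := hx
  obtain ⟨b, rfl⟩ := hy
  exact ⟨a * b, map_mul f a b⟩

theorem rg_inv {x : F} (hx : x ∈ Set.range f) : x⁻¹ ∈ Set.range f := by
  obtain ⟨a, rfl⟩ := hx
  exact ⟨a⁻¹, map_inv₀ f a⟩

theorem rg_pow {x : F} (hx : x ∈ Set.range f) (n : ℕ) : x ^ n ∈ Set.range f := by
  obtain ⟨a, rfl⟩ := hx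
  exact ⟨a ^ n, map_pow f a n⟩

end rg

section emb0

variable {K : Type*} [Field K] {F : Type*} [Field F] (f : K →+* F)

/-- the entrywise map of `SL₄` induced by a field embedding -/
noncomputable def subMap :
    Matrix.SpecialLinearGroup (Fin 4) K →* Matrix.SpecialLinearGroup (Fin 4) F :=
  Matrix.SpecialLinearGroup.map f

theorem subMap_val (g : Matrix.SpecialLinearGroup (Fin 4) K) (i j : Fin 4) :
    (subMap f g).val i j = f (g.val i j) := rfl

theorem subMap_wS : subMap f (wS K) = wS F := by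
  apply Subtype.ext
  ext i j
  rw [subMap_val]
  fin_cases i <;> fin_cases j <;> simp [wS, wm]

theorem subMap_inj : Function.Injective (subMap f) := by
  intro g g' h
  apply Subtype.ext
  ext i j
  have h1 := congrArg (fun x : Matrix.SpecialLinearGroup (Fin 4) F => x.val i j) h
  simp only [subMap_val] at h1
  exact f.injective h1

end emb0

section emb

variable {K : Type*} [Field K] [Fintype K] {F : Type*} [Field F] [Fintype F] {sK sF : ℕ}
  (HK : Hyp K sK) (HF : Hyp F sF) (f : K →+* F) (hf : ∀ a : K, f a ^ sF = f a ^ sK)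
include HK HF hf

/-- square roots of elements of the subfield lie in the subfield -/
theorem rg_sqrt {x : F} (hx : x ^ 2 ∈ Set.range f) : x ∈ Set.range f := by
  obtain ⟨c, hc⟩ := hx
  obtain ⟨d, hd⟩ := exists_sqrt HK c
  refine ⟨d, ?_⟩
  apply sq_inj HF
  rw [← map_pow, hd, hc]

theorem subMap_tS (a b : K) : subMap f (tS sK a b) = tS sF (f a) (f b) := by
  apply Subtype.ext
  ext i j
  rw [subMap_val]
  fin_cases i <;> fin_cases j <;>
    simp [tS, tm, N, map_add, map_mul, map_pow, pow_succ, hf]

theorem subMap_eS (l : Kˣ) : subMap f (eS sK l) = eS sF (Units.map (f : K →* F) l) := by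
  apply Subtype.ext
  ext i j
  rw [subMap_val]
  fin_cases i <;> fin_cases j <;>
    simp [eS, Cfsg.Agent.Lib.helper2.Suzuki.em, map_inv₀, map_pow, pow_succ, hf]

theorem subMap_mem {g : Matrix.SpecialLinearGroup (Fin 4) K} (hg : g ∈ Gs K sK) :
    subMap f g ∈ Gs F sF := by
  rcases decomp HK hg with ⟨a, b, l, rfl⟩ | ⟨a, b, a', b', l, rfl⟩
  · rw [map_mul, subMap_tS HK HF f hf, subMap_eS HK HF f hf]
    exact mul_mem (tS_mem HF _ _) (eS_mem HF _)
  · simp only [map_mul, subMap_tS HK HF f hf, subMap_eS HK HF f hf, subMap_wS]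
    exact mul_mem (mul_mem (tS_mem HF _ _) (wS_mem HF)) (mul_mem (tS_mem HF _ _) (eS_mem HF _))

/-- the subfield embedding of Suzuki groups -/
noncomputable def subHom : ↥(Gs K sK) →* ↥(Gs F sF) :=
  ((subMap f).comp (Gs K sK).subtype).codRestrict (Gs F sF)
    (fun g => subMap_mem HK HF f hf g.2)

theorem subHom_inj : Function.Injective (subHom HK HF f hf) := by
  intro g g' h
  apply Subtype.ext
  apply subMap_inj f
  exact congrArg Subtype.val h

theorem subHom_tG (a b : K) : subHom HK HF f hf (tG HK a b) = tG HF (f a) (f b) :=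
  Subtype.ext (subMap_tS HK HF f hf a b)

theorem subHom_eG (l : Kˣ) :
    subHom HK HF f hf (eG HK l) = eG HF (Units.map (f : K →* F) l) :=
  Subtype.ext (subMap_eS HK HF f hf l)

theorem subHom_wG : subHom HK HF f hf (wG HK) = wG HF := Subtype.ext (subMap_wS f)

/-- elements with coordinates in the subfield lie in the subfield subgroup -/
theorem tG_mem_range {x y : F} (hx : x ∈ Set.range f) (hy : y ∈ Set.range f) :
    tG HF x y ∈ (subHom HK HF f hf).range := by
  obtain ⟨a, rfl⟩ := hx
  obtain ⟨b, rfl⟩ := hy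
  exact ⟨tG HK a b, subHom_tG HK HF f hf a b⟩

theorem eG_mem_range {l : Fˣ} (hl : (l : F) ∈ Set.range f) :
    eG HF l ∈ (subHom HK HF f hf).range := by
  obtain ⟨a, ha⟩ := hl
  have ha0 : a ≠ 0 := by
    rintro rfl
    rw [map_zero] at ha
    exact l.ne_zero ha.symm
  refine ⟨eG HK (Units.mk0 a ha0), ?_⟩
  rw [subHom_eG]
  congr 1
  ext
  exact ha

theorem wG_mem_range : wG HF ∈ (subHom HK HF f hf).range :=
  ⟨wG HK, subHom_wG HK HF f hf⟩

end emb

end Cfsg.Agent.Lib.helper25.SzSub
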