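import Mathlib
import Cfsg.Agent.Lib.helper25.SzSub1

/-!
# Suzuki groups: rigidity of embeddings of subfield groups (library, seat helper25)
-/

set_option autoImplicit false
set_option linter.unusedSectionVars false
set_option linter.unusedSimpArgs false
set_option linter.unusedVariables false
set_option linter.style.haveILetI false

namespace Cfsg.Agent.Lib.helper25.SzSub

open Cfsg.Agent.Lib.helper2.Suzuki
open Cfsg.Agent.Lib.helper2
open Cfsg.Agent.Lib.helper2.Ovoid (N)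
open Cfsg.Agent.Lib.helper25.SzOut
open Cfsg.Agent.Lib.helper25.SzCover
open Cfsg.Agent.Lib.helper25.SzPart
open Cfsg.Agent.Lib.helper25.SzFix
open Cfsg.Agent.Lib.helper25.SzSol
open Subgroup

section cg

variable {F : Type*} [Field F] [Fintype F] {s : ℕ} (H : Hyp F s)

theorem tG_congr {a a' b b' : F} (ha : a = a') (hb : b = b') : tG H a b = tG H a' b' := by
  rw [ha, hb]

end cg

section alg

variable {K : Type*} [Field K] [Fintype K] {F : Type*} [Field F] [Fintype F] {sK sF : ℕ}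
  (HK : Hyp K sK) (HF : Hyp F sF) (f : K →+* F) (hf : ∀ a : K, f a ^ sF = f a ^ sK)
  (ψ : ↥(Gs K sK) →* ↥(Gs F sF)) (hψ : Function.Injective ψ)
  (hU : ∀ a b : K, ∃ x y : F, ψ (tG HK a b) = tG HF x y)
  (hH : ∀ l : Kˣ, ∃ lam : Fˣ, ψ (eG HK l) = eG HF lam)
  (hn : ∃ c : F, ψ (tG HK 1 0) = tG HF 1 c)
include HK HF hf hψ hU hH hn

theorem st4_a {l : Kˣ} {lam : Fˣ} (h : ψ (eG HK l) = eG HF lam) : (lam : F) ∈ Set.range f := by
  apply mem_range_of_pow f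
  have h1 : (eG HK l) ^ (Fintype.card K - 1) = 1 := by
    rw [eG_pow, ← eG_one HK]
    congr 1
    have := pow_card_eq_one' (x := l)
    rw [Nat.card_units, Nat.card_eq_fintype_card] at this
    exact this
  have h2 : (eG HF lam) ^ (Fintype.card K - 1) = 1 := by
    rw [← h, ← map_pow, h1, map_one]
  rw [eG_pow, ← eG_one HF] at h2
  have h3 := eG_inj HF h2
  have h4 : (lam : F) ^ (Fintype.card K - 1) = 1 := by
    have := congrArg Units.val h3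
    simpa using this
  have hK1 : 1 ≤ Fintype.card K := Fintype.card_pos
  have e : (lam : F) ^ Fintype.card K = (lam : F) ^ (Fintype.card K - 1) * (lam : F) := by
    rw [← pow_succ]
    congr 1
    omega
  rw [e, h4, one_mul]

theorem st4_b : ψ (tG HK 0 1) = tG HF 0 1 := by
  obtain ⟨c, hc⟩ := hn
  have h1 : tG HK (1 : K) 0 * tG HK 1 0 = tG HK 0 1 := by
    rw [tG_sq, one_pow]
  have h2 : tG HF (1 : F) c * tG HF 1 c = tG HF 0 1 := by
    rw [tG_sq, one_pow]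
  rw [← h1, map_mul, hc, h2]

theorem st4_c (b : K) : ∃ y : F, y ∈ Set.range f ∧ ψ (tG HK 0 b) = tG HF 0 y := by
  have hsK := s_ne_zero HK
  by_cases hb : b = 0
  · subst hb
    refine ⟨0, rg_zero f, ?_⟩
    rw [tG_zero, tG_zero, map_one]
  · obtain ⟨d, hd⟩ := pow_s1_surj HK b
    obtain ⟨e, he⟩ := exists_sqrt HK d
    have he0 : e ≠ 0 := by
      rintro rfl
      rw [zero_pow (by norm_num)] at he
      rw [← he, zero_pow (by omega)] at hd
      exact hb hd.symm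
    obtain ⟨lam, hlam⟩ := hH (Units.mk0 e he0)
    have hlr := st4_a HK HF f hf ψ hψ hU hH hn hlam
    refine ⟨(lam : F) ^ (2 * sF + 2), rg_pow f hlr _, ?_⟩
    have h1 : eG HK (Units.mk0 e he0) * tG HK 0 1 * (eG HK (Units.mk0 e he0))⁻¹ = tG HK 0 b := by
      rw [eG_conj]
      refine tG_congr HK (by simp) ?_
      rw [Units.val_mk0, mul_one, ← hd, ← he]
      ring
    rw [← h1, map_mul, map_mul, map_inv, hlam, st4_b HK HF f hf ψ hψ hU hH hn, eG_conj]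
    exact tG_congr HF (by simp) (by simp)

theorem st4_d {l : Kˣ} {lam : Fˣ} (h : ψ (eG HK l) = eG HF lam) {c : F}
    (hc : ψ (tG HK 1 0) = tG HF 1 c) :
    ψ (tG HK ((l : K) ^ 2) 0) = tG HF ((lam : F) ^ 2) ((lam : F) ^ (2 * sF + 2) * c) := by
  have h1 : eG HK l * tG HK 1 0 * (eG HK l)⁻¹ = tG HK ((l : K) ^ 2) 0 := by
    rw [eG_conj]
    exact tG_congr HK (by simp) (by simp)
  rw [← h1, map_mul, map_mul, map_inv, h, hc, eG_conj]
  exact tG_congr HF (by simp) rfl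

theorem st4_e {c : F} (hc : ψ (tG HK 1 0) = tG HF 1 c) : c ∈ Set.range f := by
  obtain ⟨t, ht0, ht1⟩ := exists_ne01 HK
  have h2K := HK.h2
  have h2F := HF.h2
  have ht1' : 1 + t ≠ 0 := by
    intro h
    apply ht1
    linear_combination h - h2K
  obtain ⟨lam, hlam⟩ := hH (Units.mk0 t ht0)
  obtain ⟨lam', hlam'⟩ := hH (Units.mk0 (1 + t) ht1')
  obtain ⟨y, hyr, hy⟩ := st4_c HK HF f hf ψ hψ hU hH hn (t ^ 2)
  have hlr := st4_a HK HF f hf ψ hψ hU hH hn hlam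
  have hd1 := st4_d HK HF f hf ψ hψ hU hH hn hlam hc
  have hd2 := st4_d HK HF f hf ψ hψ hU hH hn hlam' hc
  rw [Units.val_mk0] at hd1 hd2
  have hid : tG HK 1 0 * tG HK (t ^ 2) 0 = tG HK ((1 + t) ^ 2) 0 * tG HK 0 (t ^ 2) := by
    rw [tG_mul, tG_mul]
    exact tG_congr HK (by linear_combination (-t) * h2K) (by rw [one_pow]; ring)
  have hψid := congrArg ψ hid
  rw [map_mul, map_mul, hc, hd1, hd2, hy, tG_mul, tG_mul] at hψid
  obtain ⟨e1, e2⟩ := tG_inj HF hψid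
  have eP : (lam : F) ^ (2 * sF + 2) = ((lam : F) ^ 2) ^ sF * (lam : F) ^ 2 := by
    rw [← pow_mul, ← pow_add]
  have eP' : (lam' : F) ^ (2 * sF + 2) = (1 + ((lam : F) ^ 2) ^ sF) * (1 + (lam : F) ^ 2) := by
    have e3 : (lam' : F) ^ 2 = 1 + (lam : F) ^ 2 := by linear_combination -e1
    have e4 : (lam' : F) ^ (2 * sF + 2) = ((lam' : F) ^ 2) ^ sF * (lam' : F) ^ 2 := by
      rw [← pow_mul, ← pow_add]
    rw [e4, e3, HF.hadd, one_pow]
  rw [eP, eP', one_pow] at e2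
  have key : c * ((lam : F) ^ 2 + ((lam : F) ^ 2) ^ sF) = (lam : F) ^ 2 + y := by
    linear_combination (-1 : F) * e2 - y * h2F
  have hne : (lam : F) ^ 2 + ((lam : F) ^ 2) ^ sF ≠ 0 := by
    intro h0
    have h1 : ((lam : F) ^ 2) ^ sF = (lam : F) ^ 2 := by
      linear_combination h0 - (lam : F) ^ 2 * h2F
    rcases pow_s_fix HF h1 with h | h
    · exact (pow_ne_zero 2 lam.ne_zero) h
    · have hl1 := unit_sq_eq_one HF h
      have h5 : eG HK (Units.mk0 t ht0) = eG HK 1 := by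
        apply hψ
        rw [hlam, hl1, eG_one, eG_one, map_one]
      have h6 := congrArg Units.val (eG_inj HK h5)
      rw [Units.val_mk0, Units.val_one] at h6
      exact ht1 h6
  have hc' : c = ((lam : F) ^ 2 + y) * ((lam : F) ^ 2 + ((lam : F) ^ 2) ^ sF)⁻¹ := by
    rw [← key, mul_assoc, mul_inv_cancel₀ hne, mul_one]
  rw [hc']
  exact rg_mul f (rg_add f (rg_pow f hlr 2) hyr)
    (rg_inv f (rg_add f (rg_pow f hlr 2) (rg_pow f (rg_pow f hlr 2) sF)))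

theorem st4_f (a b : K) :
    ∃ x y : F, x ∈ Set.range f ∧ y ∈ Set.range f ∧ ψ (tG HK a b) = tG HF x y := by
  obtain ⟨c, hc⟩ := hn
  have hcr := st4_e HK HF f hf ψ hψ hU hH ⟨c, hc⟩ hc
  obtain ⟨y2, hy2r, hy2⟩ := st4_c HK HF f hf ψ hψ hU hH ⟨c, hc⟩ b
  have hsplit : tG HK a b = tG HK a 0 * tG HK 0 b := by
    rw [tG_mul]
    exact tG_congr HK (by ring) (by ring)
  have h1 : ∃ x1 y1 : F, x1 ∈ Set.range f ∧ y1 ∈ Set.range f ∧
      ψ (tG HK a 0) = tG HF x1 y1 := by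
    by_cases ha : a = 0
    · subst ha
      exact ⟨0, 0, rg_zero f, rg_zero f, by rw [tG_zero, tG_zero, map_one]⟩
    · obtain ⟨e, he⟩ := exists_sqrt HK a
      have he0 : e ≠ 0 := by
        rintro rfl
        rw [zero_pow (by norm_num)] at he
        exact ha he.symm
      obtain ⟨lam, hlam⟩ := hH (Units.mk0 e he0)
      have hlr := st4_a HK HF f hf ψ hψ hU hH ⟨c, hc⟩ hlam
      have hd := st4_d HK HF f hf ψ hψ hU hH ⟨c, hc⟩ hlam hc
      rw [Units.val_mk0, he] at hd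
      exact ⟨_, _, rg_pow f hlr 2, rg_mul f (rg_pow f hlr _) hcr, hd⟩
  obtain ⟨x1, y1, hx1, hy1, h1'⟩ := h1
  refine ⟨x1 + 0, y1 + y2 + x1 ^ sF * 0, rg_add f hx1 (rg_zero f),
    rg_add f (rg_add f hy1 hy2r) (rg_mul f (rg_pow f hx1 _) (rg_zero f)), ?_⟩
  rw [hsplit, map_mul, h1', hy2, tG_mul]

theorem st4_g : ∃ nu : Fˣ, ψ (wG HK) = wG HF * eG HF nu := by
  obtain ⟨t, ht0, ht1⟩ := exists_ne01 HK
  have hl0 : (Units.mk0 t ht0) ≠ 1 := by
    intro h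
    have := congrArg Units.val h
    rw [Units.val_mk0, Units.val_one] at this
    exact ht1 this
  obtain ⟨lam0, hlam0⟩ := hH (Units.mk0 t ht0)
  obtain ⟨lam1, hlam1⟩ := hH (Units.mk0 t ht0)⁻¹
  have hlam0ne : lam0 ≠ 1 := by
    rintro rfl
    apply eG_ne_one HK hl0
    apply hψ
    rw [hlam0, eG_one, map_one]
  have hconj : ψ (wG HK) * eG HF lam0 * (ψ (wG HK))⁻¹ = eG HF lam1 := by
    rw [← hlam0, ← hlam1, ← map_inv, ← map_mul, ← map_mul, wG_inv, wG_eG]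
  obtain ⟨nu, h | h⟩ := norm_torus HF hlam0ne hconj
  · exfalso
    have hcomm : wG HK * eG HK (Units.mk0 t ht0) = eG HK (Units.mk0 t ht0) * wG HK := by
      apply hψ
      rw [map_mul, map_mul, hlam0, h, eG_mul, eG_mul, mul_comm nu lam0]
    obtain ⟨l', hl'⟩ := centG_e HK hl0 hcomm
    apply wG_not_mem_BG HK
    rw [hl']
    exact eG_mem_BG HK l'
  · exact ⟨nu, h⟩

theorem st4_h {nu : Fˣ} (hnu : ψ (wG HK) = wG HF * eG HF nu) : (nu : F) ∈ Set.range f := by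
  have hsF := s_ne_zero HF
  have hsK := s_ne_zero HK
  have h01 : ¬ ((0 : K) = 0 ∧ (1 : K) = 0) := by simp
  have hnotB : wG HK * tG HK 0 1 * wG HK ∉ BG K sK := by
    rw [mem_BG]
    show (wS K * tS sK 0 1 * wS K) • inf K ≠ inf K
    rw [mul_smul, mul_smul, wS_smul_inf HK, tS_smul_P00 HK, wS_smul_P HK h01]
    exact P_ne_inf sK _ _
  rcases decompG HK (wG HK * tG HK 0 1 * wG HK) with ⟨a, b, l, h⟩ | ⟨a1, b1, a2, b2, l, h⟩
  · exfalso
    apply hnotB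
    rw [h]
    exact mul_mem (tG_mem_BG HK a b) (eG_mem_BG HK l)
  · obtain ⟨x1, y1, hx1, hy1, h1⟩ := st4_f HK HF f hf ψ hψ hU hH hn a1 b1
    obtain ⟨x2, y2, hx2, hy2, h2⟩ := st4_f HK HF f hf ψ hψ hU hH hn a2 b2
    obtain ⟨lam, hlam⟩ := hH l
    have hb := st4_b HK HF f hf ψ hψ hU hH hn
    have hψh := congrArg ψ h
    simp only [map_mul] at hψh
    rw [hnu, hb, h1, h2, hlam] at hψh
    have hact : (wS F * eS sF nu * tS sF 0 1 * (wS F * eS sF nu)) • inf F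
        = (tS sF x1 y1 * (wS F * eS sF nu) * (tS sF x2 y2 * eS sF lam)) • inf F :=
      congrArg (fun g : ↥(Gs F sF) => g.1 • inf F) hψh
    have hnu0 : (nu : F) ≠ 0 := nu.ne_zero
    have hnz : ¬ ((nu : F) ^ 2 * 0 = 0 ∧ (nu : F) ^ (2 * sF + 2) * 1 = 0) := by
      rintro ⟨-, h0⟩
      rw [mul_one] at h0
      exact pow_ne_zero _ hnu0 h0
    simp only [mul_smul] at hact
    simp only [eS_smul_inf, tS_smul_inf] at hact
    simp only [wS_smul_inf HF] at hact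
    simp only [tS_smul_P00 HF] at hact
    simp only [eS_smul_P HF] at hact
    rw [wS_smul_P HF hnz] at hact
    obtain ⟨e1, -⟩ := P_inj sF hact
    have hN : N sF ((nu : F) ^ 2 * 0) ((nu : F) ^ (2 * sF + 2) * 1)
        = ((nu : F) ^ (2 * sF + 2)) ^ sF := by
      unfold N
      rw [mul_zero, mul_one, zero_mul, zero_pow (by omega), zero_add, zero_add]
    have hY : (nu : F) ^ (2 * sF + 2) = ((nu : F) ^ sF) ^ 2 * (nu : F) ^ 2 := by
      rw [← pow_mul, ← pow_add, mul_comm sF 2]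
    have hYs : ((nu : F) ^ (2 * sF + 2)) ^ sF = ((nu : F) ^ 2) ^ 2 * ((nu : F) ^ sF) ^ 2 := by
      rw [hY, mul_pow, pow_right_comm ((nu : F) ^ sF) 2 sF, HF.hs2,
        pow_right_comm (nu : F) 2 sF]
    have hYne : ((nu : F) ^ (2 * sF + 2)) ^ sF ≠ 0 := pow_ne_zero _ (pow_ne_zero _ hnu0)
    have hkey : ((nu : F) ^ (2 * sF + 2)) * (nu : F) ^ 2 = ((nu : F) ^ (2 * sF + 2)) ^ sF := by
      rw [hYs, hY]
      ring
    have hx1' : x1 * (nu : F) ^ 2 = 1 := by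
      rw [← e1, hN]
      calc (nu : F) ^ (2 * sF + 2) * 1 * (((nu : F) ^ (2 * sF + 2)) ^ sF)⁻¹ * (nu : F) ^ 2
          = ((nu : F) ^ (2 * sF + 2) * (nu : F) ^ 2) * (((nu : F) ^ (2 * sF + 2)) ^ sF)⁻¹ := by
            ring
        _ = 1 := by rw [hkey, mul_inv_cancel₀ hYne]
    have hnu2 : (nu : F) ^ 2 = x1⁻¹ := eq_inv_of_mul_eq_one_right hx1'
    exact rg_sqrt HK HF f hf (by rw [hnu2]; exact rg_inv f hx1)

/-- a normalised embedding has image in the standard subfield subgroup -/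
theorem stage4 (g : ↥(Gs K sK)) : ψ g ∈ (subHom HK HF f hf).range := by
  obtain ⟨nu, hnu⟩ := st4_g HK HF f hf ψ hψ hU hH hn
  have hnur := st4_h HK HF f hf ψ hψ hU hH hn hnu
  have hT : ∀ a b : K, ψ (tG HK a b) ∈ (subHom HK HF f hf).range := by
    intro a b
    obtain ⟨x, y, hx, hy, h⟩ := st4_f HK HF f hf ψ hψ hU hH hn a b
    rw [h]
    exact tG_mem_range HK HF f hf hx hy
  have hE : ∀ l : Kˣ, ψ (eG HK l) ∈ (subHom HK HF f hf).range := by
    intro l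
    obtain ⟨lam, hlam⟩ := hH l
    rw [hlam]
    exact eG_mem_range HK HF f hf (st4_a HK HF f hf ψ hψ hU hH hn hlam)
  have hW : ψ (wG HK) ∈ (subHom HK HF f hf).range := by
    rw [hnu]
    exact mul_mem (wG_mem_range HK HF f hf) (eG_mem_range HK HF f hf hnur)
  rcases decompG HK g with ⟨a, b, l, rfl⟩ | ⟨a, b, a', b', l, rfl⟩
  · rw [map_mul]
    exact mul_mem (hT a b) (hE l)
  · simp only [map_mul]
    exact mul_mem (mul_mem (hT a b) hW) (mul_mem (hT a' b') (hE l))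

end alg

section alg3

variable {K : Type*} [Field K] [Fintype K] {F : Type*} [Field F] [Fintype F] {sK sF : ℕ}
  (HK : Hyp K sK) (HF : Hyp F sF) (f : K →+* F) (hf : ∀ a : K, f a ^ sF = f a ^ sK)
  (ψ : ↥(Gs K sK) →* ↥(Gs F sF))
include HK HF hf

theorem good_conj (v : ↥(Gs F sF))
    (h : ∃ g0 : ↥(Gs F sF), ∀ g, g0 * ((MulAut.conj v).toMonoidHom.comp ψ) g * g0⁻¹
      ∈ (subHom HK HF f hf).range) :
    ∃ g0 : ↥(Gs F sF), ∀ g, g0 * ψ g * g0⁻¹ ∈ (subHom HK HF f hf).range := by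
  obtain ⟨g0, hg0⟩ := h
  refine ⟨g0 * v, fun g => ?_⟩
  have h1 : g0 * (v * ψ g * v⁻¹) * g0⁻¹ ∈ (subHom HK HF f hf).range := hg0 g
  have e : g0 * v * ψ g * (g0 * v)⁻¹ = g0 * (v * ψ g * v⁻¹) * g0⁻¹ := by group
  rw [e]
  exact h1

theorem conj_comp_inj (hψ : Function.Injective ψ) (v : ↥(Gs F sF)) :
    Function.Injective ((MulAut.conj v).toMonoidHom.comp ψ) := by
  intro x y hxy
  apply hψ
  have hxy' : (MulAut.conj v) (ψ x) = (MulAut.conj v) (ψ y) := hxy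
  exact (MulAut.conj v).injective hxy'

theorem stage3 (hψ : Function.Injective ψ)
    (hU : ∀ a b : K, ∃ x y : F, ψ (tG HK a b) = tG HF x y)
    (hH : ∀ l : Kˣ, ∃ lam : Fˣ, ψ (eG HK l) = eG HF lam) :
    ∃ g0 : ↥(Gs F sF), ∀ g, g0 * ψ g * g0⁻¹ ∈ (subHom HK HF f hf).range := by
  have hsF := s_ne_zero HF
  obtain ⟨a0, b0, h10⟩ := hU 1 0
  have h01 : ¬ ((0 : K) = 0 ∧ (1 : K) = 0) := by simp
  have ha0 : a0 ≠ 0 := by
    rintro rfl
    have h1 : tG HK (1 : K) 0 * tG HK 1 0 = tG HK 0 1 := by rw [tG_sq, one_pow]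
    have h2 : ψ (tG HK 0 1) = 1 := by
      rw [← h1, map_mul, h10, tG_sq, zero_pow (by omega), tG_zero]
    have h3 : tG HK (0 : K) 1 = 1 := hψ (by rw [h2, map_one])
    exact tG_ne_one HK h01 h3
  obtain ⟨μ, hμ⟩ := exists_sqrt_unit HF (Units.mk0 a0⁻¹ (inv_ne_zero ha0))
  have hμ' : (μ : F) ^ 2 * a0 = 1 := by
    have h5 := congrArg Units.val hμ
    rw [Units.val_pow_eq_pow_val, Units.val_mk0] at h5
    rw [h5, inv_mul_cancel₀ ha0]
  apply good_conj HK HF f hf ψ (eG HF μ)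
  have hinj := conj_comp_inj HK HF f hf ψ hψ (eG HF μ)
  have hU' : ∀ a b : K, ∃ x y : F,
      ((MulAut.conj (eG HF μ)).toMonoidHom.comp ψ) (tG HK a b) = tG HF x y := by
    intro a b
    obtain ⟨x, y, h⟩ := hU a b
    refine ⟨(μ : F) ^ 2 * x, (μ : F) ^ (2 * sF + 2) * y, ?_⟩
    show eG HF μ * ψ (tG HK a b) * (eG HF μ)⁻¹ = _
    rw [h, eG_conj]
  have hH' : ∀ l : Kˣ, ∃ lam : Fˣ,
      ((MulAut.conj (eG HF μ)).toMonoidHom.comp ψ) (eG HK l) = eG HF lam := by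
    intro l
    obtain ⟨lam, h⟩ := hH l
    refine ⟨μ * lam * μ⁻¹, ?_⟩
    show eG HF μ * ψ (eG HK l) * (eG HF μ)⁻¹ = _
    rw [h, eG_inv, eG_mul, eG_mul]
  have hn' : ∃ c : F, ((MulAut.conj (eG HF μ)).toMonoidHom.comp ψ) (tG HK 1 0) = tG HF 1 c := by
    refine ⟨(μ : F) ^ (2 * sF + 2) * b0, ?_⟩
    show eG HF μ * ψ (tG HK 1 0) * (eG HF μ)⁻¹ = _
    rw [h10, eG_conj, hμ']
  refine ⟨1, fun g => ?_⟩
  rw [one_mul, inv_one, mul_one]
  exact stage4 HK HF f hf _ hinj hU' hH' hn' g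

end alg3

section geo

variable {K : Type*} [Field K] [Fintype K] {k : ℕ} (hk : 1 ≤ k)
  (hK : Fintype.card K = 2 ^ (2 * k + 1)) (HK : Hyp K (2 ^ (k + 1)))
  {F : Type*} [Field F] [Fintype F] {m : ℕ} (hm : 1 ≤ m)
  (hF : Fintype.card F = 2 ^ (2 * m + 1)) (HF : Hyp F (2 ^ (m + 1)))
  (f : K →+* F) (hf : ∀ a : K, f a ^ 2 ^ (m + 1) = f a ^ 2 ^ (k + 1))
  (ψ : ↥(Gs K (2 ^ (k + 1))) →* ↥(Gs F (2 ^ (m + 1)))) (hψ : Function.Injective ψ)
include hk hK HK hm hF HF hf hψ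

theorem stage2 (hU : ∀ a b : K, ∃ x y : F, ψ (tG HK a b) = tG HF x y) :
    ∃ g0 : ↥(Gs F (2 ^ (m + 1))), ∀ g, g0 * ψ g * g0⁻¹ ∈ (subHom HK HF f hf).range := by
  have h10' : ¬ ((1 : K) = 0 ∧ (0 : K) = 0) := by simp
  have hB : ∀ l : Kˣ, ψ (eG HK l) ∈ BG F (2 ^ (m + 1)) := by
    intro l
    obtain ⟨x, y, h10⟩ := hU 1 0
    obtain ⟨x', y', h'⟩ := hU ((l : K) ^ 2 * 1) ((l : K) ^ (2 * 2 ^ (k + 1) + 2) * 0)
    have hxy : ¬ (x = 0 ∧ y = 0) := by
      rintro ⟨rfl, rfl⟩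
      rw [tG_zero] at h10
      have h3 : tG HK (1 : K) 0 = 1 := hψ (by rw [h10, map_one])
      exact tG_ne_one HK h10' h3
    have hc : ψ (eG HK l) * tG HF x y * (ψ (eG HK l))⁻¹ = tG HF x' y' := by
      rw [← h10, ← h', ← map_inv, ← map_mul, ← map_mul, eG_conj]
    exact (mem_BG).2 (fix_inf_of_norm' HF hc hxy)
  obtain ⟨t, ht0, ht1⟩ := exists_ne01 HK
  have hl0 : (Units.mk0 t ht0) ≠ 1 := by
    intro h
    have := congrArg Units.val h
    rw [Units.val_mk0, Units.val_one] at this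
    exact ht1 this
  obtain ⟨h0, hh0⟩ : ∃ h0, h0 = ψ (eG HK (Units.mk0 t ht0)) := ⟨_, rfl⟩
  have hh0ne : h0 ≠ 1 := by
    intro h
    apply eG_ne_one HK hl0
    apply hψ
    rw [map_one, ← hh0]
    exact h
  have hh0B : h0 ∈ BG F (2 ^ (m + 1)) := by
    rw [hh0]
    exact hB _
  have hh0pow : h0 ^ (2 ^ (2 * k + 1) - 1) = 1 := by
    rw [hh0, ← map_pow, eG_pow]
    have h5 : (Units.mk0 t ht0) ^ (2 ^ (2 * k + 1) - 1) = 1 := by
      have := pow_card_eq_one' (x := Units.mk0 t ht0)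
      rw [Nat.card_units, Nat.card_eq_fintype_card, hK] at this
      exact this
    rw [h5, eG_one, map_one]
  rcases classify hm hF HF h0 hh0ne with hN | ⟨k0, a, b, hab, hk0⟩ | ⟨k0, lam, hlam, hk0⟩
  · exfalso
    apply hh0ne
    obtain ⟨hq8, hqe, -, -⟩ := q_facts m hm
    have h1 := pow_card_of_mem (BG F (2 ^ (m + 1))) hh0B
    rw [card_BG HF, hF] at h1
    exact eq_one_of_pows (coprime_rest hq8 hqe) hN h1
  · exfalso
    apply hh0ne
    exact odd_four (odd_q1 hk hK HK) (pow_rest_t hm hF HF hk0) hh0pow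
  · have hh0eq : h0 = k0⁻¹ * eG HF lam * k0 := by
      rw [← hk0]
      group
    have hmove : ∀ p : Projectivization F (Fin 4 → F), eG HF lam • p = p →
        h0 • (k0⁻¹ • p) = k0⁻¹ • p := by
      intro p hp
      rw [← mul_smul]
      have e : h0 * k0⁻¹ = k0⁻¹ * eG HF lam := by
        rw [hh0eq]
        group
      rw [e, mul_smul, hp]
    have hfix : ∃ x y : F, h0 • P (2 ^ (m + 1)) x y = P (2 ^ (m + 1)) x y := by
      rcases decompG HF k0⁻¹ with ⟨a, b, l, hd⟩ | ⟨a, b, a', b', l, hd⟩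
      · refine ⟨a, b, ?_⟩
        have e1 : k0⁻¹ • P (2 ^ (m + 1)) (0 : F) 0 = P (2 ^ (m + 1)) a b := by
          rw [hd, mul_smul]
          have e2 : eG HF l • P (2 ^ (m + 1)) (0 : F) 0 = P (2 ^ (m + 1)) 0 0 :=
            eS_smul_P00 HF l
          have e3 : tG HF a b • P (2 ^ (m + 1)) (0 : F) 0 = P (2 ^ (m + 1)) a b :=
            tS_smul_P00 HF a b
          rw [e2, e3]
        have h6 := hmove _ (eS_smul_P00 HF lam)
        rw [e1] at h6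
        exact h6
      · refine ⟨a, b, ?_⟩
        have e1 : k0⁻¹ • inf F = P (2 ^ (m + 1)) a b := by
          rw [hd]
          simp only [mul_smul]
          have e2 : eG HF l • inf F = inf F := eS_smul_inf _ l
          have e3 : tG HF a' b' • inf F = inf F := tS_smul_inf _ a' b'
          have e4 : wG HF • inf F = P (2 ^ (m + 1)) (0 : F) 0 := wS_smul_inf HF
          have e5 : tG HF a b • P (2 ^ (m + 1)) (0 : F) 0 = P (2 ^ (m + 1)) a b :=
            tS_smul_P00 HF a b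
          rw [e2, e3, e4, e5]
        have h6 := hmove _ (eS_smul_inf _ lam)
        rw [e1] at h6
        exact h6
    obtain ⟨x, y, hxy⟩ := hfix
    have hv1 : ((tG HF x y)⁻¹ * h0 * tG HF x y) ∈ BG F (2 ^ (m + 1)) :=
      mul_mem (mul_mem (inv_mem (tG_mem_BG HF x y)) hh0B) (tG_mem_BG HF x y)
    have hv0 : ((tG HF x y)⁻¹ * h0 * tG HF x y) • P (2 ^ (m + 1)) (0 : F) 0
        = P (2 ^ (m + 1)) 0 0 := by
      rw [mul_smul, mul_smul]
      have e3 : tG HF x y • P (2 ^ (m + 1)) (0 : F) 0 = P (2 ^ (m + 1)) x y :=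
        tS_smul_P00 HF x y
      rw [e3, hxy, inv_smul_eq_iff, e3]
    have hv1' : ((tG HF x y)⁻¹ * h0 * tG HF x y).1 • inf F = inf F := (mem_BG).1 hv1
    have hv0' : ((tG HF x y)⁻¹ * h0 * tG HF x y).1 • P (2 ^ (m + 1)) (0 : F) 0
        = P (2 ^ (m + 1)) 0 0 := hv0
    obtain ⟨lam', hlam'⟩ := fixG HF hv1' hv0'
    have hlam'ne : lam' ≠ 1 := by
      rintro rfl
      rw [eG_one] at hlam'
      apply hh0ne
      have e : h0 = tG HF x y * ((tG HF x y)⁻¹ * h0 * tG HF x y) * (tG HF x y)⁻¹ := by group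
      rw [e, hlam']
      group
    apply good_conj HK HF f hf ψ (tG HF x y)⁻¹
    have hinj := conj_comp_inj HK HF f hf ψ hψ (tG HF x y)⁻¹
    have hψ0 : ((MulAut.conj (tG HF x y)⁻¹).toMonoidHom.comp ψ) (eG HK (Units.mk0 t ht0))
        = eG HF lam' := by
      show (tG HF x y)⁻¹ * ψ (eG HK (Units.mk0 t ht0)) * ((tG HF x y)⁻¹)⁻¹ = _
      rw [inv_inv, ← hh0]
      exact hlam'
    have hu : tG HF x y ∈ UG HF := (mem_UG HF).2 ⟨x, y, rfl⟩
    have hU' : ∀ a b : K, ∃ x' y' : F,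
        ((MulAut.conj (tG HF x y)⁻¹).toMonoidHom.comp ψ) (tG HK a b) = tG HF x' y' := by
      intro a b
      obtain ⟨x1, y1, h⟩ := hU a b
      have h7 : (tG HF x y)⁻¹ * ψ (tG HK a b) * ((tG HF x y)⁻¹)⁻¹ ∈ UG HF := by
        rw [h]
        exact mul_mem (mul_mem (inv_mem hu) ((mem_UG HF).2 ⟨x1, y1, rfl⟩))
          (inv_mem (inv_mem hu))
      exact (mem_UG HF).1 h7
    have hH' : ∀ l : Kˣ, ∃ lam : Fˣ,
        ((MulAut.conj (tG HF x y)⁻¹).toMonoidHom.comp ψ) (eG HK l) = eG HF lam := by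
      intro l
      apply centG_e HF hlam'ne
      rw [← hψ0, ← map_mul, ← map_mul, eG_mul, eG_mul, mul_comm]
    exact stage3 HK HF f hf _ hinj hU' hH'

theorem stage1 :
    ∃ g0 : ↥(Gs F (2 ^ (m + 1))), ∀ g, g0 * ψ g * g0⁻¹ ∈ (subHom HK HF f hf).range := by
  haveI : Fact (Nat.Prime 2) := ⟨Nat.prime_two⟩
  haveI : Finite ↥(Gs F (2 ^ (m + 1))) := Finite.of_injective _ Subtype.val_injective
  have hp : IsPGroup 2 ↥((UG HK).map ψ) := by
    rintro ⟨g, hg⟩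
    obtain ⟨u, hu, rfl⟩ := Subgroup.mem_map.1 hg
    obtain ⟨a, b, rfl⟩ := (mem_UG HK).1 hu
    refine ⟨2, ?_⟩
    apply Subtype.ext
    show (ψ (tG HK a b)) ^ (2 ^ 2) = 1
    rw [← map_pow]
    have h4 : (tG HK a b) ^ (2 ^ 2) = 1 := tG_pow_four HK a b
    rw [h4, map_one]
  obtain ⟨Q, hQ⟩ := hp.exists_le_sylow
  obtain ⟨k0, hk0⟩ := sylow_conj HF (2 * m + 1) (by omega) hF Q
  apply good_conj HK HF f hf ψ k0⁻¹
  have hinj := conj_comp_inj HK HF f hf ψ hψ k0⁻¹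
  have hU' : ∀ a b : K, ∃ x y : F,
      ((MulAut.conj k0⁻¹).toMonoidHom.comp ψ) (tG HK a b) = tG HF x y := by
    intro a b
    have h1 : ψ (tG HK a b) ∈ (Q : Subgroup ↥(Gs F (2 ^ (m + 1)))) :=
      hQ (Subgroup.mem_map.2 ⟨_, (mem_UG HK).2 ⟨a, b, rfl⟩, rfl⟩)
    rw [hk0] at h1
    obtain ⟨u, hu, hu'⟩ := Subgroup.mem_map.1 h1
    obtain ⟨x, y, rfl⟩ := (mem_UG HF).1 hu
    refine ⟨x, y, ?_⟩
    show k0⁻¹ * ψ (tG HK a b) * k0⁻¹⁻¹ = _
    rw [← hu']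
    show k0⁻¹ * (k0 * tG HF x y * k0⁻¹) * k0⁻¹⁻¹ = _
    group
  exact stage2 hk hK HK hm hF HF f hf _ hinj hU'

end geo

section fin

variable {K : Type*} [Field K] [Fintype K] {k : ℕ} (hk : 1 ≤ k)
  (hK : Fintype.card K = 2 ^ (2 * k + 1)) (HK : Hyp K (2 ^ (k + 1)))
  {F : Type*} [Field F] [Fintype F] {m : ℕ} (hm : 1 ≤ m)
  (hF : Fintype.card F = 2 ^ (2 * m + 1)) (HF : Hyp F (2 ^ (m + 1)))
  (f : K →+* F) (hf : ∀ a : K, f a ^ 2 ^ (m + 1) = f a ^ 2 ^ (k + 1))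
include hk hK HK hm hF HF hf

/-- every copy of the subfield group is conjugate to the standard one -/
theorem subfield_conj (S : Subgroup ↥(Gs F (2 ^ (m + 1)))) (e : ↥S ≃* ↥(Gs K (2 ^ (k + 1)))) :
    ∃ g0 : ↥(Gs F (2 ^ (m + 1))),
      S.map (MulAut.conj g0).toMonoidHom = (subHom HK HF f hf).range := by
  haveI : Finite ↥(Gs F (2 ^ (m + 1))) := Finite.of_injective _ Subtype.val_injective
  haveI : Finite ↥(Gs K (2 ^ (k + 1))) := Finite.of_injective _ Subtype.val_injective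
  have hinj : Function.Injective (S.subtype.comp e.symm.toMonoidHom) := by
    intro x y hxy
    apply e.symm.injective
    exact Subtype.ext hxy
  obtain ⟨g0, hg0⟩ := stage1 hk hK HK hm hF HF f hf (S.subtype.comp e.symm.toMonoidHom) hinj
  refine ⟨g0, ?_⟩
  apply Subgroup.eq_of_le_of_card_ge
  · rintro y hy
    obtain ⟨x, hx, rfl⟩ := Subgroup.mem_map.1 hy
    have h1 := hg0 (e ⟨x, hx⟩)
    have e1 : (S.subtype.comp e.symm.toMonoidHom) (e ⟨x, hx⟩) = x := by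
      show ((e.symm (e ⟨x, hx⟩) : ↥S) : ↥(Gs F (2 ^ (m + 1)))) = x
      rw [MulEquiv.symm_apply_apply]
    rw [e1] at h1
    exact h1
  · have c1 : Nat.card ↥(S.map (MulAut.conj g0).toMonoidHom) = Nat.card ↥S :=
      (Nat.card_congr (S.equivMapOfInjective _ (MulAut.conj g0).injective).toEquiv).symm
    have c2 : Nat.card ↥(subHom HK HF f hf).range = Nat.card ↥(Gs K (2 ^ (k + 1))) :=
      (Nat.card_congr (MonoidHom.ofInjective (subHom_inj HK HF f hf)).toEquiv).symm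
    exact le_of_eq (by rw [c1, c2, Nat.card_congr e.toEquiv])

theorem subfield_exists :
    ∃ S : Subgroup ↥(Gs F (2 ^ (m + 1))), Nonempty (↥S ≃* ↥(Gs K (2 ^ (k + 1)))) :=
  ⟨(subHom HK HF f hf).range, ⟨(MonoidHom.ofInjective (subHom_inj HK HF f hf)).symm⟩⟩

theorem subfield_conj2 (S₁ S₂ : Subgroup ↥(Gs F (2 ^ (m + 1))))
    (e1 : ↥S₁ ≃* ↥(Gs K (2 ^ (k + 1)))) (e2 : ↥S₂ ≃* ↥(Gs K (2 ^ (k + 1)))) :
    ∃ g : ↥(Gs F (2 ^ (m + 1))), S₂ = S₁.map (MulAut.conj g).toMonoidHom := by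
  obtain ⟨g1, hg1⟩ := subfield_conj hk hK HK hm hF HF f hf S₁ e1
  obtain ⟨g2, hg2⟩ := subfield_conj hk hK HK hm hF HF f hf S₂ e2
  refine ⟨g2⁻¹ * g1, ?_⟩
  ext y
  constructor
  · intro hy
    have h1 : g2 * y * g2⁻¹ ∈ S₂.map (MulAut.conj g2).toMonoidHom :=
      Subgroup.mem_map.2 ⟨y, hy, rfl⟩
    rw [hg2, ← hg1] at h1
    obtain ⟨x, hx, hx'⟩ := Subgroup.mem_map.1 h1
    refine Subgroup.mem_map.2 ⟨x, hx, ?_⟩
    have hx'' : g1 * x * g1⁻¹ = g2 * y * g2⁻¹ := hx'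
    show g2⁻¹ * g1 * x * (g2⁻¹ * g1)⁻¹ = y
    calc g2⁻¹ * g1 * x * (g2⁻¹ * g1)⁻¹ = g2⁻¹ * (g1 * x * g1⁻¹) * g2 := by group
      _ = y := by rw [hx'']; group
  · intro hy
    obtain ⟨x, hx, hx'⟩ := Subgroup.mem_map.1 hy
    have hx'' : g2⁻¹ * g1 * x * (g2⁻¹ * g1)⁻¹ = y := hx'
    have h1 : g1 * x * g1⁻¹ ∈ S₁.map (MulAut.conj g1).toMonoidHom :=
      Subgroup.mem_map.2 ⟨x, hx, rfl⟩
    rw [hg1, ← hg2] at h1
    obtain ⟨z, hz, hz'⟩ := Subgroup.mem_map.1 h1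
    have hz'' : g2 * z * g2⁻¹ = g1 * x * g1⁻¹ := hz'
    have hyz : y = z := by
      rw [← hx'']
      calc g2⁻¹ * g1 * x * (g2⁻¹ * g1)⁻¹ = g2⁻¹ * (g1 * x * g1⁻¹) * g2 := by group
        _ = z := by rw [← hz'']; group
    rw [hyz]
    exact hz

end fin

end Cfsg.Agent.Lib.helper25.SzSub
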