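import Mathlib
import Cfsg.Agent.Lib.helper4.UFrames

/-!
# Additive maps of `F_{q²}` compatible with the norm are semilinear (library, seat helper25)
-/

set_option autoImplicit false
set_option linter.unusedSectionVars false
set_option linter.unusedSimpArgs false
set_option linter.style.haveILetI false

namespace Cfsg.Agent.Lib.helper25.U3Aut

open Cfsg.Agent.Lib.helper4

variable {K : Type*} [Field K] [Fintype K] {q : ℕ}

theorem norm_add (hK : Fintype.card K = q ^ 2) (x y : K) :
    (x + y) ^ (q + 1) = x ^ (q + 1) + y ^ (q + 1) + (x * y ^ q + x ^ q * y) := by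
  rw [pow_succ, frob_add hK, pow_succ, pow_succ]
  ring

/-- Additive maps preserving the norm are rotations or reflections. -/
theorem ortho [CharP K 2] (hK : Fintype.card K = q ^ 2) (h : K → K)
    (hadd : ∀ b c, h (b + c) = h b + h c) (hN : ∀ b, h b ^ (q + 1) = b ^ (q + 1)) :
    ∃ w : K, w ^ (q + 1) = 1 ∧ ((∀ b, h b = w * b) ∨ (∀ b, h b = w * b ^ q)) := by
  have hw : h 1 ^ (q + 1) = 1 := by rw [hN, one_pow]
  have hw' : h 1 * h 1 ^ q = 1 := by rw [← pow_succ']; exact hw
  have hw0 : h 1 ≠ 0 := by
    intro h0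
    rw [h0, zero_mul] at hw'
    exact zero_ne_one hw'
  refine ⟨h 1, hw, ?_⟩
  have key : ∀ b, h b = h 1 * b ∨ h b = h 1 * b ^ q := by
    intro b
    have h1 := hN (b + 1)
    rw [hadd, norm_add hK, norm_add hK, hN b, hw, one_pow, one_pow, mul_one, mul_one] at h1
    have h2 : h b * h 1 ^ q + h b ^ q * h 1 = b + b ^ q := by linear_combination h1
    set c := h b * h 1 ^ q with hc
    have hcq : c ^ q = h b ^ q * h 1 := by rw [hc, mul_pow, frob_frob hK]
    have hbc : h b = h 1 * c := by rw [hc]; linear_combination (-(h b)) * hw'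
    have hcN : c * c ^ q = b * b ^ q := by
      have e1 := hN b
      rw [pow_succ', pow_succ'] at e1
      rw [hcq, hc]
      linear_combination e1 + (h b * h b ^ q) * hw'
    have htr : c + c ^ q = b + b ^ q := by rw [hcq]; exact h2
    have hprod : (c + b) * (c + b ^ q) = 0 := by
      have e2 : (c + b) * (c + b ^ q) = c * c + c * (b + b ^ q) + b * b ^ q := by ring
      rw [e2, ← htr, ← hcN]
      have e3 : c * c + c * (c + c ^ q) + c * c ^ q = 2 * (c * c) + 2 * (c * c ^ q) := by ring
      rw [e3, CharTwo.two_eq_zero, zero_mul, zero_mul, add_zero]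
    rcases mul_eq_zero.mp hprod with h3 | h3
    · left
      rw [hbc, CharTwo.add_eq_zero.mp h3]
    · right
      rw [hbc, CharTwo.add_eq_zero.mp h3]
  by_cases hall : ∀ b, h b = h 1 * b
  · exact Or.inl hall
  · right
    push_neg at hall
    obtain ⟨b1, hb1⟩ := hall
    have hb1' : h b1 = h 1 * b1 ^ q := (key b1).resolve_left hb1
    have hb1ne : b1 ^ q ≠ b1 := by
      intro e
      rw [e] at hb1'
      exact hb1 hb1'
    intro b
    rcases key b with h3 | h3
    · -- then `b ^ q = b`
      rcases key (b + b1) with h4 | h4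
      · rw [hadd, h3, hb1'] at h4
        have : h 1 * (b1 ^ q - b1) = 0 := by linear_combination h4
        rcases mul_eq_zero.mp this with h5 | h5
        · exact absurd h5 hw0
        · exact absurd (by linear_combination h5) hb1ne
      · rw [hadd, h3, hb1', frob_add hK] at h4
        have : h 1 * (b - b ^ q) = 0 := by linear_combination h4
        rcases mul_eq_zero.mp this with h5 | h5
        · exact absurd h5 hw0
        · rw [h3]
          congr 1
          linear_combination h5
    · exact h3

/-- Norm-one elements act through scalars. -/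
theorem rot [CharP K 2] (hK : Fintype.card K = q ^ 2) (hqe : ∃ r, q = 2 * r) (f : K → K)
    (hadd : ∀ b c, f (b + c) = f b + f c) (hbij : Function.Bijective f)
    (hN : ∀ a a' : K, a ^ (q + 1) = a' ^ (q + 1) → f a ^ (q + 1) = f a' ^ (q + 1))
    (u : K) (hu : u ^ (q + 1) = 1) : ∃ w : K, ∀ a, f (u * a) = w * f a := by
  obtain ⟨r, hr⟩ := hqe
  -- a square root of `u`
  set v := u ^ (r + 1) with hv
  have hvv : v * v = u := by
    rw [hv, ← pow_add]
    have : r + 1 + (r + 1) = q + 1 + 1 := by omega
    rw [this, pow_succ, hu, one_mul]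
  have hvN : v ^ (q + 1) = 1 := by rw [hv, ← pow_mul, mul_comm, pow_mul, hu, one_pow]
  obtain ⟨g, hg1, hg2⟩ : ∃ g : K → K, (∀ x, g (f x) = x) ∧ ∀ y, f (g y) = y := by
    obtain ⟨g, hg⟩ := Function.bijective_iff_has_inverse.mp hbij
    exact ⟨g, hg.1, hg.2⟩
  have hgadd : ∀ b c, g (b + c) = g b + g c := by
    intro b c
    apply hbij.1
    rw [hg2, hadd, hg2, hg2]
  obtain ⟨w, hw, hcase⟩ := ortho hK (fun b => f (v * g b))
    (by intro b c; show f (v * g (b + c)) = f (v * g b) + f (v * g c)
        rw [hgadd, mul_add, hadd])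
    (by intro b
        show f (v * g b) ^ (q + 1) = b ^ (q + 1)
        have := hN (v * g b) (g b) (by rw [mul_pow, hvN, one_mul])
        rw [this, hg2])
  rcases hcase with h1 | h1
  · refine ⟨w * w, fun a => ?_⟩
    have e1 : ∀ a, f (v * a) = w * f a := by
      intro a
      have := h1 (f a)
      simp only [hg1] at this
      exact this
    rw [← hvv, mul_assoc, e1, e1, mul_assoc]
  · refine ⟨1, fun a => ?_⟩
    have e1 : ∀ a, f (v * a) = w * f a ^ q := by
      intro a
      have := h1 (f a)
      simp only [hg1] at this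
      exact this
    rw [← hvv, mul_assoc, e1, e1, mul_pow, frob_frob hK, one_mul, ← mul_assoc, ← pow_succ', hw,
      one_mul]

/-- The multiplier subfield. -/
def mulField (f : K → K) (hadd : ∀ b c, f (b + c) = f b + f c) (hinj : Function.Injective f) :
    Subfield K where
  carrier := {x | ∀ a, f (x * a) = f x / f 1 * f a}
  mul_mem' := by
    intro x y hx hy a
    have h1 : f (x * y) = f x / f 1 * f y := by
      have := hx y
      exact this
    rw [mul_assoc, hx (y * a), hy a, h1]
    have hf1 : f 1 ≠ 0 := by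
      intro h0
      have hf0 : f 0 = 0 := by
        have := hadd 0 0
        rw [add_zero] at this
        linear_combination -this
      exact one_ne_zero (hinj (h0.trans hf0.symm))
    field_simp
  one_mem' := by
    intro a
    have hf1 : f 1 ≠ 0 := by
      intro h0
      have hf0 : f 0 = 0 := by
        have := hadd 0 0
        rw [add_zero] at this
        linear_combination -this
      exact one_ne_zero (hinj (h0.trans hf0.symm))
    rw [one_mul, div_self hf1, one_mul]
  add_mem' := by
    intro x y hx hy a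
    rw [add_mul, hadd, hadd, hx a, hy a]
    ring
  zero_mem' := by
    intro a
    have hf0 : f 0 = 0 := by
      have := hadd 0 0
      rw [add_zero] at this
      linear_combination -this
    rw [zero_mul, hf0, zero_div, zero_mul]
  neg_mem' := by
    intro x hx a
    have hf0 : f 0 = 0 := by
      have := hadd 0 0
      rw [add_zero] at this
      linear_combination -this
    have hneg : ∀ y, f (-y) = -f y := by
      intro y
      have := hadd y (-y)
      rw [add_neg_cancel, hf0] at this
      linear_combination -this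
    rw [neg_mul, hneg, hneg, hx a]
    ring
  inv_mem' := by
    intro x hx a
    have hf0 : f 0 = 0 := by
      have := hadd 0 0
      rw [add_zero] at this
      linear_combination -this
    have hf1 : f 1 ≠ 0 := by
      intro h0
      exact one_ne_zero (hinj (h0.trans hf0.symm))
    by_cases hx0 : x = 0
    · rw [hx0, inv_zero, zero_mul, hf0, zero_div, zero_mul]
    · have hfx : f x ≠ 0 := by
        intro h0
        exact hx0 (hinj (h0.trans hf0.symm))
      have h1 : ∀ b, f (x⁻¹ * b) = f 1 / f x * f b := by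
        intro b
        have := hx (x⁻¹ * b)
        rw [← mul_assoc, mul_inv_cancel₀ hx0, one_mul] at this
        rw [this]
        field_simp
      have h2 : f x⁻¹ = f 1 / f x * f 1 := by
        have := h1 1
        rwa [mul_one] at this
      rw [h1 a, h2]
      field_simp

theorem mem_mulField (f : K → K) (hadd : ∀ b c, f (b + c) = f b + f c)
    (hinj : Function.Injective f) (x : K) :
    x ∈ mulField f hadd hinj ↔ ∀ a, f (x * a) = f x / f 1 * f a := Iff.rfl

/-- A subfield of `F_{q²}` with more than `q` elements is everything. -/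
theorem subfield_eq_top (hK : Fintype.card K = q ^ 2) (X : Subfield K)
    (hX : q < Nat.card X) : ∀ x : K, x ∈ X := by
  by_contra hne
  push_neg at hne
  obtain ⟨x0, hx0⟩ := hne
  have hinj : Function.Injective (fun p : X × X => (p.1 : K) + (p.2 : K) * x0) := by
    rintro ⟨y, z⟩ ⟨y', z'⟩ h
    simp only at h
    by_cases hz : z = z'
    · subst hz
      have : (y : K) = y' := by linear_combination h
      rw [Subtype.ext this]
    · exfalso
      have hz' : (z : K) - (z' : K) ≠ 0 := fun e => hz (Subtype.ext (by linear_combination e))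
      have : x0 = ((y' : K) - (y : K)) / ((z : K) - (z' : K)) := by
        field_simp
        linear_combination h
      apply hx0
      rw [this]
      exact X.div_mem (X.sub_mem y'.2 y.2) (X.sub_mem z.2 z'.2)
  have hcard := Nat.card_le_card_of_injective _ hinj
  rw [Nat.card_prod, Nat.card_eq_fintype_card (α := K), hK] at hcard
  have : q ^ 2 < Nat.card X * Nat.card X := by
    calc q ^ 2 = q * q := by ring
      _ < Nat.card X * Nat.card X := Nat.mul_lt_mul'' hX hX
  omega

/-- The semilinearity theorem. -/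
theorem semilin [CharP K 2] (hK : Fintype.card K = q ^ 2) (hqe : ∃ r, q = 2 * r) (f : K → K)
    (hadd : ∀ b c, f (b + c) = f b + f c) (hbij : Function.Bijective f)
    (hN : ∀ a a' : K, a ^ (q + 1) = a' ^ (q + 1) → f a ^ (q + 1) = f a' ^ (q + 1)) :
    ∃ (μ : K) (σ : K ≃+* K), μ ≠ 0 ∧ ∀ a, f a = μ * σ a := by
  classical
  have hq := uq_ge_two hK
  have hf0 : f 0 = 0 := by
    have := hadd 0 0
    rw [add_zero] at this
    linear_combination -this
  have hf1 : f 1 ≠ 0 := by
    intro h0
    exact one_ne_zero (hbij.1 (h0.trans hf0.symm))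
  set X := mulField f hadd hbij.1 with hX
  have hU : ∀ u : K, u ^ (q + 1) = 1 → u ∈ X := by
    intro u hu
    obtain ⟨w, hw⟩ := rot hK hqe f hadd hbij hN u hu
    rw [hX, mem_mulField]
    intro a
    have h1 := hw 1
    rw [mul_one] at h1
    rw [hw a, h1]
    field_simp
  have hcardX : q < Nat.card X := by
    have h1 : Nat.card {x : K // x ^ (q + 1) = 1} = q + 1 :=
      card_norm_fiber hK 1 (one_pow q) one_ne_zero
    have h2 : Nat.card {x : K // x ^ (q + 1) = 1} ≤ Nat.card X := by
      apply Nat.card_le_card_of_injective (fun u : {x : K // x ^ (q + 1) = 1} =>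
        (⟨u.1, hU u.1 u.2⟩ : X))
      intro u v h
      have h' : (u.1 : K) = v.1 := congrArg (fun t : X => (t : K)) h
      exact Subtype.ext h'
    omega
  have htop := subfield_eq_top hK X hcardX
  have hmul : ∀ x a, f (x * a) = f x / f 1 * f a := fun x a => htop x a
  -- the ring homomorphism
  let Θ : K →+* K :=
    { toFun := fun x => f x / f 1
      map_one' := div_self hf1
      map_mul' := by
        intro x y
        show f (x * y) / f 1 = f x / f 1 * (f y / f 1)
        rw [hmul x y]
        ring
      map_zero' := by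
        show f 0 / f 1 = 0
        rw [hf0, zero_div]
      map_add' := by
        intro x y
        show f (x + y) / f 1 = f x / f 1 + f y / f 1
        rw [hadd]
        ring }
  have hΘbij : Function.Bijective Θ := by
    have hinj : Function.Injective Θ := Θ.injective
    exact ⟨hinj, Finite.injective_iff_surjective.mp hinj⟩
  refine ⟨f 1, RingEquiv.ofBijective Θ hΘbij, hf1, fun a => ?_⟩
  show f a = f 1 * (f a / f 1)
  field_simp

/-! ### Ring automorphisms of a finite field of characteristic two -/

theorem exists_frob_pow [CharP K 2] (σ : K ≃+* K) : ∃ j : ℕ, ∀ x, σ x = x ^ (2 ^ j) := by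
  letI : Algebra (ZMod 2) K := ZMod.algebra K 2
  let σ' : K ≃ₐ[ZMod 2] K := AlgEquiv.ofRingEquiv (f := σ) (by
    intro x
    have h1 : (algebraMap (ZMod 2) K) x = ((x.val : ℕ) : K) := by
      conv_lhs => rw [← ZMod.natCast_zmod_val x]
      rw [map_natCast]
    rw [h1, map_natCast])
  obtain ⟨j, hj⟩ := (FiniteField.bijective_frobeniusAlgEquivOfAlgebraic_pow (ZMod 2) K).2 σ'
  refine ⟨j.1, fun x => ?_⟩
  have h2 : σ x = σ' x := rfl
  rw [h2, ← hj]
  have h3 := FiniteField.coe_frobeniusAlgEquivOfAlgebraic_iterate (K := ZMod 2) (L := K) j.1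
  have h4 : (FiniteField.frobeniusAlgEquivOfAlgebraic (ZMod 2) K ^ j.1) x
      = (⇑(FiniteField.frobeniusAlgEquivOfAlgebraic (ZMod 2) K))^[j.1] x := by
    rw [AlgEquiv.coe_pow]
  simp only at h4 ⊢
  rw [h4, h3]
  simp [ZMod.card]

theorem pow_two_pow_mul {d : ℕ} (hd : Fintype.card K = 2 ^ d) (x : K) (s : ℕ) :
    x ^ (2 ^ (d * s)) = x := by
  induction s with
  | zero => simp
  | succ s ih =>
    rw [Nat.mul_succ, pow_add, pow_mul, ih, ← hd, FiniteField.pow_card]

theorem pow_two_pow_mod {d : ℕ} (hd : Fintype.card K = 2 ^ d) (x : K) (j : ℕ) :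
    x ^ (2 ^ j) = x ^ (2 ^ (j % d)) := by
  conv_lhs => rw [← Nat.div_add_mod j d]
  rw [pow_add, pow_mul, pow_two_pow_mul hd]

/-- If `x ↦ x^(2^m)` is the identity of a field with `2^d` elements then `d ∣ m`. -/
theorem frob_pow_dvd {d : ℕ} (hd : Fintype.card K = 2 ^ d) (m : ℕ)
    (h : ∀ x : K, x ^ (2 ^ m) = x) : d ∣ m := by
  classical
  have hd0 : 0 < d := by
    rcases Nat.eq_zero_or_pos d with h0 | h0
    · rw [h0] at hd
      have : 1 < Fintype.card K := Fintype.one_lt_card
      simp at hd
      omega
    · exact h0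
  have h' : ∀ x : K, x ^ (2 ^ (m % d)) = x := fun x => by rw [← pow_two_pow_mod hd, h]
  have hlt : m % d < d := Nat.mod_lt _ hd0
  rw [Nat.dvd_iff_mod_eq_zero]
  by_contra hne
  obtain ⟨g, hg⟩ := IsCyclic.exists_generator (α := Kˣ)
  have hord : orderOf g = 2 ^ d - 1 := by
    rw [orderOf_eq_card_of_forall_mem_zpowers hg, Nat.card_eq_fintype_card, Fintype.card_units, hd]
  have h1 : g ^ (2 ^ (m % d) - 1) = 1 := by
    apply Units.ext
    have h2 := h' (g : K)
    have h3 : (1 : ℕ) ≤ 2 ^ (m % d) := Nat.one_le_two_pow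
    have h4 : (g : K) ^ (2 ^ (m % d) - 1) * (g : K) = (g : K) := by
      rw [← pow_succ, Nat.sub_add_cancel h3, h2]
    have hg0 : (g : K) ≠ 0 := g.ne_zero
    rw [Units.val_pow_eq_pow_val, Units.val_one]
    field_simp at h4
    exact h4
  have h5 := orderOf_dvd_of_pow_eq_one h1
  rw [hord] at h5
  have h6 : 2 ^ (m % d) < 2 ^ d := Nat.pow_lt_pow_right (by norm_num) hlt
  have h7 : 2 ≤ 2 ^ (m % d) := by
    calc 2 = 2 ^ 1 := by norm_num
      _ ≤ 2 ^ (m % d) := Nat.pow_le_pow_right (by norm_num) (by omega)
  have h8 := Nat.le_of_dvd (by omega) h5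
  omega

/-- The iterates of a Frobenius power. -/
theorem iter_frob (σ : K → K) (j : ℕ) (hσ : ∀ x, σ x = x ^ (2 ^ j)) (k : ℕ) (x : K) :
    σ^[k] x = x ^ (2 ^ (j * k)) := by
  induction k generalizing x with
  | zero => simp
  | succ k ih =>
    rw [Function.iterate_succ_apply, ih, hσ, ← pow_mul, ← pow_add, Nat.mul_succ, add_comm]

/-- An involutory automorphism of `F_{q²}` is the identity or the `q`-Frobenius. -/
theorem ringAut_sq [CharP K 2] {n : ℕ} (hK : Fintype.card K = (2 ^ n) ^ 2) (σ : K ≃+* K)
    (h : ∀ x, σ (σ x) = x) : (∀ x, σ x = x) ∨ (∀ x, σ x = x ^ (2 ^ n)) := by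
  have hd : Fintype.card K = 2 ^ (2 * n) := by rw [hK, ← pow_mul, mul_comm]
  obtain ⟨j, hj⟩ := exists_frob_pow σ
  have hn0 : 0 < n := by
    rcases Nat.eq_zero_or_pos n with h0 | h0
    · rw [h0] at hK
      have : 1 < Fintype.card K := Fintype.one_lt_card
      simp at hK
      omega
    · exact h0
  have hj' : ∀ x, σ x = x ^ (2 ^ (j % (2 * n))) := fun x => by rw [hj, pow_two_pow_mod hd]
  have h2 : ∀ x : K, x ^ (2 ^ (j % (2 * n) * 2)) = x := by
    intro x
    have := iter_frob (⇑σ) _ hj' 2 x
    rw [← this]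
    exact h x
  have h3 := frob_pow_dvd hd _ h2
  have hlt : j % (2 * n) < 2 * n := Nat.mod_lt _ (by omega)
  obtain ⟨c, hc⟩ := h3
  have hc' : c = 0 ∨ c = 1 := by
    rcases Nat.lt_or_ge c 2 with h4 | h4
    · omega
    · exfalso
      have : 2 * n * 2 ≤ 2 * n * c := Nat.mul_le_mul_left _ h4
      omega
  rcases hc' with rfl | rfl
  · left
    intro x
    have : j % (2 * n) = 0 := by omega
    rw [hj', this]
    simp
  · right
    intro x
    have : j % (2 * n) = n := by omega
    rw [hj', this]

/-- An automorphism of order dividing three of the field with `16` elements is trivial. -/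
theorem ringAut_cube [CharP K 2] (hK : Fintype.card K = 16) (σ : K ≃+* K)
    (h : ∀ x, σ (σ (σ x)) = x) : ∀ x, σ x = x := by
  have hd : Fintype.card K = 2 ^ 4 := by rw [hK]; norm_num
  obtain ⟨j, hj⟩ := exists_frob_pow σ
  have hj' : ∀ x, σ x = x ^ (2 ^ (j % 4)) := fun x => by rw [hj, pow_two_pow_mod hd]
  have h2 : ∀ x : K, x ^ (2 ^ (j % 4 * 3)) = x := by
    intro x
    have := iter_frob (⇑σ) _ hj' 3 x
    rw [← this]
    exact h x
  have h3 := frob_pow_dvd hd _ h2
  have hlt : j % 4 < 4 := Nat.mod_lt _ (by norm_num)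
  have : j % 4 = 0 := by omega
  intro x
  rw [hj', this]
  simp

end Cfsg.Agent.Lib.helper25.U3Aut
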