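import Mathlib
import Cfsg.Agent.Lib.helper4.UFrames
import Cfsg.Agent.Lib.helper4.SpCard
import Cfsg.Prelude.Def_LieRecognition

/-!
# The unitriangular group of `SU₃(q)` in coordinates (library, seat helper25)

A group `T` with coordinates `A, B : T → K` such that `T` is identified with the pairs `(a, b)`,
`b + b^q + a^(q+1) = 0`, multiplied by `(a, b) (a', b') = (a + a', b + b' - a a'^q)`.
-/

set_option autoImplicit false
set_option linter.unusedSectionVars false
set_option linter.unusedSimpArgs false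
set_option linter.style.haveILetI false

namespace Cfsg.Agent.Lib.helper25.U3Syl

open Cfsg.Agent.Lib.helper4
open scoped commutatorElement

/-- Coordinates on a group `T`. -/
structure Coord (K : Type*) [Field K] (q : ℕ) (T : Type*) [Group T] where
  A : T → K
  B : T → K
  inj : ∀ x y, A x = A y → B x = B y → x = y
  rel : ∀ x, B x + B x ^ q + A x ^ (q + 1) = 0
  surj : ∀ a b : K, b + b ^ q + a ^ (q + 1) = 0 → ∃ x, A x = a ∧ B x = b
  mulA : ∀ x y, A (x * y) = A x + A y
  mulB : ∀ x y, B (x * y) = B x + B y - A x * A y ^ q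

variable {K : Type*} [Field K] [Fintype K] {q : ℕ} {T : Type*} [Group T]

namespace Coord

/-- Transport of coordinates along an isomorphism. -/
def comap {S : Type*} [Group S] (C : Coord K q T) (e : S ≃* T) : Coord K q S where
  A := fun x => C.A (e x)
  B := fun x => C.B (e x)
  inj := fun x y h1 h2 => e.injective (C.inj _ _ h1 h2)
  rel := fun x => C.rel (e x)
  surj := fun a b h => by
    obtain ⟨x, hx1, hx2⟩ := C.surj a b h
    exact ⟨e.symm x, by simp [hx1], by simp [hx2]⟩
  mulA := fun x y => by rw [map_mul, C.mulA]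
  mulB := fun x y => by rw [map_mul, C.mulB]

variable (C : Coord K q T)

theorem A_one : C.A 1 = 0 := by
  have := C.mulA 1 1
  rw [one_mul] at this
  linear_combination -this

theorem B_one (hK : Fintype.card K = q ^ 2) : C.B 1 = 0 := by
  have hq := uq_ge_two hK
  have := C.mulB 1 1
  rw [one_mul, C.A_one, zero_pow (by omega)] at this
  linear_combination -this

theorem eq_one_iff (hK : Fintype.card K = q ^ 2) (x : T) : x = 1 ↔ C.A x = 0 ∧ C.B x = 0 := by
  constructor
  · rintro rfl; exact ⟨C.A_one, C.B_one hK⟩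
  · rintro ⟨h1, h2⟩
    exact C.inj _ _ (by rw [h1, C.A_one]) (by rw [h2, C.B_one hK])

theorem A_inv (x : T) : C.A x⁻¹ = -C.A x := by
  have := C.mulA x x⁻¹
  rw [mul_inv_cancel, C.A_one] at this
  linear_combination -this

/-- an element with prescribed first coordinate -/
theorem exists_A (hK : Fintype.card K = q ^ 2) (a : K) : ∃ x, C.A x = a := by
  obtain ⟨b, hb⟩ := utrace_surj hK (-(a ^ (q + 1))) (by rw [frob_neg hK, unorm_fixed hK])
  obtain ⟨x, hx, -⟩ := C.surj a b (by rw [hb]; ring)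
  exact ⟨x, hx⟩

theorem mem_center_iff (hK : Fintype.card K = q ^ 2) (x : T) :
    x ∈ Subgroup.center T ↔ C.A x = 0 := by
  have hq := uq_ge_two hK
  rw [Subgroup.mem_center_iff]
  constructor
  · intro h
    obtain ⟨y1, hy1⟩ := C.exists_A hK 1
    obtain ⟨t, ht⟩ := exists_frob_ne hK
    obtain ⟨y2, hy2⟩ := C.exists_A hK t
    have e1 := congrArg C.B (h y1)
    have e2 := congrArg C.B (h y2)
    rw [C.mulB, C.mulB, hy1] at e1
    rw [C.mulB, C.mulB, hy2] at e2
    have h1 : C.A x ^ q = C.A x := by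
      rw [one_pow] at e1
      linear_combination -e1
    rw [h1] at e2
    have h2 : C.A x * (t ^ q - t) = 0 := by linear_combination e2
    rcases mul_eq_zero.mp h2 with h3 | h3
    · exact h3
    · exact absurd (by linear_combination h3) ht
  · intro h y
    apply C.inj
    · rw [C.mulA, C.mulA, add_comm]
    · rw [C.mulB, C.mulB, h, zero_pow (by omega)]
      ring

/-- The point with given coordinates. -/
noncomputable def pt (a b : K) (h : b + b ^ q + a ^ (q + 1) = 0) : T :=
  Classical.choose (C.surj a b h)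

theorem A_pt (a b : K) (h : b + b ^ q + a ^ (q + 1) = 0) : C.A (C.pt a b h) = a :=
  (Classical.choose_spec (C.surj a b h)).1

theorem B_pt (a b : K) (h : b + b ^ q + a ^ (q + 1) = 0) : C.B (C.pt a b h) = b :=
  (Classical.choose_spec (C.surj a b h)).2

theorem finite (C : Coord K q T) : Finite T := by
  have : Function.Injective (fun x : T => (C.A x, C.B x)) := by
    intro x y h
    exact C.inj x y (congrArg Prod.fst h) (congrArg Prod.snd h)
  exact Finite.of_injective _ this

/-- The fibre of `A`. -/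
noncomputable def fiberEquiv (a : K) :
    {x : T // C.A x = a} ≃ {t : K // t + t ^ q = -(a ^ (q + 1))} where
  toFun x := ⟨C.B x.1, by
    have h := C.rel x.1
    rw [x.2] at h
    linear_combination h⟩
  invFun t :=
    have h : t.1 + t.1 ^ q + a ^ (q + 1) = 0 := by rw [t.2]; ring
    ⟨C.pt a t.1 h, C.A_pt a t.1 h⟩
  left_inv x := by
    apply Subtype.ext
    apply C.inj
    · simp only [C.A_pt, x.2]
    · simp only [C.B_pt]
  right_inv t := by
    apply Subtype.ext
    simp only [C.B_pt]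

theorem card (C : Coord K q T) (hK : Fintype.card K = q ^ 2) : Nat.card T = q ^ 3 := by
  haveI := C.finite
  have h := Cfsg.Agent.Lib.helper4.card_fiber_count C.A q (fun a => by
    rw [Nat.card_congr (C.fiberEquiv a)]
    exact card_trace_fiber hK _ (by rw [frob_neg hK, unorm_fixed hK]))
  rw [h, Nat.card_eq_fintype_card, hK]
  ring

theorem card_center (C : Coord K q T) (hK : Fintype.card K = q ^ 2) :
    Nat.card (Subgroup.center T) = q := by
  have hq := uq_ge_two hK
  have e : (Subgroup.center T) ≃ {x : T // C.A x = 0} :=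
    { toFun := fun z => ⟨z.1, (C.mem_center_iff hK z.1).1 z.2⟩
      invFun := fun x => ⟨x.1, (C.mem_center_iff hK x.1).2 x.2⟩
      left_inv := fun z => rfl
      right_inv := fun x => rfl }
  rw [Nat.card_congr e, Nat.card_congr (C.fiberEquiv 0)]
  exact card_trace_fiber hK _ (by rw [frob_neg hK, unorm_fixed hK])

/-! ### Scaling automorphisms -/

theorem dl_ok (C : Coord K q T) (hK : Fintype.card K = q ^ 2) (μ : K) (x : T) :
    μ ^ (q + 1) * C.B x + (μ ^ (q + 1) * C.B x) ^ q + (μ * C.A x) ^ (q + 1) = 0 := by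
  rw [mul_pow, unorm_fixed hK, mul_pow]
  linear_combination μ ^ (q + 1) * C.rel x

/-- The scaling map `(a, b) ↦ (μ a, μ^(q+1) b)`. -/
noncomputable def dl (hK : Fintype.card K = q ^ 2) (μ : K) (x : T) : T :=
  C.pt (μ * C.A x) (μ ^ (q + 1) * C.B x) (C.dl_ok hK μ x)

theorem A_dl (hK : Fintype.card K = q ^ 2) (μ : K) (x : T) : C.A (C.dl hK μ x) = μ * C.A x :=
  C.A_pt _ _ _

theorem B_dl (hK : Fintype.card K = q ^ 2) (μ : K) (x : T) :
    C.B (C.dl hK μ x) = μ ^ (q + 1) * C.B x :=
  C.B_pt _ _ _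

theorem dl_mul (hK : Fintype.card K = q ^ 2) (μ : K) (x y : T) :
    C.dl hK μ (x * y) = C.dl hK μ x * C.dl hK μ y := by
  apply C.inj
  · rw [C.A_dl, C.mulA, C.mulA, C.A_dl, C.A_dl]; ring
  · rw [C.B_dl, C.mulB, C.mulB, C.B_dl, C.B_dl, C.A_dl, C.A_dl, mul_pow, pow_succ' μ q]; ring

theorem dl_dl (hK : Fintype.card K = q ^ 2) (μ ν : K) (x : T) :
    C.dl hK μ (C.dl hK ν x) = C.dl hK (μ * ν) x := by
  apply C.inj
  · rw [C.A_dl, C.A_dl, C.A_dl]; ring
  · rw [C.B_dl, C.B_dl, C.B_dl, mul_pow]; ring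

theorem dl_one (hK : Fintype.card K = q ^ 2) (x : T) : C.dl hK 1 x = x := by
  apply C.inj
  · rw [C.A_dl, one_mul]
  · rw [C.B_dl, one_pow, one_mul]

/-- The scaling automorphisms. -/
noncomputable def Dl (hK : Fintype.card K = q ^ 2) : Kˣ →* MulAut T where
  toFun μ :=
    { toFun := C.dl hK (μ : K)
      invFun := C.dl hK ((μ⁻¹ : Kˣ) : K)
      left_inv := fun x => by rw [C.dl_dl, ← Units.val_mul, inv_mul_cancel, Units.val_one, C.dl_one]
      right_inv := fun x => by rw [C.dl_dl, ← Units.val_mul, mul_inv_cancel, Units.val_one, C.dl_one]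
      map_mul' := C.dl_mul hK (μ : K) }
  map_one' := by
    apply MulEquiv.ext
    intro x
    exact C.dl_one hK x
  map_mul' := by
    intro μ ν
    apply MulEquiv.ext
    intro x
    show C.dl hK ((μ * ν : Kˣ) : K) x = C.dl hK (μ : K) (C.dl hK (ν : K) x)
    rw [C.dl_dl, Units.val_mul]

theorem Dl_apply (hK : Fintype.card K = q ^ 2) (μ : Kˣ) (x : T) :
    C.Dl hK μ x = C.dl hK (μ : K) x := rfl

/-! ### Characteristic two -/

section char2

variable [CharP K 2]

theorem A_sq (x : T) : C.A (x * x) = 0 := by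
  rw [C.mulA]
  exact CharTwo.add_self_eq_zero _

theorem B_sq (x : T) : C.B (x * x) = C.A x ^ (q + 1) := by
  rw [C.mulB, CharTwo.add_self_eq_zero, zero_sub, CharTwo.neg_eq, pow_succ']

theorem mul_self_eq_one_iff (hK : Fintype.card K = q ^ 2) (x : T) :
    x * x = 1 ↔ C.A x = 0 := by
  rw [C.eq_one_iff hK, C.B_sq, unorm_eq_zero]
  constructor
  · intro h; exact h.2
  · intro h; exact ⟨C.A_sq x, h⟩

theorem sq_mem_center (C : Coord K q T) (hK : Fintype.card K = q ^ 2) (x : T) :
    x * x ∈ Subgroup.center T :=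
  (C.mem_center_iff hK _).2 (C.A_sq x)

theorem pow_four (C : Coord K q T) (hK : Fintype.card K = q ^ 2) (x : T) : x ^ 4 = 1 := by
  have h : x ^ 4 = (x * x) * (x * x) := by
    rw [show (4 : ℕ) = 2 + 2 from rfl, pow_add, pow_two]
  rw [h, C.mul_self_eq_one_iff hK]
  exact C.A_sq x

theorem isPGroup (C : Coord K q T) (hK : Fintype.card K = q ^ 2) : IsPGroup 2 T := by
  intro x
  exact ⟨2, by norm_num; exact C.pow_four hK x⟩

theorem B_fixed_of_A_zero (x : T) (hx : C.A x = 0) (hK : Fintype.card K = q ^ 2) :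
    C.B x ^ q = C.B x := by
  have hq := uq_ge_two hK
  have h := C.rel x
  rw [hx, zero_pow (by omega), add_zero] at h
  have h2 : C.B x ^ q = -C.B x := by linear_combination h
  rw [h2, CharTwo.neg_eq]

theorem commutator_eq_center (C : Coord K q T) (hK : Fintype.card K = q ^ 2) :
    commutator T = Subgroup.center T := by
  have hq := uq_ge_two hK
  apply le_antisymm
  · rw [commutator_def, Subgroup.commutator_le]
    intro x _ y _
    rw [C.mem_center_iff hK, commutatorElement_def, C.mulA, C.mulA, C.mulA, C.A_inv, C.A_inv]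
    ring
  · intro z hz
    have hz0 := (C.mem_center_iff hK z).1 hz
    obtain ⟨a, ha⟩ := utrace_surj hK (C.B z) (C.B_fixed_of_A_zero z hz0 hK)
    obtain ⟨x, hx⟩ := C.exists_A hK a
    obtain ⟨y, hy⟩ := C.exists_A hK 1
    have hw : ⁅x, y⁆ * (y * x) = x * y := by
      rw [commutatorElement_def]; group
    have hA : C.A ⁅x, y⁆ = 0 := by
      rw [commutatorElement_def, C.mulA, C.mulA, C.mulA, C.A_inv, C.A_inv]
      ring
    have hB := congrArg C.B hw
    rw [C.mulB, hA, zero_mul, sub_zero, C.mulB, C.mulB, hx, hy, one_pow] at hB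
    have hB' : C.B ⁅x, y⁆ = C.B z := by
      have h2 : C.B ⁅x, y⁆ = a ^ q - a := by linear_combination hB
      rw [h2, ← ha, CharTwo.sub_eq_add]
      ring
    have : ⁅x, y⁆ = z := C.inj _ _ (by rw [hA, hz0]) hB'
    rw [← this, commutator_def]
    exact Subgroup.commutator_mem_commutator (Subgroup.mem_top x) (Subgroup.mem_top y)

/-- The subgroup of units fixed by the Frobenius. -/
def Hq (K : Type*) [Field K] (q : ℕ) : Subgroup Kˣ where
  carrier := {μ | (μ : K) ^ q = μ}
  mul_mem' := by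
    intro a b ha hb
    show ((a * b : Kˣ) : K) ^ q = ((a * b : Kˣ) : K)
    rw [Units.val_mul, mul_pow, ha, hb]
  one_mem' := by
    show ((1 : Kˣ) : K) ^ q = ((1 : Kˣ) : K)
    rw [Units.val_one, one_pow]
  inv_mem' := by
    intro a ha
    show ((a⁻¹ : Kˣ) : K) ^ q = ((a⁻¹ : Kˣ) : K)
    rw [Units.val_inv_eq_inv_val, inv_pow, ha]

theorem exists_ne_ne {α : Type*} [Finite α] (h : 2 < Nat.card α) (a b : α) :
    ∃ c, c ≠ a ∧ c ≠ b := by
  classical
  haveI := Fintype.ofFinite α
  by_contra hc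
  push_neg at hc
  have h1 : (Finset.univ : Finset α) ⊆ {a, b} := by
    intro c _
    by_cases hca : c = a
    · simp [hca]
    · simp [hc c hca]
  have h2 := Finset.card_le_card h1
  have h3 : ({a, b} : Finset α).card ≤ 2 := Finset.card_le_two
  rw [Finset.card_univ, ← Nat.card_eq_fintype_card] at h2
  omega

/-- `T` is a Suzuki 2-group. -/
theorem isSuzuki (C : Coord K q T) (hK : Fintype.card K = q ^ 2) (hq4 : 4 ≤ q)
    (hqe : ∃ r, q = 2 * r) : Cfsg.IsSuzukiTwoGroup T := by
  have hq := uq_ge_two hK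
  haveI := C.finite
  refine ⟨C.finite, C.isPGroup hK, ?_, ?_, ?_⟩
  · obtain ⟨x, hx⟩ := C.exists_A hK 1
    have hnc : x ∉ Subgroup.center T := by
      rw [C.mem_center_iff hK, hx]; exact one_ne_zero
    rw [Subgroup.mem_center_iff] at hnc
    push_neg at hnc
    obtain ⟨y, hy⟩ := hnc
    exact ⟨y, x, hy⟩
  · have hc : 2 < Nat.card (Subgroup.center T) := by rw [C.card_center hK]; omega
    obtain ⟨z1, hz1, -⟩ := exists_ne_ne hc 1 1
    obtain ⟨z2, hz2, hz21⟩ := exists_ne_ne hc 1 z1
    refine ⟨z1.1, z2.1, ?_, ?_, ?_, ?_, ?_⟩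
    · exact fun h => hz21 (Subtype.ext h.symm)
    · exact fun h => hz1 (Subtype.ext h)
    · exact (C.mul_self_eq_one_iff hK _).2 ((C.mem_center_iff hK _).1 z1.2)
    · exact fun h => hz2 (Subtype.ext h)
    · exact (C.mul_self_eq_one_iff hK _).2 ((C.mem_center_iff hK _).1 z2.2)
  · refine ⟨(Hq K q).map (C.Dl hK), ?_, ?_⟩
    · exact isCyclic_of_surjective ((C.Dl hK).subgroupMap (Hq K q))
        ((C.Dl hK).subgroupMap_surjective (Hq K q))
    · intro x y hx1 hx2 hy1 hy2
      obtain ⟨r, hr⟩ := hqe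
      have hAx := (C.mul_self_eq_one_iff hK x).1 hx2
      have hAy := (C.mul_self_eq_one_iff hK y).1 hy2
      have hBx : C.B x ≠ 0 := fun h => hx1 ((C.eq_one_iff hK x).2 ⟨hAx, h⟩)
      have hBy : C.B y ≠ 0 := fun h => hy1 ((C.eq_one_iff hK y).2 ⟨hAy, h⟩)
      have hfx := C.B_fixed_of_A_zero x hAx hK
      have hfy := C.B_fixed_of_A_zero y hAy hK
      set γ : K := C.B y / C.B x with hγ
      have hγq : γ ^ q = γ := by rw [hγ, div_pow, hfx, hfy]
      have hγ0 : γ ≠ 0 := div_ne_zero hBy hBx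
      set μ : K := γ ^ r with hμ
      have hμ0 : μ ≠ 0 := pow_ne_zero _ hγ0
      have hμq : μ ^ q = μ := by rw [hμ, ← pow_mul, mul_comm, pow_mul, hγq]
      have hμ2 : μ * μ = γ := by
        rw [hμ, ← pow_add, ← two_mul, ← hr, hγq]
      have key : ∀ ν : Kˣ, ν ∈ Hq K q → (C.Dl hK ν x = y ↔ (ν : K) * (ν : K) = γ) := by
        intro ν hν
        have hν' : (ν : K) ^ q = ν := hν
        rw [C.Dl_apply]
        constructor
        · intro h
          have h1 := congrArg C.B h
          rw [C.B_dl, pow_succ', hν'] at h1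
          rw [hγ, eq_div_iff hBx]
          exact h1
        · intro h
          apply C.inj
          · rw [C.A_dl, hAx, hAy, mul_zero]
          · rw [C.B_dl, pow_succ', hν', h, hγ, div_mul_cancel₀ _ hBx]
      refine ⟨⟨C.Dl hK (Units.mk0 μ hμ0), ⟨Units.mk0 μ hμ0, hμq, rfl⟩⟩, ?_, ?_⟩
      · exact (key (Units.mk0 μ hμ0) hμq).2 hμ2
      · rintro ⟨k, ⟨ν, hν, rfl⟩⟩ hk
        have h1 : (ν : K) * (ν : K) = γ := (key ν hν).1 hk
        have h2 : ((ν : K) - μ) * ((ν : K) - μ) = 0 := by
          have h3 : ((ν : K) - μ) * ((ν : K) - μ) = (ν : K) * (ν : K) + μ * μ - 2 * ((ν : K) * μ) := by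
            ring
          rw [h3, h1, hμ2, CharTwo.two_eq_zero, zero_mul, sub_zero, CharTwo.add_self_eq_zero]
        have h4 : (ν : K) = μ := by
          rcases mul_eq_zero.mp h2 with h | h <;> linear_combination h
        apply Subtype.ext
        show C.Dl hK ν = C.Dl hK (Units.mk0 μ hμ0)
        congr 1
        exact Units.ext h4

end char2

end Coord

end Cfsg.Agent.Lib.helper25.U3Syl
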