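import Mathlib
import Cfsg.Agent.Lib.helper25.U3Syl
import Cfsg.Agent.Lib.helper25.QdFree2
import Cfsg.Agent.Lib.helper4.UCenter

/-!
# Coordinates on the unitriangular subgroup of `SU₃(q)` and Sylow subgroups of `PSU₃(q)` in
characteristic two (library, seat helper25)
-/

set_option autoImplicit false
set_option linter.unusedSectionVars false
set_option linter.unusedSimpArgs false
set_option linter.style.haveILetI false

namespace Cfsg.Agent.Lib.helper25.U3Syl

open Matrix Cfsg.Agent.Lib.helper4 Cfsg.Agent.Lib.helper25 Cfsg.Agent.Lib.helper25.SUni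
  Cfsg.Agent.Lib.helper25.SLUni Cfsg.Agent.Lib.helper25.QdFree

variable {K : Type*} [Field K] [Fintype K] {q : ℕ}

/-- The unitriangular matrix with coordinates `(a, b)`. -/
def Mu (q : ℕ) (a b : K) : Matrix (Fin 3) (Fin 3) K := !![1, a, b; 0, 1, -(a ^ q); 0, 0, 1]

theorem Mu_det (a b : K) : (Mu q a b).det = 1 := by
  rw [Matrix.det_fin_three]; simp [Mu]

theorem Mu_pres (hK : Fintype.card K = q ^ 2) (a b : K) (h : b + b ^ q + a ^ (q + 1) = 0)
    (x y : Fin 3 → K) : hf 3 K q (Mu q a b *ᵥ x) (Mu q a b *ᵥ y) = hf 3 K q x y := by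
  have m0 : ∀ x : Fin 3 → K, (Mu q a b *ᵥ x) 0 = x 0 + a * x 1 + b * x 2 := by
    intro x; rw [mv3]; simp [Mu]
  have m1 : ∀ x : Fin 3 → K, (Mu q a b *ᵥ x) 1 = x 1 - a ^ q * x 2 := by
    intro x; rw [mv3]; simp [Mu]; ring
  have m2 : ∀ x : Fin 3 → K, (Mu q a b *ᵥ x) 2 = x 2 := by
    intro x; rw [mv3]; simp [Mu]
  rw [hf3, hf3, m0, m1, m2, m0, m1, m2, frob_sub hK, frob_add hK, frob_add hK, mul_pow, mul_pow,
    mul_pow, frob_frob hK]
  linear_combination (x 2 * y 2 ^ q) * h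

/-- The unitriangular element with coordinates `(a, b)`. -/
def uu (hK : Fintype.card K = q ^ 2) (a b : K) (h : b + b ^ q + a ^ (q + 1) = 0) : GamU 3 K q :=
  mkG (Mu q a b) (Mu_det a b) (Mu_pres hK a b h)

theorem gm_uu (hK : Fintype.card K = q ^ 2) (a b : K) (h : b + b ^ q + a ^ (q + 1) = 0) :
    gm (uu hK a b h) = Mu q a b := rfl

theorem uu_mem (hK : Fintype.card K = q ^ 2) (a b : K) (h : b + b ^ q + a ^ (q + 1) = 0) :
    uu hK a b h ∈ UUu 3 K q := by
  rw [mem_UUu, gm_uu]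
  constructor
  · intro i j hij
    fin_cases i <;> fin_cases j <;> first | (exact absurd hij (by decide)) | simp [Mu]
  · intro i
    fin_cases i <;> simp [Mu]

theorem gm_eq_Mu (hK : Fintype.card K = q ^ 2) (g : GamU 3 K q) (hg : g ∈ UUu 3 K q) :
    gm g = Mu q (gm g 0 1) (gm g 0 2) ∧
      gm g 0 2 + gm g 0 2 ^ q + gm g 0 1 ^ (q + 1) = 0 := by
  have hq := uq_ge_two hK
  have hq0 : q ≠ 0 := by omega
  rw [mem_UUu] at hg
  obtain ⟨hUT, hUd⟩ := hg
  have u10 : gm g 1 0 = 0 := hUT 1 0 (by decide)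
  have u20 : gm g 2 0 = 0 := hUT 2 0 (by decide)
  have u21 : gm g 2 1 = 0 := hUT 2 1 (by decide)
  have u00 : gm g 0 0 = 1 := hUd 0
  have u11 : gm g 1 1 = 1 := hUd 1
  have u22 : gm g 2 2 = 1 := hUd 2
  have hu12 := gm_pres g ![0, 1, 0] ![0, 0, 1]
  rw [hf3, hf3] at hu12
  simp only [mv3, u10, u20, u21, u00, u11, u22] at hu12
  simp [hq0] at hu12
  have hu22 := gm_pres g ![0, 0, 1] ![0, 0, 1]
  rw [hf3, hf3] at hu22
  simp only [mv3, u10, u20, u21, u00, u11, u22] at hu22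
  simp [hq0] at hu22
  have hc : gm g 1 2 = -(gm g 0 1 ^ q) := by
    have h1 : gm g 1 2 ^ q = -gm g 0 1 := by linear_combination hu12
    rw [← frob_frob hK (gm g 1 2), h1, frob_neg hK]
  constructor
  · ext i j
    fin_cases i <;> fin_cases j <;> simp [Mu, u10, u20, u21, u00, u11, u22, hc]
  · rw [hc, frob_neg hK, frob_frob hK] at hu22
    rw [pow_succ]
    linear_combination hu22

/-- Coordinates on the unitriangular subgroup of `SU₃(q)`. -/
noncomputable def coordUUu (hK : Fintype.card K = q ^ 2) : Coord K q ↥(UUu 3 K q) where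
  A g := gm g.1 0 1
  B g := gm g.1 0 2
  inj := by
    intro x y h1 h2
    apply Subtype.ext
    apply gm_injective
    rw [(gm_eq_Mu hK x.1 x.2).1, (gm_eq_Mu hK y.1 y.2).1, h1, h2]
  rel := fun x => (gm_eq_Mu hK x.1 x.2).2
  surj := fun a b h => ⟨⟨uu hK a b h, uu_mem hK a b h⟩, by simp [gm_uu, Mu], by simp [gm_uu, Mu]⟩
  mulA := by
    intro x y
    show gm (x.1 * y.1) 0 1 = gm x.1 0 1 + gm y.1 0 1
    rw [gm_mul, Matrix.mul_apply, Fin.sum_univ_three]
    have hx := (gm_eq_Mu hK x.1 x.2).1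
    have hy := (gm_eq_Mu hK y.1 y.2).1
    have e1 : gm x.1 0 0 = 1 := by rw [hx]; simp [Mu]
    have e2 : gm y.1 1 1 = 1 := by rw [hy]; simp [Mu]
    have e3 : gm y.1 2 1 = 0 := by rw [hy]; simp [Mu]
    rw [e1, e2, e3]
    ring
  mulB := by
    intro x y
    show gm (x.1 * y.1) 0 2 = gm x.1 0 2 + gm y.1 0 2 - gm x.1 0 1 * gm y.1 0 1 ^ q
    rw [gm_mul, Matrix.mul_apply, Fin.sum_univ_three]
    have hx := (gm_eq_Mu hK x.1 x.2).1
    have hy := (gm_eq_Mu hK y.1 y.2).1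
    have e1 : gm x.1 0 0 = 1 := by rw [hx]; simp [Mu]
    have e2 : gm y.1 1 2 = -(gm y.1 0 1 ^ q) := by
      have : gm y.1 1 2 = Mu q (gm y.1 0 1) (gm y.1 0 2) 1 2 := by rw [← hy]
      rw [this]; simp [Mu]
    have e3 : gm y.1 2 2 = 1 := by rw [hy]; simp [Mu]
    rw [e1, e2, e3]
    ring

/-- A finite field with `2^m` elements has characteristic two. -/
theorem charP_two_of_card {F : Type*} [Field F] [Fintype F] (m : ℕ)
    (h : Fintype.card F = 2 ^ m) : CharP F 2 := by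
  obtain ⟨p, hp⟩ := CharP.exists F
  haveI := hp
  obtain ⟨k, hpr, hk⟩ := FiniteField.card F p
  have h1 : p ∣ 2 ^ m := by
    rw [← h, hk]
    exact dvd_pow_self p k.ne_zero
  have h2 : p ∣ 2 := hpr.dvd_of_dvd_pow h1
  have h3 : p = 2 := (Nat.prime_dvd_prime_iff_eq hpr Nat.prime_two).1 h2
  subst h3
  exact hp

/-- Sylow subgroups correspond along a surjection whose kernel has no `p`-elements. -/
theorem sylow_equiv_of_surj {G H : Type*} [Group G] [Group H] [Finite G] (p : ℕ) [Fact p.Prime]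
    (f : G →* H) (hf : Function.Surjective f) (P : Sylow p G)
    (hker : ∀ x : G, f x = 1 → ∀ k : ℕ, x ^ (p ^ k) = 1 → x = 1) (S : Sylow p H) :
    Nonempty (↥(S : Subgroup H) ≃* ↥(P : Subgroup G)) := by
  obtain ⟨P', hP'⟩ := Sylow.mapSurjective_surjective hf p S
  obtain ⟨g, rfl⟩ := MulAction.exists_smul_eq G P P'
  have hS : ((g • P : Sylow p G) : Subgroup G).map f = (S : Subgroup H) := by
    rw [← hP']; rfl
  have hinj : Function.Injective (f.subgroupMap ((g • P : Sylow p G) : Subgroup G)) := by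
    rw [injective_iff_map_eq_one]
    intro x hx
    obtain ⟨k, hk⟩ := (g • P : Sylow p G).isPGroup' x
    have h1 : f (x : G) = 1 := congrArg Subtype.val hx
    have h2 : (x : G) ^ (p ^ k) = 1 := congrArg Subtype.val hk
    exact Subtype.ext (hker _ h1 k h2)
  have e2 : ↥((g • P : Sylow p G) : Subgroup G) ≃* ↥(((g • P : Sylow p G) : Subgroup G).map f) :=
    MulEquiv.ofBijective _ ⟨hinj, f.subgroupMap_surjective _⟩
  exact ⟨((MulEquiv.subgroupCongr hS).symm.trans e2.symm).trans (P.equivSMul g).symm⟩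

/-- A Sylow `2`-subgroup of `PSU₃(q)`, `q` even, is isomorphic to the unitriangular group. -/
theorem sylow_psu3_equiv [CharP K 2] (hK : Fintype.card K = q ^ 2)
    (S : Sylow 2 (Cfsg.PSU 3 K q)) :
    Nonempty (↥(S : Subgroup (Cfsg.PSU 3 K q)) ≃* ↥(UUu 3 K q)) := by
  haveI : Fact (Nat.Prime 2) := ⟨Nat.prime_two⟩
  obtain ⟨e, he⟩ := exists_toSU (q := q) (K := K) hK 3
  obtain ⟨P, hP⟩ := exists_sylow_UUu (n := 3) (q := q) (K := K) 2 hK
  set f : GamU 3 K q →* Cfsg.PSU 3 K q :=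
    (QuotientGroup.mk' (Subgroup.center (Cfsg.SU 3 K q))).comp e with hf
  have hs : Function.Surjective f := (QuotientGroup.mk'_surjective _).comp he.2
  have hker : ∀ x : GamU 3 K q, f x = 1 → ∀ k : ℕ, x ^ (2 ^ k) = 1 → x = 1 := by
    intro x hx k hk
    have h1 : e x ∈ Subgroup.center (Cfsg.SU 3 K q) := by
      have : QuotientGroup.mk' (Subgroup.center (Cfsg.SU 3 K q)) (e x) = 1 := hx
      rwa [← MonoidHom.mem_ker, QuotientGroup.ker_mk'] at this
    have h2 : orderOf (e x) ∣ Nat.gcd 3 (q + 1) := by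
      rw [← card_center_su hK (by norm_num)]
      exact Subgroup.orderOf_dvd_natCard _ h1
    have h3 : orderOf (e x) ∣ 2 ^ k := by
      apply orderOf_dvd_of_pow_eq_one
      rw [← map_pow, hk, map_one]
    have h4 : orderOf (e x) ∣ 3 := h2.trans (Nat.gcd_dvd_left 3 (q + 1))
    have h5 : orderOf (e x) ∣ Nat.gcd (2 ^ k) 3 := Nat.dvd_gcd h3 h4
    have h6 : Nat.gcd (2 ^ k) 3 = 1 := Nat.Coprime.pow_left k (by norm_num)
    rw [h6, Nat.dvd_one, orderOf_eq_one_iff] at h5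
    exact he.1 (by rw [h5, map_one])
  obtain ⟨e1⟩ := sylow_equiv_of_surj 2 f hs P hker S
  exact ⟨e1.trans (MulEquiv.subgroupCongr hP)⟩

/-- Coordinates on a Sylow `2`-subgroup of `PSU₃(q)`, `q` even. -/
theorem exists_coord [CharP K 2] (hK : Fintype.card K = q ^ 2)
    (S : Sylow 2 (Cfsg.PSU 3 K q)) :
    Nonempty (Coord K q ↥(S : Subgroup (Cfsg.PSU 3 K q))) := by
  obtain ⟨e⟩ := sylow_psu3_equiv hK S
  exact ⟨(coordUUu hK).comap e⟩

end Cfsg.Agent.Lib.helper25.U3Syl
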