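import Mathlib
import Cfsg.Agent.Lib.helper25.U3Syl2
import Cfsg.Agent.Lib.helper25.U3Aut1

/-!
# Automorphisms of the Sylow 2-subgroup of `SU₃(2^n)` act semilinearly (library, seat helper25)
-/

set_option autoImplicit false
set_option linter.unusedSectionVars false
set_option linter.unusedSimpArgs false
set_option linter.style.haveILetI false

namespace Cfsg.Agent.Lib.helper25.U3Syl

open Cfsg.Agent.Lib.helper4 Cfsg.Agent.Lib.helper25.U3Aut

variable {K : Type*} [Field K] [Fintype K] {q : ℕ} {T : Type*} [Group T]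

namespace Coord

variable (C : Coord K q T) [CharP K 2]

/-- An automorphism preserves the vanishing of the first coordinate. -/
theorem A_aut_zero (hK : Fintype.card K = q ^ 2) (α : T ≃* T) (z : T) (hz : C.A z = 0) :
    C.A (α z) = 0 := by
  rw [← C.mem_center_iff hK] at hz ⊢
  rw [Subgroup.mem_center_iff] at hz ⊢
  intro y
  have := hz (α.symm y)
  have h2 := congrArg α this
  rw [map_mul, map_mul, MulEquiv.apply_symm_apply] at h2
  exact h2

/-- The first coordinate of the image depends only on the first coordinate. -/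
theorem A_aut_congr (hK : Fintype.card K = q ^ 2) (α : T ≃* T) (x y : T) (h : C.A x = C.A y) :
    C.A (α x) = C.A (α y) := by
  have h1 : C.A (x⁻¹ * y) = 0 := by rw [C.mulA, C.A_inv, h]; ring
  have h2 := C.A_aut_zero hK α _ h1
  have h3 : α y = α x * α (x⁻¹ * y) := by rw [← map_mul]; congr 1; group
  rw [h3, C.mulA, h2, add_zero]

/-- The induced map on first coordinates. -/
noncomputable def autA (hK : Fintype.card K = q ^ 2) (α : T ≃* T) (a : K) : K :=
  C.A (α (Classical.choose (C.exists_A hK a)))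

theorem A_aut (hK : Fintype.card K = q ^ 2) (α : T ≃* T) (x : T) :
    C.A (α x) = C.autA hK α (C.A x) :=
  C.A_aut_congr hK α _ _ (Classical.choose_spec (C.exists_A hK (C.A x))).symm

theorem autA_add (hK : Fintype.card K = q ^ 2) (α : T ≃* T) (a b : K) :
    C.autA hK α (a + b) = C.autA hK α a + C.autA hK α b := by
  obtain ⟨x, hx⟩ := C.exists_A hK a
  obtain ⟨y, hy⟩ := C.exists_A hK b
  rw [← hx, ← hy, ← C.mulA, ← C.A_aut, ← C.A_aut, ← C.A_aut, map_mul, C.mulA]

theorem autA_comp (hK : Fintype.card K = q ^ 2) (α β : T ≃* T) (a : K) :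
    C.autA hK α (C.autA hK β a) = C.autA hK (β.trans α) a := by
  obtain ⟨x, hx⟩ := C.exists_A hK a
  rw [← hx, ← C.A_aut, ← C.A_aut, ← C.A_aut]
  rfl

theorem autA_refl (hK : Fintype.card K = q ^ 2) (a : K) :
    C.autA hK (MulEquiv.refl T) a = a := by
  obtain ⟨x, hx⟩ := C.exists_A hK a
  rw [← hx, ← C.A_aut]
  rfl

theorem autA_bij (hK : Fintype.card K = q ^ 2) (α : T ≃* T) :
    Function.Bijective (C.autA hK α) := by
  rw [Function.bijective_iff_has_inverse]
  refine ⟨C.autA hK α.symm, fun a => ?_, fun a => ?_⟩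
  · rw [C.autA_comp]
    have : α.trans α.symm = MulEquiv.refl T := by ext x; simp
    rw [this, C.autA_refl]
  · rw [C.autA_comp]
    have : α.symm.trans α = MulEquiv.refl T := by ext x; simp
    rw [this, C.autA_refl]

theorem autA_norm (hK : Fintype.card K = q ^ 2) (α : T ≃* T) (a a' : K)
    (h : a ^ (q + 1) = a' ^ (q + 1)) :
    C.autA hK α a ^ (q + 1) = C.autA hK α a' ^ (q + 1) := by
  obtain ⟨x, hx⟩ := C.exists_A hK a
  obtain ⟨y, hy⟩ := C.exists_A hK a'
  have hxy : x * x = y * y := by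
    apply C.inj
    · rw [C.A_sq, C.A_sq]
    · rw [C.B_sq, C.B_sq, hx, hy, h]
  have h2 := congrArg (fun t => C.B (α t)) hxy
  simp only [map_mul, C.B_sq] at h2
  rw [← hx, ← hy, ← C.A_aut, ← C.A_aut]
  exact h2

/-- Every automorphism acts semilinearly on the first coordinate. -/
theorem aut_semilin (hK : Fintype.card K = q ^ 2) (hqe : ∃ r, q = 2 * r) (α : T ≃* T) :
    ∃ (μ : K) (σ : K ≃+* K), μ ≠ 0 ∧ ∀ x, C.A (α x) = μ * σ (C.A x) := by
  obtain ⟨μ, σ, hμ, h⟩ := semilin hK hqe (C.autA hK α) (C.autA_add hK α) (C.autA_bij hK α)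
    (C.autA_norm hK α)
  exact ⟨μ, σ, hμ, fun x => by rw [C.A_aut hK, h]⟩

/-- The action on central elements. -/
theorem B_aut_center (hK : Fintype.card K = q ^ 2) (α : T ≃* T) (μ : K) (σ : K ≃+* K)
    (h : ∀ x, C.A (α x) = μ * σ (C.A x)) (z : T) (hz : C.A z = 0) :
    C.B (α z) = μ ^ (q + 1) * σ (C.B z) := by
  obtain ⟨a, ha⟩ := unorm_surj hK (C.B z) (C.B_fixed_of_A_zero z hz hK)
  obtain ⟨y, hy⟩ := C.exists_A hK a
  have hzy : z = y * y := by
    apply C.inj
    · rw [C.A_sq, hz]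
    · rw [C.B_sq, hy, ha]
  rw [hzy, map_mul, C.B_sq, C.B_sq, h, hy, mul_pow, map_pow]

/-- An automorphism acting trivially on first coordinates is an involution. -/
theorem aut_sq_of_A (hK : Fintype.card K = q ^ 2) (α : T ≃* T)
    (h : ∀ x, C.A (α x) = C.A x) (x : T) : α (α x) = x := by
  have hz : ∀ z, C.A z = 0 → α z = z := by
    intro z hz
    have hB := C.B_aut_center hK α 1 (RingEquiv.refl K) (fun x => by rw [h]; simp) z hz
    apply C.inj
    · rw [h]
    · rw [hB]; simp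
  have hw : C.A (x⁻¹ * α x) = 0 := by rw [C.mulA, C.A_inv, h]; ring
  have h1 : α x = x * (x⁻¹ * α x) := by group
  have h2 : α (α x) = α x * α (x⁻¹ * α x) := by rw [← map_mul]; congr 1
  rw [h2, hz _ hw]
  have h3 : (x⁻¹ * α x) * (x⁻¹ * α x) = 1 := (C.mul_self_eq_one_iff hK _).2 hw
  calc α x * (x⁻¹ * α x) = x * ((x⁻¹ * α x) * (x⁻¹ * α x)) := by group
    _ = x := by rw [h3, mul_one]

end Coord

/-- An overgroup of index two centralizes the centre. -/
theorem center_le_of_index_two [CharP K 2] {n : ℕ} (hK : Fintype.card K = (2 ^ n) ^ 2)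
    (hn : 1 ≤ n) {R : Type*} [Group R] (S' : Subgroup R) (C : Coord K (2 ^ n) ↥S')
    (hidx : S'.index = 2) :
    (Subgroup.center ↥S').map S'.subtype ≤ Subgroup.center R := by
  haveI hnorm : S'.Normal := Subgroup.normal_of_index_eq_two hidx
  have hqe : ∃ r, 2 ^ n = 2 * r := by
    obtain ⟨m, rfl⟩ : ∃ m, n = m + 1 := ⟨n - 1, by omega⟩
    exact ⟨2 ^ m, by rw [pow_succ]; ring⟩
  rintro _ ⟨z, hz, rfl⟩
  rw [Subgroup.mem_center_iff]
  intro x
  have hAz : C.A z = 0 := (C.mem_center_iff hK z).1 hz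
  set α : ↥S' ≃* ↥S' := MulAut.conjNormal x with hα
  have hαa : ∀ y : ↥S', ((α y : ↥S') : R) = x * (y : R) * x⁻¹ := fun y => by
    rw [hα, MulAut.conjNormal_apply]
  obtain ⟨μ, σ, hμ, hA⟩ := C.aut_semilin hK hqe α
  -- `α ∘ α` is inner
  have hxx : x * x ∈ S' := Subgroup.mul_self_mem_of_index_two hidx x
  have hαα : ∀ y : ↥S', α (α y) = ⟨x * x, hxx⟩ * y * ⟨x * x, hxx⟩⁻¹ := by
    intro y
    apply Subtype.ext
    rw [hαa, hαa]
    show x * (x * (y : R) * x⁻¹) * x⁻¹ = x * x * (y : R) * (x * x)⁻¹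
    group
  have hAA : ∀ y : ↥S', C.A (α (α y)) = C.A y := by
    intro y
    rw [hαα, C.mulA, C.mulA, C.A_inv]
    ring
  have h1 : ∀ a : K, μ * σ (μ * σ a) = a := by
    intro a
    obtain ⟨y, hy⟩ := C.exists_A hK a
    rw [← hy, ← hA, ← hA, hAA]
  have hμσ : μ * σ μ = 1 := by
    have := h1 1
    simpa using this
  have hσσ : ∀ a, σ (σ a) = a := by
    intro a
    have := h1 a
    rw [map_mul, ← mul_assoc, hμσ, one_mul] at this
    exact this
  have hB := C.B_aut_center hK α μ σ hA z hAz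
  have hfix := C.B_fixed_of_A_zero z hAz hK
  have hαz : α z = z := by
    apply C.inj
    · rw [C.A_aut_zero hK α z hAz, hAz]
    · rw [hB]
      rcases ringAut_sq hK σ hσσ with hσ | hσ
      · rw [hσ] at hμσ ⊢
        have h2 : (μ - 1) * (μ - 1) = 0 := by
          have h3 : (μ - 1) * (μ - 1) = μ * μ + 1 - 2 * μ := by ring
          rw [h3, hμσ, CharTwo.two_eq_zero, zero_mul, sub_zero, CharTwo.add_self_eq_zero]
        have h4 : μ = 1 := by
          rcases mul_eq_zero.mp h2 with h | h <;> linear_combination h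
        rw [h4, one_pow, one_mul]
      · rw [hσ] at hμσ ⊢
        rw [pow_succ', hμσ, one_mul, hfix]
  have h5 := congrArg (fun t : ↥S' => (t : R)) hαz
  simp only [hαa] at h5
  calc x * (z : R) = x * (z : R) * x⁻¹ * x := by group
    _ = (z : R) * x := by rw [h5]

end Cfsg.Agent.Lib.helper25.U3Syl

namespace Cfsg.Agent.Lib.helper25.U3Syl

open Cfsg.Agent.Lib.helper4 Cfsg.Agent.Lib.helper25.SUni

/-- Coordinates on a Sylow `2`-subgroup of `SU₃(q)`, `q` even. -/
theorem exists_coord_su {K : Type*} [Field K] [Fintype K] {q : ℕ} [CharP K 2]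
    (hK : Fintype.card K = q ^ 2) (P : Sylow 2 (Cfsg.SU 3 K q)) :
    Nonempty (Coord K q ↥(P : Subgroup (Cfsg.SU 3 K q))) := by
  haveI : Fact (Nat.Prime 2) := ⟨Nat.prime_two⟩
  obtain ⟨e, he⟩ := exists_toSU (q := q) (K := K) hK 3
  obtain ⟨P0, hP0⟩ := exists_sylow_UUu (n := 3) (q := q) (K := K) 2 hK
  obtain ⟨e1⟩ := sylow_equiv_of_surj 2 e he.2 P0
    (fun x hx _ _ => he.1 (by rw [hx, map_one])) P
  exact ⟨(coordUUu hK).comap (e1.trans (MulEquiv.subgroupCongr hP0))⟩

end Cfsg.Agent.Lib.helper25.U3Syl
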